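/-
Transvections in GL(ι, F) acting on column vectors, transvection centres of a subgroup, and generation of the
special linear group by transvections.
-/
import Mathlib
import Cfsg.Prelude.Def_GeometricClasses
set_option autoImplicit false

namespace Cfsg.Agent.Transvec

open scoped Matrix
open Matrix

variable {ι : Type} [Fintype ι] [DecidableEq ι] {F : Type*} [Field F]

/-- The image of a column vector under an invertible matrix. -/
abbrev mv (g : GL ι F) (x : ι → F) : ι → F := (g : Matrix ι ι F) *ᵥ x

theorem mv_mul (g h : GL ι F) (x : ι → F) : mv (g * h) x = mv g (mv h x) := by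
  simp [mv, Matrix.mulVec_mulVec]

theorem mv_one (x : ι → F) : mv (1 : GL ι F) x = x := by simp [mv]

theorem mv_inv_mv (g : GL ι F) (x : ι → F) : mv g⁻¹ (mv g x) = x := by
  rw [← mv_mul, inv_mul_cancel, mv_one]

theorem mv_mv_inv (g : GL ι F) (x : ι → F) : mv g (mv g⁻¹ x) = x := by
  rw [← mv_mul, mul_inv_cancel, mv_one]

theorem mv_inj (g : GL ι F) {x y : ι → F} (h : mv g x = mv g y) : x = y := by
  rw [← mv_inv_mv g x, h, mv_inv_mv]

theorem mv_add (g : GL ι F) (x y : ι → F) : mv g (x + y) = mv g x + mv g y :=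
  Matrix.mulVec_add _ _ _

theorem mv_sub (g : GL ι F) (x y : ι → F) : mv g (x - y) = mv g x - mv g y :=
  Matrix.mulVec_sub _ _ _

theorem mv_smul (g : GL ι F) (c : F) (x : ι → F) : mv g (c • x) = c • mv g x :=
  Matrix.mulVec_smul _ _ _

theorem mv_zero (g : GL ι F) : mv g 0 = 0 := Matrix.mulVec_zero _

theorem mv_neg (g : GL ι F) (x : ι → F) : mv g (-x) = -mv g x := Matrix.mulVec_neg _ _

theorem mv_sum {κ : Type*} (s : Finset κ) (g : GL ι F) (x : κ → ι → F) :
    mv g (∑ i ∈ s, x i) = ∑ i ∈ s, mv g (x i) :=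
  map_sum (Matrix.toLin' (g : Matrix ι ι F)) x s

theorem ext_mv {g h : GL ι F} (H : ∀ x, mv g x = mv h x) : g = h :=
  Units.ext (Matrix.ext_of_mulVec_single fun i => H _)

theorem mv_eq_iff (g : GL ι F) {x y : ι → F} : mv g x = y ↔ x = mv g⁻¹ y := by
  constructor
  · rintro rfl; rw [mv_inv_mv]
  · rintro rfl; rw [mv_mv_inv]

/-- The endomorphism x ↦ g x of a matrix. -/
abbrev mvLin (g : GL ι F) : (ι → F) →ₗ[F] ι → F := Matrix.toLin' (g : Matrix ι ι F)

/-! ### Transvections -/

/-- The matrix of x ↦ x + φ(x) v. -/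
noncomputable def tvMat (v : ι → F) (φ : Module.Dual F (ι → F)) : Matrix ι ι F :=
  1 + LinearMap.toMatrix' (φ.smulRight v)

theorem tvMat_mulVec (v : ι → F) (φ : Module.Dual F (ι → F)) (x : ι → F) :
    tvMat v φ *ᵥ x = x + φ x • v := by
  rw [tvMat, Matrix.add_mulVec, Matrix.one_mulVec, LinearMap.toMatrix'_mulVec]
  rfl

theorem tvMat_mul_neg {v : ι → F} {φ : Module.Dual F (ι → F)} (h : φ v = 0) :
    tvMat v φ * tvMat v (-φ) = 1 := by
  refine Matrix.ext_of_mulVec_single fun i => ?_
  rw [← Matrix.mulVec_mulVec, tvMat_mulVec, tvMat_mulVec, Matrix.one_mulVec]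
  simp [h]

/-- The transvection x ↦ x + φ(x) v, where φ(v) = 0. -/
noncomputable def tv (v : ι → F) (φ : Module.Dual F (ι → F)) (h : φ v = 0) : GL ι F where
  val := tvMat v φ
  inv := tvMat v (-φ)
  val_inv := tvMat_mul_neg h
  inv_val := by simpa using tvMat_mul_neg (v := v) (φ := -φ) (by simp [h])

theorem mv_tv {v : ι → F} {φ : Module.Dual F (ι → F)} (h : φ v = 0) (x : ι → F) :
    mv (tv v φ h) x = x + φ x • v :=
  tvMat_mulVec v φ x

theorem tv_fix {v : ι → F} {φ : Module.Dual F (ι → F)} (h : φ v = 0) {x : ι → F} (hx : φ x = 0) :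
    mv (tv v φ h) x = x := by
  rw [mv_tv, hx, zero_smul, add_zero]

theorem tv_congr {v v' : ι → F} {φ φ' : Module.Dual F (ι → F)} (h : φ v = 0) (h' : φ' v' = 0)
    (H : ∀ x, φ x • v = φ' x • v') : tv v φ h = tv v' φ' h' := by
  refine ext_mv fun x => ?_
  rw [mv_tv, mv_tv, H]

theorem tv_conj {v : ι → F} {φ : Module.Dual F (ι → F)} (h : φ v = 0) (g : GL ι F)
    {v' : ι → F} {φ' : Module.Dual F (ι → F)} (h' : φ' v' = 0) (hv : v' = mv g v)
    (hφ : ∀ x, φ' (mv g x) = φ x) : g * tv v φ h * g⁻¹ = tv v' φ' h' := by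
  subst hv
  refine ext_mv fun x => ?_
  obtain ⟨y, rfl⟩ : ∃ y, x = mv g y := ⟨mv g⁻¹ x, (mv_mv_inv g x).symm⟩
  rw [mv_mul, mv_mul, mv_inv_mv, mv_tv, mv_tv, hφ, mv_add, mv_smul]

theorem tv_mul_tv {v : ι → F} {φ ψ : Module.Dual F (ι → F)} (h : φ v = 0) (h' : ψ v = 0) :
    tv v φ h * tv v ψ h' = tv v (φ + ψ) (by simp [h, h']) := by
  refine ext_mv fun x => ?_
  rw [mv_mul, mv_tv, mv_tv, mv_tv]
  simp [h, h', add_smul, smul_smul, add_assoc, add_comm (φ x • v)]

theorem tv_inv {v : ι → F} {φ : Module.Dual F (ι → F)} (h : φ v = 0) :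
    (tv v φ h)⁻¹ = tv v (-φ) (by simp [h]) :=
  Units.ext rfl

theorem tv_zero (v : ι → F) : tv v (0 : Module.Dual F (ι → F)) rfl = 1 := by
  refine ext_mv fun x => ?_
  rw [mv_tv, mv_one]
  simp

theorem det_tvMat (v : ι → F) (φ : Module.Dual F (ι → F)) : (tvMat v φ).det = 1 + φ v := by
  have h : LinearMap.toMatrix' (φ.smulRight v) =
      Matrix.replicateCol Unit v * Matrix.replicateRow Unit (fun j => φ (Pi.single j 1)) := by
    ext i j
    simp [LinearMap.toMatrix'_apply, Matrix.mul_apply, mul_comm]
  rw [tvMat, h, Matrix.det_one_add_replicateCol_mul_replicateRow]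
  congr 1
  conv_rhs => rw [pi_eq_sum_univ' v, map_sum]
  simp [dotProduct, mul_comm]

theorem tv_mem_specialLinear {v : ι → F} {φ : Module.Dual F (ι → F)} (h : φ v = 0) :
    tv v φ h ∈ Geo.specialLinear ι F := by
  rw [Geo.specialLinear, MonoidHom.mem_ker]
  ext
  rw [Matrix.GeneralLinearGroup.val_det_apply]
  show (tvMat v φ).det = 1
  rw [det_tvMat, h, add_zero]

/-- A linear functional vanishing on W with φ(u) = 1. -/
theorem exists_dual {W : Submodule F (ι → F)} {u : ι → F} (hu : u ∉ W) :
    ∃ φ : Module.Dual F (ι → F), (∀ w ∈ W, φ w = 0) ∧ φ u = 1 := by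
  obtain ⟨φ, h1, h2⟩ := Submodule.exists_dual_map_eq_bot_of_notMem hu inferInstance
  refine ⟨(φ u)⁻¹ • φ, fun w hw => ?_, ?_⟩
  · have : φ w ∈ W.map φ := ⟨w, hw, rfl⟩
    rw [h2, Submodule.mem_bot] at this
    simp [this]
  · simp [inv_mul_cancel₀ h1]

/-- A linear functional vanishing on W, with φ(z) = 0 and φ(u) = 1. -/
theorem exists_dual₂ {W : Submodule F (ι → F)} {u z : ι → F} (hu : u ∉ W ⊔ Submodule.span F {z}) :
    ∃ φ : Module.Dual F (ι → F), (∀ w ∈ W, φ w = 0) ∧ φ z = 0 ∧ φ u = 1 := by
  obtain ⟨φ, h1, h2⟩ := exists_dual hu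
  exact ⟨φ, fun w hw => h1 w (Submodule.mem_sup_left hw),
    h1 z (Submodule.mem_sup_right (Submodule.mem_span_singleton_self z)), h2⟩

/-! ### Stabilisers of subspaces -/

theorem mem_subspaceStabilizer {W : Submodule F (ι → F)} {g : GL ι F} :
    g ∈ Geo.subspaceStabilizer W ↔ ∀ v, v ∈ W ↔ mv g v ∈ W := Iff.rfl

theorem mem_subspaceStabilizer_of_le {W : Submodule F (ι → F)} {g : GL ι F}
    (h : ∀ v ∈ W, mv g v ∈ W) : g ∈ Geo.subspaceStabilizer W := by
  have hinj : Function.Injective (mvLin g) := fun x y hxy => mv_inj g (by simpa using hxy)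
  have hmap : W.map (mvLin g) = W := by
    refine Submodule.eq_of_le_of_finrank_eq ?_
      (LinearEquiv.finrank_eq (Submodule.equivMapOfInjective (mvLin g) hinj W)).symm
    rintro x ⟨v, hv, rfl⟩
    simpa using h v hv
  refine mem_subspaceStabilizer.2 fun v => ⟨h v, fun hv => ?_⟩
  rw [← hmap] at hv
  obtain ⟨u, hu, hu'⟩ := hv
  have : mv g u = mv g v := by simpa using hu'
  rwa [← mv_inj g this]

theorem mv_mem_of_mem_stab {W : Submodule F (ι → F)} {g : GL ι F}
    (hg : g ∈ Geo.subspaceStabilizer W) {v : ι → F} (hv : v ∈ W) : mv g v ∈ W :=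
  (mem_subspaceStabilizer.1 hg v).1 hv

/-! ### Transvection centres of a subgroup -/

/-- The vectors v all whose transvections lie in M. -/
def centres (M : Subgroup (GL ι F)) : Set (ι → F) :=
  {v | ∀ (φ : Module.Dual F (ι → F)) (h : φ v = 0), tv v φ h ∈ M}

theorem centres_zero (M : Subgroup (GL ι F)) : (0 : ι → F) ∈ centres M := by
  intro φ h
  rw [show tv 0 φ h = 1 from ext_mv fun x => by rw [mv_tv, mv_one]; simp]
  exact M.one_mem

theorem centres_smul {M : Subgroup (GL ι F)} {v : ι → F} (hv : v ∈ centres M) (a : F) :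
    a • v ∈ centres M := by
  intro φ h
  rcases eq_or_ne a 0 with rfl | ha
  · exact (by simpa using centres_zero M : (0 : F) • v ∈ centres M) φ h
  · have hv0 : (a • φ) v = 0 := by simpa [LinearMap.map_smul] using h
    rw [tv_congr h hv0 fun x => by simp [smul_smul, mul_comm]]
    exact hv _ _

theorem centres_mv {M : Subgroup (GL ι F)} {g : GL ι F} (hg : g ∈ M) {v : ι → F}
    (hv : v ∈ centres M) : mv g v ∈ centres M := by
  intro φ h
  have h' : (φ.comp (mvLin g)) v = 0 := by simpa using h
  rw [← tv_conj h' g h rfl fun x => by simp]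
  exact M.mul_mem (M.mul_mem hg (hv _ _)) (M.inv_mem hg)

theorem centres_add {M : Subgroup (GL ι F)} {v w : ι → F} (hv : v ∈ centres M)
    (hw : w ∈ centres M) : v + w ∈ centres M := by
  by_cases h : w ∈ Submodule.span F {v}
  · obtain ⟨a, rfl⟩ := Submodule.mem_span_singleton.1 h
    rw [show v + a • v = (1 + a) • v by rw [add_smul, one_smul]]
    exact centres_smul hv _
  · obtain ⟨φ, h1, h2⟩ := exists_dual h
    have hφv : φ v = 0 := h1 v (Submodule.mem_span_singleton_self v)
    have := centres_mv (hv φ hφv) hw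
    rwa [mv_tv, h2, one_smul, add_comm] at this

/-- The subspace of transvection centres. -/
def centreSpace (M : Subgroup (GL ι F)) : Submodule F (ι → F) where
  carrier := centres M
  add_mem' := centres_add
  zero_mem' := centres_zero M
  smul_mem' a _ hv := centres_smul hv a

theorem mem_centreSpace {M : Subgroup (GL ι F)} {v : ι → F} :
    v ∈ centreSpace M ↔ v ∈ centres M := Iff.rfl

/-! ### Generation of the special linear group -/

/-- A subgroup containing all transvections contains the special linear group. -/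
theorem specialLinear_le {M : Subgroup (GL ι F)}
    (hM : ∀ (v : ι → F) (φ : Module.Dual F (ι → F)) (h : φ v = 0), tv v φ h ∈ M) :
    Geo.specialLinear ι F ≤ M := by
  suffices H : ∀ (d : ℕ) (g : GL ι F) (U : Submodule F (ι → F)), g ∈ Geo.specialLinear ι F →
      (∀ u ∈ U, mv g u = u) → Module.finrank F U + d = Module.finrank F (ι → F) → g ∈ M by
    intro g hg
    exact H _ g ⊥ hg (fun u hu => by rw [(Submodule.mem_bot F).1 hu, mv_zero]) (by rw [finrank_bot, zero_add])
  intro d
  induction d with
  | zero =>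
    intro g U _ hfix hU
    have hU' : U = ⊤ := Submodule.eq_top_of_finrank_eq (by omega)
    subst hU'
    rw [show g = 1 from ext_mv fun x => by rw [hfix x Submodule.mem_top, mv_one]]
    exact M.one_mem
  | succ d ih =>
    intro g U hg hfix hU
    obtain ⟨v, hv⟩ : ∃ v, v ∉ U := by
      by_contra hcon
      have : U = ⊤ := Submodule.eq_top_iff'.2 fun x => by_contra fun hx => hcon ⟨x, hx⟩
      rw [this, finrank_top] at hU
      omega
    have hgv : mv g v ∉ U := fun hm => hv (by
      have := hfix _ hm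
      exact mv_inj g this ▸ hm)
    have hdim : Module.finrank F ↥(U ⊔ Submodule.span F {v}) = Module.finrank F U + 1 :=
      Submodule.finrank_sup_span_singleton hv
    by_cases htop : U ⊔ Submodule.span F {v} = ⊤
    · -- `g` itself is a transvection
      obtain ⟨φ, hφU, hφv⟩ := exists_dual hv
      have hgmat : (g : Matrix ι ι F) = tvMat (mv g v - v) φ := by
        refine Matrix.ext_of_mulVec_single fun i => ?_
        have hi : (Pi.single i 1 : ι → F) ∈ U ⊔ Submodule.span F {v} := htop ▸ Submodule.mem_top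
        obtain ⟨u, hu, w, hw, hsum⟩ := Submodule.mem_sup.1 hi
        obtain ⟨a, rfl⟩ := Submodule.mem_span_singleton.1 hw
        rw [tvMat_mulVec, ← hsum]
        show mv g (u + a • v) = _
        rw [mv_add, mv_smul, hfix u hu, map_add, hφU u hu, map_smul, hφv]
        simp [smul_sub]
      have hdet : φ (mv g v - v) = 0 := by
        have h1 : (g : Matrix ι ι F).det = 1 := by
          rw [← Matrix.GeneralLinearGroup.val_det_apply, MonoidHom.mem_ker.1 hg]; rfl
        rw [hgmat, det_tvMat] at h1
        simpa using h1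
      rw [show g = tv (mv g v - v) φ hdet from Units.ext hgmat]
      exact hM _ _ _
    · obtain ⟨h, hh, hhfix, hhv⟩ : ∃ h ∈ M, (∀ u ∈ U, mv h u = u) ∧ mv h (mv g v) = v ∧ h ∈ Geo.specialLinear ι F := by
        have step : ∀ a b : ι → F, a ∉ U ⊔ Submodule.span F {b} → b ∉ U ⊔ Submodule.span F {a} →
            ∃ h ∈ M, (∀ u ∈ U, mv h u = u) ∧ mv h a = b ∧ h ∈ Geo.specialLinear ι F := by
          intro a b hab hba
          have : a ∉ U ⊔ Submodule.span F {b - a} := by
            intro hm
            obtain ⟨u, hu, w, hw, hsum⟩ := Submodule.mem_sup.1 hm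
            obtain ⟨c, rfl⟩ := Submodule.mem_span_singleton.1 hw
            have heq : u + c • b = (1 + c) • a := by
              rw [add_smul, one_smul]; nth_rewrite 1 [← hsum]; rw [smul_sub]; abel
            rcases eq_or_ne (1 + c) 0 with hc | hc
            · rw [hc, zero_smul] at heq
              have hc' : c = -1 := by linear_combination hc
              subst hc'
              apply hba
              have : b = u := by simpa [add_neg_eq_zero] using (add_eq_zero_iff_eq_neg.1 heq).symm
              exact this ▸ Submodule.mem_sup_left hu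
            · apply hab
              have : a = (1 + c)⁻¹ • (u + c • b) := by rw [heq, smul_smul, inv_mul_cancel₀ hc, one_smul]
              rw [this]
              exact Submodule.smul_mem _ _ (Submodule.add_mem _ (Submodule.mem_sup_left hu)
                (Submodule.mem_sup_right (Submodule.smul_mem _ _ (Submodule.mem_span_singleton_self b))))
          obtain ⟨φ, h1, h2, h3⟩ := exists_dual₂ this
          refine ⟨tv (b - a) φ h2, hM _ _ _, fun u hu => tv_fix _ (h1 u hu), ?_, tv_mem_specialLinear _⟩
          rw [mv_tv, h3, one_smul, add_sub_cancel]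
        by_cases hsame : mv g v ∈ U ⊔ Submodule.span F {v}
        · obtain ⟨w, hw⟩ : ∃ w, w ∉ U ⊔ Submodule.span F {v} := by
            by_contra hcon
            exact htop (Submodule.eq_top_iff'.2 fun x => by_contra fun hx => hcon ⟨x, hx⟩)
          have hgvsup : U ⊔ Submodule.span F {mv g v} = U ⊔ Submodule.span F {v} := by
            refine Submodule.eq_of_le_of_finrank_eq (sup_le le_sup_left ?_) ?_
            · rwa [Submodule.span_singleton_le_iff_mem]
            · rw [Submodule.finrank_sup_span_singleton hgv, hdim]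
          have key : ∀ a, a ∉ U → U ⊔ Submodule.span F {a} = U ⊔ Submodule.span F {v} →
              a ∉ U ⊔ Submodule.span F {w} ∧ w ∉ U ⊔ Submodule.span F {a} := by
            intro a ha haeq
            refine ⟨fun hm => ?_, haeq ▸ hw⟩
            apply hw
            rw [← haeq]
            have hle : U ⊔ Submodule.span F {a} = U ⊔ Submodule.span F {w} := by
              refine Submodule.eq_of_le_of_finrank_eq (sup_le le_sup_left ?_) ?_
              · rwa [Submodule.span_singleton_le_iff_mem]
              · rw [Submodule.finrank_sup_span_singleton ha,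
                  Submodule.finrank_sup_span_singleton fun h => hw (Submodule.mem_sup_left h)]
            rw [hle]
            exact Submodule.mem_sup_right (Submodule.mem_span_singleton_self w)
          obtain ⟨h₁, hh₁, hf₁, he₁, hd₁⟩ := step _ w (key _ hgv hgvsup).1 (key _ hgv hgvsup).2
          obtain ⟨h₂, hh₂, hf₂, he₂, hd₂⟩ := step w v (key v hv rfl).2 (key v hv rfl).1
          refine ⟨h₂ * h₁, M.mul_mem hh₂ hh₁, fun u hu => ?_, ?_, Subgroup.mul_mem _ hd₂ hd₁⟩
          · rw [mv_mul, hf₁ u hu, hf₂ u hu]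
          · rw [mv_mul, he₁, he₂]
        · refine step _ v hsame fun hm => ?_
          apply hsame
          have : U ⊔ Submodule.span F {v} = U ⊔ Submodule.span F {mv g v} := by
            refine Submodule.eq_of_le_of_finrank_eq (sup_le le_sup_left ?_) ?_
            · rwa [Submodule.span_singleton_le_iff_mem]
            · rw [Submodule.finrank_sup_span_singleton hgv, hdim]
          rw [this]
          exact Submodule.mem_sup_right (Submodule.mem_span_singleton_self _)
      obtain ⟨hhv, hhSL⟩ := hhv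
      have := ih (h * g) (U ⊔ Submodule.span F {v}) (Subgroup.mul_mem _ hhSL hg) ?_ (by omega)
      · simpa using M.mul_mem (M.inv_mem hh) this
      · intro x hx
        obtain ⟨u, hu, w, hw, rfl⟩ := Submodule.mem_sup.1 hx
        obtain ⟨a, rfl⟩ := Submodule.mem_span_singleton.1 hw
        rw [mv_mul, mv_add, mv_smul, hfix u hu, mv_add, mv_smul, hhfix u hu, hhv]

end Cfsg.Agent.Transvec
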