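/-
Quadratic forms with non-degenerate polar form: singular vectors, Siegel elements, transitivity.
-/
import Cfsg.Agent.Lib.Transvec.Basic
set_option autoImplicit false

namespace Cfsg.Agent.Transvec.Orth

open scoped Matrix
open Matrix Cfsg.Agent.Transvec

variable {ι : Type} [Fintype ι] [DecidableEq ι] {F : Type*} [Field F] {Q : (ι → F) → F}

/-- The polar form of Q. -/
abbrev pol (Q : (ι → F) → F) (x y : ι → F) : F := QuadraticMap.polar Q x y

variable (hQ : Geo.IsNondegenerateQuadraticForm Q)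

/-- The functional z ↦ B(z,v). -/
def formQ (v : ι → F) : Module.Dual F (ι → F) where
  toFun x := pol Q x v
  map_add' x y := hQ.polar_bilinear.add_left x y v
  map_smul' c x := by simpa using hQ.polar_bilinear.smul_left c x v

include hQ

theorem formQ_apply (v x : ι → F) : formQ hQ v x = pol Q x v := rfl

omit [Fintype ι] [DecidableEq ι] hQ in
theorem pol_comm (x y : ι → F) : pol Q x y = pol Q y x := QuadraticMap.polar_comm Q x y

theorem pol_add_left (x y v : ι → F) : pol Q (x + y) v = pol Q x v + pol Q y v :=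
  hQ.polar_bilinear.add_left x y v

theorem pol_add_right (v x y : ι → F) : pol Q v (x + y) = pol Q v x + pol Q v y :=
  hQ.polar_bilinear.add_right v x y

theorem pol_smul_left (c : F) (x v : ι → F) : pol Q (c • x) v = c * pol Q x v :=
  hQ.polar_bilinear.smul_left c x v

theorem pol_smul_right (c : F) (v x : ι → F) : pol Q v (c • x) = c * pol Q v x :=
  hQ.polar_bilinear.smul_right c v x

theorem pol_zero_left (v : ι → F) : pol Q 0 v = 0 := map_zero (formQ hQ v)

theorem pol_zero_right (v : ι → F) : pol Q v 0 = 0 := by rw [pol_comm, pol_zero_left hQ]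

theorem pol_neg_left (x v : ι → F) : pol Q (-x) v = -pol Q x v := map_neg (formQ hQ v) x

theorem pol_neg_right (v x : ι → F) : pol Q v (-x) = -pol Q v x := by
  rw [pol_comm, pol_neg_left hQ, pol_comm]

theorem pol_sub_left (x y v : ι → F) : pol Q (x - y) v = pol Q x v - pol Q y v := map_sub (formQ hQ v) x y

theorem pol_sub_right (v x y : ι → F) : pol Q v (x - y) = pol Q v x - pol Q v y := by
  rw [pol_comm, pol_sub_left hQ, pol_comm x, pol_comm y]

theorem q_add (x y : ι → F) : Q (x + y) = Q x + Q y + pol Q x y := by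
  simp only [pol, QuadraticMap.polar]; ring

theorem q_smul (c : F) (x : ι → F) : Q (c • x) = c ^ 2 * Q x := hQ.smul c x

theorem q_zero : Q 0 = 0 := by
  have := q_smul hQ 0 (0 : ι → F)
  rwa [zero_smul, zero_pow two_ne_zero, zero_mul] at this

theorem q_neg (x : ι → F) : Q (-x) = Q x := by
  rw [← neg_one_smul F x, q_smul hQ, neg_one_sq, one_mul]

theorem q_sub (x y : ι → F) : Q (x - y) = Q x + Q y - pol Q x y := by
  rw [sub_eq_add_neg, q_add hQ, q_neg hQ, pol_neg_right hQ]; ring

theorem pol_self (x : ι → F) : pol Q x x = 2 * Q x := by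
  have h := q_add hQ x x
  rw [← two_smul F x, q_smul hQ] at h
  linear_combination -h

theorem exists_eq_pol (φ : Module.Dual F (ι → F)) : ∃ z, ∀ x, φ x = pol Q x z := by
  let T : (ι → F) →ₗ[F] Module.Dual F (ι → F) :=
    { toFun := formQ hQ
      map_add' := fun a b => LinearMap.ext fun x => pol_add_right hQ x a b
      map_smul' := fun c a => LinearMap.ext fun x => by simpa [formQ] using pol_smul_right hQ c x a }
  have hinj : Function.Injective T := by
    rw [← LinearMap.ker_eq_bot, LinearMap.ker_eq_bot']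
    intro a ha
    by_contra h
    obtain ⟨x, hx⟩ := (hQ.nondegenerate a h).1
    exact hx (LinearMap.congr_fun ha x)
  obtain ⟨z, hz⟩ := (LinearMap.injective_iff_surjective_of_finrank_eq_finrank
    (Subspace.dual_finrank_eq).symm).1 hinj φ
  exact ⟨z, fun x => (LinearMap.congr_fun hz x).symm⟩

/-! ### Orthogonal spaces -/

/-- The vectors orthogonal to U. -/
def orth (U : Submodule F (ι → F)) : Submodule F (ι → F) where
  carrier := {v | ∀ u ∈ U, pol Q u v = 0}
  add_mem' {a b} ha hb u hu := by rw [pol_add_right hQ, ha u hu, hb u hu, add_zero]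
  zero_mem' u _ := pol_zero_right hQ u
  smul_mem' c v hv u hu := by rw [pol_smul_right hQ, hv u hu, mul_zero]

theorem mem_orth_span {S : Set (ι → F)} {v : ι → F} :
    v ∈ orth hQ (Submodule.span F S) ↔ ∀ u ∈ S, pol Q u v = 0 := by
  refine ⟨fun h u hu => h u (Submodule.subset_span hu), fun h u hu => ?_⟩
  have : Submodule.span F S ≤ LinearMap.ker (formQ hQ v) := Submodule.span_le.2 fun x hx => h x hx
  exact this hu

/-- U is non-degenerate. -/
def Nondeg (Q : (ι → F) → F) (U : Submodule F (ι → F)) : Prop := ∀ u ∈ U, (∀ w ∈ U, pol Q w u = 0) → u = 0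

theorem nondeg_top : Nondeg Q (⊤ : Submodule F (ι → F)) := fun u _ h => by
  by_contra hu
  obtain ⟨x, hx⟩ := (hQ.nondegenerate u hu).1
  exact hx (h x Submodule.mem_top)

theorem exists_rep {U : Submodule F (ι → F)} (hU : Nondeg Q U) (φ : Module.Dual F (ι → F)) :
    ∃ z ∈ U, ∀ x ∈ U, φ x = pol Q x z := by
  let T : U →ₗ[F] Module.Dual F U :=
    { toFun := fun z => (formQ hQ (z : ι → F)).comp U.subtype
      map_add' := fun a b => LinearMap.ext fun x => pol_add_right hQ (x : ι → F) a b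
      map_smul' := fun c a => LinearMap.ext fun x => by
        simpa [formQ] using pol_smul_right hQ c (x : ι → F) a }
  have hinj : Function.Injective T := by
    rw [← LinearMap.ker_eq_bot, LinearMap.ker_eq_bot']
    intro a ha
    exact Subtype.ext (hU a a.2 fun w hw => LinearMap.congr_fun ha ⟨w, hw⟩)
  obtain ⟨z, hz⟩ := (LinearMap.injective_iff_surjective_of_finrank_eq_finrank
    (Subspace.dual_finrank_eq).symm).1 hinj (φ.comp U.subtype)
  exact ⟨z, z.2, fun x hx => (LinearMap.congr_fun hz ⟨x, hx⟩).symm⟩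

theorem exists_proj {U : Submodule F (ι → F)} (hU : Nondeg Q U) (v : ι → F) : ∃ u ∈ U, v - u ∈ orth hQ U := by
  obtain ⟨z, hz, h⟩ := exists_rep hQ hU (formQ hQ v)
  exact ⟨z, hz, fun w hw => by rw [pol_sub_right hQ, sub_eq_zero]; exact h w hw⟩

theorem nondeg_inf_orth {U X : Submodule F (ι → F)} (hU : Nondeg Q U) (hX : Nondeg Q X) (hUX : U ≤ X) :
    Nondeg Q (X ⊓ orth hQ U) := by
  intro v hv h
  refine hX v hv.1 fun w hw => ?_
  obtain ⟨u, hu, hwu⟩ := exists_proj hQ hU w
  rw [show w = u + (w - u) by abel, pol_add_left hQ, hv.2 u hu, h _ ⟨X.sub_mem hw (hUX hu), hwu⟩, add_zero]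

theorem finrank_inf_orth_add {U X : Submodule F (ι → F)} (hU : Nondeg Q U) (hUX : U ≤ X) :
    Module.finrank F U + Module.finrank F ↥(X ⊓ orth hQ U) = Module.finrank F X := by
  have h1 : U ⊔ (X ⊓ orth hQ U) = X := by
    refine le_antisymm (sup_le hUX inf_le_left) fun x hx => ?_
    obtain ⟨u, hu, h⟩ := exists_proj hQ hU x
    rw [show x = u + (x - u) by abel]
    exact Submodule.add_mem _ (Submodule.mem_sup_left hu)
      (Submodule.mem_sup_right ⟨X.sub_mem hx (hUX hu), h⟩)
  have h2 : U ⊓ (X ⊓ orth hQ U) = ⊥ := eq_bot_iff.2 fun x hx =>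
    (Submodule.mem_bot F).2 (hU x hx.1 fun w hw => hx.2.2 w hw)
  have := Submodule.finrank_sup_add_finrank_inf_eq U (X ⊓ orth hQ U)
  rw [h1, h2, finrank_bot, add_zero] at this
  omega

theorem finrank_add_le_of_orth {X L R : Submodule F (ι → F)} (hX : Nondeg Q X) (hLX : L ≤ X) (hRX : R ≤ X)
    (h : ∀ x ∈ L, ∀ y ∈ R, pol Q x y = 0) : Module.finrank F L + Module.finrank F R ≤ Module.finrank F X := by
  let T : R →ₗ[F] Module.Dual F X :=
    { toFun := fun z => (formQ hQ (z : ι → F)).comp X.subtype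
      map_add' := fun a b => LinearMap.ext fun x => pol_add_right hQ (x : ι → F) a b
      map_smul' := fun c a => LinearMap.ext fun x => by
        simpa [formQ] using pol_smul_right hQ c (x : ι → F) a }
  have hinj : Function.Injective T := by
    rw [← LinearMap.ker_eq_bot, LinearMap.ker_eq_bot']
    intro a ha
    exact Subtype.ext (hX a (hRX a.2) fun w hw => LinearMap.congr_fun ha ⟨w, hw⟩)
  have hle : LinearMap.range T ≤ (L.comap X.subtype).dualAnnihilator := by
    rintro _ ⟨y, rfl⟩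
    rw [Submodule.mem_dualAnnihilator]
    exact fun x hx => h (x : ι → F) hx y y.2
  have h1 := Submodule.finrank_mono hle
  have h2 := Subspace.finrank_add_finrank_dualAnnihilator_eq (L.comap X.subtype)
  rw [LinearMap.finrank_range_of_inj hinj] at h1
  have h3 : Module.finrank F ↥(L.comap X.subtype) = Module.finrank F L :=
    LinearEquiv.finrank_eq (Submodule.comapSubtypeEquivOfLe hLX)
  omega

theorem finrank_totally_orth_le {X L : Submodule F (ι → F)} (hX : Nondeg Q X) (hLX : L ≤ X)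
    (h : ∀ x ∈ L, ∀ y ∈ L, pol Q x y = 0) : 2 * Module.finrank F L ≤ Module.finrank F X := by
  have := finrank_add_le_of_orth hQ hX hLX hLX h
  omega

theorem exists_anisotropic {X : Submodule F (ι → F)} (hX : Nondeg Q X) (hX0 : X ≠ ⊥) : ∃ v ∈ X, Q v ≠ 0 := by
  by_contra h
  push Not at h
  obtain ⟨u, hu, hu0⟩ := X.ne_bot_iff.1 hX0
  refine hu0 (hX u hu fun w hw => ?_)
  have := q_add hQ w u
  rw [h w hw, h u hu, h _ (X.add_mem hw hu)] at this
  linear_combination -this

/-- Every three-dimensional subspace has a non-zero singular vector. -/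
theorem exists_singular [Finite F] {X : Submodule F (ι → F)} (h3 : 3 ≤ Module.finrank F X) :
    ∃ v ∈ X, v ≠ 0 ∧ Q v = 0 := by
  have : Fintype F := Fintype.ofFinite F
  by_contra hcon
  push Not at hcon
  have next' : ∀ {j : ℕ} (a : Fin j → ι → F), j < 3 → ∃ v ∈ X, v ≠ 0 ∧ ∀ i, pol Q v (a i) = 0 := by
    intro j a hj
    obtain ⟨v, hv, hv0⟩ := (LinearMap.ker (LinearMap.pi fun i => (formQ hQ (a i)).comp X.subtype)).ne_bot_iff.1
      (LinearMap.ker_ne_bot_of_finrank_lt (by rw [Module.finrank_pi, Fintype.card_fin]; omega))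
    exact ⟨v, v.2, fun h => hv0 (Subtype.ext h), fun i => congrFun (LinearMap.mem_ker.1 hv) i⟩
  obtain ⟨v₁, m₁, n₁, -⟩ := next' ![] (by norm_num)
  obtain ⟨v₂, m₂, n₂, o₂⟩ := next' ![v₁] (by norm_num)
  have o21 : pol Q v₂ v₁ = 0 := o₂ 0
  by_cases h2 : (2 : F) = 0
  · -- a vector orthogonal to v₁ outside its line
    obtain ⟨w, hwX, hwv, hw⟩ : ∃ w ∈ X, pol Q w v₁ = 0 ∧ w ∉ Submodule.span F {v₁} := by
      by_contra h
      push Not at h
      have h1 : (LinearMap.ker ((formQ hQ v₁).comp X.subtype)).map X.subtype ≤ Submodule.span F {v₁} := by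
        rintro _ ⟨x, hx, rfl⟩
        exact h x x.2 (LinearMap.mem_ker.1 hx)
      have h3' := Submodule.finrank_mono h1
      rw [Submodule.finrank_map_subtype_eq, finrank_span_singleton n₁] at h3'
      have h4 := LinearMap.finrank_range_add_finrank_ker ((formQ hQ v₁).comp X.subtype)
      have h5 := Submodule.finrank_le (LinearMap.range ((formQ hQ v₁).comp X.subtype))
      rw [Module.finrank_self] at h5
      omega
    have hw0 : w ≠ 0 := fun h => hw (h ▸ Submodule.zero_mem _)
    obtain ⟨b, hb⟩ := FiniteField.isSquare_of_char_two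
      (ringChar.eq_iff.2 (CharTwo.of_one_ne_zero_of_two_eq_zero one_ne_zero h2)) (Q v₁ / Q w)
    have hb0 : b ≠ 0 := fun h => by
      rw [h, mul_zero, div_eq_zero_iff] at hb
      exact hb.elim (hcon v₁ m₁ n₁) (hcon w hwX hw0)
    refine hcon (v₁ + b • w) (X.add_mem m₁ (X.smul_mem b hwX)) (fun h => hw ?_) ?_
    · exact Submodule.mem_span_singleton.2 ⟨-b⁻¹, by
        rw [eq_neg_of_add_eq_zero_left h, smul_neg, neg_smul, neg_neg, smul_smul, inv_mul_cancel₀ hb0, one_smul]⟩
    rw [q_add hQ, q_smul hQ, pol_smul_right hQ, pol_comm, hwv, pow_two, ← hb,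
      div_mul_cancel₀ _ (hcon w hwX hw0)]
    linear_combination Q v₁ * h2
  · obtain ⟨v₃, m₃, n₃, o₃⟩ := next' ![v₁, v₂] (by norm_num)
    have o31 : pol Q v₃ v₁ = 0 := o₃ 0
    have o32 : pol Q v₃ v₂ = 0 := o₃ 1
    have a0 := hcon v₁ m₁ n₁
    have b0 := hcon v₂ m₂ n₂
    obtain ⟨x, y, hxy⟩ := FiniteField.exists_root_sum_quadratic
      (f := Polynomial.C (Q v₁) * Polynomial.X ^ 2 + Polynomial.C (Q v₃))
      (g := Polynomial.C (Q v₂) * Polynomial.X ^ 2)
      (by
        rw [Polynomial.degree_add_eq_left_of_degree_lt] <;> rw [Polynomial.degree_C_mul_X_pow 2 a0]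
        · rfl
        · exact lt_of_le_of_lt Polynomial.degree_C_le (by norm_num))
      (Polynomial.degree_C_mul_X_pow 2 b0)
      (Nat.odd_iff.1 (Nat.odd_iff.2 (FiniteField.odd_card_of_char_ne_two fun h => h2 (by
        have : CharP F 2 := ringChar.eq_iff.1 h
        exact CharP.cast_eq_zero F 2))))
    simp only [Polynomial.eval_add, Polynomial.eval_mul, Polynomial.eval_C, Polynomial.eval_pow,
      Polynomial.eval_X] at hxy
    refine hcon (x • v₁ + y • v₂ + v₃) (X.add_mem (X.add_mem (X.smul_mem x m₁) (X.smul_mem y m₂)) m₃)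
      (fun h => ?_) ?_
    · have := congrArg (fun v => pol Q v v₃) h
      rw [pol_add_left hQ, pol_add_left hQ, pol_smul_left hQ, pol_smul_left hQ, pol_comm v₁, pol_comm v₂, o31,
        o32, pol_self hQ, pol_zero_left hQ] at this
      simp at this
      rcases this with h' | h'
      · exact h2 h'
      · exact hcon v₃ m₃ n₃ h'
    · rw [q_add hQ, q_add hQ, q_smul hQ, q_smul hQ, pol_add_left hQ]
      simp only [pol_smul_left hQ, pol_smul_right hQ]
      rw [pol_comm v₁ v₂, o21, pol_comm v₁ v₃, o31, pol_comm v₂ v₃, o32]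
      linear_combination hxy

theorem exists_partner {X : Submodule F (ι → F)} (hX : Nondeg Q X) {e : ι → F} (he : e ∈ X)
    (he0 : e ≠ 0) (hee : Q e = 0) : ∃ d ∈ X, Q d = 0 ∧ pol Q e d = 1 := by
  obtain ⟨φ, -, hφ⟩ := exists_dual (W := (⊥ : Submodule F (ι → F))) (u := e) (by simpa using he0)
  obtain ⟨y, hy, hy'⟩ := exists_rep hQ hX φ
  have hey : pol Q e y = 1 := by rw [← hy' e he, hφ]
  refine ⟨y - Q y • e, X.sub_mem hy (X.smul_mem _ he), ?_, ?_⟩
  · rw [q_sub hQ, q_smul hQ, hee, pol_smul_right hQ, pol_comm y e, hey]; ring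
  · rw [pol_sub_right hQ, pol_smul_right hQ, pol_self hQ, hee, hey]; ring

theorem nondeg_pair {e d : ι → F} (hee : Q e = 0) (hdd : Q d = 0) (hed : pol Q e d = 1) :
    Nondeg Q (Submodule.span F {e, d}) ∧ Module.finrank F ↥(Submodule.span F ({e, d} : Set (ι → F))) = 2 := by
  have e1 : pol Q e e = 0 := by rw [pol_self hQ, hee, mul_zero]
  have e2 : pol Q d d = 0 := by rw [pol_self hQ, hdd, mul_zero]
  have hde : pol Q d e = 1 := by rw [pol_comm, hed]
  refine ⟨fun u hu h => ?_, ?_⟩
  · obtain ⟨a, b, rfl⟩ := Submodule.mem_span_pair.1 hu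
    have h1 := h e (Submodule.subset_span (Set.mem_insert _ _))
    have h2 := h d (Submodule.subset_span (Set.mem_insert_of_mem _ rfl))
    rw [pol_add_right hQ, pol_smul_right hQ, pol_smul_right hQ, e1, hed] at h1
    rw [pol_add_right hQ, pol_smul_right hQ, pol_smul_right hQ, hde, e2] at h2
    have hb : b = 0 := by linear_combination h1
    have ha : a = 0 := by linear_combination h2
    rw [ha, hb, zero_smul, zero_smul, add_zero]
  · have hind : LinearIndependent F ![e, d] := by
      rw [LinearIndependent.pair_iff]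
      intro a b hab
      constructor
      · simpa [pol_add_left hQ, pol_smul_left hQ, hed, e2, pol_zero_left hQ] using congrArg (fun v => pol Q v d) hab
      · simpa [pol_add_left hQ, pol_smul_left hQ, hde, e1, pol_zero_left hQ] using congrArg (fun v => pol Q v e) hab
    have := finrank_span_eq_card hind
    rw [Fintype.card_fin, Matrix.range_cons, Matrix.range_cons, Matrix.range_empty, Set.union_empty,
      Set.singleton_union] at this
    exact this

theorem exists_singular_not_orth [Finite F] {X : Submodule F (ι → F)} (hX : Nondeg Q X)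
    (h3 : 3 ≤ Module.finrank F X) {u : ι → F} (hu : u ∈ X) (hu0 : u ≠ 0) :
    ∃ v ∈ X, Q v = 0 ∧ pol Q u v ≠ 0 := by
  obtain ⟨e, he, he0, hee⟩ := exists_singular hQ h3
  obtain ⟨d, hd, hdd, hed⟩ := exists_partner hQ hX he he0 hee
  by_cases h1 : pol Q u e = 0
  swap
  · exact ⟨e, he, hee, h1⟩
  by_cases h2 : pol Q u d = 0
  swap
  · exact ⟨d, hd, hdd, h2⟩
  obtain ⟨y, hy, huy⟩ : ∃ y ∈ X, pol Q u y ≠ 0 := by
    by_contra h
    push Not at h
    exact hu0 (hX u hu fun w hw => by rw [pol_comm]; exact h w hw)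
  set y' := y - pol Q y d • e - pol Q y e • d with hy'def
  have e1 : pol Q e e = 0 := by rw [pol_self hQ, hee, mul_zero]
  have e2 : pol Q d d = 0 := by rw [pol_self hQ, hdd, mul_zero]
  have k1 : pol Q y' e = 0 := by
    rw [hy'def, pol_sub_left hQ, pol_sub_left hQ, pol_smul_left hQ, pol_smul_left hQ, e1, pol_comm d e, hed]; ring
  have k2 : pol Q y' d = 0 := by
    rw [hy'def, pol_sub_left hQ, pol_sub_left hQ, pol_smul_left hQ, pol_smul_left hQ, e2, hed]; ring
  refine ⟨e + y' - Q y' • d, X.sub_mem (X.add_mem he (X.sub_mem (X.sub_mem hy (X.smul_mem _ he))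
    (X.smul_mem _ hd))) (X.smul_mem _ hd), ?_, ?_⟩
  · rw [q_sub hQ, q_add hQ, q_smul hQ, pol_add_left hQ, pol_smul_right hQ, pol_smul_right hQ, hee, hdd,
      pol_comm e y', k1, k2, hed]
    ring
  · rw [hy'def] at *
    simp only [pol_sub_right hQ, pol_add_right hQ, pol_smul_right hQ, h1, h2, mul_zero, sub_zero, zero_add]
    exact huy

/-! ### Siegel elements -/

/-- The map z ↦ z + B(z,u) y − (B(z,y) + Q(y) B(z,u)) u. -/
def IsSiegel (Q : (ι → F) → F) (g : GL ι F) (u y : ι → F) : Prop :=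
  ∀ z, mv g z = z + pol Q z u • y - (pol Q z y + Q y * pol Q z u) • u

omit hQ in
theorem isSiegel_unique {g g' : GL ι F} {u y : ι → F} (h : IsSiegel Q g u y) (h' : IsSiegel Q g' u y) : g = g' :=
  ext_mv fun z => by rw [h z, h' z]

omit hQ in
theorem mem_isometry {g : GL ι F} : g ∈ isometryGroup F Q ↔ ∀ z, Q (mv g z) = Q z :=
  ⟨fun h z => h z z, fun h z _ => h z⟩

theorem pol_mv {g : GL ι F} (hg : g ∈ isometryGroup F Q) (x y : ι → F) : pol Q (mv g x) (mv g y) = pol Q x y := by
  have h := mem_isometry.1 hg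
  simp only [pol, QuadraticMap.polar, ← mv_add, h]

theorem exists_siegel {u y : ι → F} (hu : Q u = 0) (huy : pol Q u y = 0) :
    ∃ g ∈ isometryGroup F Q, IsSiegel Q g u y := by
  have huu : pol Q u u = 0 := by rw [pol_self hQ, hu, mul_zero]
  have hyu : pol Q y u = 0 := by rw [pol_comm, huy]
  have h1 : formQ hQ u y = 0 := hyu
  have h2 : (Q y • formQ hQ u - formQ hQ y) u = 0 := by simp [formQ_apply, huu, huy]
  refine ⟨tv u (Q y • formQ hQ u - formQ hQ y) h2 * tv y (formQ hQ u) h1, ?_, ?_⟩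
  · refine mem_isometry.2 fun z => ?_
    simp only [mv_mul, mv_tv, LinearMap.sub_apply, LinearMap.smul_apply, formQ_apply, smul_eq_mul,
      pol_add_left hQ, pol_smul_left hQ, hyu, q_add hQ, q_smul hQ, pol_smul_right hQ, hu]
    rw [pol_self hQ y]
    ring
  · intro z
    simp only [mv_mul, mv_tv, LinearMap.sub_apply, LinearMap.smul_apply, formQ_apply, smul_eq_mul,
      pol_add_left hQ, pol_smul_left hQ, hyu, pol_self hQ y]
    module

theorem isSiegel_mul {g g' : GL ι F} {u y y' : ι → F} (hu : Q u = 0) (hy : pol Q u y = 0) (hy' : pol Q u y' = 0)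
    (h : IsSiegel Q g u y) (h' : IsSiegel Q g' u y') : IsSiegel Q (g * g') u (y + y') := by
  intro z
  have huu : pol Q u u = 0 := by rw [pol_self hQ, hu, mul_zero]
  have hy'u : pol Q y' u = 0 := by rw [pol_comm, hy']
  rw [mv_mul, h' z, h]
  simp only [pol_sub_left hQ, pol_add_left hQ, pol_smul_left hQ, pol_add_right hQ, q_add hQ, huu, hy, hy'u,
    mul_zero, add_zero, sub_zero]
  rw [pol_comm y' y]
  module

theorem isSiegel_conj {g e : GL ι F} (hg : g ∈ isometryGroup F Q) {u y : ι → F} (he : IsSiegel Q e u y) :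
    IsSiegel Q (g * e * g⁻¹) (mv g u) (mv g y) := by
  intro z
  obtain ⟨w, rfl⟩ : ∃ w, z = mv g w := ⟨mv g⁻¹ z, (mv_mv_inv g z).symm⟩
  rw [mv_mul, mv_mul, mv_inv_mv, he w, pol_mv hQ hg, pol_mv hQ hg, mem_isometry.1 hg, mv_sub, mv_add, mv_smul,
    mv_smul]

theorem isSiegel_add_self {g : GL ι F} {u y : ι → F} (hu : Q u = 0) (hy : pol Q u y = 0) (c : F)
    (h : IsSiegel Q g u y) : IsSiegel Q g u (y + c • u) := by
  intro z
  rw [h, q_add hQ, q_smul hQ, pol_add_right hQ, pol_smul_right hQ, pol_smul_right hQ, hu, pol_comm y u, hy]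
  module

theorem isSiegel_zero (u : ι → F) : IsSiegel Q 1 u 0 := fun z => by
  rw [mv_one, pol_zero_right hQ, q_zero hQ]; simp

theorem isSiegel_fix {g : GL ι F} {u y z : ι → F} (h : IsSiegel Q g u y) (h1 : pol Q z u = 0)
    (h2 : pol Q z y = 0) : mv g z = z := by
  rw [h, h1, h2, mul_zero, add_zero, zero_smul, zero_smul, add_zero, sub_zero]

/-! ### Transitivity -/

variable {K : Subgroup (GL ι F)}

/-- Vectors with the same value and the same product with a singular vector are conjugate. -/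
theorem exists_move_along {v u w : ι → F} (hv : Q v = 0) (h : Q u = Q w) (hu : pol Q u v = 1)
    (hw : pol Q w v = 1) :
    ∃ y, pol Q v y = 0 ∧ y = w - u ∧ ∀ g, IsSiegel Q g v y → mv g u = w := by
  refine ⟨w - u, ?_, rfl, fun g hg => ?_⟩
  · rw [pol_sub_right hQ, pol_comm v w, pol_comm v u, hu, hw, sub_self]
  · rw [hg, hu, q_sub hQ, pol_sub_right hQ, pol_self hQ, pol_comm w u, ← h, one_smul,
      show pol Q u w - 2 * Q u + (Q u + Q u - pol Q u w) * 1 = 0 by ring, zero_smul]
    abel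

/-- A large subspace represents every value. -/
theorem exists_value_of_radical [Finite F] {L : Submodule F (ι → F)}
    (hd : Module.finrank F ↥(L ⊓ orth hQ L) + 3 ≤ Module.finrank F L) (a : F) : ∃ s ∈ L, Q s = a := by
  obtain ⟨R, hR⟩ : ∃ R, R = L ⊓ orth hQ L := ⟨_, rfl⟩
  rw [← hR] at hd
  have hRL : R ≤ L := hR.le.trans inf_le_left
  obtain ⟨C, hC⟩ := R.exists_isCompl
  have h1 := Submodule.finrank_add_eq_of_isCompl hC
  have h2 := Submodule.finrank_sup_add_finrank_inf_eq C L
  have h3 := Submodule.finrank_le (C ⊔ L)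
  have h3' := Submodule.finrank_mono (le_sup_left : C ≤ C ⊔ L)
  obtain ⟨e, he, he0, hee⟩ := exists_singular hQ (X := C ⊓ L) (by omega)
  obtain ⟨y, hy, hey⟩ : ∃ y ∈ L, pol Q e y ≠ 0 := by
    by_contra h
    push Not at h
    refine he0 ?_
    have : e ∈ R ⊓ C := ⟨hR.ge ⟨he.2, fun u hu => by rw [pol_comm]; exact h u hu⟩, he.1⟩
    rwa [hC.inf_eq_bot, Submodule.mem_bot] at this
  refine ⟨((a - Q y) / pol Q e y) • e + y, L.add_mem (L.smul_mem _ he.2) hy, ?_⟩
  rw [q_add hQ, q_smul hQ, pol_smul_left hQ, hee, div_mul_cancel₀ _ hey]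
  ring

/-- A large subspace represents every value. -/
theorem exists_value_in [Finite F] {X L : Submodule F (ι → F)} (hX : Nondeg Q X) (hLX : L ≤ X)
    (hd : Module.finrank F X + 3 ≤ 2 * Module.finrank F L) (a : F) : ∃ s ∈ L, Q s = a := by
  have hR' : Module.finrank F L + Module.finrank F ↥(L ⊓ orth hQ L) ≤ Module.finrank F X :=
    finrank_add_le_of_orth hQ hX hLX (inf_le_left.trans hLX) fun x hx y hy => hy.2 x hx
  exact exists_value_of_radical hQ (by omega) a

/-- A subgroup containing the Siegel elements inside X is transitive on the vectors of X with a given value. -/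
theorem exists_move [Finite F] {X : Submodule F (ι → F)} (hX : Nondeg Q X) (h9 : 5 ≤ Module.finrank F X)
    (hK : ∀ u ∈ X, ∀ y ∈ X, Q u = 0 → pol Q u y = 0 → ∃ g ∈ K, IsSiegel Q g u y) {u w : ι → F}
    (hu : u ∈ X) (hw : w ∈ X) (hu0 : u ≠ 0) (hw0 : w ≠ 0) (h : Q u = Q w) :
    ∃ g ∈ K, mv g u = w ∧ ∀ z, (∀ x ∈ X, pol Q z x = 0) → mv g z = z := by
  classical
  have via : ∀ (v u w : ι → F), v ∈ X → u ∈ X → w ∈ X → Q v = 0 → Q u = Q w → pol Q u v = 1 →
      pol Q w v = 1 → ∃ g ∈ K, mv g u = w ∧ ∀ z, (∀ x ∈ X, pol Q z x = 0) → mv g z = z := by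
    intro v u w hv hu hw hvv h h1 h2
    obtain ⟨y, hy, hy', hmove⟩ := exists_move_along hQ hvv h h1 h2
    have hyX : y ∈ X := hy' ▸ X.sub_mem hw hu
    obtain ⟨g, hg, hgs⟩ := hK v hv y hyX hvv hy
    exact ⟨g, hg, hmove g hgs, fun z hz => isSiegel_fix hQ hgs (hz _ hv) (hz _ hyX)⟩
  have indep : ∀ u w : ι → F, u ∈ X → w ∈ X → u ≠ 0 → (∀ k : F, w ≠ k • u) → Q u = Q w →
      ∃ g ∈ K, mv g u = w ∧ ∀ z, (∀ x ∈ X, pol Q z x = 0) → mv g z = z := by
    intro u w hu hw hu0 hind h
    set d := u - w with hd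
    have hd0 : d ≠ 0 := fun h0 => hind 1 (by rw [one_smul]; exact (sub_eq_zero.1 h0).symm)
    set L := X ⊓ orth hQ (Submodule.span F {d})
    have hLmem : ∀ z ∈ X, pol Q d z = 0 → z ∈ L := fun z hz hdz => ⟨hz, fun x hx => by
      obtain ⟨k, rfl⟩ := Submodule.mem_span_singleton.1 hx
      rw [pol_smul_left hQ, hdz, mul_zero]⟩
    have hrad : ∀ x ∈ X, (∀ z ∈ L, pol Q x z = 0) → x ∈ Submodule.span F {d} := by
      intro x hx hperp
      by_contra hxd
      obtain ⟨φ, hφd, hφx⟩ := exists_dual (W := Submodule.span F {d}) (u := x) hxd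
      obtain ⟨z, hz, hz'⟩ := exists_rep hQ hX φ
      have hdz : pol Q d z = 0 := by
        rw [← hz' d (X.sub_mem hu hw), hφd d (Submodule.mem_span_singleton_self d)]
      have hxz := hperp z (hLmem z hz hdz)
      rw [← hz' x hx, hφx] at hxz
      exact one_ne_zero hxz
    obtain ⟨R, hR⟩ : ∃ R, R = L ⊓ orth hQ L := ⟨_, rfl⟩
    have hRd : R ≤ Submodule.span F {d} := fun x hx => hrad x (hR.le hx).1.1 fun z hz =>
      (pol_comm _ _).trans ((hR.le hx).2 z hz)
    obtain ⟨C, hC⟩ := R.exists_isCompl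
    have h1 := Submodule.finrank_add_eq_of_isCompl hC
    have h2 := Submodule.finrank_sup_add_finrank_inf_eq C L
    have h3 := Submodule.finrank_le (C ⊔ L)
    have h4 := Submodule.finrank_mono hRd
    rw [finrank_span_singleton hd0] at h4
    have h5 : Module.finrank F X ≤ Module.finrank F L + 1 := by
      have a0 : (LinearMap.ker ((formQ hQ d).comp X.subtype)).map X.subtype ≤ L := by
        rintro _ ⟨z, hz, rfl⟩
        exact hLmem z z.2 ((pol_comm _ _).trans (LinearMap.mem_ker.1 hz))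
      have a1 := Submodule.finrank_mono a0
      rw [Submodule.finrank_map_subtype_eq] at a1
      have a2 := LinearMap.finrank_range_add_finrank_ker ((formQ hQ d).comp X.subtype)
      have a3 := Submodule.finrank_le (LinearMap.range ((formQ hQ d).comp X.subtype))
      rw [Module.finrank_self] at a3
      omega
    have hCn : Nondeg Q (C ⊓ L) := fun x hx h' => by
      have hxR : x ∈ R := hR.ge ⟨hx.2, fun z hz => by
        obtain ⟨r, hr, k, hk, rfl⟩ := Submodule.mem_sup.1 (hC.sup_eq_top.ge (Submodule.mem_top (x := z)))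
        have hkL : k ∈ L := by simpa using L.sub_mem hz (hR.le hr).1
        rw [pol_add_left hQ, pol_comm, (hR.le hr).2 x hx.2, h' k ⟨hk, hkL⟩, add_zero]⟩
      have : x ∈ R ⊓ C := ⟨hxR, hx.1⟩
      rwa [hC.inf_eq_bot, Submodule.mem_bot] at this
    obtain ⟨v, hv, hvv, huv⟩ : ∃ v ∈ L, Q v = 0 ∧ pol Q u v ≠ 0 := by
      obtain ⟨u', hu', hpr⟩ := exists_rep hQ hCn (formQ hQ u)
      rcases eq_or_ne u' 0 with hu'0 | hu'0
      swap
      · obtain ⟨e, he, hee, hue⟩ := exists_singular_not_orth hQ hCn (by omega) hu' hu'0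
        exact ⟨e, he.2, hee, by rw [pol_comm, ← formQ_apply hQ, hpr e he, pol_comm]; exact hue⟩
      have hCu : ∀ z ∈ C ⊓ L, pol Q u z = 0 := fun z hz => by
        rw [pol_comm, ← formQ_apply hQ, hpr z hz, hu'0, pol_zero_right hQ]
      obtain ⟨z, hz, huz⟩ : ∃ z ∈ L, pol Q u z ≠ 0 := by
        by_contra hall
        push Not at hall
        obtain ⟨k, hk⟩ := Submodule.mem_span_singleton.1 (hrad u hu hall)
        rcases eq_or_ne k 0 with rfl | hk0
        · exact hu0 (by rw [← hk, zero_smul])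
        refine hind ((k - 1) / k) ?_
        rw [← hk, smul_smul, div_mul_cancel₀ _ hk0, sub_smul, hk, one_smul, hd]
        abel
      obtain ⟨r, hr, l, hl, rfl⟩ := Submodule.mem_sup.1 (hC.sup_eq_top.ge (Submodule.mem_top (x := z)))
      have hlL : l ∈ C ⊓ L := ⟨hl, by simpa using L.sub_mem hz (hR.le hr).1⟩
      rw [pol_add_right hQ, hCu l hlL, add_zero] at huz
      obtain ⟨j, rfl⟩ := Submodule.mem_span_singleton.1 (hRd hr)
      rw [pol_smul_right hQ, mul_ne_zero_iff] at huz
      have hdR : d ∈ R := by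
        have := R.smul_mem j⁻¹ hr
        rwa [smul_smul, inv_mul_cancel₀ huz.1, one_smul] at this
      have hdd : pol Q d d = 0 := (hR.le hdR).2 d (hR.le hdR).1
      have hqd : Q d = pol Q u d := by
        rw [hd, q_sub hQ, pol_sub_right hQ, pol_self hQ, h]; ring
      rw [pol_self hQ, hqd, mul_eq_zero, or_iff_left huz.2] at hdd
      obtain ⟨a, ha, haq⟩ := exists_anisotropic hQ hCn (fun h0 => by rw [h0, finrank_bot] at h2; omega)
      obtain ⟨k, hk⟩ := FiniteField.isSquare_of_char_two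
        (ringChar.eq_iff.2 (CharTwo.of_one_ne_zero_of_two_eq_zero one_ne_zero hdd)) (Q a / Q d)
      have hk0 : k ≠ 0 := fun h0 => by
        rw [h0, mul_zero, div_eq_zero_iff, or_iff_left (hqd ▸ huz.2)] at hk
        exact haq hk
      rw [div_eq_iff (hqd ▸ huz.2)] at hk
      refine ⟨k • d + a, L.add_mem (L.smul_mem _ (hR.le hdR).1) ha.2, ?_, ?_⟩
      · rw [q_add hQ, q_smul hQ, pol_smul_left hQ, pol_comm d a, (hR.le hdR).2 a ha.2, hk]
        linear_combination k ^ 2 * Q d * hdd
      · rw [pol_add_right hQ, hCu a ha, add_zero, pol_smul_right hQ]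
        exact mul_ne_zero hk0 huz.2
    have huw : pol Q w v = pol Q u v := by
      have := hv.2 d (Submodule.mem_span_singleton_self d)
      rw [hd, pol_sub_left hQ, sub_eq_zero] at this
      exact this.symm
    refine via ((pol Q u v)⁻¹ • v) u w (X.smul_mem _ hv.1) hu hw ?_ h ?_ ?_
    · rw [q_smul hQ, hvv, mul_zero]
    · rw [pol_smul_right hQ, inv_mul_cancel₀ huv]
    · rw [pol_smul_right hQ, huw, inv_mul_cancel₀ huv]
  by_cases hdep : ∃ k : F, w = k • u
  swap
  · exact indep u w hu hw hu0 (fun k hk => hdep ⟨k, hk⟩) h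
  obtain ⟨k, hk⟩ := hdep
  -- an independent vector of the same value
  obtain ⟨x, hx, hxu, hxq⟩ : ∃ x ∈ X, x ∉ Submodule.span F {u} ∧ Q x = Q u := by
    obtain ⟨a, ha, haq, hau⟩ := exists_singular_not_orth hQ hX (by omega) hu hu0
    obtain ⟨y, ⟨y, hy, rfl⟩, hyU⟩ : ∃ y ∈ (LinearMap.ker ((LinearMap.pi ![formQ hQ u, formQ hQ a]).comp
        X.subtype)).map X.subtype, y ∉ Submodule.span F ({u, a} : Set (ι → F)) := by
      by_contra hc
      push Not at hc
      have a0 := Submodule.finrank_mono (t := Submodule.span F ({u, a} : Set (ι → F))) hc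
      have a3 : Module.finrank F ↥(Submodule.span F ({u, a} : Set (ι → F))) ≤ 2 :=
        (finrank_span_le_card _).trans (by rw [Set.toFinset_insert, Set.toFinset_singleton]; exact Finset.card_le_two)
      rw [Submodule.finrank_map_subtype_eq] at a0
      have a1 := LinearMap.finrank_range_add_finrank_ker
        ((LinearMap.pi ![formQ hQ u, formQ hQ a]).comp X.subtype)
      have a2 := Submodule.finrank_le (LinearMap.range ((LinearMap.pi ![formQ hQ u, formQ hQ a]).comp X.subtype))
      rw [Module.finrank_fin_fun] at a2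
      omega
    have hy' := LinearMap.mem_ker.1 hy
    have huy : pol Q u (y : ι → F) = 0 := (pol_comm _ _).trans (congrFun hy' 0)
    have hay : pol Q (y : ι → F) a = 0 := congrFun hy' 1
    set c := -Q (y : ι → F) / pol Q u a
    refine ⟨u + (y : ι → F) + c • a, X.add_mem (X.add_mem hu y.2) (X.smul_mem _ ha), fun hm => hyU ?_, ?_⟩
    · obtain ⟨l, hl⟩ := Submodule.mem_span_singleton.1 hm
      exact Submodule.mem_span_pair.2 ⟨l - 1, -c, by rw [sub_smul, hl, one_smul, neg_smul]; abel⟩
    · rw [q_add hQ, q_add hQ, q_smul hQ, pol_add_left hQ, pol_smul_right hQ, pol_smul_right hQ, haq, huy, hay,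
        div_mul_cancel₀ _ hau]
      ring
  have hx0 : x ≠ 0 := fun h0 => hxu (h0 ▸ Submodule.zero_mem _)
  have hk0 : k ≠ 0 := fun h0 => hw0 (by rw [hk, h0, zero_smul])
  obtain ⟨g, hg, hgu, hgf⟩ := indep u x hu hx hu0
    (fun l hl => hxu (Submodule.mem_span_singleton.2 ⟨l, hl.symm⟩)) hxq.symm
  obtain ⟨g', hg', hgx, hgf'⟩ := indep x w hx hw hx0 (fun l hl => hxu (Submodule.mem_span_singleton.2 ⟨l⁻¹ * k, by
    have hl0 : l ≠ 0 := fun h0 => hw0 (by rw [hl, h0, zero_smul])
    rw [mul_smul, ← hk, hl, smul_smul, inv_mul_cancel₀ hl0, one_smul]⟩)) (hxq.trans h)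
  exact ⟨g' * g, K.mul_mem hg' hg, by rw [mv_mul, hgu, hgx], fun z hz => by rw [mv_mul, hgf z hz, hgf' z hz]⟩

end Cfsg.Agent.Transvec.Orth
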