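/-
The commutator subgroup of the orthogonal group is generated by the Siegel elements (dimension at least eleven).
-/
import Cfsg.Agent.Lib.Transvec.Quad
set_option autoImplicit false

namespace Cfsg.Agent.Transvec.Orth

open scoped Matrix commutatorElement
open Matrix Cfsg.Agent.Transvec

variable {ι : Type} [Fintype ι] [DecidableEq ι] {F : Type*} [Field F] {Q : (ι → F) → F}

/-- The subgroup generated by the Siegel elements. -/
def siegelGroup (Q : (ι → F) → F) : Subgroup (GL ι F) :=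
  Subgroup.closure {g | ∃ u y : ι → F, Q u = 0 ∧ pol Q u y = 0 ∧ IsSiegel Q g u y}

/-- The map z ↦ z − (B(z,a)/Q(a)) a. -/
def IsRefl (Q : (ι → F) → F) (g : GL ι F) (a : ι → F) : Prop :=
  Q a ≠ 0 ∧ ∀ z, mv g z = z - (pol Q z a / Q a) • a

variable (hQ : Geo.IsNondegenerateQuadraticForm Q)
include hQ

theorem isSiegel_mem_isometry {g : GL ι F} {u y : ι → F} (hu : Q u = 0) (hy : pol Q u y = 0)
    (h : IsSiegel Q g u y) : g ∈ isometryGroup F Q := by
  obtain ⟨g', hg', hg''⟩ := exists_siegel hQ hu hy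
  rwa [isSiegel_unique h hg'']

theorem siegel_mem {u y : ι → F} (hu : Q u = 0) (hy : pol Q u y = 0) :
    ∃ g ∈ siegelGroup Q, IsSiegel Q g u y := by
  obtain ⟨g, -, hg⟩ := exists_siegel hQ hu hy
  exact ⟨g, Subgroup.subset_closure ⟨u, y, hu, hy, hg⟩, hg⟩

theorem siegelGroup_le_isometry : siegelGroup Q ≤ isometryGroup F Q :=
  (Subgroup.closure_le _).2 fun _ ⟨_, _, hu, hy, h⟩ => isSiegel_mem_isometry hQ hu hy h

theorem siegelGroup_conj {g s : GL ι F} (hg : g ∈ isometryGroup F Q) (hs : s ∈ siegelGroup Q) :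
    g * s * g⁻¹ ∈ siegelGroup Q := by
  induction hs using Subgroup.closure_induction with
  | mem x hx =>
    obtain ⟨u, y, hu, hy, h⟩ := hx
    exact Subgroup.subset_closure ⟨mv g u, mv g y, by rw [mem_isometry.1 hg, hu],
      by rw [pol_mv hQ hg, hy], isSiegel_conj hQ hg h⟩
  | one => simp
  | mul x y _ _ ihx ihy =>
    rw [show g * (x * y) * g⁻¹ = g * x * g⁻¹ * (g * y * g⁻¹) by group]
    exact Subgroup.mul_mem _ ihx ihy
  | inv x _ ihx =>
    rw [show g * x⁻¹ * g⁻¹ = (g * x * g⁻¹)⁻¹ by group]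
    exact Subgroup.inv_mem _ ihx

theorem exists_refl {a : ι → F} (ha : Q a ≠ 0) : ∃ g ∈ isometryGroup F Q, IsRefl Q g a := by
  set A := tvMat a (-(Q a)⁻¹ • formQ hQ a) with hA
  have hdet : A.det ≠ 0 := by
    rw [hA, det_tvMat, LinearMap.smul_apply, formQ_apply, pol_self hQ, smul_eq_mul]
    rw [show (1 : F) + -(Q a)⁻¹ * (2 * Q a) = -1 by field_simp; ring]
    exact neg_ne_zero.2 one_ne_zero
  have hmv : ∀ z, mv (Matrix.GeneralLinearGroup.mkOfDetNeZero A hdet) z = z - (pol Q z a / Q a) • a := fun z => by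
    show A *ᵥ z = _
    rw [hA, tvMat_mulVec, LinearMap.smul_apply, formQ_apply, smul_eq_mul, sub_eq_add_neg, ← neg_smul]
    congr 2
    ring
  refine ⟨_, mem_isometry.2 fun z => ?_, ha, hmv⟩
  rw [hmv, q_sub hQ, q_smul hQ, pol_smul_right hQ]
  field_simp
  ring

theorem isRefl_conj {g r : GL ι F} (hg : g ∈ isometryGroup F Q) {a : ι → F} (h : IsRefl Q r a) :
    IsRefl Q (g * r * g⁻¹) (mv g a) := by
  refine ⟨by rw [mem_isometry.1 hg]; exact h.1, fun z => ?_⟩
  obtain ⟨w, rfl⟩ : ∃ w, z = mv g w := ⟨mv g⁻¹ z, (mv_mv_inv g z).symm⟩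
  rw [mv_mul, mv_mul, mv_inv_mv, h.2 w, pol_mv hQ hg, mem_isometry.1 hg, mv_sub, mv_smul]

theorem isRefl_move {r : GL ι F} {v v' : ι → F} (hq : Q v' = Q v) (h : IsRefl Q r (v' - v)) : mv r v' = v := by
  rw [h.2, show pol Q v' (v' - v) / Q (v' - v) = 1 by
    rw [div_eq_one_iff_eq h.1, pol_sub_right hQ, pol_self hQ, q_sub hQ, hq]; ring]
  rw [one_smul, sub_sub_cancel]

omit hQ in
theorem isRefl_fix {r : GL ι F} {a z : ι → F} (h : IsRefl Q r a) (hz : pol Q z a = 0) : mv r z = z := by
  rw [h.2, hz, zero_div, zero_smul, sub_zero]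

theorem mv_mem_of_fix {X : Submodule F (ι → F)} (hX : Nondeg Q X) {g : GL ι F} (hg : g ∈ isometryGroup F Q)
    (hfix : ∀ z, (∀ x ∈ X, pol Q z x = 0) → mv g z = z) {x : ι → F} (hx : x ∈ X) : mv g x ∈ X := by
  obtain ⟨u, hu, hxu⟩ := exists_proj hQ hX (mv g x)
  have : mv g x - u = 0 := nondeg_top hQ _ Submodule.mem_top fun w _ => by
    obtain ⟨w₁, hw₁, hw₂⟩ := exists_proj hQ hX w
    have hfw : mv g (w - w₁) = w - w₁ := hfix _ fun y hy => by rw [pol_comm]; exact hw₂ y hy
    rw [show w = w₁ + (w - w₁) by abel, pol_add_left hQ, hxu w₁ hw₁, zero_add, pol_sub_right hQ, pol_comm _ u,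
      hw₂ u hu, sub_zero, ← hfw, pol_mv hQ hg, pol_comm]
    exact hw₂ x hx
  rwa [sub_eq_zero.1 this]

/-- The isometries are generated by Siegel elements and reflections. -/
theorem isometry_le [Finite F] : isometryGroup F Q ≤
    Subgroup.closure ((siegelGroup Q : Set (GL ι F)) ∪ {g | g ∈ isometryGroup F Q ∧ ∃ a, IsRefl Q g a}) := by
  set T := Subgroup.closure ((siegelGroup Q : Set (GL ι F)) ∪ {g | g ∈ isometryGroup F Q ∧ ∃ a, IsRefl Q g a})
  have hS : ∀ s ∈ siegelGroup Q, s ∈ T := fun s hs => Subgroup.subset_closure (Or.inl hs)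
  have hR : ∀ {r a}, r ∈ isometryGroup F Q → IsRefl Q r a → r ∈ T := fun hr h =>
    Subgroup.subset_closure (Or.inr ⟨hr, _, h⟩)
  suffices H : ∀ (X : Submodule F (ι → F)), Nondeg Q X → ∀ g ∈ isometryGroup F Q,
      (∀ z, (∀ x ∈ X, pol Q z x = 0) → mv g z = z) → g ∈ T by
    intro g hg
    refine H ⊤ (nondeg_top hQ) g hg fun z hz => ?_
    rw [show z = 0 from nondeg_top hQ z Submodule.mem_top fun w hw => by rw [pol_comm]; exact hz w hw, mv_zero]
  intro X
  generalize hd : Module.finrank F X = d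
  induction d using Nat.strong_induction_on generalizing X with
  | _ d ih =>
    intro hX g hg hfix
    by_cases hsing : ∃ e ∈ X, e ≠ 0 ∧ Q e = 0
    · obtain ⟨e, he, he0, hee⟩ := hsing
      obtain ⟨p, hp, hpp, hep⟩ := exists_partner hQ hX he he0 hee
      have he' : mv g e ∈ X := mv_mem_of_fix hQ hX hg hfix he
      have hee' : Q (mv g e) = 0 := by rw [mem_isometry.1 hg, hee]
      have step : ∀ (a b : ι → F), a ∈ X → b ∈ X → Q a = 0 → Q b = 0 → pol Q a b ≠ 0 →
          ∃ r ∈ T, r ∈ isometryGroup F Q ∧ mv r a = b ∧ ∀ z, (∀ x ∈ X, pol Q z x = 0) → mv r z = z := by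
        intro a b ha hb haa hbb hab
        obtain ⟨r, hr, hr'⟩ := exists_refl hQ (a := a - b) (by rw [q_sub hQ, haa, hbb]; simpa using hab)
        exact ⟨r, hR hr hr', hr, isRefl_move hQ (by rw [haa, hbb]) hr',
          fun z hz => isRefl_fix hr' (hz _ (X.sub_mem ha hb))⟩
      obtain ⟨t, htT, ht, hte, htf⟩ : ∃ t ∈ T, t ∈ isometryGroup F Q ∧ mv t (mv g e) = e ∧
          ∀ z, (∀ x ∈ X, pol Q z x = 0) → mv t z = z := by
        by_cases h1 : pol Q (mv g e) e = 0
        swap
        · exact step _ _ he' he hee' hee h1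
        obtain ⟨z, hz, hzq, hz1, hz2⟩ : ∃ z ∈ X, Q z = 0 ∧ pol Q (mv g e) z ≠ 0 ∧ pol Q z e ≠ 0 := by
          by_cases hdep : ∃ k : F, mv g e = k • e
          · obtain ⟨k, hk⟩ := hdep
            refine ⟨p, hp, hpp, ?_, by rw [pol_comm, hep]; exact one_ne_zero⟩
            rw [hk, pol_smul_left hQ, hep, mul_one]
            exact fun h => he0 (mv_inj g (by rw [hk, h, zero_smul, mv_zero]))
          push Not at hdep
          obtain ⟨φ, hφ, hφ'⟩ := exists_dual (W := Submodule.span F {e}) (u := mv g e) fun hm => by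
            obtain ⟨k, hk⟩ := Submodule.mem_span_singleton.1 hm
            exact hdep k hk.symm
          obtain ⟨ψ, -, hψ⟩ := exists_dual (W := (⊥ : Submodule F (ι → F))) (u := e) (by simpa using he0)
          obtain ⟨z₀, hz₀, hz₀'⟩ := exists_rep hQ hX (ψ + (1 - ψ (mv g e)) • φ)
          have a1 : pol Q e z₀ = 1 := by
            rw [← hz₀' e he]; simp [hψ, hφ e (Submodule.mem_span_singleton_self e)]
          have a2 : pol Q (mv g e) z₀ = 1 := by rw [← hz₀' _ he']; simp [hφ']
          refine ⟨z₀ - Q z₀ • e, X.sub_mem hz₀ (X.smul_mem _ he), ?_, ?_, ?_⟩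
          · rw [q_sub hQ, q_smul hQ, pol_smul_right hQ, pol_comm z₀, a1, hee]; ring
          · rw [pol_sub_right hQ, pol_smul_right hQ, a2, h1, mul_zero, sub_zero]; exact one_ne_zero
          · rw [pol_sub_left hQ, pol_smul_left hQ, pol_comm z₀, a1, pol_self hQ, hee, mul_zero, mul_zero, sub_zero]
            exact one_ne_zero
        obtain ⟨r, hr, hrI, hre, hrf⟩ := step _ _ he' hz hee' hzq hz1
        obtain ⟨r', hr', hr'I, hr'e, hr'f⟩ := step _ _ hz he hzq hee hz2
        exact ⟨r' * r, T.mul_mem hr' hr, Subgroup.mul_mem _ hr'I hrI, by rw [mv_mul, hre, hr'e],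
          fun z hz => by rw [mv_mul, hrf z hz, hr'f z hz]⟩
      set g₁ := t * g with hg₁def
      have hg₁ : g₁ ∈ isometryGroup F Q := Subgroup.mul_mem _ ht hg
      have hg₁e : mv g₁ e = e := by rw [mv_mul, hte]
      have hg₁f : ∀ z, (∀ x ∈ X, pol Q z x = 0) → mv g₁ z = z := fun z hz => by
        rw [mv_mul, hfix z hz, htf z hz]
      have hp' : mv g₁ p ∈ X := mv_mem_of_fix hQ hX hg₁ hg₁f hp
      have hpe : pol Q p e = 1 := by rw [pol_comm, hep]
      have hp'e : pol Q (mv g₁ p) e = 1 := by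
        conv_lhs => arg 3; rw [← hg₁e]
        rw [pol_mv hQ hg₁, hpe]
      obtain ⟨y, hy, hyy, hmove⟩ := exists_move_along hQ (v := e) (u := mv g₁ p) (w := p) hee
        (by rw [mem_isometry.1 hg₁]) hp'e hpe
      obtain ⟨s, hs, hss⟩ := siegel_mem hQ hee hy
      have hyX : y ∈ X := hyy ▸ X.sub_mem hp hp'
      set g₂ := s * g₁ with hg₂def
      have hg₂ : g₂ ∈ isometryGroup F Q := Subgroup.mul_mem _ (siegelGroup_le_isometry hQ hs) hg₁
      have hg₂e : mv g₂ e = e := by
        rw [mv_mul, hg₁e, isSiegel_fix hQ hss (by rw [pol_self hQ, hee, mul_zero]) hy]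
      have hg₂p : mv g₂ p = p := by rw [mv_mul, hmove s hss]
      have hg₂f : ∀ z, (∀ x ∈ X, pol Q z x = 0) → mv g₂ z = z := fun z hz => by
        rw [mv_mul, hg₁f z hz, isSiegel_fix hQ hss (hz _ he) (hz _ hyX)]
      obtain ⟨hPn, hP2⟩ := nondeg_pair hQ hee hpp hep
      have hPX : Submodule.span F ({e, p} : Set (ι → F)) ≤ X :=
        Submodule.span_le.2 (by rintro v (rfl | rfl) <;> assumption)
      have hfr := finrank_inf_orth_add hQ hPn hPX
      rw [hP2] at hfr
      have := ih _ (by omega) (X ⊓ orth hQ (Submodule.span F {e, p})) rfl (nondeg_inf_orth hQ hPn hX hPX) g₂ hg₂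
        fun z hz => by
          obtain ⟨q, hq, hzq⟩ := exists_proj hQ hPn z
          have hfq : mv g₂ q = q := by
            obtain ⟨a, b, rfl⟩ := Submodule.mem_span_pair.1 hq
            rw [mv_add, mv_smul, mv_smul, hg₂e, hg₂p]
          have hfr' : mv g₂ (z - q) = z - q := hg₂f _ fun x hx => by
            obtain ⟨q', hq', hxq⟩ := exists_proj hQ hPn x
            rw [show x = q' + (x - q') by abel, pol_add_right hQ, pol_comm _ q', hzq q' hq', zero_add,
              pol_sub_left hQ, hz _ ⟨X.sub_mem hx (hPX hq'), hxq⟩, hxq q hq, sub_zero]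
          rw [show z = q + (z - q) by abel, mv_add, hfq, hfr']
      have h1 := T.mul_mem (T.inv_mem htT) (T.mul_mem (T.inv_mem (hS s hs)) this)
      rwa [hg₂def, inv_mul_cancel_left, hg₁def, inv_mul_cancel_left] at h1
    · -- no singular vectors: reflections suffice
      push Not at hsing
      suffices H : ∀ (m : ℕ) (g : GL ι F) (W : Submodule F (ι → F)), W ≤ X →
          Module.finrank F X ≤ Module.finrank F W + m → g ∈ isometryGroup F Q →
          (∀ z, (∀ x ∈ X, pol Q z x = 0) → mv g z = z) → (∀ w ∈ W, mv g w = w) → g ∈ T from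
        H _ g ⊥ bot_le (Nat.le_add_left _ _) hg hfix fun w hw => by
          rw [(Submodule.mem_bot F).1 hw, mv_zero]
      intro m
      induction m with
      | zero =>
        intro g W hWX hle hg hf hW
        have hWX' : W = X := Submodule.eq_of_le_of_finrank_le hWX hle
        have : g = 1 := ext_mv fun z => by
          obtain ⟨q, hq, hzq⟩ := exists_proj hQ hX z
          rw [mv_one, show z = q + (z - q) by abel, mv_add, hW q (hWX' ▸ hq),
            hf _ fun x hx => by rw [pol_comm]; exact hzq x hx]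
        rw [this]; exact T.one_mem
      | succ m ihm =>
        intro g W hWX hle hg hf hW
        by_cases hW' : W = X
        · exact ihm g W hWX (by rw [hW']; omega) hg hf hW
        obtain ⟨v, hv, hvW⟩ := SetLike.exists_of_lt (lt_of_le_of_ne hWX hW')
        have hlt : W < W ⊔ Submodule.span F {v} := lt_of_le_of_ne le_sup_left fun h =>
          hvW (h ▸ Submodule.mem_sup_right (Submodule.mem_span_singleton_self v))
        have hle' : W ⊔ Submodule.span F {v} ≤ X := sup_le hWX ((Submodule.span_singleton_le_iff_mem _ _).2 hv)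
        have hcard := Submodule.finrank_lt_finrank_of_lt hlt
        have fixed : ∀ {k : GL ι F}, (∀ w ∈ W, mv k w = w) → mv k v = v →
            ∀ w ∈ W ⊔ Submodule.span F {v}, mv k w = w := fun {k} h1 h2 w hw => by
          obtain ⟨w₁, hw₁, w₂, hw₂, rfl⟩ := Submodule.mem_sup.1 hw
          obtain ⟨c, rfl⟩ := Submodule.mem_span_singleton.1 hw₂
          rw [mv_add, mv_smul, h1 w₁ hw₁, h2]
        by_cases hgv : mv g v = v
        · exact ihm g _ hle' (by omega) hg hf (fixed hW hgv)
        have hv' : mv g v ∈ X := mv_mem_of_fix hQ hX hg hf hv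
        obtain ⟨r, hr, hr'⟩ := exists_refl hQ (a := mv g v - v)
          (hsing _ (X.sub_mem hv' hv) (sub_ne_zero.2 hgv))
        have h1 := ihm (r * g) _ hle' (by omega) (Subgroup.mul_mem _ hr hg)
          (fun z hz => by rw [mv_mul, hf z hz, isRefl_fix hr' (hz _ (X.sub_mem hv' hv))])
          (fixed (fun w hw => by
            rw [mv_mul, hW w hw, isRefl_fix hr' (by
              rw [pol_sub_right hQ, ← pol_mv hQ hg w v, hW w hw, sub_self])])
            (by rw [mv_mul, isRefl_move hQ (mem_isometry.1 hg v) hr']))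
        have h2 := T.mul_mem (T.inv_mem (hR hr hr')) h1
        rwa [inv_mul_cancel_left] at h2

/-- The commutator subgroup of the orthogonal group is the subgroup generated by the Siegel elements. -/
theorem omegaGL_eq [Finite F] (hn : 7 ≤ Fintype.card ι) : Geo.omegaGL Q = siegelGroup Q := by
  set O := isometryGroup F Q
  set S := siegelGroup Q
  have htop : 5 ≤ Module.finrank F (⊤ : Submodule F (ι → F)) := by rw [finrank_top, Module.finrank_pi]; omega
  have hSO := siegelGroup_le_isometry hQ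
  have hKS : ∀ u ∈ (⊤ : Submodule F (ι → F)), ∀ y ∈ (⊤ : Submodule F (ι → F)), Q u = 0 → pol Q u y = 0 →
      ∃ g ∈ S, IsSiegel Q g u y := fun u _ y _ hu hy => siegel_mem hQ hu hy
  refine le_antisymm ?_ ?_
  · -- the quotient by S is abelian
    let Z : GL ι F → Subgroup (GL ι F) := fun b =>
      { carrier := {a | a ∈ O ∧ ⁅a, b⁆ ∈ S}
        mul_mem' := fun {x y} hx hy => ⟨O.mul_mem hx.1 hy.1, by
          rw [show ⁅x * y, b⁆ = x * ⁅y, b⁆ * x⁻¹ * ⁅x, b⁆ by simp only [commutatorElement_def]; group]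
          exact S.mul_mem (siegelGroup_conj hQ hx.1 hy.2) hx.2⟩
        one_mem' := ⟨O.one_mem, by simp [commutatorElement_one_left, S.one_mem]⟩
        inv_mem' := fun {x} hx => ⟨O.inv_mem hx.1, by
          rw [show ⁅x⁻¹, b⁆ = x⁻¹ * ⁅x, b⁆⁻¹ * x⁻¹⁻¹ by simp only [commutatorElement_def]; group]
          exact siegelGroup_conj hQ (O.inv_mem hx.1) (S.inv_mem hx.2)⟩ }
    have hZS : ∀ {s b}, s ∈ S → b ∈ O → s ∈ Z b := fun {s b} hs hb => ⟨hSO hs, by
      rw [commutatorElement_def, mul_assoc, mul_assoc, ← mul_assoc b]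
      exact S.mul_mem hs (siegelGroup_conj hQ hb (S.inv_mem hs))⟩
    have hswap : ∀ {a b}, a ∈ Z b → b ∈ O → b ∈ Z a := fun {a b} h hb => ⟨hb, by
      rw [← commutatorElement_inv]; exact S.inv_mem h.2⟩
    have hrefl : ∀ {r r' : GL ι F} {a b : ι → F}, r ∈ O → r' ∈ O → IsRefl Q r a → IsRefl Q r' b →
        r ∈ Z r' := by
      intro r r' a b hr hr' ha hb
      obtain ⟨L, hLdef⟩ : ∃ L : Submodule F (ι → F), L = LinearMap.ker (formQ hQ b) := ⟨_, rfl⟩
      have hL : Fintype.card ι ≤ Module.finrank F L + 1 := by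
        have h1 : Module.finrank F (LinearMap.range (formQ hQ b)) + Module.finrank F L = Module.finrank F (ι → F) := by
          rw [hLdef]; exact LinearMap.finrank_range_add_finrank_ker (formQ hQ b)
        have h2 := Submodule.finrank_le (LinearMap.range (formQ hQ b))
        rw [Module.finrank_self] at h2
        rw [Module.finrank_pi] at h1
        omega
      obtain ⟨a', ha', haq⟩ := exists_value_in hQ (nondeg_top hQ) (L := L) le_top
        (by rw [finrank_top, Module.finrank_pi]; omega) (Q a)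
      have ha0 : a ≠ 0 := fun h => ha.1 (by rw [h, q_zero hQ])
      have ha'0 : a' ≠ 0 := fun h => ha.1 (by rw [← haq, h, q_zero hQ])
      obtain ⟨s, hs, hsa, -⟩ := exists_move hQ (nondeg_top hQ) htop hKS (Submodule.mem_top (x := a))
        (Submodule.mem_top (x := a')) ha0 ha'0 haq.symm
      have hc : s * r * s⁻¹ ∈ Z r' := by
        refine ⟨O.mul_mem (O.mul_mem (hSO hs) hr) (O.inv_mem (hSO hs)), ?_⟩
        have h := isRefl_conj hQ (hSO hs) ha
        rw [hsa] at h
        have hab : pol Q a' b = 0 := LinearMap.mem_ker.1 (hLdef.le ha')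
        have hcomm : s * r * s⁻¹ * r' = r' * (s * r * s⁻¹) := ext_mv fun z => by
          rw [mv_mul (s * r * s⁻¹) r', mv_mul r' (s * r * s⁻¹), h.2, hb.2, h.2, hb.2]
          simp only [pol_sub_left hQ, pol_smul_left hQ, hab, pol_comm b a', mul_zero, sub_zero]
          abel
        rw [commutatorElement_def, hcomm, mul_inv_cancel_right, mul_inv_cancel]
        exact S.one_mem
      have := (Z r').mul_mem ((Z r').mul_mem ((Z r').inv_mem (hZS hs hr')) hc) (hZS hs hr')
      rwa [show s⁻¹ * (s * r * s⁻¹) * s = r by group] at this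
    have hO := isometry_le hQ
    have hrefl' : ∀ {r : GL ι F} {a : ι → F}, r ∈ O → IsRefl Q r a → ∀ b ∈ O, b ∈ Z r := by
      intro r a hr ha b hb
      induction hO hb using Subgroup.closure_induction with
      | mem x hx =>
        rcases hx with hx | ⟨hx, c, hc⟩
        · exact hZS hx hr
        · exact hrefl hx hr hc ha
      | one => exact (Z r).one_mem
      | mul x y hx hy ihx ihy =>
        have hle : Subgroup.closure ((siegelGroup Q : Set (GL ι F)) ∪ {g | g ∈ O ∧ ∃ a, IsRefl Q g a}) ≤ O :=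
          (Subgroup.closure_le _).2 fun z hz => hz.elim (fun h => hSO h) fun h => h.1
        exact (Z r).mul_mem (ihx (hle hx)) (ihy (hle hy))
      | inv x hx ihx =>
        have hle : Subgroup.closure ((siegelGroup Q : Set (GL ι F)) ∪ {g | g ∈ O ∧ ∃ a, IsRefl Q g a}) ≤ O :=
          (Subgroup.closure_le _).2 fun z hz => hz.elim (fun h => hSO h) fun h => h.1
        exact (Z r).inv_mem (ihx (hle hx))
    have hall : ∀ b ∈ O, Subgroup.closure ((siegelGroup Q : Set (GL ι F)) ∪ {g | g ∈ O ∧ ∃ a, IsRefl Q g a}) ≤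
        Z b := fun b hb => (Subgroup.closure_le _).2 fun x hx => by
      rcases hx with hx | ⟨hx, c, hc⟩
      · exact hZS hx hb
      · exact hswap (hrefl' hx hc b hb) hx
    rw [Geo.omegaGL, Omega, commutator_def, Subgroup.map_commutator]
    refine Subgroup.commutator_le.2 fun a ha b hb => ?_
    obtain ⟨a, -, rfl⟩ := ha
    obtain ⟨b, -, rfl⟩ := hb
    exact (hall _ b.2 (hO a.2)).2
  · -- Siegel elements are commutators
    refine (Subgroup.closure_le _).2 ?_
    rintro g ⟨u, y, hu, hy, hg⟩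
    rcases eq_or_ne u 0 with rfl | hu0
    · have : g = 1 := ext_mv fun z => by rw [hg, mv_one, pol_zero_right hQ]; simp
      rw [this]; exact one_mem _
    obtain ⟨v, -, hvv, huv⟩ := exists_partner hQ (nondeg_top hQ) (Submodule.mem_top (x := u)) hu0 hu
    obtain ⟨hPn, hP2⟩ := nondeg_pair hQ hu hvv huv
    set X := (⊤ : Submodule F (ι → F)) ⊓ orth hQ (Submodule.span F {u, v}) with hXdef
    have hXn : Nondeg Q X := nondeg_inf_orth hQ hPn (nondeg_top hQ) le_top
    have hX9 : 5 ≤ Module.finrank F X := by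
      have h := finrank_inf_orth_add hQ hPn (le_top : Submodule.span F ({u, v} : Set (ι → F)) ≤ ⊤)
      rw [hP2, finrank_top, Module.finrank_pi, ← hXdef] at h
      omega
    set y₀ := y + (-pol Q y v) • u with hy₀def
    have hg₀ : IsSiegel Q g u y₀ := isSiegel_add_self hQ hu hy _ hg
    have huu : pol Q u u = 0 := by rw [pol_self hQ, hu, mul_zero]
    have hy₀u : pol Q u y₀ = 0 := by rw [hy₀def, pol_add_right hQ, pol_smul_right hQ, hy, huu]; ring
    have hy₀X : y₀ ∈ X := ⟨Submodule.mem_top, (mem_orth_span hQ).2 (by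
      rintro w (rfl | rfl)
      · exact hy₀u
      · rw [hy₀def, pol_add_right hQ, pol_smul_right hQ, pol_comm w u, huv, pol_comm y w]; ring)⟩
    have hXu : ∀ x ∈ X, pol Q u x = 0 := fun x hx => hx.2 u (Submodule.subset_span (Set.mem_insert _ _))
    rcases eq_or_ne y₀ 0 with hy0 | hy0
    · rw [hy0] at hg₀
      rw [isSiegel_unique hg₀ (isSiegel_zero hQ u)]; exact one_mem _
    obtain ⟨φ, -, hφ⟩ := exists_dual (W := (⊥ : Submodule F (ι → F))) (u := y₀) (by simpa using hy0)
    obtain ⟨z, hz, hz'⟩ := exists_rep hQ hXn φ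
    obtain ⟨k, ⟨k, hk, rfl⟩, hkU⟩ : ∃ k ∈ (LinearMap.ker ((formQ hQ y₀).comp X.subtype)).map X.subtype,
        k ∉ Submodule.span F ({y₀, z} : Set (ι → F)) := by
      classical
      by_contra hc
      push Not at hc
      have a0 := Submodule.finrank_mono (t := Submodule.span F ({y₀, z} : Set (ι → F))) hc
      have a3 : Module.finrank F ↥(Submodule.span F ({y₀, z} : Set (ι → F))) ≤ 2 :=
        (finrank_span_le_card _).trans (by rw [Set.toFinset_insert, Set.toFinset_singleton]; exact Finset.card_le_two)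
      rw [Submodule.finrank_map_subtype_eq] at a0
      have a1 := LinearMap.finrank_range_add_finrank_ker ((formQ hQ y₀).comp X.subtype)
      have a2 := Submodule.finrank_le (LinearMap.range ((formQ hQ y₀).comp X.subtype))
      rw [Module.finrank_self] at a2
      omega
    set y' := (-Q y₀) • z + (k : ι → F) with hy'def
    have hy'X : y' ∈ X := X.add_mem (X.smul_mem _ hz) k.2
    have hq : Q y' = Q (y' + y₀) := by
      have hzy : pol Q z y₀ = 1 := by rw [pol_comm, ← hz' y₀ hy₀X, hφ]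
      have hky : pol Q (k : ι → F) y₀ = 0 := LinearMap.mem_ker.1 hk
      rw [q_add hQ y' y₀, hy'def, pol_add_left hQ, pol_smul_left hQ, hzy, hky]
      ring
    have hy'0 : y' ≠ 0 := fun h => hkU (Submodule.mem_span_pair.2 ⟨0, Q y₀, by
      rw [zero_smul, zero_add]
      rw [hy'def, neg_smul, neg_add_eq_zero] at h
      exact h⟩)
    have hy'y : y' + y₀ ≠ 0 := fun h => hkU (Submodule.mem_span_pair.2 ⟨-1, Q y₀, by
      rw [hy'def] at h
      simp only [Submodule.subtype_apply]
      linear_combination (norm := module) -h⟩)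
    obtain ⟨h, hh, hhy, hhf⟩ := exists_move hQ hXn hX9 (K := O)
      (fun a _ b _ ha hb => exists_siegel hQ ha hb) hy'X (X.add_mem hy'X hy₀X) hy'0 hy'y hq
    have hhu : mv h u = u := hhf u fun x hx => hXu x hx
    obtain ⟨e, he, he'⟩ := exists_siegel hQ hu (hXu y' hy'X)
    have hc := isSiegel_conj hQ hh he'
    rw [hhu, hhy] at hc
    obtain ⟨e₂, -, he₂⟩ := exists_siegel hQ (y := -y') hu (by rw [pol_neg_right hQ, hXu y' hy'X, neg_zero])
    have he₂' : e₂ = e⁻¹ := by
      refine eq_inv_of_mul_eq_one_left (isSiegel_unique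
        (isSiegel_mul hQ hu (by rw [pol_neg_right hQ, hXu y' hy'X, neg_zero]) (hXu y' hy'X) he₂ he') ?_)
      rw [neg_add_cancel]; exact isSiegel_zero hQ u
    have hgeq : g = h * e * h⁻¹ * e⁻¹ := by
      rw [← he₂']
      refine isSiegel_unique hg₀ ?_
      have := isSiegel_mul hQ hu (by rw [pol_add_right hQ, hXu y' hy'X, hy₀u, add_zero])
        (by rw [pol_neg_right hQ, hXu y' hy'X, neg_zero]) hc he₂
      rwa [show y' + y₀ + -y' = y₀ by abel] at this
    rw [hgeq, Geo.omegaGL, Omega, commutator_def, Subgroup.map_commutator]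
    exact Subgroup.commutator_mem_commutator (g₁ := h) (g₂ := e)
      ⟨⟨h, hh⟩, Subgroup.mem_top _, rfl⟩ ⟨⟨e, he⟩, Subgroup.mem_top _, rfl⟩

theorem siegel_mem_omega [Finite F] (hn : 7 ≤ Fintype.card ι) {g : GL ι F} {u y : ι → F} (hu : Q u = 0)
    (hy : pol Q u y = 0) (h : IsSiegel Q g u y) : g ∈ Geo.omegaGL Q := by
  rw [omegaGL_eq hQ hn]; exact Subgroup.subset_closure ⟨u, y, hu, hy, h⟩

theorem eq_omega [Finite F] (hn : 7 ≤ Fintype.card ι) {M : Subgroup (GL ι F)} (hMS : M ≤ Geo.omegaGL Q)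
    (hM : ∀ u y : ι → F, Q u = 0 → pol Q u y = 0 → ∃ g ∈ M, IsSiegel Q g u y) : M = Geo.omegaGL Q := by
  refine le_antisymm hMS ?_
  rw [omegaGL_eq hQ hn]
  refine (Subgroup.closure_le _).2 ?_
  rintro g ⟨u, y, hu, hy, hg⟩
  obtain ⟨g', hg', hg''⟩ := hM u y hu hy
  rwa [isSiegel_unique hg hg'']

theorem omega_le_isometry : Geo.omegaGL Q ≤ isometryGroup F Q := by
  rintro _ ⟨a, -, rfl⟩; exact a.2

end Cfsg.Agent.Transvec.Orth
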