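/-
The parity of the rank of g - 1 is a character of the orthogonal group, trivial on the commutator subgroup.
-/
import Cfsg.Agent.Lib.Transvec.QuadGen
set_option autoImplicit false

namespace Cfsg.Agent.Transvec.Orth

open scoped Matrix commutatorElement
open Matrix Cfsg.Agent.Transvec

variable {ι : Type} [Fintype ι] [DecidableEq ι] {F : Type*} [Field F] {Q : (ι → F) → F}

/-- The map z ↦ g z − z. -/
def moveLin (g : GL ι F) : (ι → F) →ₗ[F] ι → F := mvLin g - LinearMap.id

theorem moveLin_apply (g : GL ι F) (z : ι → F) : moveLin g z = mv g z - z := by simp [moveLin, mvLin, mv]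

/-- The rank of g − 1. -/
noncomputable def moveRank (g : GL ι F) : ℕ := Module.finrank F (LinearMap.range (moveLin g))

theorem moveRank_eq_rank (g : GL ι F) : moveRank g = ((g : Matrix ι ι F) - 1).rank := by
  rw [moveRank, Matrix.rank, show moveLin g = ((g : Matrix ι ι F) - 1).mulVecLin from LinearMap.ext fun z => by
    rw [moveLin_apply, Matrix.mulVecLin_apply, Matrix.sub_mulVec, Matrix.one_mulVec]]

theorem moveRank_one : moveRank (1 : GL ι F) = 0 := by
  rw [moveRank, show moveLin (1 : GL ι F) = 0 from LinearMap.ext fun z => by simp [moveLin_apply, mv_one],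
    LinearMap.range_zero, finrank_bot]

variable (hQ : Geo.IsNondegenerateQuadraticForm Q)
include hQ

theorem isRefl_sq {r : GL ι F} {a : ι → F} (h : IsRefl Q r a) : r * r = 1 := ext_mv fun z => by
  rw [mv_mul, mv_one, h.2, h.2, pol_sub_left hQ, pol_smul_left hQ, pol_self hQ]
  have := h.1
  match_scalars <;> field_simp <;> ring

theorem range_moveLin {g : GL ι F} (hg : g ∈ isometryGroup F Q) :
    LinearMap.range (moveLin g) = orth hQ (LinearMap.ker (moveLin g)) := by
  have hle : LinearMap.range (moveLin g) ≤ orth hQ (LinearMap.ker (moveLin g)) := by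
    rintro _ ⟨z, rfl⟩ k hk
    have hk' : mv g k = k := sub_eq_zero.1 ((moveLin_apply g k).symm.trans (LinearMap.mem_ker.1 hk))
    rw [moveLin_apply, pol_sub_right hQ]
    conv_lhs => arg 1; rw [← hk', pol_mv hQ hg]
    rw [sub_self]
  refine Submodule.eq_of_le_of_finrank_le hle ?_
  have h1 := finrank_add_le_of_orth hQ (nondeg_top hQ) (L := LinearMap.ker (moveLin g))
    (R := orth hQ (LinearMap.ker (moveLin g))) le_top le_top fun x hx y hy => hy x hx
  have h2 := LinearMap.finrank_range_add_finrank_ker (moveLin g)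
  rw [finrank_top] at h1
  omega

theorem moveRank_flip_mem {g r : GL ι F} {a : ι → F} (hg : g ∈ isometryGroup F Q) (hr : IsRefl Q r a)
    (ha : a ∈ LinearMap.range (moveLin g)) : moveRank (r * g) + 1 = moveRank g := by
  obtain ⟨x, hx⟩ := ha
  rw [moveLin_apply] at hx
  have ha' : a ∈ orth hQ (LinearMap.ker (moveLin g)) := range_moveLin hQ hg ▸ ⟨x, (moveLin_apply g x).trans hx⟩
  have ha0 : a ≠ 0 := fun h => hr.1 (by rw [h, q_zero hQ])
  have hxk : x ∉ LinearMap.ker (moveLin g) := fun h => ha0 (by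
    rw [← hx, ← moveLin_apply]; exact LinearMap.mem_ker.1 h)
  have hlt : LinearMap.ker (moveLin g) < LinearMap.ker (moveLin (r * g)) := by
    have hle : LinearMap.ker (moveLin g) ≤ LinearMap.ker (moveLin (r * g)) := fun k hk => by
      have hk' : mv g k = k := sub_eq_zero.1 ((moveLin_apply g k).symm.trans (LinearMap.mem_ker.1 hk))
      rw [LinearMap.mem_ker, moveLin_apply, mv_mul, hk', isRefl_fix hr (ha' k hk), sub_self]
    refine lt_of_le_of_ne hle fun h => hxk (h ▸ ?_)
    rw [LinearMap.mem_ker, moveLin_apply, mv_mul, sub_eq_zero]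
    exact isRefl_move hQ (mem_isometry.1 hg x) (hx ▸ hr)
  have h1 := Submodule.finrank_lt_finrank_of_lt hlt
  have h2 := LinearMap.finrank_range_add_finrank_ker (moveLin g)
  have h3 := LinearMap.finrank_range_add_finrank_ker (moveLin (r * g))
  have h4 : Module.finrank F ↥(LinearMap.range (moveLin g)) ≤
      Module.finrank F ↥(LinearMap.range (moveLin (r * g))) + 1 := by
    refine (Submodule.finrank_mono (t := LinearMap.range (moveLin (r * g)) ⊔ Submodule.span F {a}) ?_).trans
      ((Submodule.finrank_add_le_finrank_add_finrank _ _).trans (by rw [finrank_span_singleton ha0]))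
    rintro _ ⟨z, rfl⟩
    rw [show moveLin g z = moveLin (r * g) z + (pol Q (mv g z) a / Q a) • a by
      rw [moveLin_apply, moveLin_apply, mv_mul, hr.2]; abel]
    exact Submodule.add_mem_sup (LinearMap.mem_range_self _ z) (Submodule.smul_mem _ _ (Submodule.mem_span_singleton_self a))
  simp only [moveRank]
  omega

theorem moveRank_flip {g r : GL ι F} {a : ι → F} (hg : g ∈ isometryGroup F Q) (hrI : r ∈ isometryGroup F Q)
    (hr : IsRefl Q r a) : Even (moveRank (r * g)) ↔ ¬ Even (moveRank g) := by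
  by_cases ha : a ∈ LinearMap.range (moveLin g)
  · rw [← moveRank_flip_mem hQ hg hr ha, Nat.even_add_one, not_not]
  · obtain ⟨k, hk, hka⟩ : ∃ k ∈ LinearMap.ker (moveLin g), pol Q k a ≠ 0 := by
      by_contra h
      push Not at h
      exact ha ((range_moveLin hQ hg).symm ▸ h)
    have hk' : mv g k = k := sub_eq_zero.1 ((moveLin_apply g k).symm.trans (LinearMap.mem_ker.1 hk))
    have ha' : a ∈ LinearMap.range (moveLin (r * g)) := by
      refine ⟨(-(pol Q k a / Q a))⁻¹ • k, ?_⟩
      have hne : pol Q k a / Q a ≠ 0 := div_ne_zero hka hr.1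
      rw [map_smul, moveLin_apply, mv_mul, hk', hr.2, sub_sub_cancel_left, ← neg_smul, smul_smul,
        inv_mul_cancel₀ (neg_ne_zero.2 hne), one_smul]
    have h := moveRank_flip_mem hQ (Subgroup.mul_mem _ hrI hg) hr ha'
    rw [← mul_assoc, isRefl_sq hQ hr, one_mul] at h
    rw [← h, Nat.even_add_one]

/-- The elements whose parity multiplies. -/
def paritySubgroup : Subgroup (GL ι F) where
  carrier := {g | g ∈ isometryGroup F Q ∧
    ∀ h ∈ isometryGroup F Q, Even (moveRank (g * h)) ↔ (Even (moveRank g) ↔ Even (moveRank h))}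
  mul_mem' {a b} ha hb := ⟨Subgroup.mul_mem _ ha.1 hb.1, fun h hh => by
    rw [mul_assoc, ha.2 _ (Subgroup.mul_mem _ hb.1 hh), hb.2 h hh, ha.2 b hb.1]
    tauto⟩
  one_mem' := ⟨Subgroup.one_mem _, fun h _ => by simp [moveRank_one]⟩
  inv_mem' {a} ha := ⟨Subgroup.inv_mem _ ha.1, fun h hh => by
    have h1 := ha.2 _ (Subgroup.mul_mem _ (Subgroup.inv_mem _ ha.1) hh)
    have h2 := ha.2 _ (Subgroup.inv_mem _ ha.1)
    rw [mul_inv_cancel_left] at h1
    rw [mul_inv_cancel, moveRank_one] at h2
    have h3 : Even 0 := ⟨0, rfl⟩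
    tauto⟩

theorem refl_mem_parity {r : GL ι F} {a : ι → F} (hrI : r ∈ isometryGroup F Q) (hr : IsRefl Q r a) :
    r ∈ paritySubgroup (Q := Q) ∧ ¬ Even (moveRank r) := by
  have h1 := moveRank_flip hQ (Subgroup.one_mem _) hrI hr
  rw [mul_one, moveRank_one] at h1
  have h3 : Even 0 := ⟨0, rfl⟩
  refine ⟨⟨hrI, fun h hh => ?_⟩, by tauto⟩
  rw [moveRank_flip hQ hh hrI hr]
  tauto

theorem exists_anisotropic_big {L : Submodule F (ι → F)} (hL : Fintype.card ι < 2 * Module.finrank F L) :
    ∃ y ∈ L, Q y ≠ 0 := by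
  by_contra h
  push Not at h
  have := finrank_totally_orth_le hQ (nondeg_top hQ) (L := L) le_top fun a ha b hb => by
    have h' := q_add hQ a b
    rw [h _ (L.add_mem ha hb), h a ha, h b hb] at h'
    linear_combination -h'
  rw [finrank_top, Module.finrank_pi] at this
  omega

theorem siegel_mem_parity (hn : 5 ≤ Fintype.card ι) {g : GL ι F} {u y : ι → F} (hu : Q u = 0)
    (hy : pol Q u y = 0) (h : IsSiegel Q g u y) : g ∈ paritySubgroup (Q := Q) ∧ Even (moveRank g) := by
  have anis : ∀ {g : GL ι F} {y : ι → F}, Q y ≠ 0 → pol Q u y = 0 → IsSiegel Q g u y →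
      g ∈ paritySubgroup (Q := Q) ∧ Even (moveRank g) := by
    intro g y hy0 hy h
    have hb : Q (y + Q y • u) ≠ 0 := by
      rw [q_add hQ, q_smul hQ, pol_smul_right hQ, pol_comm y u, hy, hu]
      simpa using hy0
    obtain ⟨r, hr, hr'⟩ := exists_refl hQ hy0
    obtain ⟨s, hs, hs'⟩ := exists_refl hQ hb
    have e : g = r * s := ext_mv fun z => by
      rw [h, mv_mul, hs'.2, hr'.2, pol_sub_left hQ, pol_smul_left hQ, pol_add_left hQ, pol_smul_left hQ,
        pol_add_right hQ, pol_smul_right hQ, q_add hQ, q_smul hQ, pol_smul_right hQ, pol_self hQ,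
        pol_comm y u, hy, hu]
      simp only [mul_zero, add_zero]
      match_scalars <;> field_simp <;> ring
    obtain ⟨p1, p2⟩ := refl_mem_parity hQ hr hr'
    obtain ⟨q1, q2⟩ := refl_mem_parity hQ hs hs'
    refine e ▸ ⟨Subgroup.mul_mem _ p1 q1, ?_⟩
    rw [p1.2 s hs]
    tauto
  by_cases hy0 : Q y = 0
  swap
  · exact anis hy0 hy h
  obtain ⟨y₁, hy₁, hy₁q⟩ := exists_anisotropic_big hQ (L := orth hQ (Submodule.span F ({u, y} : Set (ι → F)))) (by
    have h1 : Module.finrank F ↥(Submodule.span F ({u, y} : Set (ι → F))) ≤ 2 := by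
      classical
      exact (finrank_span_le_card _).trans
        (by rw [Set.toFinset_insert, Set.toFinset_singleton]; exact Finset.card_le_two)
    let T : (ι → F) →ₗ[F] (Fin 2 → F) := LinearMap.pi ![formQ hQ u, formQ hQ y]
    have h2 := LinearMap.finrank_range_add_finrank_ker T
    have h3 := Submodule.finrank_le (LinearMap.range T)
    rw [Module.finrank_fin_fun] at h3
    rw [Module.finrank_pi] at h2
    have h4 : LinearMap.ker T ≤ orth hQ (Submodule.span F ({u, y} : Set (ι → F))) := fun z hz => by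
      refine (mem_orth_span hQ).2 ?_
      rintro w (rfl | rfl)
      · exact (pol_comm _ _).trans (congrFun (LinearMap.mem_ker.1 hz) 0)
      · exact (pol_comm _ _).trans (congrFun (LinearMap.mem_ker.1 hz) 1)
    have := Submodule.finrank_mono h4
    omega)
  have k1 : pol Q u y₁ = 0 := hy₁ u (Submodule.subset_span (Set.mem_insert _ _))
  have k2 : pol Q y y₁ = 0 := hy₁ y (Submodule.subset_span (Set.mem_insert_of_mem _ rfl))
  have k3 : pol Q u (y - y₁) = 0 := by rw [pol_sub_right hQ, hy, k1, sub_zero]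
  obtain ⟨g₁, -, hg₁⟩ := exists_siegel hQ hu k3
  obtain ⟨g₂, -, hg₂⟩ := exists_siegel hQ hu k1
  obtain ⟨p1, p2⟩ := anis (by rw [q_sub hQ, hy0, k2, zero_add, sub_zero]; exact hy₁q) k3 hg₁
  obtain ⟨q1, q2⟩ := anis hy₁q k1 hg₂
  have hm := isSiegel_mul hQ hu k3 k1 hg₁ hg₂
  rw [sub_add_cancel] at hm
  rw [isSiegel_unique h hm]
  refine ⟨Subgroup.mul_mem _ p1 q1, ?_⟩
  rw [p1.2 g₂ q1.1]
  tauto

theorem isometry_le_parity [Finite F] (hn : 5 ≤ Fintype.card ι) : isometryGroup F Q ≤ paritySubgroup (Q := Q) :=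
  (isometry_le hQ).trans ((Subgroup.closure_le _).2 (by
    rintro g (hg | ⟨hg, a, ha⟩)
    · refine (Subgroup.closure_le _).2 ?_ hg
      rintro s ⟨u, y, hu, hy, hs⟩
      exact (siegel_mem_parity hQ hn hu hy hs).1
    · exact (refl_mem_parity hQ hg ha).1))

/-- Parity is multiplicative. -/
theorem even_moveRank_mul [Finite F] (hn : 5 ≤ Fintype.card ι) {g h : GL ι F} (hg : g ∈ isometryGroup F Q)
    (hh : h ∈ isometryGroup F Q) : Even (moveRank (g * h)) ↔ (Even (moveRank g) ↔ Even (moveRank h)) :=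
  (isometry_le_parity hQ hn hg).2 h hh

theorem even_moveRank_omega [Finite F] (hn : 7 ≤ Fintype.card ι) {g : GL ι F} (hg : g ∈ Geo.omegaGL Q) :
    Even (moveRank g) := by
  rw [omegaGL_eq hQ hn] at hg
  have hI := siegelGroup_le_isometry hQ
  induction hg using Subgroup.closure_induction with
  | mem x hx =>
    obtain ⟨u, y, hu, hy, hs⟩ := hx
    exact (siegel_mem_parity hQ (by omega) hu hy hs).2
  | one => rw [moveRank_one]; exact ⟨0, rfl⟩
  | mul x y hx hy ihx ihy => rw [even_moveRank_mul hQ (by omega) (hI hx) (hI hy)]; tauto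
  | inv x hx ihx =>
    have h := even_moveRank_mul hQ (by omega) (hI hx) (Subgroup.inv_mem _ (hI hx))
    rw [mul_inv_cancel, moveRank_one] at h
    have h3 : Even 0 := ⟨0, rfl⟩
    tauto

end Cfsg.Agent.Transvec.Orth
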