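/-
Maximality in the commutator subgroup of the orthogonal group of the stabilisers of totally singular subspaces.
-/
import Cfsg.Agent.Lib.Transvec.QuadGen
set_option autoImplicit false

namespace Cfsg.Agent.Transvec.Orth

open scoped Matrix
open Matrix Cfsg.Agent.Transvec

variable {ι : Type} [Fintype ι] [DecidableEq ι] {F : Type*} [Field F] {Q : (ι → F) → F}

/-- Singular vectors u all whose Siegel elements lie in M. -/
def qFull (Q : (ι → F) → F) (M : Subgroup (GL ι F)) : Set (ι → F) :=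
  {u | Q u = 0 ∧ ∀ y, pol Q u y = 0 → ∃ g ∈ M, IsSiegel Q g u y}

variable (hQ : Geo.IsNondegenerateQuadraticForm Q)
include hQ

theorem le_finrank_orth (U : Submodule F (ι → F)) :
    Fintype.card ι ≤ Module.finrank F U + Module.finrank F ↥(orth hQ U) := by
  let T : (ι → F) →ₗ[F] Module.Dual F U :=
    { toFun := fun z => (formQ hQ z).comp U.subtype
      map_add' := fun a b => LinearMap.ext fun x => pol_add_right hQ (x : ι → F) a b
      map_smul' := fun c a => LinearMap.ext fun x => by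
        simpa [formQ] using pol_smul_right hQ c (x : ι → F) a }
  have hker : LinearMap.ker T ≤ orth hQ U := fun z hz u hu => LinearMap.congr_fun hz ⟨u, hu⟩
  have h1 := LinearMap.finrank_range_add_finrank_ker T
  have h2 := Submodule.finrank_le (LinearMap.range T)
  rw [Subspace.dual_finrank_eq] at h2
  rw [Module.finrank_pi] at h1
  have h3 := Submodule.finrank_mono hker
  omega

theorem pol_eq_zero_of_singular {W : Submodule F (ι → F)} (hW : ∀ w ∈ W, Q w = 0) {v w : ι → F} (hv : v ∈ W)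
    (hw : w ∈ W) : pol Q v w = 0 := by
  have h := q_add hQ v w
  rw [hW _ (W.add_mem hv hw), hW v hv, hW w hw] at h
  linear_combination -h

theorem exists_orth_not_orth {W : Submodule F (ι → F)} {x w : ι → F} (hx : x ∉ W) (hw : w ∈ W) (hw0 : w ≠ 0) :
    ∃ z, pol Q x z = 0 ∧ pol Q w z = 1 := by
  obtain ⟨φ, h1, h2⟩ := exists_dual (W := Submodule.span F {x}) (u := w) fun h => by
    obtain ⟨c, hc⟩ := Submodule.mem_span_singleton.1 h
    have hc0 : c ≠ 0 := fun h0 => hw0 (by rw [← hc, h0, zero_smul])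
    refine hx ?_
    have := W.smul_mem c⁻¹ hw
    rwa [← hc, smul_smul, inv_mul_cancel₀ hc0, one_smul] at this
  obtain ⟨z, hz⟩ := exists_eq_pol hQ φ
  exact ⟨z, by rw [← hz]; exact h1 x (Submodule.mem_span_singleton_self x), by rw [← hz, h2]⟩

theorem qFull_smul {M : Subgroup (GL ι F)} {u : ι → F} (hu : u ∈ qFull Q M) (c : F) : c • u ∈ qFull Q M := by
  refine ⟨by rw [q_smul hQ, hu.1, mul_zero], fun y hy => ?_⟩
  rcases eq_or_ne c 0 with rfl | hc
  · exact ⟨1, M.one_mem, fun z => by simp [pol_zero_right hQ, mv_one]⟩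
  rw [pol_smul_left hQ, mul_eq_zero, or_iff_right hc] at hy
  obtain ⟨g, hg, hgs⟩ := hu.2 (c • y) (by rw [pol_smul_right hQ, hy, mul_zero])
  refine ⟨g, hg, fun z => ?_⟩
  rw [hgs, q_smul hQ, pol_smul_right hQ, pol_smul_right hQ]
  module

theorem qFull_mv {M : Subgroup (GL ι F)} (hMO : M ≤ isometryGroup F Q) {g : GL ι F} (hg : g ∈ M) {u : ι → F}
    (hu : u ∈ qFull Q M) : mv g u ∈ qFull Q M := by
  refine ⟨by rw [mem_isometry.1 (hMO hg), hu.1], fun y hy => ?_⟩
  obtain ⟨y', rfl⟩ : ∃ y', y = mv g y' := ⟨mv g⁻¹ y, (mv_mv_inv g y).symm⟩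
  rw [pol_mv hQ (hMO hg)] at hy
  obtain ⟨e, he, hes⟩ := hu.2 y' hy
  exact ⟨g * e * g⁻¹, M.mul_mem (M.mul_mem hg he) (M.inv_mem hg), isSiegel_conj hQ (hMO hg) hes⟩

theorem eq_omega_of_full [Finite F] (hn : 7 ≤ Fintype.card ι) {M : Subgroup (GL ι F)}
    (hMS : M ≤ Geo.omegaGL Q) (hM : ∀ u, Q u = 0 → u ∈ qFull Q M) : M = Geo.omegaGL Q :=
  eq_omega hQ hn hMS fun u y hu hy => (hM u hu).2 y hy

theorem stab_singular_maximal [Finite F] (hn : 7 ≤ Fintype.card ι) {W : Submodule F (ι → F)} (hW0 : W ≠ ⊥)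
    (hW : Geo.IsTotallySingularQuad Q W)
    (hext : 2 * (Module.finrank F W + 1) ≠ Fintype.card ι ∨ ¬ Geo.IsPlusTypeOn Q ⊤) :
    Geo.IsMaximalIn (Geo.omegaGL Q) (Geo.subspaceStabilizer W ⊓ Geo.omegaGL Q) := by
  obtain ⟨w₀, hw₀, hw00⟩ := W.ne_bot_iff.1 hW0
  refine ⟨?_, fun M hHM hMS => ?_⟩
  · refine lt_of_le_of_ne inf_le_right fun he => ?_
    obtain ⟨d, -, hdd, hwd⟩ := exists_partner hQ (nondeg_top hQ) (Submodule.mem_top (x := w₀)) hw00 (hW _ hw₀)
    obtain ⟨hPn, hP2⟩ := nondeg_pair hQ (hW _ hw₀) hdd hwd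
    set X := (⊤ : Submodule F (ι → F)) ⊓ orth hQ (Submodule.span F {w₀, d}) with hXdef
    have hfr := finrank_inf_orth_add hQ hPn (le_top : Submodule.span F ({w₀, d} : Set (ι → F)) ≤ ⊤)
    rw [hP2, finrank_top, Module.finrank_pi, ← hXdef] at hfr
    obtain ⟨y, hy, hyq⟩ := exists_anisotropic hQ (X := X) (nondeg_inf_orth hQ hPn (nondeg_top hQ) le_top)
      fun h => by rw [h, finrank_bot] at hfr; omega
    have hwy : pol Q w₀ y = 0 := hy.2 _ (Submodule.subset_span (Set.mem_insert _ _))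
    have hdy : pol Q d y = 0 := hy.2 _ (Submodule.subset_span (Set.mem_insert_of_mem _ rfl))
    obtain ⟨g, -, hg⟩ := exists_siegel hQ hdd hdy
    have h1 := mv_mem_of_mem_stab (he.ge (siegel_mem_omega hQ hn hdd hdy hg)).1 hw₀
    have h2 := pol_eq_zero_of_singular hQ hW hw₀ h1
    rw [hg, hwd, hwy, pol_sub_right hQ, pol_add_right hQ, pol_smul_right hQ, pol_smul_right hQ, pol_self hQ,
      hW _ hw₀, hwy, hwd] at h2
    exact hyq (by linear_combination -h2)
  have hMO : M ≤ isometryGroup F Q := hMS.trans (omega_le_isometry hQ)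
  have hW' : ∀ {v w : ι → F}, v ∈ W → w ∈ W → pol Q v w = 0 := fun hv hw => pol_eq_zero_of_singular hQ hW hv hw
  have hH : ∀ {u y : ι → F}, Q u = 0 → pol Q u y = 0 →
      (∀ z ∈ W, z + pol Q z u • y - (pol Q z y + Q y * pol Q z u) • u ∈ W) → ∃ g ∈ M, IsSiegel Q g u y := by
    intro u y hu hy h
    obtain ⟨g, -, hg⟩ := exists_siegel hQ hu hy
    exact ⟨g, hHM ⟨mem_subspaceStabilizer_of_le fun z hz => by rw [hg]; exact h z hz,
      siegel_mem_omega hQ hn hu hy hg⟩, hg⟩
  have hWfull : ∀ u ∈ W, u ∈ qFull Q M := fun u hu => ⟨hW u hu, fun y hy => hH (hW u hu) hy fun z hz => by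
    rw [hW' hz hu, zero_smul, add_zero]; exact W.sub_mem hz (W.smul_mem _ hu)⟩
  by_cases hsub : M ≤ Geo.subspaceStabilizer W
  · exact Or.inl (le_antisymm (le_inf hsub hMS) hHM)
  refine Or.inr (eq_omega_of_full hQ hn hMS ?_)
  -- a full vector not orthogonal to W
  obtain ⟨p, hp, hpo⟩ : ∃ p ∈ qFull Q M, p ∉ orth hQ W := by
    obtain ⟨g, hg, hgW⟩ := SetLike.not_le_iff_exists.1 hsub
    obtain ⟨w, hw, hgw⟩ : ∃ w ∈ W, mv g w ∉ W := by
      by_contra h
      push Not at h
      exact hgW (mem_subspaceStabilizer_of_le h)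
    set u := mv g w with hudef
    have huf : u ∈ qFull Q M := qFull_mv hQ hMO hg (hWfull w hw)
    by_cases huo : u ∈ orth hQ W
    swap
    · exact ⟨u, huf, huo⟩
    obtain ⟨φ, hφW, hφu⟩ := exists_dual hgw
    obtain ⟨z, hz⟩ := exists_eq_pol hQ φ
    have hzo : z ∈ orth hQ W := fun v hv => by rw [← hz]; exact hφW v hv
    have huz : pol Q u z = 1 := by rw [← hz]; exact hφu
    set p := z - Q z • u with hpdef
    have hpo : p ∈ orth hQ W := (orth hQ W).sub_mem hzo ((orth hQ W).smul_mem _ huo)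
    have hup : pol Q u p = 1 := by
      rw [hpdef, pol_sub_right hQ, pol_smul_right hQ, huz, pol_self hQ, huf.1]; ring
    have hpp : Q p = 0 := by
      rw [hpdef, q_sub hQ, q_smul hQ, pol_smul_right hQ, pol_comm z u, huz, huf.1]; ring
    obtain ⟨y, hy, hyq⟩ : ∃ y ∈ orth hQ (W ⊔ Submodule.span F {u, p}), Q y ≠ 0 := by
      by_contra h
      push Not at h
      set Z := orth hQ (W ⊔ Submodule.span F {u, p}) with hZdef
      have hZu : ∀ a ∈ Z, pol Q a u = 0 := fun a ha => by
        rw [pol_comm]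
        exact ha u (Submodule.mem_sup_right (Submodule.subset_span (Set.mem_insert _ _)))
      have h1 := le_finrank_orth hQ (W ⊔ Submodule.span F {u, p})
      have h2 := Submodule.finrank_sup_add_finrank_inf_eq W (Submodule.span F ({u, p} : Set (ι → F)))
      rw [(nondeg_pair hQ huf.1 hpp hup).2] at h2
      rw [← hZdef] at h1
      have hTu : ∀ (A : Submodule F (ι → F)), (∀ a ∈ A, Q a = 0 ∧ pol Q a u = 0) → u ∉ A →
          Geo.IsTotallySingularQuad Q (A ⊔ Submodule.span F {u}) ∧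
            Module.finrank F ↥(A ⊔ Submodule.span F {u}) = Module.finrank F A + 1 ∧
            2 * (Module.finrank F A + 1) ≤ Fintype.card ι := by
        intro A hA huA
        have hs : Geo.IsTotallySingularQuad Q (A ⊔ Submodule.span F {u}) := fun v hv => by
          obtain ⟨a, ha, b, hb, rfl⟩ := Submodule.mem_sup.1 hv
          obtain ⟨c, rfl⟩ := Submodule.mem_span_singleton.1 hb
          rw [q_add hQ, q_smul hQ, pol_smul_right hQ, (hA a ha).1, (hA a ha).2, huf.1]; ring
        have hu0 : u ≠ 0 := fun h0 => huA (h0 ▸ A.zero_mem)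
        have hr := Submodule.finrank_sup_add_finrank_inf_eq A (Submodule.span F {u})
        rw [(Submodule.disjoint_span_singleton' hu0).2 huA |>.eq_bot, finrank_bot, add_zero,
          finrank_span_singleton hu0] at hr
        have hle := finrank_totally_orth_le hQ (nondeg_top hQ) (L := A ⊔ Submodule.span F {u}) le_top
          fun a ha b hb => pol_eq_zero_of_singular hQ hs ha hb
        rw [finrank_top, Module.finrank_pi, hr] at hle
        exact ⟨hs, hr, hle⟩
      obtain ⟨-, -, h3⟩ := hTu Z (fun a ha => ⟨h a ha, hZu a ha⟩) fun hu => by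
        have := hu p (Submodule.mem_sup_right (Submodule.subset_span (Set.mem_insert_of_mem _ rfl)))
        rw [pol_comm, hup] at this
        exact one_ne_zero this
      obtain ⟨hs, hr, h4⟩ := hTu W (fun a ha => ⟨hW a ha, huo a ha⟩) hgw
      rcases hext with h5 | h5
      · exact h5 (by omega)
      · exact h5 ⟨_, le_top, hs, by rw [finrank_top, Module.finrank_pi, hr]; omega⟩
    have hyW : y ∈ orth hQ W := fun v hv => hy v (Submodule.mem_sup_left hv)
    have huy : pol Q u y = 0 := hy u (Submodule.mem_sup_right (Submodule.subset_span (Set.mem_insert _ _)))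
    have hpy : pol Q p y = 0 :=
      hy p (Submodule.mem_sup_right (Submodule.subset_span (Set.mem_insert_of_mem _ rfl)))
    obtain ⟨e, he, hes⟩ := hH hpp hpy fun v hv => by
      rw [hpo v hv, hyW v hv, mul_zero, add_zero, zero_smul, zero_smul, add_zero, sub_zero]; exact hv
    set u' := mv e u with hu'def
    have hu'f : u' ∈ qFull Q M := qFull_mv hQ hMO he huf
    have hu'u : pol Q u' u = -Q y := by
      rw [hu'def, hes, hup, huy, pol_sub_left hQ, pol_add_left hQ, pol_smul_left hQ, pol_smul_left hQ,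
        pol_self hQ, huf.1, pol_comm y u, huy, pol_comm p u, hup]
      ring
    obtain ⟨z₂, hz₂u, hz₂w⟩ := exists_orth_not_orth hQ hgw hw₀ hw00
    obtain ⟨s, hs, hss⟩ := huf.2 z₂ hz₂u
    refine ⟨mv s u', qFull_mv hQ hMO hs hu'f, fun hc => ?_⟩
    have hu'o : pol Q w₀ u' = 0 := by
      rw [hu'def, hes, pol_sub_right hQ, pol_add_right hQ, pol_smul_right hQ, pol_smul_right hQ, huo _ hw₀,
        hyW _ hw₀, hpo _ hw₀]
      ring
    have := hc w₀ hw₀
    rw [hss, pol_sub_right hQ, pol_add_right hQ, pol_smul_right hQ, pol_smul_right hQ, hu'o, hz₂w, huo _ hw₀,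
      hu'u] at this
    exact hyq (by linear_combination -this)
  -- all singular vectors outside orth W
  have hout : ∀ x, Q x = 0 → x ∉ orth hQ W → x ∈ qFull Q M := by
    intro x hxx hxo
    obtain ⟨v₁, hv₁, hv₁p⟩ : ∃ v ∈ W, pol Q v p ≠ 0 := by
      by_contra h
      push Not at h
      exact hpo h
    obtain ⟨v₂, hv₂, hv₂x⟩ : ∃ v ∈ W, pol Q v x ≠ 0 := by
      by_contra h
      push Not at h
      exact hxo h
    obtain ⟨v, hv, hvp, hvx⟩ : ∃ v ∈ W, pol Q v p ≠ 0 ∧ pol Q v x ≠ 0 := by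
      by_cases h1 : pol Q v₁ x = 0
      · by_cases h2 : pol Q v₂ p = 0
        · exact ⟨v₁ + v₂, W.add_mem hv₁ hv₂, by rw [pol_add_left hQ, h2, add_zero]; exact hv₁p,
            by rw [pol_add_left hQ, h1, zero_add]; exact hv₂x⟩
        · exact ⟨v₂, hv₂, h2, hv₂x⟩
      · exact ⟨v₁, hv₁, hv₁p, h1⟩
    set p' := (pol Q v x / pol Q v p) • p
    have hv' : (pol Q v x)⁻¹ • v ∈ W := W.smul_mem _ hv
    obtain ⟨y, hy, -, hmove⟩ := exists_move_along hQ (v := (pol Q v x)⁻¹ • v) (u := p') (w := x) (hW _ hv')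
      (by rw [q_smul hQ, hp.1, hxx, mul_zero])
      (by
        rw [pol_smul_right hQ, pol_smul_left hQ, pol_comm p v, div_mul_cancel₀ _ hvp, inv_mul_cancel₀ hvx])
      (by rw [pol_smul_right hQ, pol_comm x v, inv_mul_cancel₀ hvx])
    obtain ⟨g, hg, hgs⟩ := (hWfull _ hv').2 y hy
    rw [← hmove g hgs]
    exact qFull_mv hQ hMO hg (qFull_smul hQ hp _)
  intro x hxx
  by_cases hxo : x ∈ orth hQ W
  swap
  · exact hout x hxx hxo
  by_cases hxW : x ∈ W
  · exact hWfull x hxW
  obtain ⟨z, hxz, hwz⟩ := exists_orth_not_orth hQ hxW hw₀ hw00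
  set q := z - Q z • w₀ with hqdef
  have hqq : Q q = 0 := by
    rw [hqdef, q_sub hQ, q_smul hQ, pol_smul_right hQ, pol_comm z w₀, hwz, hW _ hw₀]; ring
  have hwq : pol Q w₀ q = 1 := by
    rw [hqdef, pol_sub_right hQ, pol_smul_right hQ, hwz, pol_self hQ, hW _ hw₀]; ring
  have hxq : pol Q x q = 0 := by
    rw [hqdef, pol_sub_right hQ, pol_smul_right hQ, hxz, pol_comm x w₀, hxo _ hw₀]; ring
  have hqo : q ∉ orth hQ W := fun h => one_ne_zero (hwq.symm.trans (h _ hw₀))
  obtain ⟨φ, hφ, hφx⟩ := exists_dual (W := Submodule.span F {q}) (u := x) fun h => by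
    obtain ⟨c, hc⟩ := Submodule.mem_span_singleton.1 h
    have := hxo _ hw₀
    rw [← hc, pol_smul_right hQ, hwq, mul_one] at this
    rw [this, zero_smul] at hc
    exact hxW (hc ▸ W.zero_mem)
  obtain ⟨y, hy⟩ := exists_eq_pol hQ φ
  obtain ⟨s, hs, hss⟩ := (hout q hqq hqo).2 y (by rw [← hy]; exact hφ q (Submodule.mem_span_singleton_self q))
  have hsx : mv s x = x - q := by
    rw [hss, hxq, ← hy, hφx]; simp
  have hfull : x - q ∈ qFull Q M := hout _ (by rw [q_sub hQ, hxx, hqq, hxq]; ring) fun h => by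
    have := h _ hw₀
    rw [pol_sub_right hQ, hxo _ hw₀, hwq] at this
    simp at this
  have := qFull_mv hQ hMO (M.inv_mem hs) hfull
  rwa [← hsx, mv_inv_mv] at this

end Cfsg.Agent.Transvec.Orth

namespace Cfsg.Agent.Transvec.Orth

theorem polar_quadFormOdd {F : Type*} [Field F] (m : ℕ) (v w : Unit ⊕ (Fin m ⊕ Fin m) → F) :
    QuadraticMap.polar (quadFormOdd m F) v w = 2 * v (.inl ()) * w (.inl ()) +
      ∑ i : Fin m, (v (.inr (.inl i)) * w (.inr (.inr i)) + w (.inr (.inl i)) * v (.inr (.inr i))) := by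
  simp only [QuadraticMap.polar, quadFormOdd, Pi.add_apply, add_mul, mul_add, Finset.sum_add_distrib]
  ring

theorem quadFormOdd_nondegenerate {F : Type*} [Field F] (m : ℕ) (h2 : (2 : F) ≠ 0) :
    Geo.IsNondegenerateQuadraticForm (quadFormOdd m F) := by
  classical
  refine ⟨fun c v => ?_, ⟨fun a b v => ?_, fun c a v => ?_, fun v a b => ?_, fun c v a => ?_⟩, fun v hv => ?_⟩
  · simp only [quadFormOdd, Pi.smul_apply, smul_eq_mul, mul_add, Finset.mul_sum]
    congr 1
    · ring
    · exact Finset.sum_congr rfl fun i _ => by ring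
  · simp only [polar_quadFormOdd, Pi.add_apply, add_mul, mul_add, Finset.sum_add_distrib]
    ring
  · simp only [polar_quadFormOdd, Pi.smul_apply, smul_eq_mul, mul_add, Finset.mul_sum, Finset.sum_add_distrib]
    ring_nf
  · simp only [polar_quadFormOdd, Pi.add_apply, add_mul, mul_add, Finset.sum_add_distrib]
    ring
  · simp only [polar_quadFormOdd, Pi.smul_apply, smul_eq_mul, mul_add, Finset.mul_sum, Finset.sum_add_distrib]
    ring_nf
  · suffices h : ∃ x, QuadraticMap.polar (quadFormOdd m F) x v ≠ 0 from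
      ⟨h, h.imp fun x hx => by rwa [QuadraticMap.polar_comm]⟩
    by_contra h
    push Not at h
    refine hv (funext fun i => ?_)
    rcases i with u | i | i
    · have := h (Pi.single (.inl ()) 1)
      simp [polar_quadFormOdd, Pi.single_apply, h2] at this
      exact this
    · have := h (Pi.single (.inr (.inr i)) 1)
      simp [polar_quadFormOdd, Pi.single_apply] at this
      exact this
    · have := h (Pi.single (.inr (.inl i)) 1)
      simp [polar_quadFormOdd, Pi.single_apply] at this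
      exact this

theorem two_ne_zero_of_odd_card {F : Type*} [Field F] [Fintype F] (hodd : Odd (Fintype.card F)) : (2 : F) ≠ 0 := by
  intro h
  have hc : ringChar F = 2 := ringChar.eq_iff.2 (CharTwo.of_one_ne_zero_of_two_eq_zero one_ne_zero h)
  have h' := FiniteField.even_card_iff_char_two.1 hc
  rw [Nat.odd_iff] at hodd
  omega

end Cfsg.Agent.Transvec.Orth
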