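/-
The two families of maximal totally singular subspaces: the parity of an isometry g of a plus type space is the
parity of the codimension of U ⊓ g U in U.
-/
import Cfsg.Agent.Lib.Transvec.OrthParity
import Cfsg.Agent.Lib.Transvec.OrthStab
import Cfsg.Agent.Lib.Classical.AlternatingForm
set_option autoImplicit false

namespace Cfsg.Agent.Transvec.Orth

open scoped Matrix
open Matrix Cfsg.Agent.Transvec

/-- The rank of an alternating form is even. -/
theorem even_finrank_range_alt {K V : Type*} [Field K] [AddCommGroup V] [Module K V] [FiniteDimensional K V]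
    (C : V →ₗ[K] V →ₗ[K] K) (hC : ∀ x, C x x = 0) : Even (Module.finrank K (LinearMap.range C)) := by
  have hA : LinearMap.IsAlt C := hC
  obtain ⟨S, hS⟩ := Submodule.exists_isCompl (LinearMap.ker C)
  have hrank : Module.finrank K (LinearMap.range C) = Module.finrank K S := by
    have h1 := LinearMap.finrank_range_add_finrank_ker C
    have h2 := Submodule.finrank_add_eq_of_isCompl hS
    omega
  have hA' : (LinearMap.BilinForm.restrict C S).IsAlt := fun x => hC x
  have hsep : ∀ x : S, (∀ y : S, C x y = 0) → x = 0 := fun x hx => by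
    have : (x : V) ∈ LinearMap.ker C := LinearMap.mem_ker.2 (LinearMap.ext fun v => by
      obtain ⟨a, ha, b, hb, rfl⟩ := Submodule.mem_sup.1 (hS.sup_eq_top ▸ Submodule.mem_top : v ∈ LinearMap.ker C ⊔ S)
      have h1 : C x a = 0 := hA.isRefl a x (by rw [LinearMap.mem_ker.1 ha]; rfl)
      rw [map_add, h1, zero_add]
      exact hx ⟨b, hb⟩)
    exact Subtype.ext ((Submodule.mem_bot K).1 (hS.inf_eq_bot ▸ ⟨this, x.2⟩))
  have hnd : (LinearMap.BilinForm.restrict C S).Nondegenerate :=
    (LinearMap.IsRefl.nondegenerate_iff_separatingLeft hA'.isRefl).2 fun x hx => hsep x hx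
  obtain ⟨m, hm⟩ := Cfsg.Agent.AltForm.exists_finrank_eq hA' hnd
  exact ⟨m, by omega⟩

/-- The dimension of a preimage inside the range. -/
theorem finrank_comap_range {K V : Type*} [Field K] [AddCommGroup V] [Module K V] [FiniteDimensional K V]
    (L : V →ₗ[K] V) {T : Submodule K V} (hT : T ≤ LinearMap.range L) :
    Module.finrank K (T.comap L) = Module.finrank K T + Module.finrank K (LinearMap.ker L) := by
  have h := LinearMap.finrank_range_add_finrank_ker (L.domRestrict (T.comap L))
  rw [LinearMap.range_domRestrict, Submodule.map_comap_eq, inf_eq_right.2 hT, LinearMap.ker_domRestrict] at h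
  have h2 : Module.finrank K ((LinearMap.ker L).comap (T.comap L).subtype) = Module.finrank K (LinearMap.ker L) :=
    LinearEquiv.finrank_eq (Submodule.comapSubtypeEquivOfLe
      (fun x hx => by simp [LinearMap.mem_ker.1 hx]))
  omega

variable {ι : Type} [Fintype ι] [DecidableEq ι] {F : Type*} [Field F] {Q : (ι → F) → F}
variable (hQ : Geo.IsNondegenerateQuadraticForm Q)
include hQ

theorem finrank_orth (U : Submodule F (ι → F)) :
    Module.finrank F U + Module.finrank F ↥(orth hQ U) = Fintype.card ι := by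
  have h1 := le_finrank_orth hQ U
  have h2 := finrank_add_le_of_orth hQ (nondeg_top hQ) (L := U) (R := orth hQ U) le_top le_top
    fun x hx y hy => hy x hx
  rw [finrank_top, Module.finrank_pi] at h2
  omega

theorem orth_orth (U : Submodule F (ι → F)) : orth hQ (orth hQ U) = U := by
  refine (Submodule.eq_of_le_of_finrank_le (fun x hx y hy => by rw [pol_comm]; exact hy x hx) ?_).symm
  have h1 := finrank_orth hQ U
  have h2 := finrank_orth hQ (orth hQ U)
  omega

variable {U : Submodule F (ι → F)} (hU : ∀ w ∈ U, Q w = 0) (hk : 2 * Module.finrank F U = Fintype.card ι)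
include hU hk

theorem orth_maximal_singular : orth hQ U = U := by
  refine (Submodule.eq_of_le_of_finrank_le
    (show U ≤ orth hQ U from fun x hx y hy => pol_eq_zero_of_singular hQ hU hy hx) ?_).symm
  have h1 := finrank_orth hQ U
  omega

/-- An isometry fixing a maximal totally singular subspace has even parity. -/
theorem even_moveRank_stab {g : GL ι F} (hg : g ∈ isometryGroup F Q) (hgU : ∀ x ∈ U, mv g x ∈ U) :
    Even (moveRank g) := by
  set L := moveLin g with hL
  have hUU := orth_maximal_singular hQ hU hk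
  set A := U.map L with hA
  set R₀ := LinearMap.range L ⊓ U with hR₀
  set X₀ := U.comap L with hX₀
  have hAU : A ≤ U := by
    rintro _ ⟨x, hx, rfl⟩
    rw [hL, moveLin_apply]
    exact U.sub_mem (hgU x hx) hx
  have hAR : A ≤ R₀ := le_inf (LinearMap.map_le_range) hAU
  have hsurj : ∀ u ∈ U, ∃ w ∈ U, mv g w = u := fun u hu =>
    ⟨mv g⁻¹ u, (mem_subspaceStabilizer.1 (mem_subspaceStabilizer_of_le hgU) _).2 (by rwa [mv_mv_inv]), mv_mv_inv g u⟩
  have hflip : ∀ w x, pol Q (mv g w) (L x) = -pol Q (L w) x := fun w x => by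
    rw [hL, moveLin_apply, moveLin_apply, pol_sub_right hQ, pol_sub_left hQ, pol_mv hQ hg]; ring
  have hX : X₀ = orth hQ A := by
    ext x
    refine ⟨fun hx => ?_, fun hx => ?_⟩
    · rintro _ ⟨w, hw, rfl⟩
      exact neg_eq_zero.1 ((hflip w x).symm.trans (pol_eq_zero_of_singular hQ hU (hgU w hw) hx))
    · show L x ∈ U
      rw [← hUU]
      intro u hu
      obtain ⟨w, hw, rfl⟩ := hsurj u hu
      rw [hflip, hx _ ⟨w, hw, rfl⟩, neg_zero]
  let C : X₀ →ₗ[F] X₀ →ₗ[F] F := LinearMap.mk₂ F (fun x y => pol Q (L x) y)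
    (fun a b y => by rw [Submodule.coe_add, map_add, pol_add_left hQ])
    (fun c a y => by rw [Submodule.coe_smul, map_smul, pol_smul_left hQ]; rfl)
    (fun x a b => by rw [Submodule.coe_add, pol_add_right hQ])
    (fun c x a => by rw [Submodule.coe_smul, pol_smul_right hQ]; rfl)
  have hC : ∀ x, C x x = 0 := fun x => by
    show pol Q (L x) x = 0
    have h := q_add hQ (L x) (x : ι → F)
    rw [show L x + (x : ι → F) = mv g x by rw [hL, moveLin_apply, sub_add_cancel], mem_isometry.1 hg,
      hU _ x.2] at h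
    linear_combination -h
  have hker : LinearMap.ker C = (A.comap L).comap X₀.subtype := by
    ext x
    refine ⟨fun hx => ?_, fun hx => ?_⟩
    · show L x ∈ A
      rw [← orth_orth hQ A, ← hX]
      intro y hy
      rw [pol_comm]
      exact LinearMap.congr_fun (LinearMap.mem_ker.1 hx) ⟨y, hy⟩
    · exact LinearMap.mem_ker.2 (LinearMap.ext fun y => (hX.le y.2) _ hx)
  have e1 : Module.finrank F X₀ = Module.finrank F R₀ + Module.finrank F (LinearMap.ker L) := by
    rw [show X₀ = R₀.comap L by ext x; simp [hX₀, hR₀]]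
    exact finrank_comap_range L inf_le_left
  have e2 : Module.finrank F (LinearMap.ker C) = Module.finrank F A + Module.finrank F (LinearMap.ker L) := by
    rw [hker, ← finrank_comap_range L (LinearMap.map_le_range (f := L) (p := U))]
    exact LinearEquiv.finrank_eq (Submodule.comapSubtypeEquivOfLe (Submodule.comap_mono hAU))
  obtain ⟨j, hj⟩ := even_finrank_range_alt C hC
  have e3 := LinearMap.finrank_range_add_finrank_ker C
  -- dimensions of range L ⊔ U
  have hRK : orth hQ (LinearMap.range L) = LinearMap.ker L := by rw [hL, range_moveLin hQ hg, orth_orth]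
  have e4 : orth hQ (LinearMap.range L ⊔ U) = LinearMap.ker L ⊓ U := by
    ext x
    refine ⟨fun hx => ⟨hRK.le fun u hu => hx u (Submodule.mem_sup_left hu),
      hUU.le fun u hu => hx u (Submodule.mem_sup_right hu)⟩, fun hx u hu => ?_⟩
    obtain ⟨a, ha, b, hb, rfl⟩ := Submodule.mem_sup.1 hu
    rw [pol_add_left hQ, (hRK.ge hx.1) a ha, (hUU.ge hx.2) b hb, add_zero]
  have e5 := finrank_orth hQ (LinearMap.range L ⊔ U)
  rw [e4] at e5
  have e6 := LinearMap.finrank_range_add_finrank_ker (L.domRestrict U)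
  rw [LinearMap.range_domRestrict, LinearMap.ker_domRestrict] at e6
  have e7 : Module.finrank F ((LinearMap.ker L).comap U.subtype) = Module.finrank F ↥(LinearMap.ker L ⊓ U) := by
    rw [← Submodule.map_comap_subtype U (LinearMap.ker L) |>.trans (inf_comm _ _)]
    exact (LinearEquiv.finrank_eq (Submodule.equivMapOfInjective U.subtype U.injective_subtype _))
  have e8 := Submodule.finrank_sup_add_finrank_inf_eq (LinearMap.range L) U
  show Even (Module.finrank F (LinearMap.range L))
  refine ⟨Module.finrank F A + j, ?_⟩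
  rw [← hR₀] at e8
  rw [← hA] at e6
  omega

/-- The parity of g is the parity of the codimension of U ⊓ g U in U. -/
theorem even_moveRank_inter [Finite F] (hn : 5 ≤ Fintype.card ι) {g : GL ι F} (hg : g ∈ isometryGroup F Q) :
    Even (moveRank g) ↔ Even (Module.finrank F U - Module.finrank F ↥(U ⊓ U.map (mvLin g))) := by
  suffices H : ∀ (j : ℕ) {g : GL ι F}, g ∈ isometryGroup F Q →
      Module.finrank F U - Module.finrank F ↥(U ⊓ U.map (mvLin g)) = j → (Even (moveRank g) ↔ Even j) from H _ hg rfl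
  intro j
  induction j with
  | zero =>
    intro g hg hj
    have hle : U ≤ U.map (mvLin g) := by
      have := Submodule.eq_of_le_of_finrank_le (inf_le_left : U ⊓ U.map (mvLin g) ≤ U) (by omega)
      exact this.ge.trans inf_le_right
    have heq : U = U.map (mvLin g) := Submodule.eq_of_le_of_finrank_le hle (Submodule.finrank_map_le _ _)
    exact iff_of_true (even_moveRank_stab hQ hU hk hg fun x hx => heq.ge ⟨x, hx, by simp⟩) ⟨0, rfl⟩
  | succ j ih =>
    intro g hg hj
    have hgU : ∀ w ∈ U.map (mvLin g), Q w = 0 := by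
      rintro _ ⟨x, hx, rfl⟩
      simpa [mem_isometry.1 hg] using hU x hx
    obtain ⟨f, hf, hfU⟩ : ∃ f ∈ U.map (mvLin g), f ∉ U := by
      by_contra h
      push Not at h
      rw [inf_eq_right.2 fun x hx => h x hx] at hj
      have := LinearEquiv.finrank_eq (Submodule.equivMapOfInjective (mvLin g)
        (fun x y hxy => mv_inj g (by simpa using hxy)) U)
      omega
    obtain ⟨e, he, hef⟩ : ∃ e ∈ U, pol Q e f ≠ 0 := by
      by_contra h
      push Not at h
      exact hfU ((orth_maximal_singular hQ hU hk).le h)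
    have ha : Q (f - e) ≠ 0 := by
      rw [q_sub hQ, hgU f hf, hU e he, pol_comm]; simpa using hef
    obtain ⟨r, hrI, hr⟩ := exists_refl hQ ha
    have hfe : mv r f = e := isRefl_move hQ (by rw [hgU f hf, hU e he]) hr
    set I := U ⊓ U.map (mvLin g) with hI
    have hfix : ∀ x ∈ I, mv r x = x := fun x hx => isRefl_fix hr (by
      rw [pol_sub_right hQ, pol_eq_zero_of_singular hQ hgU hx.2 hf, pol_eq_zero_of_singular hQ hU hx.1 he,
        sub_zero])
    set I' := U ⊓ U.map (mvLin (r * g)) with hI'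
    have hlow : I ⊔ Submodule.span F {e} ≤ I' := by
      refine sup_le (fun x hx => ⟨hx.1, ?_⟩) ((Submodule.span_singleton_le_iff_mem _ _).2 ⟨he, ?_⟩)
      · obtain ⟨y, hy, hy'⟩ := hx.2
        refine ⟨y, hy, ?_⟩
        rw [← hfix x hx, ← hy']; simp [mv_mul]
      · obtain ⟨y, hy, hy'⟩ := hf
        exact ⟨y, hy, by rw [← hfe, ← hy']; simp [mv_mul]⟩
    have hup : I' ⊓ LinearMap.ker (formQ hQ (f - e)) ≤ I := fun x hx => by
      obtain ⟨y, hy, hy'⟩ := hx.1.2
      refine ⟨hx.1.1, y, hy, ?_⟩
      have h1 : mv r x = x := isRefl_fix hr hx.2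
      have h2 : mv r (mv g y) = x := by rw [← mv_mul]; simpa [mv] using hy'
      have : mv g y = x := mv_inj r (h2.trans h1.symm)
      simpa using this
    have heI : e ∉ I := fun h => hef (pol_eq_zero_of_singular hQ hgU h.2 hf)
    have h1 : Module.finrank F I + 1 = Module.finrank F ↥(I ⊔ Submodule.span F {e}) :=
      (Submodule.finrank_sup_span_singleton heI).symm
    have h2 := Submodule.finrank_mono hlow
    have h3 := Submodule.finrank_mono hup
    have h4 := Submodule.finrank_sup_add_finrank_inf_eq I' (LinearMap.ker (formQ hQ (f - e)))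
    have h5 := Submodule.finrank_le (I' ⊔ LinearMap.ker (formQ hQ (f - e)))
    have h6 := LinearMap.finrank_range_add_finrank_ker (formQ hQ (f - e))
    have h7 := Submodule.finrank_le (LinearMap.range (formQ hQ (f - e)))
    rw [Module.finrank_self] at h7
    have h8 : Module.finrank F I ≤ Module.finrank F U := Submodule.finrank_mono inf_le_left
    have e1 : Module.finrank F I = Module.finrank F ↥(U ⊓ U.map (mvLin g)) := rfl
    have e2 : Module.finrank F I' = Module.finrank F ↥(U ⊓ U.map (mvLin (r * g))) := rfl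
    have hflip := moveRank_flip hQ hg hrI hr
    have := ih (Subgroup.mul_mem _ hrI hg) (by omega)
    rw [hflip] at this
    rw [Nat.even_add_one, ← this, not_not]

theorem even_inter_omega [Finite F] (hn : 7 ≤ Fintype.card ι) {g : GL ι F} (hg : g ∈ Geo.omegaGL Q) :
    Even (Module.finrank F U - Module.finrank F ↥(U ⊓ U.map (mvLin g))) :=
  (even_moveRank_inter hQ hU hk (by omega) (omega_le_isometry hQ hg)).1 (even_moveRank_omega hQ hn hg)

omit hU hk

/-- A pair of complementary totally singular k-spaces, k odd, is not interchanged by the commutator subgroup. -/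
theorem pair_not_maximal [Finite F] (hn : 7 ≤ Fintype.card ι) {k : ℕ} {D : Fin 2 → Submodule F (ι → F)}
    (hD : Geo.IsMDecomposition k D) (hts : ∀ i, Geo.IsTotallySingularQuad Q (D i)) (hk : 2 * k = Fintype.card ι)
    (hko : Odd k) :
    ∃ K : Subgroup (GL ι F), Geo.decompositionStabilizer D ⊓ Geo.omegaGL Q < K ∧ K < Geo.omegaGL Q := by
  have hd : D 0 ⊓ D 1 = ⊥ := disjoint_iff.1 (hD.indep.pairwiseDisjoint (by decide))
  have hk0 : 2 * Module.finrank F (D 0) = Fintype.card ι := by rw [hD.finrank_eq]; exact hk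
  have hne : D 0 ≠ ⊥ := fun h => by rw [h, finrank_bot] at hk0; omega
  refine ⟨Geo.subspaceStabilizer (D 0) ⊓ Geo.omegaGL Q, lt_of_le_of_ne (fun g hg => ?_) ?_,
    (stab_singular_maximal hQ hn hne (hts 0) (Or.inl (by omega))).1⟩
  · obtain ⟨σ, hσ⟩ := hg.1
    refine ⟨mem_subspaceStabilizer_of_le fun x hx => ?_, hg.2⟩
    have h1 : (D 0).map (mvLin g) = D (σ 0) := hσ 0
    rcases eq_or_ne (σ 0) 0 with h | h
    · rw [h] at h1
      exact h1.le ⟨x, hx, by simp⟩
    · rw [show σ 0 = 1 by omega] at h1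
      have := even_inter_omega hQ (hts 0) hk0 hn hg.2
      rw [h1, hd, finrank_bot, Nat.sub_zero, hD.finrank_eq] at this
      exact absurd this (Nat.not_even_iff_odd.2 hko)
  · intro he
    obtain ⟨u, hu, hu0⟩ := (D 0).ne_bot_iff.1 hne
    obtain ⟨y, hy, hyu⟩ : ∃ y ∈ D 0, y ∉ Submodule.span F {u} := by
      by_contra h
      push Not at h
      have := Submodule.finrank_mono h
      rw [finrank_span_singleton hu0] at this
      omega
    obtain ⟨b, hb, hbu⟩ : ∃ b ∈ D 1, pol Q b u ≠ 0 := by
      by_contra h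
      push Not at h
      refine hu0 (nondeg_top hQ u Submodule.mem_top fun w _ => ?_)
      have htop : D 0 ⊔ D 1 = ⊤ := eq_top_iff.2 (hD.iSup_eq_top ▸ iSup_le fun i => by
        fin_cases i
        exacts [le_sup_left, le_sup_right])
      obtain ⟨a, ha, c, hc, rfl⟩ := Submodule.mem_sup.1 (htop ▸ Submodule.mem_top : w ∈ D 0 ⊔ D 1)
      rw [pol_add_left hQ, pol_eq_zero_of_singular hQ (hts 0) ha hu, h c hc, add_zero]
    have huy : pol Q u y = 0 := pol_eq_zero_of_singular hQ (hts 0) hu hy
    obtain ⟨g, -, hg⟩ := exists_siegel hQ (hts 0 u hu) huy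
    have hgK : g ∈ Geo.subspaceStabilizer (D 0) ⊓ Geo.omegaGL Q :=
      ⟨mem_subspaceStabilizer_of_le fun z hz => by
        rw [isSiegel_fix hQ hg (pol_eq_zero_of_singular hQ (hts 0) hz hu)
          (pol_eq_zero_of_singular hQ (hts 0) hz hy)]; exact hz, siegel_mem_omega hQ hn (hts 0 u hu) huy hg⟩
    obtain ⟨σ, hσ⟩ := (he.ge hgK).1
    have hin : mv g b ∈ D (σ 1) := (hσ 1).le ⟨b, hb, by simp [mv]⟩
    have hdiff : mv g b - b ∈ D 0 := by
      rw [hg, show ∀ p q r : ι → F, p + q - r - p = q + -r from fun p q r => by abel]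
      exact (D 0).add_mem ((D 0).smul_mem _ hy) ((D 0).neg_mem ((D 0).smul_mem _ hu))
    rcases eq_or_ne (σ 1) 1 with h | h
    · rw [h] at hin
      have h0 : mv g b - b = 0 := (Submodule.mem_bot F).1 (hd ▸ ⟨hdiff, (D 1).sub_mem hin hb⟩)
      refine hyu (Submodule.mem_span_singleton.2 ⟨(pol Q b u)⁻¹ * (pol Q b y + Q y * pol Q b u), ?_⟩)
      have h1 : pol Q b u • y = (pol Q b y + Q y * pol Q b u) • u := by
        rw [hg] at h0
        linear_combination (norm := module) h0
      rw [mul_smul, ← h1, smul_smul, inv_mul_cancel₀ hbu, one_smul]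
    · rw [show σ 1 = 0 by omega] at hin
      have hb0 : b = 0 := (Submodule.mem_bot F).1 (hd ▸ ⟨by simpa using (D 0).sub_mem hin hdiff, hb⟩)
      rw [hb0, pol_zero_left hQ] at hbu
      exact hbu rfl

/-- A totally singular subspace of dimension one less than maximal lies in a maximal one fixed by its stabiliser. -/
theorem singular_pred_not_maximal [Finite F] (hn : 7 ≤ Fintype.card ι) (hplus : Geo.IsPlusTypeOn Q ⊤)
    {W : Submodule F (ι → F)} (hW : Geo.IsTotallySingularQuad Q W)
    (hdim : 2 * (Module.finrank F W + 1) = Fintype.card ι) :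
    ∃ K : Subgroup (GL ι F), Geo.subspaceStabilizer W ⊓ Geo.omegaGL Q < K ∧ K < Geo.omegaGL Q := by
  obtain ⟨U₀, -, hU₀, hU₀d⟩ := hplus
  rw [finrank_top, Module.finrank_pi] at hU₀d
  set U := W ⊔ (U₀ ⊓ orth hQ W) with hUdef
  have hU : ∀ x ∈ U, Q x = 0 := fun x hx => by
    obtain ⟨w, hw, u, hu, rfl⟩ := Submodule.mem_sup.1 hx
    rw [q_add hQ, hW w hw, hU₀ u hu.1, hu.2 w hw, add_zero, add_zero]
  have hUd : 2 * Module.finrank F U = Fintype.card ι := by
    have h0 : U₀ ⊓ orth hQ W = orth hQ (U₀ ⊔ W) := by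
      ext x
      refine ⟨fun hx u hu => ?_, fun hx => ⟨(orth_maximal_singular hQ hU₀ hU₀d).le fun u hu =>
        hx u (Submodule.mem_sup_left hu), fun u hu => hx u (Submodule.mem_sup_right hu)⟩⟩
      obtain ⟨a, ha, b, hb, rfl⟩ := Submodule.mem_sup.1 hu
      rw [pol_add_left hQ, pol_eq_zero_of_singular hQ hU₀ ha hx.1, hx.2 b hb, add_zero]
    have h1 := finrank_orth hQ (U₀ ⊔ W)
    rw [← h0] at h1
    have h2 := Submodule.finrank_sup_add_finrank_inf_eq U₀ W
    have h3 := Submodule.finrank_sup_add_finrank_inf_eq W (U₀ ⊓ orth hQ W)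
    have h4 : W ⊓ (U₀ ⊓ orth hQ W) = U₀ ⊓ W := by
      ext x
      exact ⟨fun h => ⟨h.2.1, h.1⟩, fun h => ⟨h.2, h.1, fun u hu => pol_eq_zero_of_singular hQ hW hu h.2⟩⟩
    rw [h4, ← hUdef] at h3
    omega
  have hne : U ≠ ⊥ := fun h => by rw [h, finrank_bot] at hUd; omega
  have hWU : W ≤ U := le_sup_left
  refine ⟨Geo.subspaceStabilizer U ⊓ Geo.omegaGL Q, lt_of_le_of_ne (fun g hg => ?_) ?_,
    (stab_singular_maximal hQ hn hne hU (Or.inl (by omega))).1⟩
  · have h1 : W ≤ U ⊓ U.map (mvLin g) := fun x hx => ⟨hWU hx, mv g⁻¹ x,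
      hWU ((mem_subspaceStabilizer.1 hg.1 _).2 (by rwa [mv_mv_inv])), by simp [mv_mv_inv]⟩
    have h2 := Submodule.finrank_mono h1
    have h3 := Submodule.finrank_mono (inf_le_left : U ⊓ U.map (mvLin g) ≤ U)
    obtain ⟨j, hj⟩ := even_inter_omega hQ hU hUd hn hg.2
    have h4 := Submodule.eq_of_le_of_finrank_le (inf_le_left : U ⊓ U.map (mvLin g) ≤ U) (by omega)
    have h5 : U = U.map (mvLin g) :=
      Submodule.eq_of_le_of_finrank_le (h4.ge.trans inf_le_right) (Submodule.finrank_map_le _ _)
    exact ⟨mem_subspaceStabilizer_of_le fun x hx => h5.ge ⟨x, hx, by simp⟩, hg.2⟩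
  · intro he
    obtain ⟨u, hu, huW⟩ : ∃ u ∈ U, u ∉ W := by
      by_contra h
      push Not at h
      have := Submodule.finrank_mono (show U ≤ W from h)
      omega
    obtain ⟨w, hw, hw0⟩ := W.ne_bot_iff.1 (fun h => by rw [h, finrank_bot] at hdim; omega)
    obtain ⟨y, huy, hwy⟩ := exists_orth_not_orth hQ huW hw hw0
    obtain ⟨g, -, hg⟩ := exists_siegel hQ (hU u hu) huy
    have hgz : ∀ z ∈ U, mv g z = z - pol Q z y • u := fun z hz => by
      rw [hg, pol_eq_zero_of_singular hQ hU hz hu, zero_smul, add_zero, mul_zero, add_zero]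
    have h1 := mv_mem_of_mem_stab (he.ge ⟨mem_subspaceStabilizer_of_le fun z hz => by
      rw [hgz z hz]; exact U.sub_mem hz (U.smul_mem _ hu), siegel_mem_omega hQ hn (hU u hu) huy hg⟩).1 hw
    rw [hgz w (hWU hw), hwy, one_smul] at h1
    exact huW (by simpa using W.sub_mem hw h1)

end Cfsg.Agent.Transvec.Orth
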