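/-
Hermitian forms over finite fields given as functions: the fixed field, trace and norm, orthogonal subspaces,
isotropic vectors, transitivity of the unitary transvections and generation of the special unitary group.
-/
import Cfsg.Agent.Lib.Transvec.Basic
set_option autoImplicit false

namespace Cfsg.Agent.Transvec.Herm

open scoped Matrix
open Matrix Cfsg.Agent.Transvec

variable {ι : Type} [Fintype ι] [DecidableEq ι] {F : Type*} [Field F]
variable {σ : F ≃+* F} {f : (ι → F) → (ι → F) → F}

/-! ### The field -/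

/-- The subfield fixed by σ. -/
def fixedField (σ : F ≃+* F) : Subfield F where
  carrier := {a | σ a = a}
  mul_mem' ha hb := by simp_all
  one_mem' := map_one σ
  add_mem' ha hb := by simp_all
  zero_mem' := map_zero σ
  neg_mem' ha := by simp_all
  inv_mem' a ha := by simp_all

theorem mem_fixedField {a : F} : a ∈ fixedField σ ↔ σ a = a := Iff.rfl

section

variable (hne : σ ≠ RingEquiv.refl F) (hinv : ∀ a : F, σ (σ a) = a)
include hne hinv

theorem exists_anti : ∃ t : F, t ≠ 0 ∧ σ t = -t := by
  obtain ⟨a, ha⟩ : ∃ a, σ a ≠ a := by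
    by_contra h
    push Not at h
    exact hne (RingEquiv.ext h)
  exact ⟨a - σ a, sub_ne_zero.2 (Ne.symm ha), by rw [map_sub, hinv, neg_sub]⟩

theorem exists_trace (x : F) (hx : σ x = x) : ∃ b, b + σ b = x := by
  obtain ⟨a, ha⟩ : ∃ a, a + σ a ≠ 0 := by
    by_contra h
    push Not at h
    have h1 := h 1
    rw [map_one] at h1
    apply hne
    ext a
    have := h a
    simp only [RingEquiv.refl_apply]
    linear_combination this - a * h1
  refine ⟨x / (a + σ a) * a, ?_⟩
  rw [map_mul, map_div₀, map_add, hinv, hx, add_comm (σ a) a]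
  field_simp

theorem card_eq_sq [Finite F] : Nat.card F = Nat.card (fixedField σ) ^ 2 := by
  obtain ⟨a, ha⟩ : ∃ a, σ a ≠ a := by
    by_contra h
    push Not at h
    exact hne (RingEquiv.ext h)
  have hd : a - σ a ≠ 0 := sub_ne_zero.2 (Ne.symm ha)
  rw [pow_two, ← Nat.card_prod]
  refine (Nat.card_congr (Equiv.ofBijective (fun p : fixedField σ × fixedField σ => (p.1 : F) + p.2 * a)
    ⟨?_, fun x => ?_⟩)).symm
  · rintro ⟨⟨u, hu⟩, ⟨w, hw⟩⟩ ⟨⟨u', hu'⟩, ⟨w', hw'⟩⟩ h
    simp only at h
    have h2 := congrArg σ h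
    rw [map_add, map_add, map_mul, map_mul, mem_fixedField.1 hu, mem_fixedField.1 hw,
      mem_fixedField.1 hu', mem_fixedField.1 hw'] at h2
    have h3 : (w - w') * (a - σ a) = 0 := by linear_combination h - h2
    have h4 : w = w' := sub_eq_zero.1 ((mul_eq_zero.1 h3).resolve_right hd)
    subst h4
    simpa using h
  · set w := (x - σ x) / (a - σ a) with hw
    have hσw : σ w = w := by
      rw [hw, map_div₀, map_sub, map_sub, hinv, hinv, ← neg_sub x, ← neg_sub a, neg_div_neg_eq]
    have hwd : w * (a - σ a) = x - σ x := div_mul_cancel₀ _ hd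
    refine ⟨(⟨x - w * a, ?_⟩, ⟨w, hσw⟩), sub_add_cancel x _⟩
    show σ (x - w * a) = x - w * a
    rw [map_sub, map_mul, hσw]
    linear_combination hwd

theorem apply_eq_pow [Finite F] (x : F) : σ x = x ^ Nat.card (fixedField σ) := by
  have : Fintype F := Fintype.ofFinite F
  have : Fintype (fixedField σ) := Fintype.ofFinite _
  set q := Nat.card (fixedField σ) with hq
  obtain ⟨p, hc, n, hp, hn⟩ := FiniteField.card' F
  have : Fact p.Prime := ⟨hp⟩
  have : ExpChar F p := ExpChar.prime hp
  obtain ⟨k, -, hk⟩ : ∃ k, k ≤ (n : ℕ) ∧ q = p ^ k := (Nat.dvd_prime_pow hp).1 ⟨q, by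
    rw [← hn, ← Nat.card_eq_fintype_card, card_eq_sq hne hinv, pow_two]⟩
  have hfix : ∀ a : F, σ a = a → a ^ q = a := by
    intro a ha
    have := congrArg Subtype.val (FiniteField.pow_card (⟨a, ha⟩ : fixedField σ))
    rwa [← Nat.card_eq_fintype_card, ← hq] at this
  -- both maps send x to a root of (X - x)(X - σ x)
  have key : ∀ a : F, a ^ q = a ∨ a ^ q = σ a := by
    intro a
    have h1 := hfix (a + σ a) (by rw [map_add, hinv, add_comm])
    have h2 := hfix (a * σ a) (by rw [map_mul, hinv, mul_comm])
    rw [hk, add_pow_expChar_pow] at h1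
    rw [hk, mul_pow] at h2
    rw [hk]
    have : (a ^ p ^ k - a) * (a ^ p ^ k - σ a) = 0 := by linear_combination a ^ p ^ k * h1 - h2
    rcases mul_eq_zero.1 this with h | h
    · exact Or.inl (sub_eq_zero.1 h)
    · exact Or.inr (sub_eq_zero.1 h)
  by_cases hx : σ x = x
  · rw [hx, hfix x hx]
  rcases key x with h | h
  · exfalso
    -- then more than q elements satisfy X^q = X
    classical
    have h1 : 1 < q := by rw [hq]; exact Finite.one_lt_card
    set P : Polynomial F := Polynomial.X ^ q - Polynomial.X with hP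
    have hP0 : P ≠ 0 := FiniteField.X_pow_card_sub_X_ne_zero F h1
    have hsub : insert x ((Finset.univ : Finset F).filter fun a => σ a = a) ⊆ P.roots.toFinset := by
      intro a ha
      rw [Multiset.mem_toFinset, Polynomial.mem_roots hP0]
      have : a ^ q = a := by
        rcases Finset.mem_insert.1 ha with rfl | ha
        · exact h
        · exact hfix a (Finset.mem_filter.1 ha).2
      simp [hP, this]
    have h2 := Finset.card_le_card hsub
    rw [Finset.card_insert_of_notMem (by simp [hx]), ← Fintype.card_subtype] at h2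
    have h3 := (Multiset.toFinset_card_le P.roots).trans (Polynomial.card_roots' P)
    have h5 : P.natDegree = q := by rw [hP]; exact FiniteField.X_pow_card_sub_X_natDegree_eq F h1
    have h4 : Fintype.card {a : F // σ a = a} = q := by rw [hq, ← Nat.card_eq_fintype_card]; rfl
    omega
  · exact h.symm

theorem exists_norm [Finite F] (k : F) (hk : σ k = k) : ∃ a, a * σ a = k := by
  classical
  have : Fintype F := Fintype.ofFinite F
  rcases eq_or_ne k 0 with rfl | hk0
  · exact ⟨0, by simp⟩
  set q := Nat.card (fixedField σ) with hq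
  have hq1 : 1 < q := by rw [hq]; exact Finite.one_lt_card
  have hcard : Fintype.card F = q ^ 2 := by rw [← Nat.card_eq_fintype_card, card_eq_sq hne hinv]
  have hσ := apply_eq_pow hne hinv
  -- count the fibres of the norm on units
  set N : Fˣ →* Fˣ := powMonoidHom (q + 1) with hN
  have hker : Nat.card N.ker ≤ q + 1 := by
    have h1 : Nat.card N.ker ≤ (Polynomial.nthRoots (q + 1) (1 : F)).toFinset.card := by
      rw [← Nat.card_eq_finsetCard]
      refine Nat.card_le_card_of_injective (fun u => ⟨((u : Fˣ) : F), ?_⟩) ?_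
      · rw [Multiset.mem_toFinset, Polynomial.mem_nthRoots (by omega), ← Units.val_pow_eq_pow_val]
        exact congrArg Units.val u.2
      · intro u v h
        exact Subtype.ext (Units.ext (congrArg Subtype.val h))
    exact h1.trans ((Multiset.toFinset_card_le _).trans (Polynomial.card_nthRoots _ _))
  have hrange : q - 1 ≤ Nat.card N.range := by
    have h1 := Subgroup.card_mul_index N.ker
    rw [Subgroup.index_ker, Nat.card_units, Nat.card_eq_fintype_card (α := F), hcard] at h1
    have hfac : q ^ 2 - 1 = (q + 1) * (q - 1) := by simpa using Nat.sq_sub_sq q 1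
    have := Nat.mul_le_mul_right (Nat.card N.range) hker
    have h5 : (q + 1) * (q - 1) ≤ (q + 1) * Nat.card N.range := by omega
    exact Nat.le_of_mul_le_mul_left h5 (by omega)
  -- the fixed units are exactly the range
  set S : Finset Fˣ := Finset.univ.filter fun u => σ (u : F) = u with hS
  have hsub : (Finset.univ.filter fun u : Fˣ => u ∈ N.range) ⊆ S := by
    intro u hu
    obtain ⟨v, rfl⟩ := (Finset.mem_filter.1 hu).2
    refine Finset.mem_filter.2 ⟨Finset.mem_univ _, ?_⟩
    show σ ((v ^ (q + 1) : Fˣ) : F) = ((v ^ (q + 1) : Fˣ) : F)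
    rw [Units.val_pow_eq_pow_val, pow_succ, map_mul, map_pow,
      show σ (v : F) ^ q = v from (hσ _).symm.trans (hinv _), hσ (v : F), ← hq, mul_comm]
  have hScard : S.card ≤ q - 1 := by
    have h1 : S.card + 1 ≤ Fintype.card (fixedField σ) := by
      have h2 : (insert 0 (S.map ⟨Units.val, fun _ _ h => Units.ext h⟩) : Finset F) ⊆
          Finset.univ.filter fun a : F => σ a = a := by
        intro a ha
        rcases Finset.mem_insert.1 ha with rfl | ha
        · simp
        · obtain ⟨u, hu, rfl⟩ := Finset.mem_map.1 ha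
          exact Finset.mem_filter.2 ⟨Finset.mem_univ _, (Finset.mem_filter.1 hu).2⟩
      have h3 := Finset.card_le_card h2
      rw [Finset.card_insert_of_notMem (fun h => by
        obtain ⟨u, -, hu⟩ := Finset.mem_map.1 h
        exact u.ne_zero hu), Finset.card_map] at h3
      have h4 : (Finset.univ.filter fun a : F => σ a = a).card = Fintype.card (fixedField σ) :=
        (Fintype.card_subtype _).symm.trans (Fintype.card_congr (Equiv.refl _))
      omega
    rw [← Nat.card_eq_fintype_card (α := fixedField σ)] at h1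
    omega
  have h7 : (Finset.univ.filter fun u : Fˣ => u ∈ N.range).card = Nat.card N.range := by
    rw [← Fintype.card_subtype, ← Nat.card_eq_fintype_card]
  have heq := Finset.eq_of_subset_of_card_le hsub (by omega)
  have hmem : Units.mk0 k hk0 ∈ S := Finset.mem_filter.2 ⟨Finset.mem_univ _, hk⟩
  rw [← heq, Finset.mem_filter] at hmem
  obtain ⟨v, hv⟩ := hmem.2
  refine ⟨(v : F), ?_⟩
  have := congrArg Units.val hv
  rw [hN, powMonoidHom_apply, Units.val_pow_eq_pow_val, pow_succ, ← hσ] at this
  rw [mul_comm]; exact this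

end

/-! ### Forms -/

variable (hf : Geo.IsUnitaryForm σ f)

/-- The functional x ↦ f x v. -/
def formH (v : ι → F) : Module.Dual F (ι → F) where
  toFun x := f x v
  map_add' x y := hf.add_left x y v
  map_smul' c x := by simpa using hf.smul_left c x v

include hf

theorem formH_apply (v x : ι → F) : formH hf v x = f x v := rfl

theorem add_right (v x y : ι → F) : f v (x + y) = f v x + f v y := by
  rw [hf.herm v (x + y), hf.add_left, map_add, ← hf.herm, ← hf.herm]

theorem smul_right (c : F) (v x : ι → F) : f v (c • x) = σ c * f v x := by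
  rw [hf.herm v (c • x), hf.smul_left, map_mul, ← hf.herm]

theorem zero_left (v : ι → F) : f 0 v = 0 := map_zero (formH hf v)

theorem zero_right (v : ι → F) : f v 0 = 0 := by rw [hf.herm, zero_left hf, map_zero]

theorem neg_left (x v : ι → F) : f (-x) v = -f x v := map_neg (formH hf v) x

theorem neg_right (v x : ι → F) : f v (-x) = -f v x := by
  rw [hf.herm, neg_left hf, map_neg, ← hf.herm]

theorem sub_left (x y v : ι → F) : f (x - y) v = f x v - f y v := map_sub (formH hf v) x y

theorem sub_right (v x y : ι → F) : f v (x - y) = f v x - f v y := by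
  rw [sub_eq_add_neg, add_right hf, neg_right hf, sub_eq_add_neg]

theorem f_eq_zero_comm {x y : ι → F} : f x y = 0 ↔ f y x = 0 := by
  rw [hf.herm x y, map_eq_zero_iff σ σ.injective]

theorem self_fixed (x : ι → F) : σ (f x x) = f x x := (hf.herm x x).symm

theorem exists_eq_f (φ : Module.Dual F (ι → F)) : ∃ z, ∀ x, φ x = f x z := by
  have : RingHomInvPair (σ : F →+* F) (σ : F →+* F) :=
    ⟨RingHom.ext hf.involutive, RingHom.ext hf.involutive⟩
  set b := fun i => Pi.single (M := fun _ : ι => F) i (1 : F) with hb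
  -- the conjugated Gram matrix is injective
  set T : (ι → F) →ₗ[F] (ι → F) :=
    { toFun := fun y i => f (b i) (fun j => σ (y j))
      map_add' := fun y y' => funext fun i => by
        rw [Pi.add_apply, ← add_right hf]
        congr 1; funext j; simp
      map_smul' := fun c y => funext fun i => by
        rw [RingHom.id_apply, Pi.smul_apply, smul_eq_mul,
          show (fun j => σ ((c • y) j)) = σ c • (fun j => σ (y j)) from funext fun j => by simp,
          smul_right hf, hf.involutive] } with hT
  have hinj : Function.Injective T := by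
    rw [← LinearMap.ker_eq_bot, LinearMap.ker_eq_bot']
    intro y hy
    set v : ι → F := fun j => σ (y j) with hv
    by_contra hy0
    have hv0 : v ≠ 0 := fun h => hy0 (funext fun j => σ.injective (by simpa [hv] using congrFun h j))
    obtain ⟨x, hx⟩ := (hf.nondegenerate v hv0).1
    apply hx
    show formH hf v x = 0
    rw [pi_eq_sum_univ' x, map_sum]
    exact Finset.sum_eq_zero fun i _ => by
      rw [map_smul, show formH hf v (b i) = 0 from congrFun hy i, smul_zero]
  obtain ⟨y, hy⟩ := (LinearMap.injective_iff_surjective.1 hinj) fun i => φ (b i)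
  refine ⟨fun j => σ (y j), fun x => ?_⟩
  show φ x = formH hf _ x
  rw [pi_eq_sum_univ' x, map_sum, map_sum]
  refine Finset.sum_congr rfl fun i _ => ?_
  rw [map_smul, map_smul]
  exact congrArg _ (congrFun hy i).symm

/-- The orthogonal subspace. -/
def orth (U : Submodule F (ι → F)) : Submodule F (ι → F) where
  carrier := {v | ∀ u ∈ U, f u v = 0}
  add_mem' {a b} ha hb u hu := by rw [add_right hf, ha u hu, hb u hu, add_zero]
  zero_mem' u _ := zero_right hf u
  smul_mem' c v hv u hu := by rw [smul_right hf, hv u hu, mul_zero]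

theorem mem_orth {U : Submodule F (ι → F)} {v : ι → F} : v ∈ orth hf U ↔ ∀ u ∈ U, f u v = 0 := Iff.rfl

/-- U is non-degenerate. -/
def Nondeg (U : Submodule F (ι → F)) : Prop := U ⊓ orth hf U = ⊥

theorem nondeg_iff {U : Submodule F (ι → F)} :
    Nondeg hf U ↔ ∀ u ∈ U, (∀ w ∈ U, f w u = 0) → u = 0 := by
  rw [Nondeg, Submodule.eq_bot_iff]
  exact ⟨fun h u hu hu' => h u ⟨hu, hu'⟩, fun h u hu => h u hu.1 hu.2⟩

theorem nondeg_top : Nondeg hf (⊤ : Submodule F (ι → F)) := by
  rw [nondeg_iff]
  intro u _ hu
  by_contra h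
  obtain ⟨x, hx⟩ := (hf.nondegenerate u h).1
  exact hx (hu x Submodule.mem_top)

theorem nondeg_bot : Nondeg hf (⊥ : Submodule F (ι → F)) := bot_inf_eq _

/-- A functional on a non-degenerate subspace is represented inside it. -/
theorem exists_rep {U : Submodule F (ι → F)} (hU : Nondeg hf U) (φ : Module.Dual F (ι → F)) :
    ∃ z ∈ U, ∀ x ∈ U, φ x = f x z := by
  obtain ⟨p, hp⟩ : ∃ p : (ι → F) →ₗ[F] (ι → F), (∀ x, p x ∈ U) ∧ ∀ x ∈ U, p x = x := by
    obtain ⟨W, hW⟩ := U.exists_isCompl
    exact ⟨U.subtype ∘ₗ U.projectionOnto W hW, fun x => (U.projectionOnto W hW x).2,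
      fun x hx => congrArg Subtype.val (Submodule.projectionOnto_apply_left hW ⟨x, hx⟩)⟩
  -- a conjugate linear map U → U*, injective, hence surjective by counting dimensions
  have : RingHomInvPair (σ : F →+* F) (σ : F →+* F) :=
    ⟨RingHom.ext hf.involutive, RingHom.ext hf.involutive⟩
  set T : U →ₛₗ[(σ : F →+* F)] Module.Dual F U :=
    { toFun := fun z => (formH hf (z : ι → F)).comp U.subtype
      map_add' := fun z z' => LinearMap.ext fun x => add_right hf _ _ _
      map_smul' := fun c z => LinearMap.ext fun x => smul_right hf _ _ _ } with hT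
  have hinj : Function.Injective T := by
    rw [← LinearMap.ker_eq_bot, LinearMap.ker_eq_bot']
    intro u hu
    exact Subtype.ext ((nondeg_iff hf).1 hU u u.2 fun w hw =>
      congrArg (fun ψ : Module.Dual F U => ψ ⟨w, hw⟩) hu)
  have hsurj : Function.Surjective T := by
    set b := Module.finBasis F U
    set C : U →ₛₗ[(σ : F →+* F)] U :=
      { toFun := fun u => ∑ i, σ (b.repr u i) • b i
        map_add' := fun u v => by simp [add_smul, Finset.sum_add_distrib]
        map_smul' := fun c u => by simp [Finset.smul_sum, smul_smul] } with hC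
    have hCinj : Function.Injective C := by
      intro u v h
      refine b.ext_elem fun i => σ.injective ?_
      simpa [hC, Finsupp.single_apply] using congrArg (fun w => b.repr w i) h
    set L : U →ₗ[F] Module.Dual F U :=
      { toFun := fun u => T (C u)
        map_add' := fun u v => by rw [map_add, map_add]
        map_smul' := fun c u => by
          rw [map_smulₛₗ, map_smulₛₗ, RingHom.id_apply]
          congr 1
          exact hf.involutive c } with hL
    intro ψ
    have hLinj : Function.Injective L := hinj.comp hCinj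
    obtain ⟨u, hu⟩ := (LinearMap.injective_iff_surjective_of_finrank_eq_finrank
      (Subspace.dual_finrank_eq).symm).1 hLinj ψ
    exact ⟨C u, hu⟩
  obtain ⟨z, hz⟩ := hsurj (φ.comp U.subtype)
  exact ⟨z, z.2, fun x hx => (congrArg (fun ψ : Module.Dual F U => ψ ⟨x, hx⟩) hz).symm⟩

theorem exists_proj {U : Submodule F (ι → F)} (hU : Nondeg hf U) (v : ι → F) :
    ∃ u ∈ U, v - u ∈ orth hf U := by
  obtain ⟨z, hz, h⟩ := exists_rep hf hU (formH hf v)
  exact ⟨z, hz, fun w hw => by rw [sub_right hf, sub_eq_zero]; exact h w hw⟩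

theorem sup_orth {U : Submodule F (ι → F)} (hU : Nondeg hf U) : U ⊔ orth hf U = ⊤ := by
  refine Submodule.eq_top_iff'.2 fun v => ?_
  obtain ⟨u, hu, h⟩ := exists_proj hf hU v
  rw [show v = u + (v - u) by abel]
  exact Submodule.add_mem _ (Submodule.mem_sup_left hu) (Submodule.mem_sup_right h)

theorem nondeg_orth {U : Submodule F (ι → F)} (hU : Nondeg hf U) : Nondeg hf (orth hf U) := by
  rw [nondeg_iff]
  intro v hv h
  by_contra hne
  obtain ⟨x, hx⟩ := (hf.nondegenerate v hne).1
  obtain ⟨u, hu, hxu⟩ := exists_proj hf hU x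
  rw [show x = u + (x - u) by abel, hf.add_left, hv u hu, h _ hxu, add_zero] at hx
  exact hx rfl

theorem nondeg_inf_orth {U X : Submodule F (ι → F)} (hU : Nondeg hf U) (hX : Nondeg hf X)
    (hUX : U ≤ X) : Nondeg hf (X ⊓ orth hf U) := by
  rw [nondeg_iff]
  intro v hv h
  refine (nondeg_iff hf).1 hX v hv.1 fun w hw => ?_
  obtain ⟨u, hu, hwu⟩ := exists_proj hf hU w
  rw [show w = u + (w - u) by abel, hf.add_left, hv.2 u hu, h _ ⟨X.sub_mem hw (hUX hu), hwu⟩, add_zero]

theorem finrank_orth_add {W : Submodule F (ι → F)} (hW : Nondeg hf W) :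
    Module.finrank F W + Module.finrank F ↥(orth hf W) = Module.finrank F (ι → F) := by
  rw [← Submodule.finrank_sup_add_finrank_inf_eq, sup_orth hf hW, hW, finrank_bot, add_zero, finrank_top]

theorem finrank_inf_orth_add {U X : Submodule F (ι → F)} (hU : Nondeg hf U) (hUX : U ≤ X) :
    Module.finrank F U + Module.finrank F ↥(X ⊓ orth hf U) = Module.finrank F X := by
  have h1 : U ⊔ (X ⊓ orth hf U) = X := by
    refine le_antisymm (sup_le hUX inf_le_left) fun x hx => ?_
    obtain ⟨u, hu, h⟩ := exists_proj hf hU x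
    rw [show x = u + (x - u) by abel]
    exact Submodule.add_mem _ (Submodule.mem_sup_left hu)
      (Submodule.mem_sup_right ⟨X.sub_mem hx (hUX hu), h⟩)
  have h2 : U ⊓ (X ⊓ orth hf U) = ⊥ := eq_bot_iff.2 fun x hx => hU ▸ ⟨hx.1, hx.2.2⟩
  rw [← Submodule.finrank_sup_add_finrank_inf_eq, h1, h2, finrank_bot, add_zero]

/-! ### Isotropic vectors and hyperbolic pairs -/

theorem exists_anisotropic {X : Submodule F (ι → F)} (hX : Nondeg hf X) (hX0 : X ≠ ⊥) :
    ∃ v ∈ X, f v v ≠ 0 := by
  obtain ⟨x, hx, hx0⟩ := X.ne_bot_iff.1 hX0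
  obtain ⟨y, hy, hxy⟩ : ∃ y ∈ X, f y x ≠ 0 := by
    by_contra h
    push Not at h
    exact hx0 ((nondeg_iff hf).1 hX x hx h)
  by_contra h
  push Not at h
  obtain ⟨a, ha⟩ : ∃ a : F, a + σ a ≠ 0 := by
    by_contra hc
    push Not at hc
    have h1 := hc 1
    rw [map_one] at h1
    exact hf.ne_refl (RingEquiv.ext fun a => by
      simp only [RingEquiv.refl_apply]; linear_combination hc a - a * h1)
  have h3 := h _ (X.add_mem (X.smul_mem (a / f y x) hy) hx)
  simp only [hf.add_left, add_right hf, hf.smul_left, smul_right hf, h x hx, h y hy, mul_zero,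
    zero_add, add_zero] at h3
  rw [div_mul_cancel₀ _ hxy, hf.herm x y, ← map_mul, div_mul_cancel₀ _ hxy] at h3
  exact ha h3

theorem nondeg_span_single {v : ι → F} (hv : f v v ≠ 0) : Nondeg hf (Submodule.span F {v}) := by
  rw [nondeg_iff]
  intro u hu h
  obtain ⟨a, rfl⟩ := Submodule.mem_span_singleton.1 hu
  have := h v (Submodule.mem_span_singleton_self v)
  rw [smul_right hf] at this
  have ha : a = 0 := (map_eq_zero_iff σ σ.injective).1 ((mul_eq_zero.1 this).resolve_right hv)
  rw [ha, zero_smul]

theorem finrank_span_single {v : ι → F} (hv : f v v ≠ 0) : Module.finrank F ↥(Submodule.span F {v}) = 1 :=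
  finrank_span_singleton fun h => hv (by rw [h, zero_left hf])

theorem exists_isotropic [Finite F] {X : Submodule F (ι → F)} (hX : Nondeg hf X)
    (h2 : 2 ≤ Module.finrank F X) : ∃ e ∈ X, e ≠ 0 ∧ f e e = 0 := by
  have hX0 : X ≠ ⊥ := fun h => by rw [h, finrank_bot] at h2; omega
  obtain ⟨v, hv, hvv⟩ := exists_anisotropic hf hX hX0
  have hsum := finrank_inf_orth_add hf (nondeg_span_single hf hvv) (by
    rwa [Submodule.span_singleton_le_iff_mem] : Submodule.span F {v} ≤ X)
  rw [finrank_span_single hf hvv] at hsum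
  set Y := X ⊓ orth hf (Submodule.span F {v}) with hY
  obtain ⟨w, hw, hw0⟩ := Y.ne_bot_iff.1 fun h => by rw [h, finrank_bot] at hsum; omega
  by_cases hww : f w w = 0
  · exact ⟨w, hw.1, hw0, hww⟩
  have hvw : f v w = 0 := hw.2 v (Submodule.mem_span_singleton_self v)
  obtain ⟨a, ha⟩ := exists_norm hf.ne_refl hf.involutive (-(f w w / f v v))
    (by rw [map_neg, map_div₀, self_fixed hf, self_fixed hf])
  refine ⟨a • v + w, X.add_mem (X.smul_mem a hv) hw.1, fun h => ?_, ?_⟩
  · have h1 := congrArg (fun y => f y w) h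
    simp only [hf.add_left, hf.smul_left, hvw, mul_zero, zero_add, zero_left hf] at h1
    exact hww h1
  · simp only [hf.add_left, add_right hf, hf.smul_left, smul_right hf, hvw, (f_eq_zero_comm hf).1 hvw,
      mul_zero, zero_add, add_zero]
    rw [← mul_assoc, ha]
    field_simp
    ring

/-- An isotropic partner with f(e, d) = 1. -/
theorem exists_partner {X : Submodule F (ι → F)} (hX : Nondeg hf X) {e : ι → F} (he : e ∈ X)
    (he0 : e ≠ 0) (hee : f e e = 0) : ∃ d ∈ X, f e d = 1 ∧ f d d = 0 := by
  obtain ⟨y, hy, hey⟩ : ∃ y ∈ X, f y e ≠ 0 := by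
    by_contra h
    push Not at h
    exact he0 ((nondeg_iff hf).1 hX e he h)
  set z := (f y e)⁻¹ • y with hz
  have hze : f z e = 1 := by rw [hz, hf.smul_left, inv_mul_cancel₀ hey]
  have hez : f e z = 1 := by rw [hf.herm, hze, map_one]
  obtain ⟨b, hb⟩ := exists_trace hf.ne_refl hf.involutive (-f z z) (by rw [map_neg, self_fixed hf])
  refine ⟨z + b • e, X.add_mem (X.smul_mem _ hy) (X.smul_mem _ he), ?_, ?_⟩
  · rw [add_right hf, hez, smul_right hf, hee, mul_zero, add_zero]
  · simp only [hf.add_left, add_right hf, hf.smul_left, smul_right hf, hee, hez, hze, mul_one, mul_zero,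
      add_zero]
    linear_combination hb

theorem nondeg_pair {e d : ι → F} (hee : f e e = 0) (hdd : f d d = 0) (hed : f e d = 1) :
    Nondeg hf (Submodule.span F {e, d}) ∧ Module.finrank F ↥(Submodule.span F ({e, d} : Set (ι → F))) = 2 := by
  have hde : f d e = 1 := by rw [hf.herm, hed, map_one]
  refine ⟨(nondeg_iff hf).2 fun u hu h => ?_, ?_⟩
  · obtain ⟨a, b, rfl⟩ := Submodule.mem_span_pair.1 hu
    have h1 := h e (Submodule.subset_span (Set.mem_insert _ _))
    have h2 := h d (Submodule.subset_span (Set.mem_insert_of_mem _ rfl))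
    simp only [add_right hf, smul_right hf, hee, hdd, hed, hde, mul_zero, mul_one, add_zero,
      zero_add] at h1 h2
    rw [(map_eq_zero_iff σ σ.injective).1 h1, (map_eq_zero_iff σ σ.injective).1 h2]
    simp
  · have hind : LinearIndependent F ![e, d] := by
      rw [LinearIndependent.pair_iff]
      intro s t hst
      constructor
      · simpa [hf.add_left, hf.smul_left, zero_left hf, hdd, hed] using congrArg (fun v => f v d) hst
      · simpa [hf.add_left, hf.smul_left, zero_left hf, hee, hde] using congrArg (fun v => f v e) hst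
    rw [← show Set.range ![e, d] = ({e, d} : Set (ι → F)) by simp [Matrix.range_cons, Set.pair_comm],
      finrank_span_eq_card hind, Fintype.card_fin]

/-- A non-degenerate subspace of dimension at least two is spanned by its isotropic vectors. -/
theorem isotropic_span [Finite F] {X : Submodule F (ι → F)} (hX : Nondeg hf X)
    (h2 : 2 ≤ Module.finrank F X) :
    X ≤ Submodule.span F {v | v ∈ X ∧ f v v = 0} := by
  obtain ⟨e, he, he0, hee⟩ := exists_isotropic hf hX h2
  obtain ⟨d, hd, hed, hdd⟩ := exists_partner hf hX he he0 hee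
  have hde : f d e = 1 := by rw [hf.herm, hed, map_one]
  intro x hx
  obtain ⟨u, hu, hy⟩ := exists_proj hf (nondeg_pair hf hee hdd hed).1 x
  set y := x - u
  have hle : Submodule.span F {e, d} ≤ X := Submodule.span_le.2 (by
    rintro v (rfl | rfl) <;> assumption)
  have hyX : y ∈ X := X.sub_mem hx (hle hu)
  have hye : f e y = 0 := hy e (Submodule.subset_span (Set.mem_insert _ _))
  have hyd : f d y = 0 := hy d (Submodule.subset_span (Set.mem_insert_of_mem _ rfl))
  obtain ⟨b, hb⟩ := exists_trace hf.ne_refl hf.involutive (-f y y) (by rw [map_neg, self_fixed hf])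
  have he' : e ∈ Submodule.span F {v | v ∈ X ∧ f v v = 0} := Submodule.subset_span ⟨he, hee⟩
  have hd' : d ∈ Submodule.span F {v | v ∈ X ∧ f v v = 0} := Submodule.subset_span ⟨hd, hdd⟩
  have hiso : e + b • d + y ∈ Submodule.span F {v | v ∈ X ∧ f v v = 0} := by
    refine Submodule.subset_span ⟨X.add_mem (X.add_mem he (X.smul_mem b hd)) hyX, ?_⟩
    simp only [hf.add_left, add_right hf, hf.smul_left, smul_right hf, hee, hdd, hed, hde, hye, hyd,
      (f_eq_zero_comm hf).1 hye, (f_eq_zero_comm hf).1 hyd, mul_one, mul_zero, add_zero, zero_add]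
    linear_combination hb
  obtain ⟨r, s, rfl⟩ := Submodule.mem_span_pair.1 hu
  rw [show x = r • e + s • d + ((e + b • d + y) - e - b • d) by simp only [y]; abel]
  exact Submodule.add_mem _ (Submodule.add_mem _ (Submodule.smul_mem _ _ he') (Submodule.smul_mem _ _ hd'))
    (Submodule.sub_mem _ (Submodule.sub_mem _ hiso he') (Submodule.smul_mem _ _ hd'))

theorem exists_isotropic_not_orth [Finite F] {X : Submodule F (ι → F)} (hX : Nondeg hf X)
    (h2 : 2 ≤ Module.finrank F X) {x : ι → F} (hx : x ∈ X) (hx0 : x ≠ 0) :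
    ∃ e ∈ X, f e e = 0 ∧ f e x ≠ 0 := by
  by_contra h
  push Not at h
  refine hx0 ((nondeg_iff hf).1 hX x hx fun w hw => ?_)
  have : Submodule.span F {v | v ∈ X ∧ f v v = 0} ≤ LinearMap.ker (formH hf x) :=
    Submodule.span_le.2 fun v hv => h v hv.1 hv.2
  exact this (isotropic_span hf hX h2 hw)

end Cfsg.Agent.Transvec.Herm
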