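/-
Unitary transvections: transitivity on isotropic vectors, hyperbolic pairs and vectors of given norm, and
generation of the special unitary group.
-/
import Cfsg.Agent.Lib.Transvec.Herm
set_option autoImplicit false

namespace Cfsg.Agent.Transvec.Herm

open scoped Matrix
open Matrix Cfsg.Agent.Transvec

variable {ι : Type} [Fintype ι] [DecidableEq ι] {F : Type*} [Field F]
variable {σ : F ≃+* F} {f : (ι → F) → (ι → F) → F} (hf : Geo.IsUnitaryForm σ f)
include hf

/-- The unitary transvection x ↦ x + c f(x, v) v for an isotropic v. -/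
noncomputable def htv (v : ι → F) (hv : f v v = 0) (c : F) : GL ι F :=
  tv v (c • formH hf v) (by rw [LinearMap.smul_apply, formH_apply, hv, smul_zero])

theorem mv_htv (v : ι → F) (hv : f v v = 0) (c : F) (x : ι → F) :
    mv (htv hf v hv c) x = x + (c * f x v) • v :=
  mv_tv _ x

theorem htv_fix (v : ι → F) (hv : f v v = 0) (c : F) {x : ι → F} (h : f x v = 0) :
    mv (htv hf v hv c) x = x := by
  rw [mv_htv, h, mul_zero, zero_smul, add_zero]

theorem htv_mem (v : ι → F) (hv : f v v = 0) {c : F} (hc : σ c = -c) :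
    htv hf v hv c ∈ preserving (Units.coeHom (Matrix ι ι F)) f := by
  show ∀ x y, f (mv (htv hf v hv c) x) (mv (htv hf v hv c) y) = f x y
  intro x y
  rw [mv_htv, mv_htv, hf.add_left, add_right hf, add_right hf, hf.smul_left, hf.smul_left,
    smul_right hf, smul_right hf, hv, map_mul, hc, ← hf.herm]
  ring

theorem htv_mem_specialLinear (v : ι → F) (hv : f v v = 0) (c : F) :
    htv hf v hv c ∈ Geo.specialLinear ι F :=
  tv_mem_specialLinear _

theorem htv_add (v : ι → F) (hv : f v v = 0) (c d : F) :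
    htv hf v hv c * htv hf v hv d = htv hf v hv (c + d) := by
  refine ext_mv fun x => ?_
  rw [mv_mul, mv_htv, mv_htv, mv_htv, hf.add_left, hf.smul_left, hv, mul_zero, add_zero, add_assoc,
    ← add_smul]
  congr 2
  ring

theorem htv_zero (v : ι → F) (hv : f v v = 0) : htv hf v hv 0 = 1 := by
  refine ext_mv fun x => ?_
  rw [mv_htv, mv_one, zero_mul, zero_smul, add_zero]

theorem htv_conj {g : GL ι F} (hg : ∀ x y, f (mv g x) (mv g y) = f x y) (v : ι → F) (hv : f v v = 0)
    (c : F) : g * htv hf v hv c * g⁻¹ = htv hf (mv g v) (by rw [hg, hv]) c :=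
  tv_conj _ g _ rfl fun x => by simp only [LinearMap.smul_apply, formH_apply, smul_eq_mul, hg]

theorem htv_smul (v : ι → F) (hv : f v v = 0) (a c : F) :
    htv hf (a • v) (by rw [hf.smul_left, smul_right hf, hv, mul_zero, mul_zero]) c =
      htv hf v hv (a * σ a * c) := by
  refine ext_mv fun x => ?_
  rw [mv_htv, mv_htv, smul_right hf, smul_smul]
  congr 2
  ring

/-- One transvection moves u to w when f(u, w) is non-zero of trace zero. -/
theorem htv_map {u w : ι → F} (hu : f u u = 0) (hw : f w w = 0) (h : f u w ≠ 0)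
    (ht : σ (f u w) = -f u w) :
    ∃ (hv : f (w - u) (w - u) = 0), σ (f u w)⁻¹ = -(f u w)⁻¹ ∧
      mv (htv hf (w - u) hv (f u w)⁻¹) u = w := by
  have hv : f (w - u) (w - u) = 0 := by
    rw [sub_left hf, sub_right hf, sub_right hf, hu, hw, hf.herm w u, ht]; ring
  refine ⟨hv, by rw [map_inv₀, ht, inv_neg], ?_⟩
  rw [mv_htv, sub_right hf, hu, sub_zero, inv_mul_cancel₀ h, one_smul, add_sub_cancel]

theorem exists_dual_pair {u u' : ι → F} (h : ∀ k : F, u' ≠ k • u) (hu0 : u ≠ 0) (a b : F) :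
    ∃ φ : Module.Dual F (ι → F), φ u = a ∧ φ u' = b := by
  obtain ⟨φ, hφ, hφ'⟩ := exists_dual (W := Submodule.span F {u}) (u := u') fun hm => by
    obtain ⟨k, hk⟩ := Submodule.mem_span_singleton.1 hm
    exact h k hk.symm
  obtain ⟨ψ, -, hψ⟩ := exists_dual (W := (⊥ : Submodule F (ι → F))) (u := u) (by simpa using hu0)
  refine ⟨(b - a * ψ u') • φ + a • ψ, ?_, ?_⟩
  · simp [hφ u (Submodule.mem_span_singleton_self u), hψ]
  · simp [hφ']

/-- A vector of X orthogonal to everything orthogonal to U inside X lies in U. -/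
theorem mem_of_orth_orth {U X : Submodule F (ι → F)} (hX : Nondeg hf X) (hUX : U ≤ X) {x : ι → F}
    (hx : x ∈ X) (h : ∀ y ∈ X ⊓ orth hf U, f x y = 0) : x ∈ U := by
  by_contra hxU
  obtain ⟨φ, hφU, hφx⟩ := exists_dual hxU
  obtain ⟨z, hz, hzf⟩ := exists_rep hf hX φ
  have := h z ⟨hz, fun u hu => by rw [← hzf u (hUX hu), hφU u hu]⟩
  rw [← hzf x hx, hφx] at this
  exact one_ne_zero this

variable [Finite F] {K : Subgroup (GL ι F)}

/-- An isotropic vector with the same trace-zero product with two given vectors. -/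
theorem exists_common {X : Submodule F (ι → F)} (hX : Nondeg hf X) (h4 : 4 ≤ Module.finrank F X)
    {u u' : ι → F} (hu : u ∈ X) (hu' : u' ∈ X) (hu0 : u ≠ 0) (hind : ∀ k : F, u' ≠ k • u) {t : F}
    (ht0 : t ≠ 0) : ∃ z ∈ X, f z z = 0 ∧ f u z = t ∧ f u' z = t := by
  obtain ⟨φ, hφu, hφu'⟩ := exists_dual_pair hf hind hu0 t t
  obtain ⟨z, hz, hzf⟩ := exists_rep hf hX φ
  have hzu : f u z = t := by rw [← hzf u hu, hφu]
  have hzu' : f u' z = t := by rw [← hzf u' hu', hφu']
  set U := Submodule.span F ({u, u'} : Set (ι → F)) with hU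
  have hUX : U ≤ X := Submodule.span_le.2 (by rintro v (rfl | rfl) <;> assumption)
  set W := X ⊓ orth hf U with hW
  have mu : u ∈ U := Submodule.subset_span (Set.mem_insert _ _)
  have mu' : u' ∈ U := Submodule.subset_span (Set.mem_insert_of_mem _ rfl)
  -- it is enough to shift z inside W
  suffices H : ∃ y ∈ W, f (z + y) (z + y) = 0 by
    obtain ⟨y, hy, hyy⟩ := H
    refine ⟨z + y, X.add_mem hz hy.1, hyy, ?_, ?_⟩
    · rw [add_right hf, hy.2 u mu, add_zero, hzu]
    · rw [add_right hf, hy.2 u' mu', add_zero, hzu']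
  have hC := self_fixed hf z
  by_cases haniso : ∃ w ∈ W, f w w ≠ 0
  · obtain ⟨w, hw, hww⟩ := haniso
    have hA := self_fixed hf w
    obtain ⟨a, ha⟩ := exists_norm hf.ne_refl hf.involutive
      ((f w z * σ (f w z) / f w w - f z z) / f w w)
      (by simp only [map_div₀, map_sub, map_mul, hf.involutive, hA, hC]; ring)
    refine ⟨(a - σ (f w z) / f w w) • w, W.smul_mem _ hw, ?_⟩
    simp only [hf.add_left, add_right hf, hf.smul_left, smul_right hf, map_sub, map_div₀, hA,
      hf.involutive]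
    rw [hf.herm z w]
    field_simp at ha ⊢
    linear_combination ha
  push Not at haniso
  by_cases hnon : ∃ y ∈ W, f y z ≠ 0
  · obtain ⟨y, hy, hyz⟩ := hnon
    obtain ⟨b, hb⟩ := exists_trace hf.ne_refl hf.involutive (-f z z) (by rw [map_neg, hC])
    refine ⟨(b / f y z) • y, W.smul_mem _ hy, ?_⟩
    simp only [hf.add_left, add_right hf, hf.smul_left, smul_right hf, haniso y hy, mul_zero,
      add_zero]
    rw [hf.herm z y, ← map_mul, div_mul_cancel₀ _ hyz]
    linear_combination hb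
  push Not at hnon
  exfalso
  have hzU : z ∈ U := mem_of_orth_orth hf hX hUX hz fun y hy => (f_eq_zero_comm hf).1 (hnon y hy)
  have hWU : W ≤ U := fun w hw => mem_of_orth_orth hf hX hUX hw.1 fun y hy => by
    by_contra hwy
    obtain ⟨b, hb⟩ : ∃ b : F, b + σ b ≠ 0 := by
      by_contra hc
      push Not at hc
      have h1 := hc 1
      rw [map_one] at h1
      exact hf.ne_refl (RingEquiv.ext fun a => by
        simp only [RingEquiv.refl_apply]; linear_combination hc a - a * h1)
    have h3 := haniso _ (W.add_mem (W.smul_mem (b / f w y) hw) hy)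
    simp only [hf.add_left, add_right hf, hf.smul_left, smul_right hf, haniso w hw, haniso y hy,
      mul_zero, zero_add, add_zero] at h3
    rw [div_mul_cancel₀ _ hwy, hf.herm y w, ← map_mul, div_mul_cancel₀ _ hwy] at h3
    exact hb h3
  have hU2 : Module.finrank F U ≤ 2 := by
    classical
    refine (finrank_span_le_card _).trans ?_
    rw [Set.toFinset_insert, Set.toFinset_singleton]
    exact Finset.card_le_two
  have hW2 : 2 ≤ Module.finrank F W := by
    set L := ((formH hf u).prod (formH hf u')).domRestrict X with hL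
    have h1 := LinearMap.finrank_range_add_finrank_ker L
    have h2 := Submodule.finrank_le (LinearMap.range L)
    rw [Module.finrank_prod, Module.finrank_self] at h2
    have h3 : (LinearMap.ker L).map X.subtype ≤ W := by
      rintro _ ⟨y, hy, rfl⟩
      have hy' := LinearMap.mem_ker.1 hy
      have e1 : f (y : ι → F) u = 0 := congrArg Prod.fst hy'
      have e2 : f (y : ι → F) u' = 0 := congrArg Prod.snd hy'
      refine ⟨y.2, fun v hv => ?_⟩
      obtain ⟨a, b, rfl⟩ := Submodule.mem_span_pair.1 hv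
      rw [hf.add_left, hf.smul_left, hf.smul_left]
      show a * f u (y : ι → F) + b * f u' (y : ι → F) = 0
      rw [(f_eq_zero_comm hf).1 e1, (f_eq_zero_comm hf).1 e2, mul_zero, mul_zero, add_zero]
    have h4 := Submodule.finrank_mono h3
    rw [Submodule.finrank_map_subtype_eq] at h4
    omega
  have hWeq : W = U := Submodule.eq_of_le_of_finrank_le hWU (by omega)
  rw [← hWeq] at hzU
  exact ht0 (hzu ▸ hzU.2 u mu)

/-- Transitivity on non-zero isotropic vectors inside a non-degenerate subspace of dimension at least four. -/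
theorem exists_move {X : Submodule F (ι → F)} (hX : Nondeg hf X) (h4 : 4 ≤ Module.finrank F X)
    (hK : ∀ v ∈ X, ∀ (hv : f v v = 0) (c : F), σ c = -c → htv hf v hv c ∈ K) {u w : ι → F}
    (hu : u ∈ X) (hw : w ∈ X) (hu0 : u ≠ 0) (hw0 : w ≠ 0) (huu : f u u = 0) (hww : f w w = 0) :
    ∃ g ∈ K, mv g u = w ∧ ∀ y, (∀ x ∈ X, f y x = 0) → mv g y = y := by
  obtain ⟨t, ht0, ht⟩ := exists_anti hf.ne_refl hf.involutive
  have indep : ∀ {u w : ι → F}, u ∈ X → w ∈ X → u ≠ 0 → f u u = 0 → f w w = 0 →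
      (∀ k : F, w ≠ k • u) → ∃ g ∈ K, mv g u = w ∧ ∀ y, (∀ x ∈ X, f y x = 0) → mv g y = y := by
    intro u w hu hw hu0 huu hww hind
    obtain ⟨z, hz, hzz, huz, hwz⟩ := exists_common hf hX h4 hu hw hu0 hind ht0
    obtain ⟨hv1, hc1, hm1⟩ := htv_map hf huu hzz (huz ▸ ht0) (by rw [huz, ht])
    have hzw : f z w = -t := by rw [hf.herm, hwz, ht]
    obtain ⟨hv2, hc2, hm2⟩ := htv_map hf hzz hww (hzw ▸ neg_ne_zero.2 ht0) (by rw [hzw, map_neg, ht])
    refine ⟨_, K.mul_mem (hK _ (X.sub_mem hw hz) hv2 _ hc2) (hK _ (X.sub_mem hz hu) hv1 _ hc1), ?_,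
      fun y hy => ?_⟩
    · rw [mv_mul, hm1, hm2]
    · rw [mv_mul, htv_fix hf _ _ _ (hy _ (X.sub_mem hz hu)), htv_fix hf _ _ _ (hy _ (X.sub_mem hw hz))]
  by_cases hk : ∃ k : F, w = k • u
  · obtain ⟨k, hk⟩ := hk
    obtain ⟨d, hd, hud, hdd⟩ := exists_partner hf hX hu hu0 huu
    have hd0 : d ≠ 0 := fun h => by rw [h, zero_right hf] at hud; exact zero_ne_one hud
    obtain ⟨g, hg, hgu, hgf⟩ := indep hu hd hu0 huu hdd fun l hl => by
      rw [hl, smul_right hf, huu, mul_zero] at hud
      exact zero_ne_one hud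
    obtain ⟨h, hh, hhd, hhf⟩ := indep hd hw hd0 hdd hww fun l hl => by
      have := congrArg (f u) hl
      rw [hk, smul_right hf, smul_right hf, huu, hud, mul_zero, mul_one] at this
      rw [(map_eq_zero_iff σ σ.injective).1 this.symm, zero_smul] at hl
      exact hw0 hl
    exact ⟨h * g, K.mul_mem hh hg, by rw [mv_mul, hgu, hhd], fun y hy => by rw [mv_mul, hgf y hy, hhf y hy]⟩
  · push Not at hk
    exact indep hu hw hu0 huu hww hk

/-- Transitivity on hyperbolic pairs with a given first member. -/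
theorem exists_move_partner {X : Submodule F (ι → F)} (hX : Nondeg hf X) (h4 : 4 ≤ Module.finrank F X)
    (hK : ∀ v ∈ X, ∀ (hv : f v v = 0) (c : F), σ c = -c → htv hf v hv c ∈ K)
    (hKf : K ≤ preserving (Units.coeHom (Matrix ι ι F)) f)
    {e d d' : ι → F} (he : e ∈ X) (hd : d ∈ X) (hd' : d' ∈ X) (hee : f e e = 0) (hdd : f d d = 0)
    (hdd' : f d' d' = 0) (hed : f e d = 1) (hed' : f e d' = 1) :
    ∃ g ∈ K, mv g e = e ∧ mv g d = d' ∧ ∀ y, (∀ x ∈ X, f y x = 0) → mv g y = y := by
  have hde : f d e = 1 := by rw [hf.herm, hed, map_one]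
  set P := Submodule.span F ({e, d} : Set (ι → F)) with hP
  have hPX : P ≤ X := Submodule.span_le.2 (by rintro v (rfl | rfl) <;> assumption)
  obtain ⟨hPn, hP2⟩ := nondeg_pair hf hee hdd hed
  set Y := X ⊓ orth hf P with hY
  have me : e ∈ P := Submodule.subset_span (Set.mem_insert _ _)
  have md : d ∈ P := Submodule.subset_span (Set.mem_insert_of_mem _ rfl)
  have hY2 : 2 ≤ Module.finrank F Y := by
    have h := finrank_inf_orth_add hf hPn hPX
    have e1 : Module.finrank F P = 2 := hP2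
    have e2 : Module.finrank F Y = Module.finrank F ↥(X ⊓ orth hf P) := rfl
    rw [hY] at e2 ⊢
    change 2 ≤ Module.finrank F ↥(X ⊓ orth hf P)
    linarith [h, e1]
  -- the reachable shifts
  set S : Set (ι → F) := {w | w ∈ Y ∧ ∃ g ∈ K, mv g e = e ∧ (∃ l : F, mv g d = d + l • e + w) ∧
    (∀ y, (∀ x ∈ X, f y x = 0) → mv g y = y) ∧ ∀ y ∈ Y, ∃ m : F, mv g y = y + m • e} with hS
  have hS0 : (0 : ι → F) ∈ S :=
    ⟨Y.zero_mem, 1, K.one_mem, mv_one e, ⟨0, by rw [mv_one]; simp⟩, fun y _ => mv_one y,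
      fun y _ => ⟨0, by rw [mv_one]; simp⟩⟩
  have hSadd : ∀ a ∈ S, ∀ b ∈ S, a + b ∈ S := by
    rintro a ⟨ha, g, hg, hge, ⟨l, hgd⟩, hgf, hgY⟩ b ⟨hb, h, hh, hhe, ⟨l', hhd⟩, hhf, hhY⟩
    obtain ⟨m, hm⟩ := hgY b hb
    refine ⟨Y.add_mem ha hb, g * h, K.mul_mem hg hh, by rw [mv_mul, hhe, hge], ⟨l + l' + m, ?_⟩,
      fun y hy => by rw [mv_mul, hhf y hy, hgf y hy], fun y hy => ?_⟩
    · rw [mv_mul, hhd, mv_add, mv_add, mv_smul, hge, hgd, hm]
      module
    · obtain ⟨m₁, h1⟩ := hhY y hy
      obtain ⟨m₂, h2⟩ := hgY y hy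
      refine ⟨m₂ + m₁, ?_⟩
      rw [mv_mul, h1, mv_add, mv_smul, hge, h2]
      module
  obtain ⟨t, ht0, ht⟩ := exists_anti hf.ne_refl hf.involutive
  have hSiso : ∀ w ∈ Y, f w w = 0 → w ∈ S := by
    intro w hw hww
    have hew : f e w = 0 := hw.2 e me
    have hwe : f w e = 0 := (f_eq_zero_comm hf).1 hew
    have hdw : f d w = 0 := hw.2 d md
    set v := e + t⁻¹ • w with hv
    have hvv : f v v = 0 := by
      simp only [hv, hf.add_left, add_right hf, hf.smul_left, smul_right hf, hee, hew, hwe, hww, mul_zero,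
        add_zero]
    have hw' : f (t⁻¹ • w) (t⁻¹ • w) = 0 := by
      rw [hf.smul_left, smul_right hf, hww, mul_zero, mul_zero]
    refine ⟨hw, htv hf v hvv t * htv hf (t⁻¹ • w) hw' (-t), K.mul_mem (hK v (X.add_mem he (X.smul_mem _ hw.1)) _ _ ht)
      (hK _ (X.smul_mem _ hw.1) _ _ (by rw [map_neg, ht])), ?_, ⟨t, ?_⟩, fun y hy => ?_, fun y hy => ?_⟩
    · rw [mv_mul, htv_fix hf _ hw' _ (x := e) (by rw [smul_right hf, hew, mul_zero]),
        htv_fix hf _ hvv _ (x := e) (by rw [hv, add_right hf, smul_right hf, hee, hew, mul_zero, add_zero])]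
    · rw [mv_mul, htv_fix hf _ hw' _ (x := d) (by rw [smul_right hf, hdw, mul_zero]), mv_htv, hv, add_right hf,
        smul_right hf, hde, hdw, mul_zero, add_zero, mul_one, smul_add, smul_smul, mul_inv_cancel₀ ht0,
        one_smul, ← add_assoc]
    · have hyv : f y v = 0 := hy v (X.add_mem he (X.smul_mem _ hw.1))
      rw [mv_mul, htv_fix hf _ _ _ (hy _ (X.smul_mem _ hw.1)), htv_fix hf _ _ _ hyv]
    · refine ⟨t * f y (t⁻¹ • w), ?_⟩
      have hye : f y e = 0 := (f_eq_zero_comm hf).1 (hy.2 e me)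
      simp only [mv_mul, mv_htv, hv, hf.add_left, hf.smul_left, add_right hf, hye, zero_add, smul_right hf,
        hwe, hww, mul_zero, add_zero]
      module
  have hSall : ∀ w ∈ Y, w ∈ S := by
    intro w hw
    have hYn : Nondeg hf Y := nondeg_inf_orth hf hPn hX hPX
    have := isotropic_span hf hYn hY2 hw
    suffices ∀ a : F, a • w ∈ S by simpa using this 1
    induction this using Submodule.span_induction with
    | mem x hx =>
      intro a
      exact hSiso _ (Y.smul_mem a hx.1) (by rw [hf.smul_left, smul_right hf, hx.2, mul_zero, mul_zero])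
    | zero => intro a; rw [smul_zero]; exact hS0
    | add x y hx hy ihx ihy =>
      intro a
      rw [smul_add]
      have hxY : ∀ z, z ∈ Submodule.span F {v | v ∈ Y ∧ f v v = 0} → z ∈ Y := fun z hz =>
        Submodule.span_le.2 (fun v hv => hv.1) hz
      exact hSadd _ (ihx (hxY x hx) a) _ (ihy (hxY y hy) a)
    | smul b x hx ih =>
      intro a
      rw [smul_smul]
      exact ih (Submodule.span_le.2 (fun v hv => hv.1) hx) (a * b)
  obtain ⟨p, hp, hpy⟩ := exists_proj hf hPn (d' - d)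
  obtain ⟨r, s, rfl⟩ := Submodule.mem_span_pair.1 hp
  have hwY : d' - d - (r • e + s • d) ∈ Y := ⟨X.sub_mem (X.sub_mem hd' hd) (hPX hp), hpy⟩
  set w := d' - d - (r • e + s • d) with hw
  have hs : s = 0 := by
    have h1 := hwY.2 e me
    rw [hw, sub_right hf, sub_right hf, add_right hf, smul_right hf, smul_right hf, hee, hed, hed'] at h1
    refine (map_eq_zero_iff σ σ.injective).1 ?_
    linear_combination -h1
  have hd'eq : d' = d + r • e + w := by rw [hw, hs, zero_smul, add_zero]; abel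
  obtain ⟨-, g, hg, hge, ⟨l, hgd⟩, hgf, -⟩ := hSall w hwY
  have hew : f e w = 0 := hwY.2 e me
  have hdw : f d w = 0 := hwY.2 d md
  have key : ∀ m : F, f (d + m • e + w) (d + m • e + w) = m + σ m + f w w := fun m => by
    simp only [hf.add_left, add_right hf, hf.smul_left, smul_right hf, hdd, hee, hed, hde, hew, hdw,
      (f_eq_zero_comm hf).1 hew, (f_eq_zero_comm hf).1 hdw, mul_zero, mul_one, add_zero, zero_add]
    ring
  have hc : σ (r - l) = -(r - l) := by
    have hgiso : f (mv g d) (mv g d) = 0 := (hKf hg d d).trans hdd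
    rw [hgd, key] at hgiso
    rw [hd'eq, key] at hdd'
    rw [map_sub]
    linear_combination hdd' - hgiso
  refine ⟨htv hf e hee (r - l) * g, K.mul_mem (hK e he hee _ hc) hg, ?_, ?_, fun y hy => ?_⟩
  · rw [mv_mul, hge, htv_fix hf _ _ _ hee]
  · rw [mv_mul, hgd, mv_htv, hd'eq]
    simp only [hf.add_left, hf.smul_left, hde, hee, (f_eq_zero_comm hf).1 hew, mul_zero, add_zero, mul_one]
    module
  · rw [mv_mul, hgf y hy, htv_fix hf _ _ _ (hy e he)]

theorem nondeg_sup {U P : Submodule F (ι → F)} (hU : Nondeg hf U) (hP : Nondeg hf P)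
    (hUP : P ≤ orth hf U) :
    Nondeg hf (U ⊔ P) ∧ Module.finrank F ↥(U ⊔ P) = Module.finrank F U + Module.finrank F P := by
  have hd : U ⊓ P = ⊥ := eq_bot_iff.2 fun x hx => hU ▸ ⟨hx.1, hUP hx.2⟩
  refine ⟨(nondeg_iff hf).2 fun x hx h => ?_, ?_⟩
  · obtain ⟨u, hu, y, hy, rfl⟩ := Submodule.mem_sup.1 hx
    have hu0 : u = 0 := (nondeg_iff hf).1 hU u hu fun w hw => by
      have := h w (Submodule.mem_sup_left hw)
      rwa [add_right hf, hUP hy w hw, add_zero] at this
    have hy0 : y = 0 := (nondeg_iff hf).1 hP y hy fun w hw => by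
      have := h w (Submodule.mem_sup_right hw)
      rwa [hu0, zero_add] at this
    rw [hu0, hy0, add_zero]
  · have := Submodule.finrank_sup_add_finrank_inf_eq U P
    rw [hd, finrank_bot, add_zero] at this
    exact this

/-- A vector of non-zero norm is e + b d for a hyperbolic pair. -/
theorem exists_norm_pair {X : Submodule F (ι → F)} (hX : Nondeg hf X) (h2 : 2 ≤ Module.finrank F X)
    {v : ι → F} (hv : v ∈ X) (hvv : f v v ≠ 0) {b : F} (hb : b + σ b = f v v) (hb0 : b ≠ 0) :
    ∃ e ∈ X, ∃ d ∈ X, f e e = 0 ∧ f d d = 0 ∧ f e d = 1 ∧ v = e + b • d := by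
  obtain ⟨e₀, he₀, he₀0, hev⟩ := exists_isotropic_not_orth hf hX h2 hv
    (fun h => hvv (by rw [h, zero_left hf]))
  set e := (σ b / f e₀ v) • e₀ with he
  have heX : e ∈ X := X.smul_mem _ he₀
  have hee : f e e = 0 := by rw [he, hf.smul_left, smul_right hf, he₀0, mul_zero, mul_zero]
  have hev' : f e v = σ b := by rw [he, hf.smul_left, div_mul_cancel₀ _ hev]
  have hve : f v e = b := by rw [hf.herm, hev', hf.involutive]
  refine ⟨e, heX, b⁻¹ • (v - e), X.smul_mem _ (X.sub_mem hv heX), hee, ?_, ?_, ?_⟩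
  · rw [hf.smul_left, smul_right hf, sub_left hf, sub_right hf, sub_right hf, hee, hev', hve, ← hb]
    ring
  · rw [smul_right hf, sub_right hf, hev', hee, sub_zero, ← map_mul, inv_mul_cancel₀ hb0, map_one]
  · rw [smul_smul, mul_inv_cancel₀ hb0, one_smul, add_sub_cancel]

/-- Scaling an isotropic vector by a fixed element of σ inside a hyperbolic plane. -/
theorem exists_scale {e d : ι → F} (hee : f e e = 0) (hdd : f d d = 0) (hed : f e d = 1)
    (hK : ∀ v ∈ Submodule.span F ({e, d} : Set (ι → F)), ∀ (hv : f v v = 0) (c : F), σ c = -c →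
      htv hf v hv c ∈ K) {k : F} (hk0 : k ≠ 0) (hk : σ k = k) :
    ∃ g ∈ K, mv g e = k • e ∧ ∀ y, (∀ x ∈ Submodule.span F ({e, d} : Set (ι → F)), f y x = 0) → mv g y = y := by
  obtain ⟨t, ht0, ht⟩ := exists_anti hf.ne_refl hf.involutive
  set P := Submodule.span F ({e, d} : Set (ι → F)) with hP
  have me : e ∈ P := Submodule.subset_span (Set.mem_insert _ _)
  have md : d ∈ P := Submodule.subset_span (Set.mem_insert_of_mem _ rfl)
  have htd : f (t • d) (t • d) = 0 := by rw [hf.smul_left, smul_right hf, hdd, mul_zero, mul_zero]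
  have hke : f (k • e) (k • e) = 0 := by rw [hf.smul_left, smul_right hf, hee, mul_zero, mul_zero]
  have e1 : f e (t • d) = -t := by rw [smul_right hf, hed, mul_one, ht]
  have e2 : f (t • d) (k • e) = t * k := by
    rw [hf.smul_left, smul_right hf, hf.herm d e, hed, map_one, mul_one, hk]
  obtain ⟨hv1, hc1, hm1⟩ := htv_map hf hee htd (e1 ▸ neg_ne_zero.2 ht0) (by rw [e1, map_neg, ht])
  obtain ⟨hv2, hc2, hm2⟩ := htv_map hf htd hke (e2 ▸ mul_ne_zero ht0 hk0)
    (by rw [e2, map_mul, ht, hk, neg_mul])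
  refine ⟨_, K.mul_mem (hK _ (P.sub_mem (P.smul_mem _ me) (P.smul_mem _ md)) hv2 _ hc2)
    (hK _ (P.sub_mem (P.smul_mem _ md) me) hv1 _ hc1), by rw [mv_mul, hm1, hm2], fun y hy => ?_⟩
  rw [mv_mul, htv_fix hf _ _ _ (hy _ (P.sub_mem (P.smul_mem _ md) me)),
    htv_fix hf _ _ _ (hy _ (P.sub_mem (P.smul_mem _ me) (P.smul_mem _ md)))]

/-- A subgroup containing the unitary transvections contains the special unitary group. -/
theorem su_le {M : Subgroup (GL ι F)}
    (hM : ∀ (v : ι → F) (hv : f v v = 0) (c : F), σ c = -c → htv hf v hv c ∈ M)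
    (hn : Even (Fintype.card ι) ∨ 4 ≤ Fintype.card ι) :
    preserving (Units.coeHom (Matrix ι ι F)) f ⊓ Geo.specialLinear ι F ≤ M := by
  set S := preserving (Units.coeHom (Matrix ι ι F)) f ⊓ Geo.specialLinear ι F with hS
  have hKf : M ⊓ S ≤ preserving (Units.coeHom (Matrix ι ι F)) f := fun g hg => hg.2.1
  have hK : ∀ (v : ι → F) (hv : f v v = 0) (c : F), σ c = -c → htv hf v hv c ∈ M ⊓ S := fun v hv c hc =>
    ⟨hM v hv c hc, htv_mem hf v hv hc, htv_mem_specialLinear hf v hv c⟩
  have hn' : Module.finrank F (ι → F) = Fintype.card ι := Module.finrank_pi F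
  suffices H : ∀ (d : ℕ) (g : GL ι F) (U : Submodule F (ι → F)), Nondeg hf U → g ∈ S →
      (∀ u ∈ U, mv g u = u) → Module.finrank F U + 2 * d = Fintype.card ι → g ∈ M by
    intro g hg
    rcases Nat.even_or_odd' (Fintype.card ι) with ⟨d, hd | hd⟩
    · exact H d g ⊥ (nondeg_bot hf) hg (fun u hu => by rw [(Submodule.mem_bot F).1 hu, mv_zero])
        (by rw [finrank_bot, hd, zero_add])
    · have h4 : 4 ≤ Fintype.card ι := hn.resolve_left fun he => Nat.not_even_two_mul_add_one d (hd ▸ he)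
      have h4' : 4 ≤ Module.finrank F (⊤ : Submodule F (ι → F)) := by rw [finrank_top, hn']; exact h4
      have htop := nondeg_top hf
      obtain ⟨v, -, hvv⟩ := exists_anisotropic hf htop (fun h => by rw [h, finrank_bot] at h4'; omega)
      obtain ⟨b, hb⟩ := exists_trace hf.ne_refl hf.involutive (f v v) (self_fixed hf v)
      have hb0 : b ≠ 0 := fun h => hvv (by rw [← hb, h, map_zero, add_zero])
      have hgv : f (mv g v) (mv g v) = f v v := hg.1 v v
      obtain ⟨e, he, d₁, hd₁, hee, hdd, hed, hv⟩ :=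
        exists_norm_pair hf htop (by omega) (Submodule.mem_top (x := v)) hvv hb hb0
      obtain ⟨e', he', d', hd', hee', hdd', hed', hv'⟩ := exists_norm_pair hf htop (by omega)
        (Submodule.mem_top (x := mv g v)) (hgv ▸ hvv) (b := b) (by rw [hgv, hb]) hb0
      have ne0 : ∀ {x y : ι → F}, f x y = 1 → x ≠ 0 := fun h hx => by
        rw [hx, zero_left hf] at h; exact zero_ne_one h
      obtain ⟨h₁, hh₁, hh₁e, -⟩ := exists_move hf htop h4' (K := M ⊓ S) (fun v _ hv c hc => hK v hv c hc)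
        he' he (ne0 hed') (ne0 hed) hee' hee
      have hde : f e (mv h₁ d') = 1 := by
        have := hKf hh₁ e' d'
        change f (mv h₁ e') (mv h₁ d') = f e' d' at this
        rwa [hh₁e, hed'] at this
      obtain ⟨h₂, hh₂, hh₂e, hh₂d, -⟩ := exists_move_partner hf htop h4' (K := M ⊓ S)
        (fun v _ hv c hc => hK v hv c hc) hKf he Submodule.mem_top hd₁ hee
        (show f (mv h₁ d') (mv h₁ d') = 0 from (hKf hh₁ d' d').trans hdd') hdd hde hed
      have hfix : mv (h₂ * h₁ * g) v = v := by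
        rw [mv_mul, mv_mul, hv', mv_add, mv_smul, hh₁e, mv_add, mv_smul, hh₂e, hh₂d, hv]
      have := H d (h₂ * h₁ * g) (Submodule.span F {v}) (nondeg_span_single hf hvv)
        (S.mul_mem (S.mul_mem hh₂.2 hh₁.2) hg) (fun u hu => by
          obtain ⟨a, rfl⟩ := Submodule.mem_span_singleton.1 hu
          rw [mv_smul, hfix]) (by rw [finrank_span_single hf hvv, hd]; ring)
      have h3 := M.mul_mem (M.inv_mem (M.mul_mem hh₂.1 hh₁.1)) this
      rwa [mul_assoc h₂ h₁ g, show (h₂ * h₁)⁻¹ * (h₂ * (h₁ * g)) = g by group] at h3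
  intro d
  induction d with
  | zero =>
    intro g U _ _ hfix hU
    have hU' : U = ⊤ := Submodule.eq_top_of_finrank_eq (by rw [hn']; omega)
    subst hU'
    rw [show g = 1 from ext_mv fun x => by rw [hfix x Submodule.mem_top, mv_one]]
    exact M.one_mem
  | succ d ih =>
    intro g U hU hg hfix hUd
    set X := orth hf U with hXdef
    have hX : Nondeg hf X := nondeg_orth hf hU
    have hXdim : Module.finrank F X = 2 * (d + 1) := by
      have : Module.finrank F U + Module.finrank F X = Fintype.card ι := (finrank_orth_add hf hU).trans hn'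
      omega
    have horth : ∀ x ∈ X, mv g x ∈ X := fun x hx u hu => by
      have := hg.1 u x
      change f (mv g u) (mv g x) = f u x at this
      rwa [hfix u hu, hx u hu] at this
    obtain ⟨e, he, he0, hee⟩ := exists_isotropic hf hX (by omega)
    obtain ⟨d₁, hd₁, hed, hdd⟩ := exists_partner hf hX he he0 hee
    have hde : f d₁ e = 1 := by rw [hf.herm, hed, map_one]
    have hge : f (mv g e) (mv g e) = 0 := (hg.1 e e).trans hee
    have hgd : f (mv g d₁) (mv g d₁) = 0 := (hg.1 d₁ d₁).trans hdd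
    have hged : f (mv g e) (mv g d₁) = 1 := (hg.1 e d₁).trans hed
    have hfixX : ∀ u ∈ U, ∀ x ∈ X, f u x = 0 := fun u hu x hx => hx u hu
    -- finish once g fixes e and d₁
    have finish : ∀ h ∈ M ⊓ S, (∀ u ∈ U, mv h u = u) → mv h (mv g e) = e → mv h (mv g d₁) = d₁ →
        g ∈ M := by
      intro h hh hhU hhe hhd
      have hPU : Submodule.span F ({e, d₁} : Set (ι → F)) ≤ orth hf U :=
        Submodule.span_le.2 (by rintro v (rfl | rfl) <;> assumption)
      obtain ⟨hN, hNdim⟩ := nondeg_sup hf hU (nondeg_pair hf hee hdd hed).1 hPU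
      rw [(nondeg_pair hf hee hdd hed).2] at hNdim
      have := ih (h * g) _ hN (S.mul_mem hh.2 hg) ?_ (by omega)
      · simpa using M.mul_mem (M.inv_mem hh.1) this
      · intro x hx
        obtain ⟨u, hu, y, hy, rfl⟩ := Submodule.mem_sup.1 hx
        obtain ⟨a, b, rfl⟩ := Submodule.mem_span_pair.1 hy
        simp only [mv_mul, mv_add, mv_smul]
        rw [hfix u hu, hhU u hu, hhe, hhd]
    rcases Nat.eq_zero_or_pos d with hd0 | hdpos
    swap
    · obtain ⟨h₁, hh₁, hh₁e, hh₁f⟩ := exists_move hf hX (by omega) (K := M ⊓ S)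
        (fun v _ hv c hc => hK v hv c hc) (horth e he) he (fun h => he0 (mv_inj g (h.trans (mv_zero g).symm)))
        he0 hge hee
      have hd₂X : mv h₁ (mv g d₁) ∈ X := fun u hu => by
        have := hKf hh₁ u (mv g d₁)
        change f (mv h₁ u) (mv h₁ (mv g d₁)) = f u (mv g d₁) at this
        rwa [hh₁f u (fun x hx => hfixX u hu x hx), horth d₁ hd₁ u hu] at this
      have hed₂ : f e (mv h₁ (mv g d₁)) = 1 := by
        have := hKf hh₁ (mv g e) (mv g d₁)
        change f (mv h₁ (mv g e)) (mv h₁ (mv g d₁)) = f (mv g e) (mv g d₁) at this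
        rwa [hh₁e, hged] at this
      obtain ⟨h₂, hh₂, hh₂e, hh₂d, hh₂f⟩ := exists_move_partner hf hX (by omega) (K := M ⊓ S)
        (fun v _ hv c hc => hK v hv c hc) hKf he hd₂X hd₁ hee
        (show f (mv h₁ (mv g d₁)) (mv h₁ (mv g d₁)) = 0 from (hKf hh₁ _ _).trans hgd) hdd hed₂ hed
      exact finish (h₂ * h₁) (mul_mem hh₂ hh₁)
        (fun u hu => by rw [mv_mul, hh₁f u (fun x hx => hfixX u hu x hx), hh₂f u (fun x hx => hfixX u hu x hx)])
        (by rw [mv_mul, hh₁e, hh₂e]) (by rw [mv_mul, hh₂d])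
    -- the last plane
    subst hd0
    obtain ⟨hPn, hP2⟩ := nondeg_pair hf hee hdd hed
    have hXP : Submodule.span F ({e, d₁} : Set (ι → F)) = X :=
      Submodule.eq_of_le_of_finrank_eq (Submodule.span_le.2 (by rintro v (rfl | rfl) <;> assumption))
        (by rw [hP2, hXdim])
    have hKX : ∀ v ∈ Submodule.span F ({e, d₁} : Set (ι → F)), ∀ (hv : f v v = 0) (c : F), σ c = -c →
        htv hf v hv c ∈ M ⊓ S := fun v _ hv c hc => hK v hv c hc
    have fixU : ∀ u ∈ U, ∀ x ∈ Submodule.span F ({e, d₁} : Set (ι → F)), f u x = 0 := fun u hu x hx =>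
      hfixX u hu x (hXP ▸ hx)
    -- first send g e to a multiple of e
    obtain ⟨h₁, hh₁, hh₁U, lam, hh₁e⟩ : ∃ h ∈ M ⊓ S, (∀ u ∈ U, mv h u = u) ∧
        ∃ lam : F, mv h (mv g e) = lam • e := by
      obtain ⟨α, β, hαβ⟩ := Submodule.mem_span_pair.1 (hXP ▸ horth e he)
      by_cases hβ : β = 0
      · exact ⟨1, one_mem _, fun u _ => mv_one u, α, by rw [mv_one, ← hαβ, hβ, zero_smul, add_zero]⟩
      obtain ⟨t, ht0, ht⟩ := exists_anti hf.ne_refl hf.involutive
      set k := σ (t / β) with hk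
      have hke : f (k • e) (k • e) = 0 := by rw [hf.smul_left, smul_right hf, hee, mul_zero, mul_zero]
      have e1 : f (mv g e) (k • e) = t := by
        rw [smul_right hf, ← hαβ, hf.add_left, hf.smul_left, hf.smul_left, hee, hde, mul_zero, zero_add,
          mul_one, hk, hf.involutive, div_mul_cancel₀ _ hβ]
      obtain ⟨hv1, hc1, hm1⟩ := htv_map hf hge hke (e1 ▸ ht0) (by rw [e1, ht])
      refine ⟨_, hK _ hv1 _ hc1, fun u hu => htv_fix hf _ _ _ ?_, k, hm1⟩
      exact hfixX u hu _ (X.sub_mem (X.smul_mem _ he) (horth e he))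
    have hge₁ : ∀ x y, f (mv h₁ x) (mv h₁ y) = f x y := fun x y => hKf hh₁ x y
    have hd₂X : mv h₁ (mv g d₁) ∈ X := fun u hu => by
      have := hge₁ u (mv g d₁)
      rwa [hh₁U u hu, horth d₁ hd₁ u hu] at this
    obtain ⟨ν, μ, hνμ⟩ := Submodule.mem_span_pair.1 (hXP ▸ hd₂X)
    have hlm : lam * σ μ = 1 := by
      have := hge₁ (mv g e) (mv g d₁)
      rw [hh₁e, ← hνμ, hged, hf.smul_left, add_right hf, smul_right hf, smul_right hf, hee, hed] at this
      linear_combination this
    have hμ0 : μ ≠ 0 := fun h => by rw [h, map_zero, mul_zero] at hlm; exact zero_ne_one hlm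
    have hlam0 : lam ≠ 0 := fun h => by rw [h, zero_mul] at hlm; exact zero_ne_one hlm
    have hiso : ν * σ μ + μ * σ ν = 0 := by
      have := hge₁ (mv g d₁) (mv g d₁)
      rw [← hνμ, hgd, hf.add_left, add_right hf, add_right hf, hf.smul_left, hf.smul_left, hf.smul_left,
        hf.smul_left, smul_right hf, smul_right hf, smul_right hf, smul_right hf, hee, hdd, hed, hde] at this
      linear_combination this
    have hc : σ (-ν / μ) = -(-ν / μ) := by
      have hσμ : σ μ ≠ 0 := fun h => hμ0 ((map_eq_zero_iff σ σ.injective).1 h)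
      rw [map_div₀, map_neg]
      field_simp
      linear_combination -hiso
    set h₂ := htv hf e hee (-ν / μ) * h₁ with hh₂def
    have hh₂ : h₂ ∈ M ⊓ S := mul_mem (hK e hee _ hc) hh₁
    have hh₂U : ∀ u ∈ U, mv h₂ u = u := fun u hu => by
      rw [hh₂def, mv_mul, hh₁U u hu, htv_fix hf _ _ _ (hfixX u hu e he)]
    have hh₂e : mv h₂ (mv g e) = lam • e := by
      rw [hh₂def, mv_mul, hh₁e, htv_fix hf _ _ _ (by rw [hf.smul_left, hee, mul_zero])]
    have hh₂d : mv h₂ (mv g d₁) = μ • d₁ := by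
      rw [hh₂def, mv_mul, ← hνμ, mv_htv, hf.add_left, hf.smul_left, hf.smul_left, hee, hde, mul_zero,
        zero_add, mul_one, div_mul_cancel₀ _ hμ0]
      module
    -- the determinant
    have hdet : lam * μ = 1 := by
      have hmat : ((h₂ * g : GL ι F) : Matrix ι ι F) =
          tvMat e ((lam - 1) • formH hf d₁) * tvMat d₁ ((μ - 1) • formH hf e) := by
        refine Matrix.ext_of_mulVec_single fun i => ?_
        obtain ⟨u, hu, y, hy, hxy⟩ := Submodule.mem_sup.1
          ((sup_orth hf hU).symm ▸ Submodule.mem_top : (Pi.single i 1 : ι → F) ∈ U ⊔ orth hf U)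
        obtain ⟨a, b, rfl⟩ := Submodule.mem_span_pair.1
          (show y ∈ Submodule.span F ({e, d₁} : Set (ι → F)) by rw [hXP]; exact hy)
        rw [← hxy, ← Matrix.mulVec_mulVec, tvMat_mulVec, tvMat_mulVec]
        show mv (h₂ * g) _ = _
        simp only [mv_mul, mv_add, mv_smul]
        rw [hfix u hu, hh₂U u hu, hh₂e, hh₂d]
        simp only [LinearMap.smul_apply, formH_apply, smul_eq_mul, hf.add_left, hf.smul_left, hee, hdd, hed,
          hde, hfixX u hu e he, hfixX u hu d₁ hd₁, mul_zero, mul_one, zero_add, add_zero]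
        module
      have h1 : ((h₂ * g : GL ι F) : Matrix ι ι F).det = 1 := by
        rw [← Matrix.GeneralLinearGroup.val_det_apply, MonoidHom.mem_ker.1 (S.mul_mem hh₂.2 hg).2]; rfl
      rw [hmat, Matrix.det_mul, det_tvMat, det_tvMat, LinearMap.smul_apply, LinearMap.smul_apply,
        formH_apply, formH_apply, hed, hde] at h1
      simpa using h1
    have hμK : σ μ = μ := mul_left_cancel₀ hlam0 (hlm.trans hdet.symm)
    obtain ⟨h₃, hh₃, hh₃e, hh₃f⟩ := exists_scale hf hee hdd hed hKX hμ0 hμK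
    have hh₃d : ∃ a : F, mv h₃ d₁ = a • e + μ⁻¹ • d₁ ∧ a * μ + σ (a * μ) = 0 := by
      have hmem : mv h₃ d₁ ∈ X := fun u hu => by
        have := hKf hh₃ u d₁
        change f (mv h₃ u) (mv h₃ d₁) = f u d₁ at this
        rwa [hh₃f u (fixU u hu), hd₁ u hu] at this
      obtain ⟨a, b, hab⟩ := Submodule.mem_span_pair.1 (hXP ▸ hmem)
      have h1 := hKf hh₃ e d₁
      change f (mv h₃ e) (mv h₃ d₁) = f e d₁ at h1
      rw [hh₃e, ← hab, hf.smul_left, add_right hf, smul_right hf, smul_right hf, hee, hed] at h1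
      have hb : b = μ⁻¹ := by
        apply σ.injective
        rw [map_inv₀, hμK]
        exact eq_inv_of_mul_eq_one_right (by linear_combination h1)
      subst hb
      refine ⟨a, hab.symm, ?_⟩
      have h2 := hKf hh₃ d₁ d₁
      change f (mv h₃ d₁) (mv h₃ d₁) = f d₁ d₁ at h2
      rw [← hab, hdd, hf.add_left, add_right hf, add_right hf, hf.smul_left, hf.smul_left, hf.smul_left,
        hf.smul_left, smul_right hf, smul_right hf, smul_right hf, smul_right hf, hee, hdd, hed, hde,
        map_inv₀, hμK] at h2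
      rw [map_mul, hμK]
      field_simp at h2
      linear_combination h2
    obtain ⟨a, hh₃d, ha⟩ := hh₃d
    have hc' : σ (-(μ * a)) = -(-(μ * a)) := by rw [map_neg, mul_comm μ a]; linear_combination -ha
    refine finish (htv hf e hee (-(μ * a)) * (h₃ * h₂)) (mul_mem (hK e hee _ hc') (mul_mem hh₃ hh₂))
      (fun u hu => by rw [mv_mul, mv_mul, hh₂U u hu, hh₃f u (fixU u hu), htv_fix hf _ _ _ (hfixX u hu e he)]) ?_ ?_
    · rw [mv_mul, mv_mul, hh₂e, mv_smul, hh₃e, smul_smul, hdet, one_smul, htv_fix hf _ _ _ hee]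
    · rw [mv_mul, mv_mul, hh₂d, mv_smul, hh₃d, mv_htv, hf.smul_left, hf.add_left, hf.smul_left, hf.smul_left,
        hee, hde, mul_zero, zero_add, mul_one, mul_inv_cancel₀ hμ0, mul_one, smul_add, smul_smul, smul_smul,
        mul_inv_cancel₀ hμ0, one_smul]
      module

end Cfsg.Agent.Transvec.Herm
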