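/-
Maximality in the special unitary group of the stabilisers of totally singular and of non-degenerate subspaces.
-/
import Cfsg.Agent.Lib.Transvec.HermGen
set_option autoImplicit false

namespace Cfsg.Agent.Transvec.Herm

open scoped Matrix
open Matrix Cfsg.Agent.Transvec

variable {ι : Type} [Fintype ι] [DecidableEq ι] {F : Type*} [Field F]
variable {σ : F ≃+* F} {f : (ι → F) → (ι → F) → F} (hf : Geo.IsUnitaryForm σ f)
include hf

/-- Isotropic vectors all whose unitary transvections lie in M. -/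
def hCentres (M : Subgroup (GL ι F)) : Set (ι → F) :=
  {v | ∃ hv : f v v = 0, ∀ c : F, σ c = -c → htv hf v hv c ∈ M}

theorem hCentres_smul {M : Subgroup (GL ι F)} {v : ι → F} (hv : v ∈ hCentres hf M) (a : F) :
    a • v ∈ hCentres hf M := by
  obtain ⟨hv0, hv⟩ := hv
  refine ⟨by rw [hf.smul_left, smul_right hf, hv0, mul_zero, mul_zero], fun c hc => ?_⟩
  rw [htv_smul hf v hv0 a c]
  exact hv _ (by rw [map_mul, map_mul, hf.involutive, hc]; ring)

theorem hCentres_mv {M : Subgroup (GL ι F)} (hMf : M ≤ preserving (Units.coeHom (Matrix ι ι F)) f)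
    {g : GL ι F} (hg : g ∈ M) {v : ι → F} (hv : v ∈ hCentres hf M) : mv g v ∈ hCentres hf M := by
  obtain ⟨hv0, hv⟩ := hv
  refine ⟨(hMf hg v v).trans hv0, fun c hc => ?_⟩
  rw [← htv_conj hf (fun x y => hMf hg x y) v hv0 c]
  exact M.mul_mem (M.mul_mem hg (hv c hc)) (M.inv_mem hg)

theorem hCentres_add {M : Subgroup (GL ι F)} (hMf : M ≤ preserving (Units.coeHom (Matrix ι ι F)) f)
    {v w : ι → F} (hv : v ∈ hCentres hf M) (hw : w ∈ hCentres hf M) (h : f v w ≠ 0)
    (hiso : f (v + w) (v + w) = 0) : v + w ∈ hCentres hf M := by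
  obtain ⟨hw0, hwc⟩ := hw
  have ht : σ (f v w) = -f v w := by
    rw [hf.add_left, add_right hf, add_right hf, hv.1, hw0, zero_add, add_zero] at hiso
    rw [← hf.herm]
    linear_combination hiso
  have := hCentres_mv hf hMf (hwc (f v w)⁻¹ (by rw [map_inv₀, ht, inv_neg])) hv
  rwa [mv_htv, inv_mul_cancel₀ h, one_smul] at this

theorem eq_su [Finite F] {M : Subgroup (GL ι F)} (hn : 4 ≤ Fintype.card ι)
    (hMS : M ≤ preserving (Units.coeHom (Matrix ι ι F)) f ⊓ Geo.specialLinear ι F)
    (h : ∀ v, f v v = 0 → v ∈ hCentres hf M) :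
    M = preserving (Units.coeHom (Matrix ι ι F)) f ⊓ Geo.specialLinear ι F :=
  le_antisymm hMS (su_le hf (fun v hv c hc => (h v hv).2 c hc) (Or.inr hn))

theorem orth_span_single_mem {u v : ι → F} :
    v ∈ orth hf (Submodule.span F {u}) ↔ f u v = 0 := by
  refine ⟨fun h => h u (Submodule.mem_span_singleton_self u), fun h w hw => ?_⟩
  obtain ⟨a, rfl⟩ := Submodule.mem_span_singleton.1 hw
  rw [hf.smul_left, h, mul_zero]

/-- The element z ↦ z + f(z,u) y + (l f(z,u) − f(z,y)) u. -/
theorem exists_eichler {u y : ι → F} {l : F} (hu : f u u = 0) (hyu : f y u = 0) (hl : l + σ l + f y y = 0) :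
    ∃ g ∈ preserving (Units.coeHom (Matrix ι ι F)) f ⊓ Geo.specialLinear ι F,
      ∀ z, mv g z = z + f z u • y + (l * f z u - f z y) • u := by
  have h1 : formH hf u y = 0 := hyu
  have h2 : ((l + f y y) • formH hf u - formH hf y) u = 0 := by
    simp [formH_apply, hu, (f_eq_zero_comm hf).1 hyu]
  have hmv : ∀ z, mv (tv u ((l + f y y) • formH hf u - formH hf y) h2 * tv y (formH hf u) h1) z =
      z + f z u • y + (l * f z u - f z y) • u := by
    intro z
    rw [mv_mul, mv_tv, mv_tv]
    simp only [LinearMap.sub_apply, LinearMap.smul_apply, formH_apply, smul_eq_mul, hf.add_left,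
      hf.smul_left, hyu]
    module
  refine ⟨_, ⟨fun z z' => ?_, Subgroup.mul_mem _ (tv_mem_specialLinear _) (tv_mem_specialLinear _)⟩, hmv⟩
  change f (mv (tv u ((l + f y y) • formH hf u - formH hf y) h2 * tv y (formH hf u) h1) z)
    (mv (tv u ((l + f y y) • formH hf u - formH hf y) h2 * tv y (formH hf u) h1) z') = f z z'
  rw [hmv, hmv]
  simp only [hf.add_left, add_right hf, hf.smul_left, smul_right hf, map_sub, map_mul, hu, hyu,
    (f_eq_zero_comm hf).1 hyu]
  rw [hf.herm u z', hf.herm y z']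
  linear_combination (f z u * σ (f z' u)) * hl

theorem orth_orth {W : Submodule F (ι → F)} {x : ι → F} (h : ∀ y ∈ orth hf W, f x y = 0) : x ∈ W :=
  mem_of_orth_orth hf (nondeg_top hf) le_top Submodule.mem_top fun y hy => h y hy.2

variable [Finite F]

theorem stab_singular_maximal (hn : 4 ≤ Fintype.card ι) {W : Submodule F (ι → F)} (hW0 : W ≠ ⊥)
    (hW : Geo.IsTotallySingularFor f W) :
    Geo.IsMaximalIn (preserving (Units.coeHom (Matrix ι ι F)) f ⊓ Geo.specialLinear ι F)
      (Geo.subspaceStabilizer W ⊓ (preserving (Units.coeHom (Matrix ι ι F)) f ⊓ Geo.specialLinear ι F)) := by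
  have hnt : 2 ≤ Module.finrank F (⊤ : Submodule F (ι → F)) := by rw [finrank_top, Module.finrank_pi]; omega
  obtain ⟨t, ht0, ht⟩ := exists_anti hf.ne_refl hf.involutive
  refine ⟨?_, fun M hHM hMS => ?_⟩
  · obtain ⟨w, hw, hw0⟩ := W.ne_bot_iff.1 hW0
    obtain ⟨v, -, hvv, hvw⟩ := exists_isotropic_not_orth hf (nondeg_top hf) hnt (Submodule.mem_top (x := w)) hw0
    have hwv : f w v ≠ 0 := fun h => hvw ((f_eq_zero_comm hf).1 h)
    refine lt_of_le_of_ne inf_le_right fun he => ?_
    have h1 := mv_mem_of_mem_stab (he.ge ⟨htv_mem hf v hvv ht, htv_mem_specialLinear hf v hvv t⟩).1 hw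
    rw [mv_htv] at h1
    have h2 := W.smul_mem (t * f w v)⁻¹ (W.sub_mem h1 hw)
    rw [add_sub_cancel_left, smul_smul, inv_mul_cancel₀ (mul_ne_zero ht0 hwv), one_smul] at h2
    exact hwv (hW w hw v h2)
  have hMf : M ≤ preserving (Units.coeHom (Matrix ι ι F)) f := fun g hg => (hMS hg).1
  set C := hCentres hf M
  have hC1 : ∀ v ∈ orth hf W, f v v = 0 → v ∈ C := fun v hv hvv => ⟨hvv, fun c hc => hHM
    ⟨mem_subspaceStabilizer_of_le fun w hw => by rwa [htv_fix hf _ _ _ (hv w hw)],
      htv_mem hf v hvv hc, htv_mem_specialLinear hf v hvv c⟩⟩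
  by_cases hout : ∃ v ∈ C, v ∉ orth hf W
  · refine Or.inr (eq_su hf hn hMS fun x hxx => ?_)
    by_cases hxo : x ∈ orth hf W
    · exact hC1 x hxo hxx
    obtain ⟨v, hv, hvo⟩ := hout
    obtain ⟨u₁, hu₁, hu₁v⟩ : ∃ u ∈ W, f u v ≠ 0 := by
      by_contra h
      push Not at h
      exact hvo h
    obtain ⟨u₂, hu₂, hu₂x⟩ : ∃ u ∈ W, f u x ≠ 0 := by
      by_contra h
      push Not at h
      exact hxo h
    obtain ⟨u, hu, huv, hux⟩ : ∃ u ∈ W, f u v ≠ 0 ∧ f u x ≠ 0 := by
      by_cases h1 : f u₁ x = 0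
      · by_cases h2 : f u₂ v = 0
        · exact ⟨u₁ + u₂, W.add_mem hu₁ hu₂, by rw [hf.add_left, h2, add_zero]; exact hu₁v,
            by rw [hf.add_left, h1, zero_add]; exact hu₂x⟩
        · exact ⟨u₂, hu₂, h2, hu₂x⟩
      · exact ⟨u₁, hu₁, hu₁v, h1⟩
    have hvu : f v u ≠ 0 := fun h => huv ((f_eq_zero_comm hf).1 h)
    have hxu : f x u ≠ 0 := fun h => hux ((f_eq_zero_comm hf).1 h)
    set v' := (f x u / f v u) • v with hv'
    have hv'u : f v' u = f x u := by rw [hv', hf.smul_left, div_mul_cancel₀ _ hvu]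
    have hv'C : v' ∈ C := hCentres_smul hf hv _
    set y := (f x u)⁻¹ • (x - v') with hy
    have hyu : f y u = 0 := by rw [hy, hf.smul_left, sub_left hf, hv'u, sub_self, mul_zero]
    have hxx' : f v' v' = 0 := hv'C.1
    set a := f x u with ha
    have hσa : σ a ≠ 0 := fun h => hxu ((map_eq_zero_iff σ σ.injective).1 h)
    set l := f v' x / (a * σ a) with hl'
    have hl : l + σ l + f y y = 0 := by
      rw [hy, hf.smul_left, smul_right hf, sub_left hf, sub_right hf, sub_right hf, hxx, hxx', hl', map_div₀,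
        map_mul, hf.involutive, map_inv₀, hf.herm x v']
      field_simp
      ring
    obtain ⟨g, hg, hgz⟩ := exists_eichler hf (hW u hu u hu) hyu hl
    have hgM : g ∈ M := hHM ⟨mem_subspaceStabilizer_of_le fun w hw => by
      rw [hgz, hW w hw u hu, zero_smul, add_zero, mul_zero, zero_sub]
      exact W.add_mem hw (W.smul_mem _ hu), hg⟩
    have := hCentres_mv hf hMf hgM hv'C
    have hgv : mv g v' = x := by
      have hv'y : f v' y = (σ a)⁻¹ * f v' x := by
        rw [hy, smul_right hf, sub_right hf, hxx', sub_zero, map_inv₀]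
      rw [hgz, hv'u, hv'y, hl', show f v' x / (a * σ a) * a - (σ a)⁻¹ * f v' x = 0 by field_simp; ring,
        zero_smul, add_zero, hy, smul_smul, mul_inv_cancel₀ hxu, one_smul, add_sub_cancel]
    rwa [hgv] at this
  · refine Or.inl (le_antisymm (fun g hg => ⟨?_, hMS hg⟩) hHM)
    push Not at hout
    set S := Submodule.span F {v | v ∈ orth hf W ∧ f v v = 0} with hS
    have hgS : ∀ g ∈ M, ∀ x ∈ S, mv g x ∈ S := by
      intro g hg x hx
      induction hx using Submodule.span_induction with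
      | mem v hv =>
        have := hCentres_mv hf hMf hg (hC1 v hv.1 hv.2)
        exact Submodule.subset_span ⟨hout _ this, this.1⟩
      | zero => rw [mv_zero]; exact S.zero_mem
      | add a b _ _ iha ihb => rw [mv_add]; exact S.add_mem iha ihb
      | smul c a _ iha => rw [mv_smul]; exact S.smul_mem c iha
    have hWS : W ≤ S := fun w hw =>
      Submodule.subset_span ⟨fun u hu => hW u hu w hw, hW w hw w hw⟩
    have hSW : S ≤ orth hf W := Submodule.span_le.2 fun v hv => hv.1
    have key : ∀ x ∈ S, (∀ z ∈ S, f x z = 0) → x ∈ W := by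
      intro x hx hxS
      refine orth_orth hf fun y hy => ?_
      by_contra hxy
      have hxx : f x x = 0 := hxS x hx
      obtain ⟨b, hb⟩ := exists_trace hf.ne_refl hf.involutive (-f y y) (by rw [map_neg, self_fixed hf])
      have hz : y + (b / f x y) • x ∈ S := Submodule.subset_span ⟨Submodule.add_mem _ hy
        (Submodule.smul_mem _ _ (hSW hx)), by
          simp only [hf.add_left, add_right hf, hf.smul_left, smul_right hf, hxx, mul_zero, add_zero]
          rw [hf.herm y x, ← map_mul, div_mul_cancel₀ _ hxy]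
          linear_combination hb⟩
      have := hxS _ hz
      rw [add_right hf, smul_right hf, hxx, mul_zero, add_zero] at this
      exact hxy this
    refine mem_subspaceStabilizer_of_le fun w hw => key _ (hgS g hg w (hWS hw)) fun z hz => ?_
    have h1 := hgS g⁻¹ (M.inv_mem hg) z hz
    have := hMf hg w (mv g⁻¹ z)
    change f (mv g w) (mv g (mv g⁻¹ z)) = f w (mv g⁻¹ z) at this
    rw [mv_mv_inv] at this
    rw [this]
    exact hSW h1 w hw

/-- Two vectors of equal norm in a non-degenerate subspace of dimension at least four are conjugate. -/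
theorem exists_move_norm {X : Submodule F (ι → F)} (hX : Nondeg hf X) (h4 : 4 ≤ Module.finrank F X)
    {K : Subgroup (GL ι F)} (hK : ∀ v ∈ X, ∀ (hv : f v v = 0) (c : F), σ c = -c → htv hf v hv c ∈ K)
    (hKf : K ≤ preserving (Units.coeHom (Matrix ι ι F)) f) {u w : ι → F} (hu : u ∈ X) (hw : w ∈ X)
    (hu0 : u ≠ 0) (hw0 : w ≠ 0) (h : f u u = f w w) :
    ∃ g ∈ K, mv g u = w ∧ ∀ y, (∀ x ∈ X, f y x = 0) → mv g y = y := by
  by_cases hu' : f u u = 0
  · exact exists_move hf hX h4 hK hu hw hu0 hw0 hu' (h ▸ hu')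
  obtain ⟨b, hb⟩ := exists_trace hf.ne_refl hf.involutive (f u u) (self_fixed hf u)
  have hb0 : b ≠ 0 := fun h => hu' (by rw [← hb, h, map_zero, add_zero])
  obtain ⟨e, he, d, hd, hee, hdd, hed, rfl⟩ := exists_norm_pair hf hX (by omega) hu hu' hb hb0
  obtain ⟨e', he', d', hd', hee', hdd', hed', rfl⟩ :=
    exists_norm_pair hf hX (by omega) hw (h ▸ hu') (b := b) (by rw [hb, h]) hb0
  have ne0 : ∀ {x y : ι → F}, f x y = 1 → x ≠ 0 := fun h hx => by
    rw [hx, zero_left hf] at h; exact zero_ne_one h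
  obtain ⟨g, hg, hge, hgf⟩ := exists_move hf hX h4 hK he he' (ne0 hed) (ne0 hed') hee hee'
  have hgdX : mv g d ∈ X := by
    by_contra hnot
    apply hnot
    refine mem_of_orth_orth hf (nondeg_top hf) le_top Submodule.mem_top fun y hy => ?_
    have hyfix : mv g y = y := hgf y fun x hx => (f_eq_zero_comm hf).1 (hy.2 x hx)
    have h1 := hKf hg d y
    change f (mv g d) (mv g y) = f d y at h1
    rw [hyfix, hy.2 d hd] at h1
    exact h1
  obtain ⟨k, hk, hke, hkd, hkf⟩ := exists_move_partner hf hX h4 hK hKf he' hgdX hd' hee'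
    (show f (mv g d) (mv g d) = 0 from (hKf hg d d).trans hdd) hdd'
    (by have h1 := hKf hg e d; change f (mv g e) (mv g d) = f e d at h1; rwa [hge, hed] at h1) hed'
  exact ⟨k * g, K.mul_mem hk hg, by rw [mv_mul, mv_add, mv_smul, hge, mv_add, mv_smul, hke, hkd],
    fun y hy => by rw [mv_mul, hgf y hy, hkf y hy]⟩

/-- A non-zero vector of any fixed norm in a non-degenerate subspace of dimension at least two. -/
theorem exists_norm_vector {X : Submodule F (ι → F)} (hX : Nondeg hf X) (h2 : 2 ≤ Module.finrank F X)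
    {a : F} (ha : σ a = a) : ∃ y ∈ X, y ≠ 0 ∧ f y y = a := by
  obtain ⟨e, he, he0, hee⟩ := exists_isotropic hf hX h2
  obtain ⟨d, hd, hed, hdd⟩ := exists_partner hf hX he he0 hee
  have hde : f d e = 1 := by rw [hf.herm, hed, map_one]
  obtain ⟨b, hb⟩ := exists_trace hf.ne_refl hf.involutive a ha
  refine ⟨e + b • d, X.add_mem he (X.smul_mem _ hd), fun h => ?_, ?_⟩
  · have := congrArg (fun v => f v d) h
    simp only [hf.add_left, hf.smul_left, hed, hdd, mul_zero, add_zero, zero_left hf] at this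
    exact one_ne_zero this
  · simp only [hf.add_left, add_right hf, hf.smul_left, smul_right hf, hee, hdd, hed, hde, mul_one,
      mul_zero, add_zero, zero_add]
    rw [← hb]; ring

/-- A vector with prescribed norm and prescribed product with b, independent of b. -/
theorem exists_norm_prod {X : Submodule F (ι → F)} (hX : Nondeg hf X) (h4 : 4 ≤ Module.finrank F X)
    {b : ι → F} (hb : b ∈ X) (hb0 : b ≠ 0) {N s : F} (hN : σ N = N) :
    ∃ b₁ ∈ X, f b₁ b₁ = N ∧ f b₁ b = s ∧ b₁ ≠ 0 ∧ b₁ ≠ b := by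
  -- b lies in a hyperbolic plane
  obtain ⟨e, he, d, hd, hee, hdd, hed, β, γ, hbed⟩ : ∃ e ∈ X, ∃ d ∈ X, f e e = 0 ∧ f d d = 0 ∧ f e d = 1 ∧
      ∃ β γ : F, b = γ • e + β • d := by
    by_cases hbb : f b b = 0
    · obtain ⟨d, hd, hbd, hdd⟩ := exists_partner hf hX hb hb0 hbb
      exact ⟨b, hb, d, hd, hbb, hdd, hbd, 0, 1, by simp⟩
    · obtain ⟨β, hβ⟩ := exists_trace hf.ne_refl hf.involutive (f b b) (self_fixed hf b)
      have hβ0 : β ≠ 0 := fun h => hbb (by rw [← hβ, h, map_zero, add_zero])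
      obtain ⟨e, he, d, hd, hee, hdd, hed, h⟩ := exists_norm_pair hf hX (by omega) hb hbb hβ hβ0
      exact ⟨e, he, d, hd, hee, hdd, hed, β, 1, by rw [h, one_smul]⟩
  have hde : f d e = 1 := by rw [hf.herm, hed, map_one]
  obtain ⟨hP, hP2⟩ := nondeg_pair hf hee hdd hed
  set Y := X ⊓ orth hf (Submodule.span F ({e, d} : Set (ι → F))) with hY
  have hY2 : 2 ≤ Module.finrank F Y := by
    have h := finrank_inf_orth_add hf hP (Submodule.span_le.2 (by rintro v (rfl | rfl) <;> assumption) :
      Submodule.span F ({e, d} : Set (ι → F)) ≤ X)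
    rw [hP2] at h
    change 2 + Module.finrank F Y = _ at h
    omega
  have hYn : Nondeg hf Y := nondeg_inf_orth hf hP hX (Submodule.span_le.2 (by rintro v (rfl | rfl) <;> assumption))
  obtain ⟨p, hp, hps, hpd⟩ : ∃ p ∈ Submodule.span F ({e, d} : Set (ι → F)),
      f p b = s ∧ σ (f p p) = f p p := by
    by_cases hβ : β = 0
    · have hγ : σ γ ≠ 0 := fun h => hb0 (by
        rw [hbed, hβ, (map_eq_zero_iff σ σ.injective).1 h]; simp)
      refine ⟨(s / σ γ) • d, Submodule.smul_mem _ _ (Submodule.subset_span (Set.mem_insert_of_mem _ rfl)), ?_,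
        self_fixed hf _⟩
      rw [hbed, hβ, hf.smul_left, add_right hf, smul_right hf, smul_right hf, hde, hdd, mul_zero, add_zero,
        mul_one, div_mul_cancel₀ _ hγ]
    · have hβ' : σ β ≠ 0 := fun h => hβ ((map_eq_zero_iff σ σ.injective).1 h)
      refine ⟨(s / σ β) • e, Submodule.smul_mem _ _ (Submodule.subset_span (Set.mem_insert _ _)), ?_,
        self_fixed hf _⟩
      rw [hbed, hf.smul_left, add_right hf, smul_right hf, smul_right hf, hed, hee, mul_zero, zero_add,
        mul_one, div_mul_cancel₀ _ hβ']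
  obtain ⟨y, hy, hy0, hyy⟩ := exists_norm_vector hf hYn hY2 (a := N - f p p) (by rw [map_sub, hN, hpd])
  have hyp : ∀ q ∈ Submodule.span F ({e, d} : Set (ι → F)), f q y = 0 := fun q hq => hy.2 q hq
  have hbP : b ∈ Submodule.span F ({e, d} : Set (ι → F)) := Submodule.mem_span_pair.2 ⟨γ, β, hbed.symm⟩
  have hind : ∀ q ∈ Submodule.span F ({e, d} : Set (ι → F)), p + y ≠ q := fun q hq h => by
    have hyP : y ∈ Submodule.span F ({e, d} : Set (ι → F)) := by
      have h5 := Submodule.sub_mem _ (show p + y ∈ _ from h ▸ hq) hp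
      rwa [add_sub_cancel_left] at h5
    exact hy0 (by
      have : y ∈ Submodule.span F ({e, d} : Set (ι → F)) ⊓ orth hf (Submodule.span F ({e, d} : Set (ι → F))) :=
        ⟨hyP, hy.2⟩
      rwa [hP, Submodule.mem_bot] at this)
  refine ⟨p + y, X.add_mem ((Submodule.span_le.2 (by rintro v (rfl | rfl) <;> assumption)) hp) hy.1, ?_, ?_,
    hind 0 (Submodule.zero_mem _), hind b hbP⟩
  · rw [hf.add_left, add_right hf, add_right hf, hyp p hp, (f_eq_zero_comm hf).1 (hyp p hp), hyy]
    ring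
  · rw [hf.add_left, hps, (f_eq_zero_comm hf).1 (hyp b hbP), add_zero]

theorem exists_norm_one_ne : ∃ η : F, η * σ η = 1 ∧ η ≠ 1 := by
  obtain ⟨a, ha⟩ : ∃ a, σ a ≠ a := by
    by_contra h
    push Not at h
    exact hf.ne_refl (RingEquiv.ext h)
  have ha0 : a ≠ 0 := fun h => ha (by rw [h, map_zero])
  have hσa : σ a ≠ 0 := fun h => ha0 ((map_eq_zero_iff σ σ.injective).1 h)
  refine ⟨a / σ a, ?_, fun h => ha ((div_eq_one_iff_eq hσa).1 h).symm⟩
  rw [map_div₀, hf.involutive]
  field_simp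

/-- A pair of opposite pseudo-reflections at two orthogonal anisotropic vectors. -/
theorem exists_double_refl {w w' : ι → F} (hw : f w w ≠ 0) (hw' : f w' w' ≠ 0) (hww : f w w' = 0)
    {η : F} (hη : η * σ η = 1) :
    ∃ g ∈ preserving (Units.coeHom (Matrix ι ι F)) f ⊓ Geo.specialLinear ι F, ∀ z,
      mv g z = z + ((η - 1) / f w w * f z w) • w + ((σ η - 1) / f w' w' * f z w') • w' := by
  set A := tvMat w (((η - 1) / f w w) • formH hf w) * tvMat w' (((σ η - 1) / f w' w') • formH hf w') with hA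
  have hdet : A.det = 1 := by
    rw [hA, Matrix.det_mul, det_tvMat, det_tvMat, LinearMap.smul_apply, LinearMap.smul_apply, formH_apply,
      formH_apply, smul_eq_mul, smul_eq_mul, div_mul_cancel₀ _ hw, div_mul_cancel₀ _ hw']
    linear_combination hη
  have hmv : ∀ z, A *ᵥ z = z + ((η - 1) / f w w * f z w) • w + ((σ η - 1) / f w' w' * f z w') • w' := by
    intro z
    rw [hA, ← Matrix.mulVec_mulVec, tvMat_mulVec, tvMat_mulVec]
    simp only [LinearMap.smul_apply, formH_apply, smul_eq_mul, hf.add_left, hf.smul_left,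
      (f_eq_zero_comm hf).1 hww]
    module
  refine ⟨Matrix.GeneralLinearGroup.mkOfDetNeZero A (hdet ▸ one_ne_zero), ⟨fun z z' => ?_, ?_⟩, hmv⟩
  · change f (A *ᵥ z) (A *ᵥ z') = f z z'
    rw [hmv, hmv]
    simp only [hf.add_left, add_right hf, hf.smul_left, smul_right hf, hww, (f_eq_zero_comm hf).1 hww,
      map_mul, map_div₀, map_sub, map_one, hf.involutive, self_fixed hf w, self_fixed hf w']
    rw [hf.herm w z', hf.herm w' z']
    field_simp
    linear_combination (f z w * σ (f z' w) * f w' w') * hη + (f z w' * σ (f z' w') * f w w) * hη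
  · refine MonoidHom.mem_ker.2 (Units.ext ?_)
    rw [Matrix.GeneralLinearGroup.val_det_apply]
    exact hdet

theorem stab_nondeg_maximal (hn : 6 ≤ Fintype.card ι) {W : Submodule F (ι → F)} (hW0 : W ≠ ⊥)
    (hW : Geo.IsNondegenerateOn f W) (hdim : 2 * Module.finrank F W < Fintype.card ι) :
    Geo.IsMaximalIn (preserving (Units.coeHom (Matrix ι ι F)) f ⊓ Geo.specialLinear ι F)
      (Geo.subspaceStabilizer W ⊓ (preserving (Units.coeHom (Matrix ι ι F)) f ⊓ Geo.specialLinear ι F)) := by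
  have hN : Nondeg hf W := (nondeg_iff hf).2 fun u hu h => by
    by_contra hu0
    obtain ⟨x, hx, hxu⟩ := (hW u hu hu0).1
    exact hxu (h x hx)
  set X := orth hf W with hX'
  have hX : Nondeg hf X := nondeg_orth hf hN
  have hsum : Module.finrank F W + Module.finrank F X = Fintype.card ι :=
    (finrank_orth_add hf hN).trans (Module.finrank_pi F)
  have hX4 : 4 ≤ Module.finrank F X := by omega
  have hWX : ∀ {x}, x ∈ W → x ∈ X → x = 0 := fun {x} h1 h2 => by
    have : x ∈ W ⊓ orth hf W := ⟨h1, h2⟩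
    rwa [hN, Submodule.mem_bot] at this
  obtain ⟨t, ht0, ht⟩ := exists_anti hf.ne_refl hf.involutive
  refine ⟨?_, fun M hHM hMS => ?_⟩
  · obtain ⟨w, hw, hww⟩ := exists_anisotropic hf hN hW0
    obtain ⟨b, hb, hb0, hbb⟩ := exists_norm_vector hf hX (by omega) (a := -f w w) (by rw [map_neg, self_fixed hf])
    have hwb : f w b = 0 := hb w hw
    have hv : f (w + b) (w + b) = 0 := by
      rw [hf.add_left, add_right hf, add_right hf, hwb, (f_eq_zero_comm hf).1 hwb, hbb]; ring
    refine lt_of_le_of_ne inf_le_right fun he => hb0 ?_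
    have h1 := mv_mem_of_mem_stab (he.ge ⟨htv_mem hf _ hv ht, htv_mem_specialLinear hf _ hv t⟩).1 hw
    rw [mv_htv, add_right hf, hwb, add_zero] at h1
    have h2 := W.smul_mem (t * f w w)⁻¹ (W.sub_mem h1 hw)
    rw [add_sub_cancel_left, smul_smul, inv_mul_cancel₀ (mul_ne_zero ht0 hww), one_smul] at h2
    exact hWX (by simpa using W.sub_mem h2 hw) hb
  have hMf : M ≤ preserving (Units.coeHom (Matrix ι ι F)) f := fun g hg => (hMS hg).1
  set C := hCentres hf M
  have hC1 : ∀ v, (v ∈ W ∨ v ∈ X) → f v v = 0 → v ∈ C := fun v hv hvv => ⟨hvv, fun c hc => hHM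
    ⟨mem_subspaceStabilizer_of_le fun w hw => by
      rcases hv with hv | hv
      · rw [mv_htv]; exact W.add_mem hw (W.smul_mem _ hv)
      · rwa [htv_fix hf _ _ _ (hv w hw)], htv_mem hf v hvv hc, htv_mem_specialLinear hf v hvv c⟩⟩
  by_cases hmix : ∃ v ∈ C, v ∉ W ∧ v ∉ X
  swap
  · refine Or.inl (le_antisymm (fun g hg => ⟨?_, hMS hg⟩) hHM)
    push Not at hmix
    have hside : ∀ v, v ∈ X → f v v = 0 → mv g v ∈ W ∨ mv g v ∈ X := fun v hv hvv => by
      have := hCentres_mv hf hMf hg (hC1 v (Or.inr hv) hvv)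
      by_cases h : mv g v ∈ W
      · exact Or.inl h
      · exact Or.inr (hmix _ this h)
    have hgf : ∀ a b, f (mv g a) (mv g b) = f a b := fun a b => hMf hg a b
    have conn : ∀ a b, a ∈ X → b ∈ X → f a a = 0 → f b b = 0 → f a b ≠ 0 → mv g a ∈ W → mv g b ∈ W := by
      intro a b ha hb haa hbb hab hga
      refine (hside b hb hbb).resolve_right fun h => hab ?_
      rw [← hgf]
      exact h _ hga
    have hinj : Function.Injective (mvLin g) := fun x y h => mv_inj g (by simpa using h)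
    have hle : ∀ {T : Submodule F (ι → F)}, (∀ u ∈ X, mv g u ∈ T) →
        Module.finrank F X ≤ Module.finrank F T := by
      intro T h
      rw [LinearEquiv.finrank_eq (Submodule.equivMapOfInjective (mvLin g) hinj X)]
      refine Submodule.finrank_mono ?_
      rintro x ⟨u, hu, rfl⟩
      simpa using h u hu
    have hspan : ∀ T : Submodule F (ι → F), (∀ v ∈ X, f v v = 0 → mv g v ∈ T) → ∀ u ∈ X, mv g u ∈ T := by
      intro T hT u hu
      have hspn := isotropic_span hf hX (by omega) hu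
      clear hu
      induction hspn using Submodule.span_induction with
      | mem v hv => exact hT v hv.1 hv.2
      | zero => rw [mv_zero]; exact T.zero_mem
      | add a b _ _ iha ihb => rw [mv_add]; exact T.add_mem iha ihb
      | smul c a _ iha => rw [mv_smul]; exact T.smul_mem c iha
    by_cases hone : ∃ a ∈ X, f a a = 0 ∧ a ≠ 0 ∧ mv g a ∈ W
    · exfalso
      obtain ⟨a, ha, haa, ha0, hga⟩ := hone
      have hall : ∀ v ∈ X, f v v = 0 → mv g v ∈ W := by
        intro v hv hvv
        rcases eq_or_ne v 0 with rfl | hv0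
        · rw [mv_zero]; exact W.zero_mem
        obtain ⟨d, hd, had, hdd⟩ := exists_partner hf hX ha ha0 haa
        have hgd := conn a d ha hd haa hdd (by rw [had]; exact one_ne_zero) hga
        have hd0 : d ≠ 0 := fun h => by rw [h, zero_right hf] at had; exact zero_ne_one had
        by_cases hk : ∃ k : F, v = k • a
        · obtain ⟨k, rfl⟩ := hk
          rw [mv_smul]; exact W.smul_mem k hga
        push Not at hk
        obtain ⟨z, hz, hzz, haz, hvz⟩ := exists_common hf hX hX4 ha hv ha0 hk ht0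
        exact conn z v hz hv hzz hvv (fun h => ht0 (hvz ▸ (f_eq_zero_comm hf).1 h))
          (conn a z ha hz haa hzz (haz ▸ ht0) hga)
      have := hle (hspan W hall)
      omega
    push Not at hone
    refine mem_subspaceStabilizer_of_le fun w hw => orth_orth hf fun y hy => ?_
    have hmap : X.map (mvLin g) = X := by
      refine Submodule.eq_of_le_of_finrank_eq ?_
        (LinearEquiv.finrank_eq (Submodule.equivMapOfInjective (mvLin g) hinj X)).symm
      rintro _ ⟨u, hu, rfl⟩
      rw [Matrix.toLin'_apply]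
      refine hspan X (fun v hv hvv => ?_) u hu
      rcases eq_or_ne v 0 with rfl | hv0
      · rw [mv_zero]; exact X.zero_mem
      · exact (hside v hv hvv).resolve_left (hone v hv hvv hv0)
    obtain ⟨u, hu, rfl⟩ := hmap.ge hy
    rw [Matrix.toLin'_apply]
    exact (hgf w u).trans (hu w hw)
  refine Or.inr (eq_su hf (by omega) hMS ?_)
  set K := M ⊓ preserving (Units.coeHom (Matrix ι ι F)) f with hK'
  have hK : ∀ v ∈ X, ∀ (hv : f v v = 0) (c : F), σ c = -c → htv hf v hv c ∈ K := fun v hv hvv c hc =>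
    ⟨(hC1 v (Or.inr hv) hvv).2 c hc, htv_mem hf v hvv hc⟩
  -- the first components of the centres
  set S : Set (ι → F) := {a | a ∈ W ∧ ∀ b ∈ X, b ≠ 0 → f (a + b) (a + b) = 0 → a + b ∈ C} with hS
  have horth : ∀ {a b}, a ∈ W → b ∈ X → f a b = 0 ∧ f b a = 0 := fun {a b} ha hb =>
    ⟨hb a ha, (f_eq_zero_comm hf).1 (hb a ha)⟩
  have norm_add : ∀ {a b}, a ∈ W → b ∈ X → f (a + b) (a + b) = f a a + f b b := fun {a b} ha hb => by
    rw [hf.add_left, add_right hf, add_right hf, (horth ha hb).1, (horth ha hb).2]; ring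
  have hSwit : ∀ a b, a ∈ W → b ∈ X → b ≠ 0 → a + b ∈ C → a ∈ S := by
    intro a b ha hb hb0 hab
    refine ⟨ha, fun b' hb' hb'0 hiso => ?_⟩
    have e1 := hab.1
    rw [norm_add ha hb] at e1
    rw [norm_add ha hb'] at hiso
    obtain ⟨g, hg, hgb, hgf⟩ := exists_move_norm hf hX hX4 hK inf_le_right hb hb' hb0 hb'0
      (by linear_combination e1 - hiso)
    have := hCentres_mv hf hMf hg.1 hab
    rwa [mv_add, hgb, hgf a fun x hx => hx a ha] at this
  have hS0 : (0 : ι → F) ∈ S := ⟨W.zero_mem, fun b hb _ hiso => by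
    rw [zero_add] at hiso ⊢; exact hC1 b (Or.inr hb) hiso⟩
  have hSsmul : ∀ k : F, ∀ a ∈ S, k • a ∈ S := by
    intro k a ha
    rcases eq_or_ne k 0 with rfl | hk
    · rw [zero_smul]; exact hS0
    refine ⟨W.smul_mem k ha.1, fun b hb hb0 hiso => ?_⟩
    have e : k • a + b = k • (a + k⁻¹ • b) := by rw [smul_add, smul_smul, mul_inv_cancel₀ hk, one_smul]
    rw [e] at hiso ⊢
    refine hCentres_smul hf (ha.2 _ (X.smul_mem _ hb) (smul_ne_zero (inv_ne_zero hk) hb0) ?_) k
    rw [hf.smul_left, smul_right hf, ← mul_assoc] at hiso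
    exact (mul_eq_zero.1 hiso).resolve_left
      (mul_ne_zero hk fun h => hk ((map_eq_zero_iff σ σ.injective).1 h))
  have hSadd : ∀ a ∈ S, ∀ a' ∈ S, a + a' ∈ S := by
    intro a ha a' ha'
    refine ⟨W.add_mem ha.1 ha'.1, fun b hb hb0 hiso => ?_⟩
    -- split b
    obtain ⟨s₀, hs₀⟩ := exists_trace hf.ne_refl hf.involutive (f b b - f a a + f a' a')
      (by rw [map_add, map_sub, self_fixed hf, self_fixed hf, self_fixed hf])
    obtain ⟨s, hs, hs'⟩ : ∃ s, s + σ s = f b b - f a a + f a' a' ∧ f a a' + s + f a a ≠ 0 := by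
      by_cases h : f a a' + s₀ + f a a = 0
      · exact ⟨s₀ + t, by rw [map_add, ht]; linear_combination hs₀, fun h' => ht0 (by linear_combination h' - h)⟩
      · exact ⟨s₀, hs₀, h⟩
    obtain ⟨b₁, hb₁, hb₁n, hb₁b, hb₁0, hb₁b'⟩ := exists_norm_prod hf hX hX4 hb hb0 (N := -f a a) (s := s)
      (by rw [map_neg, self_fixed hf])
    have hbb₁ : f b b₁ = σ s := by rw [hf.herm, hb₁b]
    have i1 : f (a + b₁) (a + b₁) = 0 := by rw [norm_add ha.1 hb₁, hb₁n, add_neg_cancel]
    have i2 : f (a' + (b - b₁)) (a' + (b - b₁)) = 0 := by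
      rw [norm_add ha'.1 (X.sub_mem hb hb₁), sub_left hf, sub_right hf, sub_right hf, hb₁n, hb₁b, hbb₁]
      linear_combination -hs
    have := hCentres_add hf hMf (ha.2 b₁ hb₁ hb₁0 i1)
      (ha'.2 (b - b₁) (X.sub_mem hb hb₁) (sub_ne_zero.2 (Ne.symm hb₁b')) i2) ?_
      (by rwa [show a + b₁ + (a' + (b - b₁)) = a + a' + b by abel])
    · rwa [show a + b₁ + (a' + (b - b₁)) = a + a' + b by abel] at this
    · rw [hf.add_left, add_right hf, add_right hf, (horth ha.1 (X.sub_mem hb hb₁)).1, (horth ha'.1 hb₁).2,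
        sub_right hf, hb₁b, hb₁n]
      intro h
      exact hs' (by linear_combination h)
  let T : Submodule F (ι → F) :=
    { carrier := S
      add_mem' := fun ha hb => hSadd _ ha _ hb
      zero_mem' := hS0
      smul_mem' := fun k a ha => hSsmul k a ha }
  -- T is invariant under the isometries of W coming from H
  have hTinv : ∀ w ∈ W, w ∈ T ∨ ∀ a ∈ T, f a w = 0 := by
    intro w hw
    by_contra h
    push Not at h
    obtain ⟨hwT, a, ha, haw⟩ := h
    apply hwT
    obtain ⟨g, hgM, k, hk, hgX, hga⟩ : ∃ g ∈ M, ∃ k : F, k ≠ 0 ∧ (∀ b ∈ X, mv g b ∈ X) ∧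
        mv g a = a + k • w := by
      by_cases hww : f w w = 0
      · exact ⟨_, (hC1 w (Or.inl hw) hww).2 t ht, t * f a w, mul_ne_zero ht0 haw,
          fun b hb => by rwa [htv_fix hf _ _ _ ((horth hw hb).2)], mv_htv hf w hww t a⟩
      obtain ⟨w', hw', -, hw'w'⟩ := exists_norm_vector hf hX (by omega) (a := f w w) (self_fixed hf w)
      obtain ⟨η, hη, hη1⟩ := exists_norm_one_ne hf
      obtain ⟨g, hg, hgz⟩ := exists_double_refl hf hww (hw'w' ▸ hww) (horth hw hw').1 hη
      refine ⟨g, hHM ⟨mem_subspaceStabilizer_of_le fun u hu => ?_, hg⟩, (η - 1) / f w w * f a w,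
        mul_ne_zero (div_ne_zero (sub_ne_zero.2 hη1) hww) haw, fun b hb => ?_, ?_⟩
      · rw [hgz, (horth hu hw').1, mul_zero, zero_smul, add_zero]
        exact W.add_mem hu (W.smul_mem _ hw)
      · rw [hgz, (horth hw hb).2, mul_zero, zero_smul, add_zero]
        exact X.add_mem hb (X.smul_mem _ hw')
      · rw [hgz, (horth ha.1 hw').1, mul_zero, zero_smul, add_zero]
    obtain ⟨b, hb, hb0, hbb⟩ := exists_norm_vector hf hX (by omega) (a := -f a a) (by rw [map_neg, self_fixed hf])
    have hab : a + b ∈ C := ha.2 b hb hb0 (by rw [norm_add ha.1 hb, hbb, add_neg_cancel])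
    have h1 := hCentres_mv hf hMf hgM hab
    rw [mv_add, hga] at h1
    have h2 : a + k • w ∈ T := hSwit _ _ (W.add_mem ha.1 (W.smul_mem _ hw)) (hgX b hb)
      (fun h => hb0 (mv_inj g (h.trans (mv_zero g).symm))) h1
    have h3 := T.smul_mem k⁻¹ (T.sub_mem h2 ha)
    rwa [add_sub_cancel_left, smul_smul, inv_mul_cancel₀ hk, one_smul] at h3
  -- a non-zero element of T
  obtain ⟨v, hv, hvW, hvX⟩ := hmix
  obtain ⟨a, ha, hva⟩ := exists_proj hf hN v
  have ha0 : a ≠ 0 := fun h => hvX (by simpa [h] using hva)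
  have haT : a ∈ T := hSwit a (v - a) ha hva (fun h => hvW (by rw [sub_eq_zero.1 h]; exact ha))
    (by rwa [add_sub_cancel])
  have hTW : ∀ x ∈ W, x ∈ T := by
    by_contra h
    push Not at h
    obtain ⟨x, hx, hxT⟩ := h
    have hxo := (hTinv x hx).resolve_left hxT
    refine ha0 ((nondeg_iff hf).1 hN a ha fun w hw => ?_)
    by_cases hwT : w ∈ T
    · by_contra hwa
      have hxw : x + w ∉ T := fun hm => hxT (by simpa using T.sub_mem hm hwT)
      have h1 := (hTinv _ (W.add_mem hx hw)).resolve_left hxw a haT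
      rw [add_right hf, hxo a haT, zero_add] at h1
      exact hwa ((f_eq_zero_comm hf).1 h1)
    · exact (f_eq_zero_comm hf).1 ((hTinv w hw).resolve_left hwT a haT)
  intro x hxx
  obtain ⟨a', ha', hxa⟩ := exists_proj hf hN x
  by_cases hb : x - a' = 0
  · exact hC1 x (Or.inl (by rw [sub_eq_zero.1 hb]; exact ha')) hxx
  have := (hTW a' ha').2 (x - a') hxa hb (by rwa [add_sub_cancel])
  rwa [add_sub_cancel] at this

end Cfsg.Agent.Transvec.Herm
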