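/-
The standard hermitian form is a unitary form.
-/
import Cfsg.Agent.Lib.Transvec.Herm
import Cfsg.Agent.Lib.Laws.Unitary
set_option autoImplicit false

namespace Cfsg.Agent.Transvec.Herm

open Matrix

variable {F : Type*} [Field F] [Fintype F]

theorem exists_unitary_std {n q : ℕ} (hF : Fintype.card F = q ^ 2) (hn : 0 < n) :
    ∃ σ : F ≃+* F, (∀ x, σ x = x ^ q) ∧ 2 ≤ q ∧ Geo.IsUnitaryForm σ (hermForm n F q) := by
  obtain ⟨φ, hφ, hinv, hq⟩ := Cfsg.Agent.Laws.exists_frobenius hF
  let σ : F ≃+* F := RingEquiv.ofRingHom φ φ (RingHom.ext hinv) (RingHom.ext hinv)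
  have hσ : ∀ x, σ x = x ^ q := hφ
  refine ⟨σ, hσ, hq, ⟨?_, hinv, ?_, ?_, ?_, ?_⟩⟩
  · intro h
    classical
    have hall : ∀ x : F, x ^ q = x := fun x => by rw [← hσ, h]; rfl
    have h1 : (Finset.univ : Finset F) ⊆ (Polynomial.X ^ q - Polynomial.X : Polynomial F).roots.toFinset := by
      intro x _
      rw [Multiset.mem_toFinset, Polynomial.mem_roots (FiniteField.X_pow_card_sub_X_ne_zero F hq)]
      simp [hall x]
    have h2 := (Finset.card_le_card h1).trans
      ((Multiset.toFinset_card_le _).trans (Polynomial.card_roots' _))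
    rw [FiniteField.X_pow_card_sub_X_natDegree_eq F hq, Finset.card_univ, hF, pow_two] at h2
    have := Nat.mul_le_mul_right q hq
    omega
  · intro x y v
    simp [hermForm, add_mul, Finset.sum_add_distrib]
  · intro c x v
    simp [hermForm, Finset.mul_sum, mul_assoc]
  · intro v w
    simp only [hermForm, map_sum, map_mul, ← hσ]
    refine Finset.sum_congr rfl fun i _ => ?_
    rw [show σ (σ (v i)) = v i from hinv _, mul_comm]
  · intro v hv
    obtain ⟨i, hi⟩ := Function.ne_iff.1 hv
    simp only [Pi.zero_apply] at hi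
    refine ⟨⟨Pi.single i 1, ?_⟩, ⟨Pi.single i 1, ?_⟩⟩
    · simp [hermForm, Pi.single_apply, pow_eq_zero_iff (by omega : q ≠ 0), hi]
    · rw [show hermForm n F q v (Pi.single i 1) = v i by
        rw [hermForm, Finset.sum_eq_single i]
        · simp
        · intro j _ hj; simp [hj, zero_pow (by omega : q ≠ 0)]
        · simp]
      exact hi

end Cfsg.Agent.Transvec.Herm
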