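/-
Symplectic transvections of a non-degenerate alternating form given as a function: transitivity on vectors and
hyperbolic pairs inside a subspace, and generation of the isometry group.
-/
import Cfsg.Agent.Lib.Transvec.Basic
set_option autoImplicit false

namespace Cfsg.Agent.Transvec

open scoped Matrix
open Matrix

variable {ι : Type} [Fintype ι] [DecidableEq ι] {F : Type*} [Field F]
variable {f : (ι → F) → (ι → F) → F} (hf : Geo.IsSymplecticForm f)

/-- The form as a linear map: v ↦ (x ↦ f x v). -/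
def formR : (ι → F) →ₗ[F] Module.Dual F (ι → F) where
  toFun v :=
    { toFun := fun x => f x v
      map_add' := fun x y => hf.bilinear.add_left x y v
      map_smul' := fun c x => by simpa using hf.bilinear.smul_left c x v }
  map_add' v w := LinearMap.ext fun x => hf.bilinear.add_right x v w
  map_smul' c v := LinearMap.ext fun x => by simpa using hf.bilinear.smul_right c x v

include hf

theorem formR_apply (v x : ι → F) : formR hf v x = f x v := rfl

theorem f_zero_left (v : ι → F) : f 0 v = 0 := map_zero (formR hf v)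

theorem f_zero_right (v : ι → F) : f v 0 = 0 := by rw [hf.skew, f_zero_left hf, neg_zero]

theorem f_sub_left (x y v : ι → F) : f (x - y) v = f x v - f y v := map_sub (formR hf v) x y

theorem f_sub_right (v x y : ι → F) : f v (x - y) = f v x - f v y :=
  congrArg (fun φ : Module.Dual F (ι → F) => φ v) (map_sub (formR hf) x y)

theorem f_neg_left (x v : ι → F) : f (-x) v = -f x v := map_neg (formR hf v) x

theorem f_neg_right (v x : ι → F) : f v (-x) = -f v x :=
  congrArg (fun φ : Module.Dual F (ι → F) => φ v) (map_neg (formR hf) x)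

theorem f_sum_left {κ : Type*} (s : Finset κ) (x : κ → ι → F) (v : ι → F) :
    f (∑ i ∈ s, x i) v = ∑ i ∈ s, f (x i) v := map_sum (formR hf v) x s

theorem f_sum_right {κ : Type*} (s : Finset κ) (v : ι → F) (x : κ → ι → F) :
    f v (∑ i ∈ s, x i) = ∑ i ∈ s, f v (x i) := by
  exact (congrArg (fun φ : Module.Dual F (ι → F) => φ v) (map_sum (formR hf) x s)).trans
    (LinearMap.sum_apply _ _ _)

theorem f_eq_zero_comm {x y : ι → F} : f x y = 0 ↔ f y x = 0 := by
  rw [hf.skew x y, neg_eq_zero]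

theorem formR_injective : Function.Injective (formR hf) := by
  intro v w h
  by_contra hne
  obtain ⟨x, hx⟩ := (hf.nondegenerate (v - w) (sub_ne_zero.2 hne)).1
  exact hx (by rw [f_sub_right hf, sub_eq_zero]; exact congrArg (fun φ : Module.Dual F (ι → F) => φ x) h)

theorem formR_surjective : Function.Surjective (formR hf) :=
  (LinearMap.injective_iff_surjective_of_finrank_eq_finrank (Subspace.dual_finrank_eq).symm).1
    (formR_injective hf)

theorem exists_eq_f (φ : Module.Dual F (ι → F)) : ∃ z, ∀ x, φ x = f x z := by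
  obtain ⟨z, rfl⟩ := formR_surjective hf φ
  exact ⟨z, fun x => rfl⟩

/-- The orthogonal subspace. -/
def orth (U : Submodule F (ι → F)) : Submodule F (ι → F) where
  carrier := {v | ∀ u ∈ U, f u v = 0}
  add_mem' {a b} ha hb u hu := by rw [hf.bilinear.add_right, ha u hu, hb u hu, add_zero]
  zero_mem' u _ := f_zero_right hf u
  smul_mem' c v hv u hu := by rw [hf.bilinear.smul_right, hv u hu, mul_zero]

theorem mem_orth {U : Submodule F (ι → F)} {v : ι → F} : v ∈ orth hf U ↔ ∀ u ∈ U, f u v = 0 :=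
  Iff.rfl

/-- U is non-degenerate: no non-zero vector of U is orthogonal to U. -/
def Nondeg (U : Submodule F (ι → F)) : Prop := U ⊓ orth hf U = ⊥

theorem nondeg_iff {U : Submodule F (ι → F)} :
    Nondeg hf U ↔ ∀ u ∈ U, (∀ w ∈ U, f w u = 0) → u = 0 := by
  rw [Nondeg, Submodule.eq_bot_iff]
  exact ⟨fun h u hu hu' => h u ⟨hu, hu'⟩, fun h u hu => h u hu.1 hu.2⟩

theorem nondeg_top : Nondeg hf (⊤ : Submodule F (ι → F)) := by
  rw [nondeg_iff]
  intro u _ hu
  by_contra h
  obtain ⟨x, hx⟩ := (hf.nondegenerate u h).1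
  exact hx (hu x Submodule.mem_top)

theorem nondeg_bot : Nondeg hf (⊥ : Submodule F (ι → F)) := bot_inf_eq _

theorem exists_proj {U : Submodule F (ι → F)} (hU : Nondeg hf U) (v : ι → F) :
    ∃ u ∈ U, v - u ∈ orth hf U := by
  set T : U →ₗ[F] Module.Dual F U := U.subtype.dualMap ∘ₗ (formR hf).comp U.subtype with hT
  have hinj : Function.Injective T := by
    rw [← LinearMap.ker_eq_bot, LinearMap.ker_eq_bot']
    intro u hu
    exact Subtype.ext ((nondeg_iff hf).1 hU u u.2 fun w hw =>
      congrArg (fun φ : Module.Dual F U => φ ⟨w, hw⟩) hu)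
  obtain ⟨u, hu⟩ := (LinearMap.injective_iff_surjective_of_finrank_eq_finrank
    (Subspace.dual_finrank_eq).symm).1 hinj (U.subtype.dualMap (formR hf v))
  refine ⟨u, u.2, fun w hw => ?_⟩
  rw [f_sub_right hf, sub_eq_zero]
  exact (congrArg (fun φ : Module.Dual F U => φ ⟨w, hw⟩) hu).symm

theorem sup_orth {U : Submodule F (ι → F)} (hU : Nondeg hf U) : U ⊔ orth hf U = ⊤ := by
  refine Submodule.eq_top_iff'.2 fun v => ?_
  obtain ⟨u, hu, h⟩ := exists_proj hf hU v
  rw [show v = u + (v - u) by abel]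
  exact Submodule.add_mem _ (Submodule.mem_sup_left hu) (Submodule.mem_sup_right h)

theorem nondeg_orth {U : Submodule F (ι → F)} (hU : Nondeg hf U) : Nondeg hf (orth hf U) := by
  rw [nondeg_iff]
  intro v hv h
  by_contra hne
  obtain ⟨x, hx⟩ := (hf.nondegenerate v hne).1
  obtain ⟨u, hu, hxu⟩ := exists_proj hf hU x
  rw [show x = u + (x - u) by abel, hf.bilinear.add_left, hv u hu, h _ hxu, add_zero] at hx
  exact hx rfl

theorem nondeg_inf_orth {U X : Submodule F (ι → F)} (hU : Nondeg hf U) (hX : Nondeg hf X)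
    (hUX : U ≤ X) : Nondeg hf (X ⊓ orth hf U) := by
  rw [nondeg_iff]
  intro v hv h
  refine (nondeg_iff hf).1 hX v hv.1 fun w hw => ?_
  obtain ⟨u, hu, hwu⟩ := exists_proj hf hU w
  rw [show w = u + (w - u) by abel, hf.bilinear.add_left, hv.2 u hu,
    h _ ⟨X.sub_mem hw (hUX hu), hwu⟩, add_zero]

/-- In a non-degenerate subspace, two non-zero vectors have a common non-orthogonal vector. -/
theorem exists_two {X : Submodule F (ι → F)} (hX : Nondeg hf X) {u w : ι → F} (hu : u ∈ X)
    (hw : w ∈ X) (hu0 : u ≠ 0) (hw0 : w ≠ 0) : ∃ z ∈ X, f u z ≠ 0 ∧ f w z ≠ 0 := by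
  have key : ∀ x ∈ X, x ≠ 0 → ∃ z ∈ X, f x z ≠ 0 := by
    intro x hx hx0
    by_contra h
    push Not at h
    exact hx0 ((nondeg_iff hf).1 hX x hx fun z hz => (f_eq_zero_comm hf).1 (h z hz))
  obtain ⟨a, ha, hua⟩ := key u hu hu0
  obtain ⟨b, hb, hwb⟩ := key w hw hw0
  by_cases h1 : f w a = 0
  · by_cases h2 : f u b = 0
    · refine ⟨a + b, X.add_mem ha hb, ?_, ?_⟩
      · rw [hf.bilinear.add_right, h2, add_zero]; exact hua
      · rw [hf.bilinear.add_right, h1, zero_add]; exact hwb
    · exact ⟨b, hb, h2, hwb⟩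
  · exact ⟨a, ha, hua, h1⟩

/-- The symplectic transvection x ↦ x + c f(x, v) v. -/
noncomputable def stv (v : ι → F) (c : F) : GL ι F :=
  tv v (c • formR hf v) (by rw [LinearMap.smul_apply, formR_apply, hf.alternating, smul_zero])

theorem mv_stv (v : ι → F) (c : F) (x : ι → F) : mv (stv hf v c) x = x + (c * f x v) • v :=
  mv_tv _ x

theorem stv_fix (v : ι → F) (c : F) {x : ι → F} (h : f x v = 0) : mv (stv hf v c) x = x := by
  rw [mv_stv, h, mul_zero, zero_smul, add_zero]

theorem stv_mem (v : ι → F) (c : F) : stv hf v c ∈ preserving (Units.coeHom (Matrix ι ι F)) f := by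
  show ∀ x y, f (mv (stv hf v c) x) (mv (stv hf v c) y) = f x y
  intro x y
  rw [mv_stv, mv_stv, hf.bilinear.add_left, hf.bilinear.add_right, hf.bilinear.add_right,
    hf.bilinear.smul_left, hf.bilinear.smul_left, hf.bilinear.smul_right, hf.bilinear.smul_right,
    hf.alternating v, hf.skew v y]
  ring

theorem stv_mem_specialLinear (v : ι → F) (c : F) : stv hf v c ∈ Geo.specialLinear ι F :=
  tv_mem_specialLinear _

theorem stv_smul (v : ι → F) (a c : F) : stv hf (a • v) c = stv hf v (a * a * c) := by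
  refine ext_mv fun x => ?_
  rw [mv_stv, mv_stv, hf.bilinear.smul_right, smul_smul]
  congr 2
  ring

theorem stv_add (v : ι → F) (c d : F) : stv hf v c * stv hf v d = stv hf v (c + d) := by
  refine ext_mv fun x => ?_
  rw [mv_mul, mv_stv, mv_stv, mv_stv, hf.bilinear.add_left, hf.bilinear.smul_left, hf.alternating,
    mul_zero, add_zero, add_assoc, ← add_smul]
  congr 2
  ring

theorem stv_zero (v : ι → F) : stv hf v 0 = 1 := by
  refine ext_mv fun x => ?_
  rw [mv_stv, mv_one, zero_mul, zero_smul, add_zero]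

theorem stv_conj {g : GL ι F} {μ : F} (hμ : μ ≠ 0) (hg : ∀ x y, f (mv g x) (mv g y) = μ * f x y)
    (v : ι → F) (c : F) : g * stv hf v c * g⁻¹ = stv hf (mv g v) (c / μ) :=
  tv_conj _ g _ rfl fun x => by
    simp only [LinearMap.smul_apply, formR_apply, smul_eq_mul, hg]
    field_simp

/-- One transvection moves u to w when f(u, w) ≠ 0. -/
theorem stv_map {u w : ι → F} (h : f u w ≠ 0) : mv (stv hf (w - u) (f u w)⁻¹) u = w := by
  rw [mv_stv, f_sub_right hf, hf.alternating, sub_zero, inv_mul_cancel₀ h, one_smul,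
    add_sub_cancel]

variable {K : Subgroup (GL ι F)}

/-- A subgroup containing the transvections centred in X moves u to w inside X, fixing X^⊥. -/
theorem exists_move {X : Submodule F (ι → F)} (hK : ∀ v ∈ X, ∀ c, stv hf v c ∈ K) {u w : ι → F}
    (hu : u ∈ X) (hw : w ∈ X) (h : f u w ≠ 0 ∨ ∃ z ∈ X, f u z ≠ 0 ∧ f w z ≠ 0) :
    ∃ g ∈ K, mv g u = w ∧ ∀ y, (∀ x ∈ X, f y x = 0) → mv g y = y := by
  rcases h with h | ⟨z, hz, hzu, hzw⟩
  · exact ⟨_, hK _ (X.sub_mem hw hu) _, stv_map hf h, fun y hy => stv_fix hf _ _ (hy _ (X.sub_mem hw hu))⟩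
  · have hzw' : f z w ≠ 0 := fun h => hzw ((f_eq_zero_comm hf).1 h)
    refine ⟨stv hf (w - z) (f z w)⁻¹ * stv hf (z - u) (f u z)⁻¹,
      K.mul_mem (hK _ (X.sub_mem hw hz) _) (hK _ (X.sub_mem hz hu) _), ?_, fun y hy => ?_⟩
    · rw [mv_mul, stv_map hf hzu, stv_map hf hzw']
    · rw [mv_mul, stv_fix hf _ _ (hy _ (X.sub_mem hz hu)), stv_fix hf _ _ (hy _ (X.sub_mem hw hz))]

/-- Transitivity on non-zero vectors of a non-degenerate subspace. -/
theorem exists_move_nondeg {X : Submodule F (ι → F)} (hX : Nondeg hf X)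
    (hK : ∀ v ∈ X, ∀ c, stv hf v c ∈ K) {u w : ι → F} (hu : u ∈ X) (hw : w ∈ X) (hu0 : u ≠ 0)
    (hw0 : w ≠ 0) : ∃ g ∈ K, mv g u = w ∧ ∀ y, (∀ x ∈ X, f y x = 0) → mv g y = y :=
  exists_move hf hK hu hw (Or.inr (exists_two hf hX hu hw hu0 hw0))

/-- Transitivity on hyperbolic pairs of a non-degenerate subspace. -/
theorem exists_move_pair {X : Submodule F (ι → F)} (hX : Nondeg hf X)
    (hK : ∀ v ∈ X, ∀ c, stv hf v c ∈ K) (hKf : K ≤ preserving (Units.coeHom (Matrix ι ι F)) f)
    {e e₁ d d₁ : ι → F} (he : e ∈ X) (he₁ : e₁ ∈ X) (hd : d ∈ X) (hd₁ : d₁ ∈ X)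
    (h1 : f e d = 1) (h2 : f e₁ d₁ = 1) :
    ∃ g ∈ K, mv g e = e₁ ∧ mv g d = d₁ ∧ ∀ y, (∀ x ∈ X, f y x = 0) → mv g y = y := by
  have ne0 : ∀ {a b : ι → F}, f a b = 1 → a ≠ 0 := fun h hz => by
    rw [hz, f_zero_left hf] at h; exact zero_ne_one h
  obtain ⟨g, hg, hge, hgfix⟩ := exists_move_nondeg hf hX hK he he₁ (ne0 h1) (ne0 h2)
  have hgd : mv g d ∈ X := by
    -- g is a product of transvections centred in X; use that it fixes the orthogonal space
    obtain ⟨u, hu, hdu⟩ := exists_proj hf hX (mv g d)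
    have hz : ∀ y ∈ orth hf X, f (mv g d) y = 0 := by
      intro y hy
      have hy' : mv g y = y := hgfix y fun x hx => (f_eq_zero_comm hf).1 (hy x hx)
      have := hKf hg d y
      change f (mv g d) (mv g y) = f d y at this
      rw [hy', hy d hd] at this
      exact this
    have : mv g d - u = 0 := by
      refine (nondeg_iff hf).1 (nondeg_orth hf hX) _ hdu fun y hy => ?_
      rw [f_sub_right hf, (f_eq_zero_comm hf).1 (hz y hy), (f_eq_zero_comm hf).1 (hy u hu), sub_zero]
    rwa [sub_eq_zero.1 this]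
  set d' := mv g d
  have hd' : f e₁ d' = 1 := by
    have := hKf hg e d
    change f (mv g e) (mv g d) = f e d at this
    rwa [hge, h1] at this
  have step : ∀ a ∈ X, ∀ b ∈ X, f e₁ a = 1 → f e₁ b = 1 → f a b ≠ 0 →
      ∃ h ∈ K, mv h e₁ = e₁ ∧ mv h a = b ∧ ∀ y, (∀ x ∈ X, f y x = 0) → mv h y = y := by
    intro a ha b hb ha1 hb1 hab
    exact ⟨_, hK _ (X.sub_mem hb ha) _, stv_fix hf _ _ (by rw [f_sub_right hf, ha1, hb1, sub_self]),
      stv_map hf hab, fun y hy => stv_fix hf _ _ (hy _ (X.sub_mem hb ha))⟩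
  obtain ⟨h, hh, hhe, hhd, hhfix⟩ : ∃ h ∈ K, mv h e₁ = e₁ ∧ mv h d' = d₁ ∧
      ∀ y, (∀ x ∈ X, f y x = 0) → mv h y = y := by
    by_cases hdd : f d' d₁ = 0
    · have hw : f e₁ (e₁ + d₁) = 1 := by rw [hf.bilinear.add_right, hf.alternating, h2, zero_add]
      obtain ⟨a, ha, hae, had, hafix⟩ := step d' hgd (e₁ + d₁) (X.add_mem he₁ hd₁) hd' hw
        (by rw [hf.bilinear.add_right, hdd, hf.skew, hd', add_zero]; exact neg_ne_zero.2 one_ne_zero)
      obtain ⟨b, hb, hbe, hbd, hbfix⟩ := step (e₁ + d₁) (X.add_mem he₁ hd₁) d₁ hd₁ hw h2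
        (by rw [hf.bilinear.add_left, hf.alternating, h2, add_zero]; exact one_ne_zero)
      exact ⟨b * a, K.mul_mem hb ha, by rw [mv_mul, hae, hbe], by rw [mv_mul, had, hbd],
        fun y hy => by rw [mv_mul, hafix y hy, hbfix y hy]⟩
    · exact step d' hgd d₁ hd₁ hd' h2 hdd
  exact ⟨h * g, K.mul_mem hh hg, by rw [mv_mul, hge, hhe], by rw [mv_mul]; exact hhd,
    fun y hy => by rw [mv_mul, hgfix y hy, hhfix y hy]⟩

/-- A hyperbolic partner inside a non-degenerate subspace. -/
theorem exists_partner {X : Submodule F (ι → F)} (hX : Nondeg hf X) {e : ι → F} (he : e ∈ X)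
    (he0 : e ≠ 0) : ∃ d ∈ X, f e d = 1 := by
  obtain ⟨z, hz, hez, -⟩ := exists_two hf hX he he he0 he0
  exact ⟨(f e z)⁻¹ • z, X.smul_mem _ hz, by rw [hf.bilinear.smul_right, inv_mul_cancel₀ hez]⟩

theorem nondeg_sup_pair {U : Submodule F (ι → F)} (hU : Nondeg hf U) {e d : ι → F}
    (he : e ∈ orth hf U) (hd : d ∈ orth hf U) (hed : f e d = 1) :
    Nondeg hf (U ⊔ Submodule.span F {e, d}) ∧ U < U ⊔ Submodule.span F {e, d} := by
  have hme : e ∈ U ⊔ Submodule.span F {e, d} :=
    Submodule.mem_sup_right (Submodule.subset_span (Set.mem_insert _ _))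
  have hmd : d ∈ U ⊔ Submodule.span F {e, d} :=
    Submodule.mem_sup_right (Submodule.subset_span (Set.mem_insert_of_mem _ rfl))
  refine ⟨(nondeg_iff hf).2 fun x hx h => ?_, lt_of_le_of_ne le_sup_left fun heq => ?_⟩
  · obtain ⟨u, hu, y, hy, rfl⟩ := Submodule.mem_sup.1 hx
    obtain ⟨a, b, rfl⟩ := Submodule.mem_span_pair.1 hy
    have h1 := h e hme
    have h2 := h d hmd
    rw [hf.bilinear.add_right, hf.bilinear.add_right, hf.bilinear.smul_right, hf.bilinear.smul_right,
      (f_eq_zero_comm hf).1 (he u hu), hf.alternating, hed] at h1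
    rw [hf.bilinear.add_right, hf.bilinear.add_right, hf.bilinear.smul_right, hf.bilinear.smul_right,
      (f_eq_zero_comm hf).1 (hd u hu), hf.alternating, hf.skew d e, hed] at h2
    obtain rfl : b = 0 := by linear_combination h1
    obtain rfl : a = 0 := by linear_combination -h2
    have hu0 : u = 0 := (nondeg_iff hf).1 hU u hu fun w hw => by
      have := h w (Submodule.mem_sup_left hw)
      rw [hf.bilinear.add_right, hf.bilinear.add_right, hf.bilinear.smul_right,
        hf.bilinear.smul_right, zero_mul, zero_mul, add_zero, add_zero] at this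
      exact this
    rw [hu0]; simp
  · rw [← heq] at hme
    have he0 : e = 0 := by
      have := Submodule.mem_inf.2 ⟨hme, he⟩
      rwa [hU, Submodule.mem_bot] at this
    rw [he0, f_zero_left hf] at hed
    exact zero_ne_one hed

/-- A subgroup containing all symplectic transvections contains the isometry group. -/
theorem preserving_le {M : Subgroup (GL ι F)} (hM : ∀ v c, stv hf v c ∈ M) :
    preserving (Units.coeHom (Matrix ι ι F)) f ≤ M := by
  suffices H : ∀ (d : ℕ) (g : GL ι F) (U : Submodule F (ι → F)), Nondeg hf U →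
      g ∈ preserving (Units.coeHom (Matrix ι ι F)) f → (∀ u ∈ U, mv g u = u) →
      Module.finrank F (ι → F) ≤ Module.finrank F U + d → g ∈ M by
    intro g hg
    exact H _ g ⊥ (nondeg_bot hf) hg
      (fun u hu => by rw [(Submodule.mem_bot F).1 hu, mv_zero]) (Nat.le_add_left _ _)
  intro d
  induction d with
  | zero =>
    intro g U _ _ hfix hle
    have hU' : U = ⊤ := Submodule.eq_top_of_finrank_eq (le_antisymm (Submodule.finrank_le U) hle)
    subst hU'
    rw [show g = 1 from ext_mv fun x => by rw [hfix x Submodule.mem_top, mv_one]]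
    exact M.one_mem
  | succ d ih =>
    intro g U hU hg hfix hle
    by_cases htop : U = ⊤
    · subst htop
      rw [show g = 1 from ext_mv fun x => by rw [hfix x Submodule.mem_top, mv_one]]
      exact M.one_mem
    have hX := nondeg_orth hf hU
    obtain ⟨e, he, he0⟩ := (orth hf U).ne_bot_iff.1 (fun h => htop (by
      rw [← sup_orth hf hU, h, sup_bot_eq]))
    obtain ⟨d', hd', hed⟩ := exists_partner hf hX he he0
    have horth : ∀ x ∈ orth hf U, mv g x ∈ orth hf U := fun x hx u hu => by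
      have := hg u x
      change f (mv g u) (mv g x) = f u x at this
      rw [hfix u hu, hx u hu] at this
      exact this
    obtain ⟨h, hh, hhe, hhd, hhfix⟩ := exists_move_pair hf hX
      (K := M ⊓ preserving (Units.coeHom (Matrix ι ι F)) f)
      (fun v _ c => ⟨hM v c, stv_mem hf v c⟩) inf_le_right (horth e he) he (horth d' hd') hd'
      (by have := hg e d'; change f (mv g e) (mv g d') = f e d' at this; rwa [hed] at this) hed
    obtain ⟨hN, hlt⟩ := nondeg_sup_pair hf hU he hd' hed
    have := ih (h * g) _ hN (Subgroup.mul_mem _ hh.2 hg) ?_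
      (by have := Submodule.finrank_lt_finrank_of_lt hlt; omega)
    · simpa using M.mul_mem (M.inv_mem hh.1) this
    · intro x hx
      obtain ⟨u, hu, y, hy, rfl⟩ := Submodule.mem_sup.1 hx
      obtain ⟨a, b, rfl⟩ := Submodule.mem_span_pair.1 hy
      simp only [mv_mul, mv_add, mv_smul]
      rw [hfix u hu, hhe, hhd, hhfix u fun x hx => hx u hu]

end Cfsg.Agent.Transvec
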