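/-
The standard alternating form is a symplectic form.
-/
import Cfsg.Agent.Lib.Transvec.Alt
set_option autoImplicit false

namespace Cfsg.Agent.Transvec

open scoped Matrix
open Matrix

theorem sympForm_eq_sum {m : ℕ} {F : Type*} [Field F] (u v : Fin m ⊕ Fin m → F) :
    sympForm m F u v =
      ∑ i : Fin m, (u (.inr i) * v (.inl i) - u (.inl i) * v (.inr i)) := by
  rw [sympForm, Matrix.J, dotProduct, Fintype.sum_sum_type]
  simp [Matrix.mulVec, dotProduct, Fintype.sum_sum_type, Matrix.one_apply, Finset.sum_sub_distrib]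
  ring

theorem sympForm_isSymplectic (m : ℕ) (F : Type*) [Field F] :
    Geo.IsSymplecticForm (sympForm m F) where
  bilinear :=
    { add_left := fun x y v => by
        simp only [sympForm_eq_sum, Pi.add_apply, ← Finset.sum_add_distrib]; congr 1; ext i; ring
      smul_left := fun c x v => by
        simp only [sympForm_eq_sum, Pi.smul_apply, smul_eq_mul, Finset.mul_sum]; congr 1; ext i; ring
      add_right := fun v x y => by
        simp only [sympForm_eq_sum, Pi.add_apply, ← Finset.sum_add_distrib]; congr 1; ext i; ring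
      smul_right := fun c v x => by
        simp only [sympForm_eq_sum, Pi.smul_apply, smul_eq_mul, Finset.mul_sum]; congr 1; ext i; ring }
  skew v w := by simp only [sympForm_eq_sum, ← Finset.sum_neg_distrib]; congr 1; ext i; ring
  alternating v := Finset.sum_eq_zero (fun i _ => by ring) |> ((sympForm_eq_sum v v).trans ·)
  nondegenerate v hv := by
    obtain ⟨j, hj⟩ := Function.ne_iff.1 hv
    rcases j with j | j
    · refine ⟨⟨Pi.single (.inr j) 1, ?_⟩, ⟨Pi.single (.inr j) 1, ?_⟩⟩ <;>
        simpa [sympForm_eq_sum, Pi.single_apply] using hj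
    · refine ⟨⟨Pi.single (.inl j) 1, ?_⟩, ⟨Pi.single (.inl j) 1, ?_⟩⟩ <;>
        simpa [sympForm_eq_sum, Pi.single_apply] using hj

theorem finrank_symp (m : ℕ) (F : Type*) [Field F] :
    Module.finrank F (Fin m ⊕ Fin m → F) = 2 * m := by
  rw [Module.finrank_pi, Fintype.card_sum, Fintype.card_fin, two_mul]

end Cfsg.Agent.Transvec
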