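/-
Stabilisers of subspaces in the special linear group: elementary transvection facts.
-/
import Cfsg.Agent.Lib.Transvec.Basic
set_option autoImplicit false

namespace Cfsg.Agent.Transvec

variable {ι : Type} [Fintype ι] [DecidableEq ι] {F : Type*} [Field F]

theorem stab_inf_lt_special {W : Submodule F (ι → F)} (hW0 : W ≠ ⊥) (hW1 : W ≠ ⊤) :
    Geo.subspaceStabilizer W ⊓ Geo.specialLinear ι F < Geo.specialLinear ι F := by
  obtain ⟨w, hw, hw0⟩ := W.ne_bot_iff.1 hW0
  obtain ⟨z, hz⟩ : ∃ z, z ∉ W := by
    by_contra h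
    exact hW1 (Submodule.eq_top_iff'.2 fun x => by_contra fun hx => h ⟨x, hx⟩)
  have h1 : w ∉ Submodule.span F {z} := by
    intro h
    obtain ⟨a, ha⟩ := Submodule.mem_span_singleton.1 h
    rcases eq_or_ne a 0 with rfl | ha0
    · exact hw0 (by simpa using ha.symm)
    · exact hz (by simpa [← ha, smul_smul, inv_mul_cancel₀ ha0] using W.smul_mem a⁻¹ hw)
  obtain ⟨φ, h2, h3⟩ := exists_dual h1
  refine lt_of_le_of_ne inf_le_right fun he => hz ?_
  have hm : tv z φ (h2 z (Submodule.mem_span_singleton_self z)) ∈ Geo.subspaceStabilizer W :=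
    (he.ge (tv_mem_specialLinear _)).1
  have := mv_mem_of_mem_stab hm hw
  rw [mv_tv, h3, one_smul] at this
  simpa using W.sub_mem this hw

/-- If some vector u outside U-preservation can be moved by a transvection fixing W pointwise, the joint
stabiliser is strictly smaller than the stabiliser of W. -/
theorem stab_stab_lt {W U : Submodule F (ι → F)} {u z : ι → F} (hu : u ∈ U) (hz : z ∉ U)
    (hind : u ∉ W ⊔ Submodule.span F {z}) :
    Geo.subspaceStabilizer W ⊓ Geo.subspaceStabilizer U ⊓ Geo.specialLinear ι F <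
      Geo.subspaceStabilizer W ⊓ Geo.specialLinear ι F := by
  obtain ⟨φ, hφW, hφz, hφu⟩ := exists_dual₂ hind
  refine lt_of_le_of_ne (inf_le_inf_right _ inf_le_left) fun he => hz ?_
  have hm : tv z φ hφz ∈ Geo.subspaceStabilizer W ⊓ Geo.specialLinear ι F :=
    ⟨mem_subspaceStabilizer_of_le fun v hv => by rwa [tv_fix _ (hφW v hv)], tv_mem_specialLinear _⟩
  have := mv_mem_of_mem_stab (he.ge hm).1.2 hu
  rw [mv_tv, hφu, one_smul] at this
  simpa using U.sub_mem this hu

/-- The stabiliser in SL of a proper non-zero subspace is a maximal subgroup of SL. -/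
theorem stab_maximal {W : Submodule F (ι → F)} (hW0 : W ≠ ⊥) (hW1 : W ≠ ⊤) :
    Geo.IsMaximalIn (Geo.specialLinear ι F) (Geo.subspaceStabilizer W ⊓ Geo.specialLinear ι F) := by
  refine ⟨stab_inf_lt_special hW0 hW1, fun M hHM hMS => ?_⟩
  have hWC : W ≤ centreSpace M := fun w hw φ h => hHM
    ⟨mem_subspaceStabilizer_of_le fun v hv => by rw [mv_tv]; exact W.add_mem hv (W.smul_mem _ hw),
      tv_mem_specialLinear _⟩
  by_cases htop : centreSpace M = ⊤
  · refine Or.inr (le_antisymm hMS (specialLinear_le fun v φ h => ?_))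
    have : v ∈ centreSpace M := htop ▸ Submodule.mem_top
    exact this φ h
  · refine Or.inl (le_antisymm (fun g hg => ⟨?_, hMS hg⟩) hHM)
    have hCW : centreSpace M = W := by
      refine le_antisymm (fun v hv => ?_) hWC
      by_contra hvW
      obtain ⟨u, hu⟩ : ∃ u, u ∉ centreSpace M := by
        by_contra h
        exact htop (Submodule.eq_top_iff'.2 fun x => by_contra fun hx => h ⟨x, hx⟩)
      have hind : v ∉ W ⊔ Submodule.span F {u} := by
        intro hm
        obtain ⟨w, hw, x, hx, hsum⟩ := Submodule.mem_sup.1 hm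
        obtain ⟨a, rfl⟩ := Submodule.mem_span_singleton.1 hx
        rcases eq_or_ne a 0 with rfl | ha
        · exact hvW (by simpa [← hsum] using hw)
        · apply hu
          have : a • u ∈ centreSpace M := by
            rw [eq_sub_of_add_eq' hsum]
            exact (centreSpace M).sub_mem hv (hWC hw)
          simpa [smul_smul, inv_mul_cancel₀ ha] using (centreSpace M).smul_mem a⁻¹ this
      obtain ⟨φ, hφW, hφu, hφv⟩ := exists_dual₂ hind
      have hm : tv u φ hφu ∈ M := hHM
        ⟨mem_subspaceStabilizer_of_le fun x hx => by rwa [tv_fix _ (hφW x hx)], tv_mem_specialLinear _⟩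
      have := (centreSpace M).sub_mem (centres_mv hm hv : _ ∈ centreSpace M) hv
      rw [mv_tv, hφv, one_smul] at this
      exact hu (by simpa using this)
    refine mem_subspaceStabilizer_of_le fun v hv => ?_
    rw [← hCW] at hv ⊢
    exact centres_mv hg hv

end Cfsg.Agent.Transvec
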