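/-
Maximality in the isometry group of an alternating form of the stabilisers of totally singular and of
non-degenerate subspaces, and maximality of the similarity group in the special linear group.
-/
import Cfsg.Agent.Lib.Transvec.Alt
set_option autoImplicit false

namespace Cfsg.Agent.Transvec

open scoped Matrix
open Matrix

variable {ι : Type} [Fintype ι] [DecidableEq ι] {F : Type*} [Field F]
variable {f : (ι → F) → (ι → F) → F} (hf : Geo.IsSymplecticForm f)

include hf

/-- Vectors all whose symplectic transvections lie in M. -/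
def sCentres (M : Subgroup (GL ι F)) : Set (ι → F) := {v | ∀ c, stv hf v c ∈ M}

theorem sCentres_smul {M : Subgroup (GL ι F)} {v : ι → F} (hv : v ∈ sCentres hf M) (a : F) :
    a • v ∈ sCentres hf M := fun c => by rw [stv_smul]; exact hv _

theorem sCentres_mv {M : Subgroup (GL ι F)}
    (hMf : M ≤ preserving (Units.coeHom (Matrix ι ι F)) f) {g : GL ι F} (hg : g ∈ M) {v : ι → F}
    (hv : v ∈ sCentres hf M) : mv g v ∈ sCentres hf M := by
  intro c
  have := stv_conj hf (g := g) one_ne_zero (fun x y => by rw [one_mul]; exact hMf hg x y) v c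
  rw [div_one] at this
  rw [← this]
  exact M.mul_mem (M.mul_mem hg (hv c)) (M.inv_mem hg)

theorem sCentres_add {M : Subgroup (GL ι F)}
    (hMf : M ≤ preserving (Units.coeHom (Matrix ι ι F)) f) {v w : ι → F}
    (hv : v ∈ sCentres hf M) (hw : w ∈ sCentres hf M) (h : f v w ≠ 0) :
    v + w ∈ sCentres hf M := by
  have := sCentres_mv hf hMf (hw (f v w)⁻¹) hv
  rwa [mv_stv, inv_mul_cancel₀ h, one_smul] at this

theorem sCentres_eq_univ {M : Subgroup (GL ι F)}
    (hMf : M ≤ preserving (Units.coeHom (Matrix ι ι F)) f) (h : ∀ v, v ∈ sCentres hf M) :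
    M = preserving (Units.coeHom (Matrix ι ι F)) f :=
  le_antisymm hMf (preserving_le hf h)

theorem exists_f_eq {u w : ι → F} (h : u ∉ Submodule.span F {w}) : ∃ z, f u z = 1 ∧ f w z = 0 := by
  obtain ⟨φ, h1, h2⟩ := exists_dual h
  obtain ⟨z, hz⟩ := exists_eq_f hf φ
  exact ⟨z, by rw [← hz, h2], by rw [← hz]; exact h1 w (Submodule.mem_span_singleton_self w)⟩

theorem stab_singular_maximal {W : Submodule F (ι → F)} (hW0 : W ≠ ⊥)
    (hW : Geo.IsTotallySingularFor f W) :
    Geo.IsMaximalIn (preserving (Units.coeHom (Matrix ι ι F)) f)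
      (Geo.subspaceStabilizer W ⊓ preserving (Units.coeHom (Matrix ι ι F)) f) := by
  have hWo : W ≤ orth hf W := fun w hw u hu => hW u hu w hw
  refine ⟨?_, fun M hHM hMS => ?_⟩
  · obtain ⟨w, hw, hw0⟩ := W.ne_bot_iff.1 hW0
    obtain ⟨z, hz⟩ := (hf.nondegenerate w hw0).2
    refine lt_of_le_of_ne inf_le_right fun he => hz (hW w hw z ?_)
    have := mv_mem_of_mem_stab (he.ge (stv_mem hf z (f w z)⁻¹)).1 hw
    rw [mv_stv, inv_mul_cancel₀ hz, one_smul] at this
    simpa using W.sub_mem this hw
  have hC1 : ∀ v ∈ orth hf W, v ∈ sCentres hf M := fun v hv c => hHM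
    ⟨mem_subspaceStabilizer_of_le fun w hw => by rwa [stv_fix hf _ _ (hv w hw)], stv_mem hf v c⟩
  have partner : ∀ v, v ∉ orth hf W → ∃ u ∈ W, f v u ≠ 0 := by
    intro v hv
    by_contra h
    push Not at h
    exact hv fun u hu => (f_eq_zero_comm hf).1 (h u hu)
  have hshift : ∀ v ∈ sCentres hf M, ∀ z ∈ orth hf W, v + z ∈ sCentres hf M := by
    intro v hv z hz
    by_cases hvo : v ∈ orth hf W
    · exact hC1 _ (Submodule.add_mem _ hvo hz)
    by_cases h : f v z = 0
    · obtain ⟨u, hu, hvu⟩ := partner v hvo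
      have huz : f u z = 0 := hz u hu
      have h1 := sCentres_add hf hMS hv (hC1 u (hWo hu)) hvu
      have h2 := sCentres_add hf hMS h1 (hC1 (z - u) (Submodule.sub_mem _ hz (hWo hu))) ?_
      · rwa [show v + u + (z - u) = v + z by abel] at h2
      · rw [f_sub_right hf, hf.bilinear.add_left, hf.bilinear.add_left, h, huz, hf.alternating u]
        simpa using hvu
    · exact sCentres_add hf hMS hv (hC1 z hz) h
  have hadd : ∀ v ∈ sCentres hf M, ∀ v' ∈ sCentres hf M, v + v' ∈ sCentres hf M := by
    intro v hv v' hv'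
    by_cases hvo : v ∈ orth hf W
    · rw [add_comm]; exact hshift v' hv' v hvo
    obtain ⟨u, hu, hvu⟩ := partner v hvo
    by_cases h : f v v' = 0
    · have h1 := sCentres_add hf hMS hv (hshift v' hv' u (hWo hu))
        (by rwa [hf.bilinear.add_right, h, zero_add])
      have h2 := hshift _ h1 (-u) (Submodule.neg_mem _ (hWo hu))
      rwa [show v + (v' + u) + -u = v + v' by abel] at h2
    · exact sCentres_add hf hMS hv hv' h
  let C : Submodule F (ι → F) :=
    { carrier := sCentres hf M
      add_mem' := fun ha hb => hadd _ ha _ hb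
      zero_mem' := hC1 0 (Submodule.zero_mem _)
      smul_mem' := fun a _ hv => sCentres_smul hf hv a }
  by_cases hC : C = ⊤
  · exact Or.inr (sCentres_eq_univ hf hMS fun v => show v ∈ C from hC ▸ Submodule.mem_top)
  refine Or.inl (le_antisymm (fun g hg => ⟨?_, hMS hg⟩) hHM)
  -- the orthogonal space of C is M-invariant and equal to W
  obtain ⟨v, hv⟩ : ∃ v, v ∉ C := by
    by_contra h
    exact hC (Submodule.eq_top_iff'.2 fun x => by_contra fun hx => h ⟨x, hx⟩)
  obtain ⟨φ, hφC, hφv⟩ := exists_dual hv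
  obtain ⟨x, hx⟩ := exists_eq_f hf φ
  have hxC : x ∈ orth hf C := fun c hc => by rw [← hx, hφC c hc]
  have hx0 : x ≠ 0 := fun h => by
    rw [hx, h, f_zero_right hf] at hφv
    exact zero_ne_one hφv
  have hCW : orth hf C ≤ W := by
    intro y hy
    by_contra hyW
    obtain ⟨ψ, hψW, hψy⟩ := exists_dual hyW
    obtain ⟨z, hz⟩ := exists_eq_f hf ψ
    have hzo : z ∈ orth hf W := fun w hw => by rw [← hz, hψW w hw]
    have h0 : f z y = 0 := hy z (hC1 z hzo)
    rw [hz, (f_eq_zero_comm hf).1 h0] at hψy
    exact zero_ne_one hψy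
  have hinv : ∀ g ∈ M, ∀ y ∈ orth hf C, mv g y ∈ orth hf C := by
    intro g hg y hy c hc
    have h1 : mv g⁻¹ c ∈ C := sCentres_mv hf hMS (M.inv_mem hg) hc
    have := hMS hg (mv g⁻¹ c) y
    change f (mv g (mv g⁻¹ c)) (mv g y) = _ at this
    rw [mv_mv_inv, hy _ h1] at this
    exact this
  have hWC : W ≤ orth hf C := by
    intro a ha
    by_contra haC
    have hind : x ∉ Submodule.span F {a} := by
      intro hm
      obtain ⟨t, ht⟩ := Submodule.mem_span_singleton.1 hm
      rcases eq_or_ne t 0 with rfl | ht0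
      · exact hx0 (by simpa using ht.symm)
      · exact haC (by simpa [← ht, smul_smul, inv_mul_cancel₀ ht0] using
          Submodule.smul_mem _ t⁻¹ hxC)
    obtain ⟨b, hxb, hab⟩ := exists_f_eq hf hind
    set k := stv hf (a + b) 1 * stv hf a (-1) * stv hf b (-1)
    have hk : ∀ y, mv k y = y + f y a • b + f y b • a := by
      intro y
      have hba : f b a = 0 := (f_eq_zero_comm hf).1 hab
      have l1 : f (y + (-1 * f y b) • b) a = f y a := by
        rw [hf.bilinear.add_left, hf.bilinear.smul_left, hba, mul_zero, add_zero]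
      have l2 : f (y + (-1 * f y b) • b + (-1 * f y a) • a) (a + b) = f y a + f y b := by
        simp only [hf.bilinear.add_left, hf.bilinear.add_right, hf.bilinear.smul_left, hf.alternating,
          hab, hba, mul_zero, add_zero]
      simp only [k, mv_mul, mv_stv]
      rw [l1, l2]
      module
    have hkM : k ∈ M := hHM ⟨mem_subspaceStabilizer_of_le fun y hy => by
        rw [hk, hW y hy a ha, zero_smul, add_zero]
        exact W.add_mem hy (W.smul_mem _ ha),
      Subgroup.mul_mem _ (Subgroup.mul_mem _ (stv_mem hf _ _) (stv_mem hf _ _)) (stv_mem hf _ _)⟩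
    have hxW := hCW hxC
    have := Submodule.sub_mem _ (hinv k hkM x hxC) hxC
    rw [hk, hW x hxW a ha, zero_smul, add_zero, hxb, one_smul] at this
    exact haC (by simpa using this)
  have hWeq : orth hf C = W := le_antisymm hCW hWC
  refine mem_subspaceStabilizer_of_le fun w hw => ?_
  rw [← hWeq] at hw ⊢
  exact hinv g hg w hw

theorem finrank_orth_add {W : Submodule F (ι → F)} (hW : Nondeg hf W) :
    Module.finrank F W + Module.finrank F ↥(orth hf W) = Module.finrank F (ι → F) := by
  rw [← Submodule.finrank_sup_add_finrank_inf_eq, sup_orth hf hW, hW, finrank_bot, add_zero,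
    finrank_top]

theorem stab_nondeg_maximal {W : Submodule F (ι → F)} (hW0 : W ≠ ⊥)
    (hW : Geo.IsNondegenerateOn f W)
    (hdim : 2 * Module.finrank F W < Module.finrank F (ι → F)) :
    Geo.IsMaximalIn (preserving (Units.coeHom (Matrix ι ι F)) f)
      (Geo.subspaceStabilizer W ⊓ preserving (Units.coeHom (Matrix ι ι F)) f) := by
  have hN : Nondeg hf W := (nondeg_iff hf).2 fun u hu h => by
    by_contra hu0
    obtain ⟨x, hx, hxu⟩ := (hW u hu hu0).1
    exact hxu (h x hx)
  have hsum := finrank_orth_add hf hN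
  refine ⟨?_, fun M hHM hMS => ?_⟩
  · obtain ⟨w, hw, hw0⟩ := W.ne_bot_iff.1 hW0
    obtain ⟨d, hd, hwd⟩ := exists_partner hf hN hw hw0
    obtain ⟨z, hz, hz0⟩ := (orth hf W).ne_bot_iff.1 (fun h => by
      rw [h, finrank_bot] at hsum; omega)
    refine lt_of_le_of_ne inf_le_right fun he => hz0 ?_
    have := mv_mem_of_mem_stab (he.ge (stv_mem hf (d + z) 1)).1 hw
    rw [mv_stv, hf.bilinear.add_right, hwd, hz w hw, add_zero, one_mul, one_smul] at this
    have hzW : z ∈ W := by
      simpa using W.sub_mem (W.sub_mem this hw) hd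
    have := Submodule.mem_inf.2 ⟨hzW, hz⟩
    rwa [hN, Submodule.mem_bot] at this
  have hC1 : ∀ v, v ∈ W ∨ v ∈ orth hf W → v ∈ sCentres hf M := by
    intro v hv c
    refine hHM ⟨mem_subspaceStabilizer_of_le fun w hw => ?_, stv_mem hf v c⟩
    rcases hv with hv | hv
    · rw [mv_stv]; exact W.add_mem hw (W.smul_mem _ hv)
    · rwa [stv_fix hf _ _ (hv w hw)]
  by_cases hmix : ∃ v ∈ sCentres hf M, v ∉ W ∧ v ∉ orth hf W
  · refine Or.inr (sCentres_eq_univ hf hMS fun x => ?_)
    obtain ⟨v, hv, hvW, hvo⟩ := hmix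
    obtain ⟨a, ha, hva⟩ := exists_proj hf hN v
    obtain ⟨a', ha', hxa⟩ := exists_proj hf hN x
    have ha0 : a ≠ 0 := fun h => hvo (by simpa [h] using hva)
    have hb0 : v - a ≠ 0 := fun h => hvW (by rw [sub_eq_zero.1 h]; exact ha)
    by_cases h1 : a' = 0
    · exact hC1 x (Or.inr (by simpa [h1] using hxa))
    by_cases h2 : x - a' = 0
    · exact hC1 x (Or.inl (by rw [sub_eq_zero.1 h2]; exact ha'))
    obtain ⟨g, hg, hga, hgfix⟩ := exists_move_nondeg hf hN (K := M)
      (fun u hu c => hC1 u (Or.inl hu) c) ha ha' ha0 h1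
    obtain ⟨k, hk, hkb, hkfix⟩ := exists_move_nondeg hf (nondeg_orth hf hN) (K := M)
      (fun u hu c => hC1 u (Or.inr hu) c) hva hxa hb0 h2
    have hmem := sCentres_mv hf hMS (M.mul_mem hk hg) hv
    have : mv (k * g) v = x := by
      rw [show v = a + (v - a) by abel, mv_mul, mv_add, hga,
        hgfix _ fun w hw => (f_eq_zero_comm hf).1 (hva w hw), mv_add, hkb,
        hkfix a' fun w hw => hw a' ha']
      abel
    rwa [this] at hmem
  · refine Or.inl (le_antisymm (fun g hg => ⟨?_, hMS hg⟩) hHM)
    push Not at hmix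
    have himg : ∀ U : Submodule F (ι → F), (∀ u ∈ U, u ∈ W ∨ u ∈ orth hf W) →
        (∀ u ∈ U, mv g u ∈ W) ∨ ∀ u ∈ U, mv g u ∈ orth hf W := by
      intro U hU
      by_contra h
      push Not at h
      obtain ⟨⟨a, ha, haW⟩, b, hb, hbo⟩ := h
      have key : ∀ u ∈ U, mv g u ∉ W → mv g u ∈ orth hf W := fun u hu hn =>
        hmix _ (sCentres_mv hf hMS hg (hC1 u (hU u hu))) hn
      have hbW : mv g b ∈ W := by_contra fun hn => hbo (key b hb hn)
      by_cases hab : mv g (a + b) ∈ W
      · rw [mv_add] at hab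
        exact haW (by simpa using W.sub_mem hab hbW)
      · have := key _ (U.add_mem ha hb) hab
        rw [mv_add] at this
        exact hbo (by simpa using Submodule.sub_mem _ this (key a ha haW))
    have hinj : Function.Injective (mvLin g) := fun x y h => mv_inj g (by simpa using h)
    have hle : ∀ {U T : Submodule F (ι → F)}, (∀ u ∈ U, mv g u ∈ T) →
        Module.finrank F U ≤ Module.finrank F T := by
      intro U T h
      rw [LinearEquiv.finrank_eq (Submodule.equivMapOfInjective (mvLin g) hinj U)]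
      refine Submodule.finrank_mono ?_
      rintro x ⟨u, hu, rfl⟩
      simpa using h u hu
    rcases himg W (fun u hu => Or.inl hu) with h | h
    · exact mem_subspaceStabilizer_of_le h
    · exfalso
      rcases himg (orth hf W) (fun u hu => Or.inr hu) with h' | h'
      · have := hle h'; omega
      · have := hle (U := ⊤) (T := orth hf W) fun x _ => by
          obtain ⟨u, hu, hxu⟩ := exists_proj hf hN x
          rw [show x = u + (x - u) by abel, mv_add]
          exact Submodule.add_mem _ (h u hu) (h' _ hxu)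
        rw [finrank_top] at this
        have : 0 < Module.finrank F W := Nat.pos_of_ne_zero fun hz => hW0 (Submodule.finrank_eq_zero.1 hz)
        omega

/-- Dual functionals orthogonal to u form the orbit of a transitive action: auxiliary witness. -/
theorem exists_perp_two {u z₁ z₂ : ι → F} (h₁ : z₁ ∉ Submodule.span F {u})
    (h₂ : z₂ ∉ Submodule.span F {u}) :
    ∃ w, f u w = 0 ∧ f z₁ w ≠ 0 ∧ f z₂ w ≠ 0 := by
  obtain ⟨a, ha, ha'⟩ := exists_f_eq hf h₁
  obtain ⟨b, hb, hb'⟩ := exists_f_eq hf h₂
  by_cases h3 : f z₂ a = 0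
  · by_cases h4 : f z₁ b = 0
    · refine ⟨a + b, ?_, ?_, ?_⟩ <;> rw [hf.bilinear.add_right]
      · rw [ha', hb', add_zero]
      · rw [ha, h4, add_zero]; exact one_ne_zero
      · rw [h3, hb, zero_add]; exact one_ne_zero
    · exact ⟨b, hb', h4, by rw [hb]; exact one_ne_zero⟩
  · exact ⟨a, ha', by rw [ha]; exact one_ne_zero, h3⟩

theorem similarity_maximal (hn : 3 ≤ Fintype.card ι) :
    Geo.IsMaximalIn (Geo.specialLinear ι F) (Geo.similarityGroup f ⊓ Geo.specialLinear ι F) := by
  have stvH : ∀ v c, stv hf v c ∈ Geo.similarityGroup f ⊓ Geo.specialLinear ι F := fun v c =>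
    ⟨⟨1, fun x y => by rw [Units.val_one, one_mul]; exact stv_mem hf v c x y⟩,
      stv_mem_specialLinear hf v c⟩
  obtain ⟨i⟩ : Nonempty ι := Fintype.card_pos_iff.1 (by omega)
  have he : (Pi.single i 1 : ι → F) ≠ 0 := by
    intro h
    simpa using congrFun h i
  refine ⟨?_, fun M hHM hMS => ?_⟩
  · -- a transvection that is not a similarity
    set u : ι → F := Pi.single i 1
    obtain ⟨z, hzu, hz⟩ : ∃ z, f u z = 0 ∧ z ∉ Submodule.span F {u} := by
      by_contra h
      push Not at h
      obtain ⟨z₀, hz₀⟩ := (hf.nondegenerate u he).2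
      have htop : Submodule.span F {u, z₀} = ⊤ := by
        refine Submodule.eq_top_iff'.2 fun x => ?_
        obtain ⟨a, ha⟩ := Submodule.mem_span_singleton.1
          (h (x - ((f u z₀)⁻¹ * f u x) • z₀) (by
            rw [f_sub_right hf, hf.bilinear.smul_right]; field_simp; ring))
        refine Submodule.mem_span_pair.2 ⟨a, (f u z₀)⁻¹ * f u x, ?_⟩
        rw [ha]; abel
      have h2 := finrank_range_le_card (R := F) (b := ![u, z₀])
      rw [Matrix.range_cons, Matrix.range_cons, Matrix.range_empty, Set.union_empty,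
        Set.singleton_union, Fintype.card_fin, Set.finrank, htop, finrank_top, Module.finrank_pi] at h2
      omega
    refine lt_of_le_of_ne inf_le_right fun he' => ?_
    obtain ⟨μ, hμ⟩ := (he'.ge (tv_mem_specialLinear (v := u) (φ := formR hf z) hzu)).1
    have hu' : u ∉ Submodule.span F {z} := fun hm => hz (by
      obtain ⟨a, ha⟩ := Submodule.mem_span_singleton.1 hm
      rcases eq_or_ne a 0 with rfl | ha0
      · exact absurd (by simpa using ha.symm) he
      · exact Submodule.mem_span_singleton.2 ⟨a⁻¹, by rw [← ha, smul_smul, inv_mul_cancel₀ ha0, one_smul]⟩)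
    obtain ⟨y₁, hy₁, hy₁'⟩ := exists_f_eq hf hu'
    obtain ⟨y₂, hy₂, hy₂'⟩ := exists_f_eq hf hz
    have e1 : (μ : F) = 1 := by
      have := hμ u y₁
      change f (mv _ u) (mv _ y₁) = _ at this
      rw [mv_tv (φ := formR hf z) hzu, mv_tv (φ := formR hf z) hzu] at this
      rw [formR_apply, formR_apply, hzu, hf.skew y₁ z, hy₁'] at this
      simp [hy₁] at this
      exact this.symm
    have key : ∀ x y, f x z * f u y + f y z * f x u = 0 := by
      intro x y
      have := hμ x y
      change f (mv _ x) (mv _ y) = _ at this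
      rw [mv_tv (φ := formR hf z) hzu, mv_tv (φ := formR hf z) hzu] at this
      rw [formR_apply, formR_apply, e1, one_mul, hf.bilinear.add_left, hf.bilinear.add_right,
        hf.bilinear.add_right, hf.bilinear.smul_left, hf.bilinear.smul_left, hf.bilinear.smul_right,
        hf.bilinear.smul_right, hf.alternating u] at this
      linear_combination this
    have := key y₂ y₁
    rw [hf.skew y₂ z, hy₂, hy₁, hf.skew y₁ z, hy₁'] at this
    simp at this
  by_cases hM : ∀ g ∈ M, g ∈ Geo.similarityGroup f
  · exact Or.inl (le_antisymm (fun g hg => ⟨hM g hg, hMS hg⟩) hHM)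
  push Not at hM
  obtain ⟨g, hg, hgs⟩ := hM
  refine Or.inr (le_antisymm hMS (specialLinear_le ?_))
  -- A is the linear map comparing the form f ∘ g with f
  have hA : ∀ u, ∃ a, ∀ x, f (mv g x) (mv g u) = f x a := fun u =>
    exists_eq_f hf ((formR hf (mv g u)).comp (mvLin g))
  choose A hA using hA
  have Aadd : ∀ u v, A (u + v) = A u + A v := fun u v => formR_injective hf (LinearMap.ext fun x => by
    simp only [formR_apply]
    rw [hf.bilinear.add_right, ← hA, ← hA, ← hA, mv_add, hf.bilinear.add_right])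
  have Asmul : ∀ (c : F) u, A (c • u) = c • A u := fun c u => formR_injective hf (LinearMap.ext fun x => by
    simp only [formR_apply]
    rw [hf.bilinear.smul_right, ← hA, ← hA, mv_smul, hf.bilinear.smul_right])
  obtain ⟨u, hu⟩ : ∃ u, A u ∉ Submodule.span F {u} := by
    by_contra h
    push Not at h
    choose μ hμ using fun u => Submodule.mem_span_singleton.1 (h u)
    set u₀ : ι → F := Pi.single i 1
    have hμeq : ∀ v, A v = μ u₀ • v := by
      intro v
      by_cases hv : v ∈ Submodule.span F {u₀}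
      · obtain ⟨a, rfl⟩ := Submodule.mem_span_singleton.1 hv
        rw [Asmul, ← hμ u₀, smul_comm]
      · have h1 := Aadd u₀ v
        rw [← hμ u₀, ← hμ v, ← hμ (u₀ + v), smul_add] at h1
        have h2 : (μ (u₀ + v) - μ u₀) • u₀ + (μ (u₀ + v) - μ v) • v = 0 := by
          have := sub_eq_zero.2 h1
          rw [← this]; module
        have h3 : μ (u₀ + v) = μ v := by
          by_contra hne
          apply hv
          replace hne : μ (u₀ + v) - μ v ≠ 0 := sub_ne_zero.2 hne
          refine Submodule.mem_span_singleton.2 ⟨-((μ (u₀ + v) - μ v)⁻¹ * (μ (u₀ + v) - μ u₀)), ?_⟩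
          have h4 := eq_neg_of_add_eq_zero_right h2
          calc _ = (μ (u₀ + v) - μ v)⁻¹ • -((μ (u₀ + v) - μ u₀) • u₀) := by
                rw [smul_neg, smul_smul, neg_smul]
            _ = v := by rw [← h4, smul_smul, inv_mul_cancel₀ hne, one_smul]
        rw [h3, sub_self, zero_smul, add_zero, smul_eq_zero] at h2
        rcases h2 with h2 | h2
        · rw [← hμ v, sub_eq_zero.1 h2]
        · exact absurd h2 he
    have hμ0 : μ u₀ ≠ 0 := by
      intro h0
      obtain ⟨x, hx⟩ := (hf.nondegenerate (mv g u₀) fun h => he (mv_inj g (h.trans (mv_zero g).symm))).1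
      apply hx
      have := hA u₀ (mv g⁻¹ x)
      rwa [mv_mv_inv, hμeq u₀, h0, zero_smul, f_zero_right hf] at this
    exact hgs ⟨Units.mk0 _ hμ0, fun x v => by
      show f (mv g x) (mv g v) = _
      rw [hA, hμeq, hf.bilinear.smul_right]; rfl⟩
  -- two different axes at the centre u
  have hu0 : u ≠ 0 := by
    intro h
    apply hu
    have : A (0 : ι → F) = 0 := by simpa using Asmul 0 (0 : ι → F)
    rw [h, this]; exact Submodule.zero_mem _
  have hAu : f u (A u) = 0 := by rw [← hA, hf.alternating]
  have tA : ∀ c : F, ∀ h : (c • formR hf (A u)) u = 0, tv u (c • formR hf (A u)) h ∈ M := by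
    intro c h
    have h2 : g⁻¹ * stv hf (mv g u) c * g⁻¹⁻¹ = tv u (c • formR hf (A u)) h :=
      tv_conj _ g⁻¹ h (mv_inv_mv g u).symm fun x => by
        simp only [LinearMap.smul_apply, formR_apply, ← hA, mv_mv_inv]
    rw [← h2, inv_inv]
    exact M.mul_mem (M.mul_mem (M.inv_mem hg) (hHM (stvH _ _))) hg
  have hall : ∀ z (h : formR hf z u = 0), tv u (formR hf z) h ∈ M := by
    have move : ∀ z, f u z = 0 → z ∉ Submodule.span F {u} →
        ∀ h : formR hf z u = 0, tv u (formR hf z) h ∈ M := by
      intro z hz hzu h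
      obtain ⟨w, hw, hw1, hw2⟩ := exists_perp_two hf hu hzu
      obtain ⟨k, hk, hkA, hkfix⟩ := exists_move hf
        (K := M ⊓ preserving (Units.coeHom (Matrix ι ι F)) f) (X := orth hf (Submodule.span F {u}))
        (fun v _ c => ⟨hHM (stvH v c), stv_mem hf v c⟩) (u := A u) (w := z)
        (fun x hx => by
          obtain ⟨a, rfl⟩ := Submodule.mem_span_singleton.1 hx
          rw [hf.bilinear.smul_left, hAu, mul_zero])
        (fun x hx => by
          obtain ⟨a, rfl⟩ := Submodule.mem_span_singleton.1 hx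
          rw [hf.bilinear.smul_left, hz, mul_zero])
        (Or.inr ⟨w, fun x hx => by
          obtain ⟨a, rfl⟩ := Submodule.mem_span_singleton.1 hx
          rw [hf.bilinear.smul_left, hw, mul_zero], hw1, hw2⟩)
      have hku : mv k u = u := hkfix u fun x hx => hx u (Submodule.mem_span_singleton_self u)
      have h1 : ((1 : F) • formR hf (A u)) u = 0 := by rw [one_smul]; exact hAu
      rw [← tv_conj h1 k h hku.symm fun x => by
        simp only [LinearMap.smul_apply, formR_apply, one_smul]
        rw [← hkA]; exact hk.2 x (A u)]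
      exact M.mul_mem (M.mul_mem hk.1 (tA 1 h1)) (M.inv_mem hk.1)
    intro z h
    by_cases hzu : z ∈ Submodule.span F {u}
    · obtain ⟨a, rfl⟩ := Submodule.mem_span_singleton.1 hzu
      rw [show tv u (formR hf (a • u)) h = stv hf u a from
        tv_congr _ _ fun x => by rw [map_smul]]
      exact hHM (stvH u a)
    · exact move z h hzu h
  intro v φ h
  rcases eq_or_ne v 0 with rfl | hv0
  · exact centres_zero M φ h
  obtain ⟨k, hk, hkv, -⟩ := exists_move_nondeg hf (nondeg_top hf)
    (K := M ⊓ preserving (Units.coeHom (Matrix ι ι F)) f)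
    (fun x _ c => ⟨hHM (stvH x c), stv_mem hf x c⟩) (u := u) (w := v)
    Submodule.mem_top Submodule.mem_top hu0 hv0
  obtain ⟨z, hz⟩ := exists_eq_f hf (φ.comp (mvLin k))
  have h' : formR hf z u = 0 := by
    rw [formR_apply, ← hz]
    simp only [LinearMap.comp_apply, Matrix.toLin'_apply]
    rw [show (k : Matrix ι ι F) *ᵥ u = v from hkv, h]
  rw [← tv_conj h' k h hkv.symm fun x => by
    rw [formR_apply, ← hz]; simp]
  exact M.mul_mem (M.mul_mem hk.1 (hall z h')) (M.inv_mem hk.1)

end Cfsg.Agent.Transvec
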