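/-
Maximality in the commutator subgroup of the orthogonal group of the stabilisers of non-degenerate subspaces
and of non-singular vectors.
-/
import Cfsg.Agent.Lib.Transvec.OrthStab
set_option autoImplicit false

namespace Cfsg.Agent.Transvec.Orth

open scoped Matrix
open Matrix Cfsg.Agent.Transvec

variable {ι : Type} [Fintype ι] [DecidableEq ι] {F : Type*} [Field F] {Q : (ι → F) → F}
variable (hQ : Geo.IsNondegenerateQuadraticForm Q)
include hQ

theorem isSiegel_smul {g : GL ι F} {u y : ι → F} (c : F) :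
    IsSiegel Q g (c • u) y ↔ IsSiegel Q g u (c • y) := by
  refine forall_congr' fun z => ?_
  rw [q_smul hQ, pol_smul_right hQ, pol_smul_right hQ,
    show z + (c * pol Q z u) • y - (pol Q z y + Q y * (c * pol Q z u)) • c • u =
      z + pol Q z u • c • y - (c * pol Q z y + c ^ 2 * Q y * pol Q z u) • u by module]

theorem exists_value_nondeg [Finite F] {X : Submodule F (ι → F)} (hX : Nondeg Q X)
    (h3 : 3 ≤ Module.finrank F X) (a : F) : ∃ x ∈ X, Q x = a := by
  obtain ⟨e, he, he0, hee⟩ := exists_singular hQ h3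
  obtain ⟨d, hd, hdd, hed⟩ := exists_partner hQ hX he he0 hee
  refine ⟨a • e + d, X.add_mem (X.smul_mem _ he) hd, ?_⟩
  rw [q_add hQ, q_smul hQ, pol_smul_left hQ, hee, hdd, hed]
  ring

/-- A non-degenerate subspace of dimension at least two represents every non-zero value. -/
theorem exists_value_any [Finite F] {X : Submodule F (ι → F)} (hX : Nondeg Q X)
    (h2X : 2 ≤ Module.finrank F X) {a : F} (ha : a ≠ 0) : ∃ x ∈ X, Q x = a := by
  obtain ⟨p₁, h1, h1q⟩ := exists_anisotropic hQ hX fun h => by rw [h, finrank_bot] at h2X; omega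
  by_cases h2 : (2 : F) = 0
  · obtain ⟨k, hk⟩ := FiniteField.isSquare_of_char_two
      (ringChar.eq_iff.2 (CharTwo.of_one_ne_zero_of_two_eq_zero one_ne_zero h2)) (a / Q p₁)
    rw [div_eq_iff h1q] at hk
    exact ⟨k • p₁, X.smul_mem _ h1, by rw [q_smul hQ, hk]; ring⟩
  have hline : Nondeg Q (Submodule.span F {p₁}) := fun u hu h => by
    obtain ⟨k, rfl⟩ := Submodule.mem_span_singleton.1 hu
    have := h p₁ (Submodule.mem_span_singleton_self p₁)
    rw [pol_smul_right hQ, pol_self hQ, mul_eq_zero, or_iff_left (mul_ne_zero h2 h1q)] at this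
    rw [this, zero_smul]
  have hle : Submodule.span F {p₁} ≤ X := (Submodule.span_singleton_le_iff_mem _ _).2 h1
  have hd := finrank_inf_orth_add hQ hline hle
  rw [finrank_span_singleton (fun h => h1q (by rw [h, q_zero hQ]))] at hd
  obtain ⟨p₂, h3, h3q⟩ := exists_anisotropic hQ (nondeg_inf_orth hQ hline hX hle) fun h => by
    rw [h, finrank_bot] at hd; omega
  have : Fintype F := Fintype.ofFinite F
  obtain ⟨x, y, hxy⟩ := FiniteField.exists_root_sum_quadratic
    (f := Polynomial.C (Q p₁) * Polynomial.X ^ 2 + Polynomial.C (-a)) (g := Polynomial.C (Q p₂) * Polynomial.X ^ 2)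
    (by
      rw [Polynomial.degree_add_eq_left_of_degree_lt] <;> rw [Polynomial.degree_C_mul_X_pow 2 h1q]
      · rfl
      · exact lt_of_le_of_lt Polynomial.degree_C_le (by norm_num))
    (Polynomial.degree_C_mul_X_pow 2 h3q)
    (FiniteField.odd_card_of_char_ne_two fun h => h2 (by
      have : CharP F 2 := ringChar.eq_iff.1 h
      exact CharP.cast_eq_zero F 2))
  simp only [Polynomial.eval_add, Polynomial.eval_mul, Polynomial.eval_C, Polynomial.eval_pow,
    Polynomial.eval_X] at hxy
  refine ⟨x • p₁ + y • p₂, X.add_mem (X.smul_mem _ h1) (X.smul_mem _ h3.1), ?_⟩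
  rw [q_add hQ, q_smul hQ, q_smul hQ, pol_smul_left hQ, pol_smul_right hQ,
    h3.2 p₁ (Submodule.mem_span_singleton_self p₁)]
  linear_combination hxy

theorem orth_nondeg {U : Submodule F (ι → F)} (hU : Nondeg Q U) :
    Nondeg Q (orth hQ U) ∧ Module.finrank F U + Module.finrank F ↥(orth hQ U) = Fintype.card ι := by
  have h1 := nondeg_inf_orth hQ hU (nondeg_top hQ) le_top
  have h2 := finrank_inf_orth_add hQ hU (le_top (a := U))
  rw [top_inf_eq] at h1 h2
  rw [finrank_top, Module.finrank_pi] at h2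
  exact ⟨h1, h2⟩

theorem orth_orth_eq {U : Submodule F (ι → F)} (hU : Nondeg Q U) : orth hQ (orth hQ U) = U := by
  refine (Submodule.eq_of_le_of_finrank_eq (fun x hx y hy => by rw [pol_comm]; exact hy x hx) ?_).symm
  have h1 := (orth_nondeg hQ hU).2
  have h2 := (orth_nondeg hQ (orth_nondeg hQ hU).1).2
  omega

theorem mem_stab_orth {U : Submodule F (ι → F)} {g : GL ι F} (hg : g ∈ isometryGroup F Q)
    (h : g ∈ Geo.subspaceStabilizer U) : g ∈ Geo.subspaceStabilizer (orth hQ U) :=
  mem_subspaceStabilizer_of_le fun v hv u hu => by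
    rw [← mv_mv_inv g u, pol_mv hQ hg]
    exact hv _ (mv_mem_of_mem_stab (Subgroup.inv_mem _ h) hu)

theorem stab_inf_omega_orth {U : Submodule F (ι → F)} (hU : Nondeg Q U) :
    Geo.subspaceStabilizer (orth hQ U) ⊓ Geo.omegaGL Q = Geo.subspaceStabilizer U ⊓ Geo.omegaGL Q := by
  refine le_antisymm (fun g hg => ⟨?_, hg.2⟩) fun g hg => ⟨mem_stab_orth hQ (omega_le_isometry hQ hg.2) hg.1, hg.2⟩
  have := mem_stab_orth hQ (omega_le_isometry hQ hg.2) hg.1
  rwa [orth_orth_eq hQ hU] at this

/-- Two orthogonal reflections of equal value. -/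
theorem exists_double [Finite F] (hn : 7 ≤ Fintype.card ι) {a b : ι → F} (ha : Q a ≠ 0) (hab : Q a = Q b)
    (h : pol Q a b = 0) :
    ∃ g ∈ Geo.omegaGL Q, ∀ z, mv g z = z - (pol Q z a / Q a) • a - (pol Q z b / Q b) • b := by
  have hb : Q b ≠ 0 := hab ▸ ha
  have htop : 5 ≤ Module.finrank F (⊤ : Submodule F (ι → F)) := by rw [finrank_top, Module.finrank_pi]; omega
  obtain ⟨s, hs, hsa, -⟩ := exists_move hQ (nondeg_top hQ) htop (K := siegelGroup Q)
    (fun u _ y _ hu hy => siegel_mem hQ hu hy) (Submodule.mem_top (x := a)) (Submodule.mem_top (x := b))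
    (fun h0 => ha (by rw [h0, q_zero hQ])) (fun h0 => hb (by rw [h0, q_zero hQ])) hab
  obtain ⟨r, hr, hr'⟩ := exists_refl hQ ha
  have hc := isRefl_conj hQ (siegelGroup_le_isometry hQ hs) hr'
  rw [hsa] at hc
  refine ⟨r * s * r⁻¹ * s⁻¹, ?_, fun z => ?_⟩
  · rw [omegaGL_eq hQ hn]
    exact Subgroup.mul_mem _ (siegelGroup_conj hQ hr hs) (Subgroup.inv_mem _ hs)
  have hrb : mv (s * r * s⁻¹)⁻¹ z = z - (pol Q z b / Q b) • b := mv_inj (s * r * s⁻¹) (by
    rw [mv_mv_inv, hc.2, pol_sub_left hQ, pol_smul_left hQ, pol_self hQ,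
      show (pol Q z b - pol Q z b / Q b * (2 * Q b)) / Q b = -(pol Q z b / Q b) by field_simp; ring]
    module)
  rw [show r * s * r⁻¹ * s⁻¹ = r * (s * r * s⁻¹)⁻¹ by group, mv_mul, hrb, hr'.2, pol_sub_left hQ,
    pol_smul_left hQ, pol_comm b a, h, mul_zero, sub_zero]
  abel

/-- An absorption argument. -/
theorem absorb {X : Submodule F (ι → F)} (hX : Nondeg Q X) (h3 : 3 ≤ Module.finrank F X)
    {Y : Submodule F (ι → F)} {e y₀ : ι → F} (he : e ∈ X) (hb : pol Q y₀ e ≠ 0)
    (h : ∀ z ∈ X, pol Q e z = 0 → pol Q y₀ e • z - (pol Q y₀ z + Q z * pol Q y₀ e) • e ∈ Y) :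
    ∀ z ∈ X, pol Q e z = 0 → z ∈ Y := by
  obtain ⟨z₁, h1, h1', z₂, h2, h2', h12⟩ : ∃ z₁ ∈ X, pol Q e z₁ = 0 ∧ ∃ z₂ ∈ X, pol Q e z₂ = 0 ∧
      pol Q z₁ z₂ ≠ 0 := by
    by_contra hc
    push Not at hc
    have a1 := finrank_totally_orth_le hQ hX
      (L := (LinearMap.ker ((formQ hQ e).comp X.subtype)).map X.subtype)
      (by rintro _ ⟨x, -, rfl⟩; exact x.2)
      (by
        rintro _ ⟨x, hx, rfl⟩ _ ⟨y, hy, rfl⟩
        exact hc x x.2 ((pol_comm _ _).trans (LinearMap.mem_ker.1 hx)) y y.2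
          ((pol_comm _ _).trans (LinearMap.mem_ker.1 hy)))
    rw [Submodule.finrank_map_subtype_eq] at a1
    have a2 := LinearMap.finrank_range_add_finrank_ker ((formQ hQ e).comp X.subtype)
    have a3 := Submodule.finrank_le (LinearMap.range ((formQ hQ e).comp X.subtype))
    rw [Module.finrank_self] at a3
    omega
  have heY : e ∈ Y := by
    have := Y.sub_mem (Y.add_mem (h z₁ h1 h1') (h z₂ h2 h2'))
      (h (z₁ + z₂) (X.add_mem h1 h2) (by rw [pol_add_right hQ, h1', h2', add_zero]))
    rw [q_add hQ, pol_add_right hQ] at this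
    have := Y.smul_mem (pol Q z₁ z₂ * pol Q y₀ e)⁻¹ this
    convert this using 1
    match_scalars <;> field_simp <;> ring
  intro z hz hez
  have := Y.smul_mem (pol Q y₀ e)⁻¹ (Y.add_mem (h z hz hez) (Y.smul_mem (pol Q y₀ z + Q z * pol Q y₀ e) heY))
  rwa [sub_add_cancel, smul_smul, inv_mul_cancel₀ hb, one_smul] at this

/-- Two non-orthogonal full vectors force the whole group. -/
theorem eq_omega_of_pair [Finite F] (hn : 7 ≤ Fintype.card ι) {M : Subgroup (GL ι F)}
    (hMS : M ≤ Geo.omegaGL Q) {u v : ι → F} (hu : u ∈ qFull Q M) (hv : v ∈ qFull Q M) (huv : pol Q u v = 1) :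
    M = Geo.omegaGL Q := by
  have hMO : M ≤ isometryGroup F Q := hMS.trans (omega_le_isometry hQ)
  have hu0 : u ≠ 0 := fun h => by rw [h, pol_zero_left hQ] at huv; exact zero_ne_one huv
  have hout : ∀ x, Q x = 0 → pol Q x u ≠ 0 → x ∈ qFull Q M := by
    intro x hxx hxu
    obtain ⟨y, hy, -, hmove⟩ := exists_move_along hQ (v := (pol Q x u)⁻¹ • u) (u := pol Q x u • v) (w := x)
      (by rw [q_smul hQ, hu.1, mul_zero]) (by rw [q_smul hQ, hv.1, hxx, mul_zero])
      (by rw [pol_smul_right hQ, pol_smul_left hQ, pol_comm v u, huv, mul_one, inv_mul_cancel₀ hxu])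
      (by rw [pol_smul_right hQ, inv_mul_cancel₀ hxu])
    obtain ⟨g, hg, hgs⟩ := (qFull_smul hQ hu _).2 y hy
    rw [← hmove g hgs]
    exact qFull_mv hQ hMO hg (qFull_smul hQ hv _)
  refine eq_omega_of_full hQ hn hMS fun x hxx => ?_
  by_cases hxu : pol Q x u = 0
  swap
  · exact hout x hxx hxu
  by_cases hdep : x ∈ Submodule.span F {u}
  · obtain ⟨c, rfl⟩ := Submodule.mem_span_singleton.1 hdep
    exact qFull_smul hQ hu c
  obtain ⟨z, hxz, huz⟩ := exists_orth_not_orth hQ hdep (Submodule.mem_span_singleton_self u) hu0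
  set q := z - Q z • u with hqdef
  have hqq : Q q = 0 := by
    rw [hqdef, q_sub hQ, q_smul hQ, pol_smul_right hQ, pol_comm z u, huz, hu.1]; ring
  have hqu : pol Q q u = 1 := by
    rw [hqdef, pol_sub_left hQ, pol_smul_left hQ, pol_comm z u, huz, pol_self hQ, hu.1]; ring
  have hxq : pol Q x q = 0 := by
    rw [hqdef, pol_sub_right hQ, pol_smul_right hQ, hxz, hxu]; ring
  obtain ⟨φ, hφ, hφx⟩ := exists_dual (W := Submodule.span F {q}) (u := x) fun h => by
    obtain ⟨c, hc⟩ := Submodule.mem_span_singleton.1 h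
    rw [← hc, pol_smul_left hQ, hqu, mul_one] at hxu
    rw [hxu, zero_smul] at hc
    exact hdep (hc ▸ Submodule.zero_mem _)
  obtain ⟨y, hy⟩ := exists_eq_pol hQ φ
  obtain ⟨s, hs, hss⟩ := (hout q hqq (by rw [hqu]; exact one_ne_zero)).2 y
    (by rw [← hy]; exact hφ q (Submodule.mem_span_singleton_self q))
  have hsx : mv s x = x - q := by rw [hss, hxq, ← hy, hφx]; simp
  have := qFull_mv hQ hMO (M.inv_mem hs) (hout (x - q) (by rw [q_sub hQ, hxx, hqq, hxq]; ring)
    (by rw [pol_sub_left hQ, hxu, hqu, zero_sub]; exact neg_ne_zero.2 one_ne_zero))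
  rwa [← hsx, mv_inv_mv] at this

theorem stab_nondeg_maximal [Finite F] (hn : 7 ≤ Fintype.card ι) {U : Submodule F (ι → F)} (hU : Nondeg Q U)
    (hl : 4 ≤ Module.finrank F U) (hsmall : Module.finrank F U = 4 → Nat.card F = 2 → ¬ Geo.IsPlusTypeOn Q U)
    (hle : Module.finrank F ↥(orth hQ U) ≤ Module.finrank F U)
    (hW0 : orth hQ U ≠ ⊥)
    (hswap : ∀ g ∈ isometryGroup F Q, ∃ x ∈ U, mv g x ∉ orth hQ U)
    (hex : Module.finrank F ↥(orth hQ U) = 2 → (∀ w ∈ orth hQ U, Q w = 0 → w = 0) ∨ 4 ≤ Nat.card F) :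
    Geo.IsMaximalIn (Geo.omegaGL Q) (Geo.subspaceStabilizer (orth hQ U) ⊓ Geo.omegaGL Q) := by
  obtain ⟨W, hWdef⟩ : ∃ W, W = orth hQ U := ⟨_, rfl⟩
  rw [← hWdef] at hle hW0 hswap hex ⊢
  have hWn : Nondeg Q W := hWdef ▸ (orth_nondeg hQ hU).1
  have hdim : Module.finrank F U + Module.finrank F W = Fintype.card ι := hWdef ▸ (orth_nondeg hQ hU).2
  have hWU : ∀ {w x : ι → F}, w ∈ W → x ∈ U → pol Q w x = 0 := fun hw hx => by
    rw [pol_comm]; exact (hWdef.le hw) _ hx
  have hUW : ∀ {w x : ι → F}, w ∈ W → x ∈ U → pol Q x w = 0 := fun hw hx => (hWdef.le hw) _ hx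
  obtain ⟨w₀, hw₀, hw00⟩ := W.ne_bot_iff.1 hW0
  refine ⟨?_, fun M hHM hMS => ?_⟩
  · refine lt_of_le_of_ne inf_le_right fun he => ?_
    obtain ⟨u, hu, hu0, huu⟩ := exists_singular hQ (X := U) (by omega)
    obtain ⟨z, hz, hzw⟩ : ∃ z ∈ W, pol Q z w₀ ≠ 0 := by
      by_contra h
      push Not at h
      exact hw00 (hWn _ hw₀ h)
    obtain ⟨g, -, hg⟩ := exists_siegel hQ huu (hUW hw₀ hu)
    have h1 := mv_mem_of_mem_stab (he.ge (siegel_mem_omega hQ hn huu (hUW hw₀ hu) hg)).1 hz
    rw [hg, hWU hz hu, zero_smul, add_zero, mul_zero, add_zero] at h1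
    have h2 : u ∈ W := by
      have := W.smul_mem (pol Q z w₀)⁻¹ (W.sub_mem hz h1)
      rwa [sub_sub_cancel, smul_smul, inv_mul_cancel₀ hzw, one_smul] at this
    exact hu0 (hU u hu fun x hx => hUW h2 hx)
  have hMO : M ≤ isometryGroup F Q := hMS.trans (omega_le_isometry hQ)
  have hH : ∀ {g : GL ι F}, g ∈ Geo.omegaGL Q → (∀ z ∈ W, mv g z ∈ W) → g ∈ M := fun hg h =>
    hHM ⟨mem_subspaceStabilizer_of_le h, hg⟩
  have hSU : ∀ {u y : ι → F}, u ∈ U → y ∈ U → Q u = 0 → pol Q u y = 0 → ∃ g ∈ M, IsSiegel Q g u y := by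
    intro u y hu hy huu huy
    obtain ⟨g, -, hg⟩ := exists_siegel hQ huu huy
    exact ⟨g, hH (siegel_mem_omega hQ hn huu huy hg) fun z hz => by
      rw [isSiegel_fix hQ hg (hWU hz hu) (hWU hz hy)]; exact hz, hg⟩
  by_cases hsub : M ≤ Geo.subspaceStabilizer W
  · exact Or.inl (le_antisymm (le_inf hsub hMS) hHM)
  refine Or.inr ?_
  -- a singular vector of U with a Siegel element leaving U
  obtain ⟨u, hu, hu0, huu, y₀, hy₀, hy00, g₀, hg₀, hg₀s⟩ : ∃ u ∈ U, u ≠ 0 ∧ Q u = 0 ∧
      ∃ y ∈ W, y ≠ 0 ∧ ∃ g ∈ M, IsSiegel Q g u y := by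
    have key : ∀ g ∈ M, g ∉ Geo.subspaceStabilizer W → (∃ u ∈ U, u ≠ 0 ∧ Q u = 0 ∧ mv g⁻¹ u ∈ U) →
        ∃ u ∈ U, u ≠ 0 ∧ Q u = 0 ∧ ∃ y ∈ W, y ≠ 0 ∧ ∃ g ∈ M, IsSiegel Q g u y := by
      intro g hg hgW hex'
      by_contra hcon
      have hgI := hMO hg
      -- every U' ∩ u⊥ lies in U
      have hstay : ∀ u ∈ U, u ≠ 0 → Q u = 0 → mv g⁻¹ u ∈ U → ∀ y ∈ U, pol Q (mv g⁻¹ u) y = 0 → mv g y ∈ U := by
        intro u hu hu0 huu hu' y hy huy
        by_contra hyU
        refine hcon ⟨u, hu, hu0, huu, ?_⟩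
        obtain ⟨s, hs, hss⟩ := hSU hu' hy (by rw [← mem_isometry.1 hgI, mv_mv_inv]; exact huu) huy
        have hc := isSiegel_conj hQ hgI hss
        rw [mv_mv_inv] at hc
        obtain ⟨a, ha, hya⟩ := exists_proj hQ hU (mv g y)
        rw [← hWdef] at hya
        have hua : pol Q u a = 0 := by
          have h1 := hUW hya hu
          rw [pol_sub_right hQ] at h1
          rw [← mv_mv_inv g u, pol_mv hQ hgI, huy, mv_mv_inv, zero_sub, neg_eq_zero] at h1
          exact h1
        obtain ⟨s', hs', hss'⟩ := hSU hu (U.neg_mem ha) huu (by rw [pol_neg_right hQ, hua, neg_zero])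
        have hm := isSiegel_mul hQ huu (by rw [← mv_mv_inv g u, pol_mv hQ hgI, huy])
          (by rw [pol_neg_right hQ, hua, neg_zero]) hc hss'
        rw [← sub_eq_add_neg] at hm
        exact ⟨mv g y - a, hya, fun h0 => hyU (sub_eq_zero.1 h0 ▸ ha),
          g * s * g⁻¹ * s', M.mul_mem (M.mul_mem (M.mul_mem hg hs) (M.inv_mem hg)) hs', hm⟩
      obtain ⟨u, hu, hu0, huu, hu'⟩ := hex'
      set a := mv g⁻¹ u with hadef
      have hga : mv g a = u := mv_mv_inv g u
      have haa : Q a = 0 := by rw [← mem_isometry.1 hgI, hga]; exact huu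
      have ha0 : a ≠ 0 := fun h0 => hu0 (by rw [← hga, h0, mv_zero])
      obtain ⟨v, hv, hvv, huv⟩ := exists_partner hQ hU hu hu0 huu
      obtain ⟨b, hb, hbb, hab⟩ := exists_partner hQ hU hu' ha0 haa
      -- the images of W differ from W by multiples of u
      set lam : (ι → F) → F := fun w => pol Q (mv g w) v with hlam
      have hproj : ∀ w ∈ W, mv g w - lam w • u ∈ W := by
        intro w hw
        have h0 : pol Q u (mv g w) = 0 := by rw [← hga, pol_mv hQ hgI]; exact hUW hw hu'
        rw [hWdef]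
        intro x hx
        set x' := x - pol Q u x • v with hx'
        have hx'U : x' ∈ U := U.sub_mem hx (U.smul_mem _ hv)
        have hx'u : pol Q u x' = 0 := by rw [hx', pol_sub_right hQ, pol_smul_right hQ, huv]; ring
        -- U ∩ u⊥ is the image of U ∩ a⊥
        have himage : pol Q x' (mv g w) = 0 := by
          obtain ⟨K, hK⟩ : ∃ K, K = U ⊓ orth hQ (Submodule.span F {a}) := ⟨_, rfl⟩
          obtain ⟨K', hK'⟩ : ∃ K', K' = U ⊓ orth hQ (Submodule.span F {u}) := ⟨_, rfl⟩
          have hmem : ∀ (c : ι → F) {y}, y ∈ U ⊓ orth hQ (Submodule.span F {c}) ↔ y ∈ U ∧ pol Q c y = 0 :=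
            fun c y => ⟨fun h => ⟨h.1, h.2 c (Submodule.mem_span_singleton_self c)⟩, fun h => ⟨h.1, fun z hz => by
              obtain ⟨k, rfl⟩ := Submodule.mem_span_singleton.1 hz
              rw [pol_smul_left hQ, h.2, mul_zero]⟩⟩
          have hsup : ∀ (c d : ι → F), d ∈ U → pol Q c d = 1 →
              U ≤ (U ⊓ orth hQ (Submodule.span F {c})) ⊔ Submodule.span F {d} := fun c d hd hcd y hy =>
            Submodule.mem_sup.2 ⟨y - pol Q c y • d, (hmem c).2 ⟨U.sub_mem hy (U.smul_mem _ hd), by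
              rw [pol_sub_right hQ, pol_smul_right hQ, hcd]; ring⟩, pol Q c y • d,
              Submodule.smul_mem _ _ (Submodule.mem_span_singleton_self d), sub_add_cancel _ _⟩
          have hlt : K' < U := lt_of_le_of_ne (hK' ▸ inf_le_left) fun h => one_ne_zero (α := F) (by
            rw [← huv]; exact ((hmem u).1 (hK' ▸ h ▸ hv)).2)
          have d1 := Submodule.finrank_lt_finrank_of_lt hlt
          have d2 := (Submodule.finrank_mono (hsup a b hb hab)).trans
            (Submodule.finrank_add_le_finrank_add_finrank _ _)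
          rw [← hK, finrank_span_singleton (fun h0 => one_ne_zero (α := F) (by
            rw [← hab, h0, pol_zero_right hQ]))] at d2
          have hKK : K.map (mvLin g) ≤ K' := by
            rintro _ ⟨y, hy, rfl⟩
            rw [hK] at hy
            obtain ⟨hyU, hya⟩ := (hmem a).1 hy
            rw [hK', show mvLin g y = mv g y by simp [mvLin, mv]]
            exact (hmem u).2 ⟨hstay u hu hu0 huu hu' y hyU hya, by rw [← hga, pol_mv hQ hgI]; exact hya⟩
          have d3 := LinearEquiv.finrank_eq (Submodule.equivMapOfInjective (mvLin g)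
            (fun x y hxy => mv_inj g (by simpa using hxy)) K)
          have heq := Submodule.eq_of_le_of_finrank_le hKK (by omega)
          obtain ⟨y, hy, hyx⟩ := heq.ge (hK' ▸ (hmem u).2 ⟨hx'U, hx'u⟩)
          rw [hK] at hy
          rw [← hyx, show mvLin g y = mv g y by simp [mvLin, mv], pol_mv hQ hgI]
          exact hUW hw hy.1
        rw [hx', pol_sub_left hQ, pol_smul_left hQ, pol_comm v (mv g w)] at himage
        rw [pol_sub_right hQ, pol_smul_right hQ, pol_comm x u]
        rw [hlam]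
        linear_combination himage
      obtain ⟨y₀, hy₀, hy₀'⟩ := exists_rep hQ hWn ((formQ hQ v).comp (mvLin g))
      have hy₀'' : ∀ w ∈ W, lam w = pol Q w y₀ := fun w hw => by
        rw [← hy₀' w hw, LinearMap.comp_apply, formQ_apply, show mvLin g w = mv g w by simp [mvLin, mv]]
      set y := mv g y₀ - lam y₀ • u with hy
      have hyW : y ∈ W := hproj y₀ hy₀
      have hey : ∀ w ∈ W, pol Q (mv g w - lam w • u) y = lam w := fun w hw => by
        rw [hy, pol_sub_left hQ, pol_sub_right hQ, pol_sub_right hQ, pol_mv hQ hgI, ← hy₀'' w hw]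
        simp only [pol_smul_left hQ, pol_smul_right hQ]
        rw [show pol Q u (mv g y₀) = 0 by rw [← hga, pol_mv hQ hgI]; exact hUW hy₀ hu',
          show pol Q (mv g w) u = 0 by rw [← hga, pol_mv hQ hgI]; exact hWU hw hu', pol_self hQ, huu]
        ring
      have hy0 : y ≠ 0 := fun h0 => hgW (mem_subspaceStabilizer_of_le fun w hw => by
        have h1 := hproj w hw
        have h2 := hey w hw
        rw [h0, pol_zero_right hQ] at h2
        rwa [← h2, zero_smul, sub_zero] at h1)
      obtain ⟨s, -, hss⟩ := exists_siegel hQ huu (hUW hyW hu)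
      have hsΩ : s ∈ Geo.omegaGL Q := siegel_mem_omega hQ hn huu (hUW hyW hu) hss
      have hsg : s * g ∈ M := hH (Subgroup.mul_mem _ hsΩ (hMS hg)) fun w hw => by
        set w' := mv g w - lam w • u with hw'
        have hwW : w' ∈ W := hproj w hw
        have hwy : pol Q w' y = lam w := hey w hw
        rw [mv_mul, show mv g w = w' + lam w • u by rw [hw', sub_add_cancel], hss]
        simp only [pol_add_left hQ, pol_smul_left hQ, pol_self hQ, huu, hWU hwW hu, hwy, hUW hyW hu,
          mul_zero, add_zero, zero_smul, add_sub_cancel_right]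
        exact hwW
      exact hcon ⟨u, hu, hu0, huu, y, hyW, hy0, s,
        by simpa using M.mul_mem hsg (M.inv_mem hg), hss⟩
    obtain ⟨g, hg, hgW⟩ := SetLike.not_le_iff_exists.1 hsub
    have hgI := hMO hg
    by_contra hgoal
    have hno : ∀ g ∈ M, g ∉ Geo.subspaceStabilizer W → ∀ u ∈ U, u ≠ 0 → Q u = 0 → mv g⁻¹ u ∉ U :=
      fun g hg hgW u hu hu0 huu hu' => hgoal (key g hg hgW ⟨u, hu, hu0, huu, hu'⟩)
    obtain ⟨U', hU'⟩ : ∃ U', U' = U.map (mvLin g) := ⟨_, rfl⟩
    have hU'm : ∀ {x}, x ∈ U' ↔ ∃ a ∈ U, mv g a = x := fun {x} => by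
      rw [hU', Submodule.mem_map]
      simp [mvLin, mv]
    have hU'n : Nondeg Q U' := fun x hx h => by
      obtain ⟨a, ha, rfl⟩ := hU'm.1 hx
      rw [hU a ha fun b hb => by rw [← pol_mv hQ hgI]; exact h _ (hU'm.2 ⟨b, hb, rfl⟩), mv_zero]
    have hU'd : Module.finrank F U' = Module.finrank F U := by
      rw [hU']
      exact (LinearEquiv.finrank_eq (Submodule.equivMapOfInjective (mvLin g)
        (fun x y hxy => mv_inj g (by simpa using hxy)) U)).symm
    have hsec : ∀ c : ι → F, ∃ x ∈ U, x ≠ 0 ∧ Q x = 0 ∧ pol Q c x = 0 := by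
      intro c
      have a1 := LinearMap.finrank_range_add_finrank_ker ((formQ hQ c).comp U.subtype)
      have a2 := Submodule.finrank_le (LinearMap.range ((formQ hQ c).comp U.subtype))
      rw [Module.finrank_self] at a2
      obtain ⟨x, hx, hx0, hxx⟩ := exists_singular hQ
        (X := (LinearMap.ker ((formQ hQ c).comp U.subtype)).map U.subtype)
        (by rw [Submodule.finrank_map_subtype_eq]; omega)
      obtain ⟨x, hxk, rfl⟩ := hx
      exact ⟨x, x.2, hx0, hxx, (pol_comm _ _).trans (LinearMap.mem_ker.1 hxk)⟩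
    -- a conjugate root element fixing a singular vector of U fixes W
    have hS : ∀ e ∈ U', Q e = 0 → ∀ z ∈ U', pol Q e z = 0 →
        (∃ x ∈ U, x ≠ 0 ∧ Q x = 0 ∧ pol Q e x = 0 ∧ pol Q z x = 0) → ∀ w ∈ W,
        pol Q w e • z - (pol Q w z + Q z * pol Q w e) • e ∈ W := by
      intro e he hee z hz hez hexx w hw
      obtain ⟨a, ha, rfl⟩ := hU'm.1 he
      obtain ⟨b, hb, rfl⟩ := hU'm.1 hz
      obtain ⟨x, hx, hx0, hxx, hex1, hzx⟩ := hexx
      obtain ⟨s, hs, hss⟩ := hSU ha hb (by rwa [mem_isometry.1 hgI] at hee) (by rwa [pol_mv hQ hgI] at hez)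
      have hc := isSiegel_conj hQ hgI hss
      have hfix : mv (g * s * g⁻¹) x = x := isSiegel_fix hQ hc ((pol_comm _ _).trans hex1) ((pol_comm _ _).trans hzx)
      have hstab : g * s * g⁻¹ ∈ Geo.subspaceStabilizer W := by
        by_contra hns
        refine hno _ (M.mul_mem (M.mul_mem hg hs) (M.inv_mem hg)) hns x hx hx0 hxx ?_
        conv => arg 2; rw [← hfix]
        rw [mv_inv_mv]
        exact hx
      have h := W.sub_mem (mv_mem_of_mem_stab hstab hw) hw
      rwa [hc, show ∀ p q r : ι → F, p + q - r - p = q - r from fun p q r => by abel] at h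
    by_cases hin : ∃ e ∈ U', e ≠ 0 ∧ Q e = 0 ∧ e ∈ W
    · -- a singular vector of the image inside W drags the image into W
      obtain ⟨e, he, he0, hee, heW⟩ := hin
      obtain ⟨w, hw, hwe⟩ : ∃ w ∈ W, pol Q w e ≠ 0 := by
        by_contra h
        push Not at h
        exact he0 (hWn e heW h)
      have hperp : ∀ z ∈ U', pol Q e z = 0 → z ∈ W := by
        refine absorb hQ hU'n (by omega) (y₀ := w) he hwe fun z hz hez => hS e he hee z hz hez ?_ w hw
        obtain ⟨x, hx, hx0, hxx, hzx⟩ := hsec z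
        exact ⟨x, hx, hx0, hxx, hWU heW hx, hzx⟩
      obtain ⟨v, hv, hvv, hev⟩ := exists_partner hQ hU'n he he0 hee
      obtain ⟨hPn, hP2⟩ := nondeg_pair hQ hee hvv hev
      have hPU : Submodule.span F ({e, v} : Set (ι → F)) ≤ U' :=
        Submodule.span_le.2 (by rintro x (rfl | rfl) <;> assumption)
      obtain ⟨z, hz, hzq⟩ := exists_anisotropic hQ (nondeg_inf_orth hQ hPn hU'n hPU) fun h => by
        have := finrank_inf_orth_add hQ hPn hPU
        rw [h, finrank_bot, hP2] at this
        omega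
      have hze : pol Q e z = 0 := hz.2 e (Submodule.subset_span (Set.mem_insert _ _))
      have hzv : pol Q v z = 0 := hz.2 v (Submodule.subset_span (Set.mem_insert_of_mem _ rfl))
      have hzW : z ∈ W := hperp z hz.1 hze
      have h1 := hS v hv hvv z hz.1 hzv (by
        obtain ⟨x, hx, hx0, hxx, hvx⟩ := hsec v
        exact ⟨x, hx, hx0, hxx, hvx, hWU hzW hx⟩) e heW
      rw [hev, hze, zero_add, mul_one, one_smul] at h1
      have h2 := W.smul_mem (Q z)⁻¹ (W.sub_mem hzW h1)
      rw [sub_sub_cancel, smul_smul, inv_mul_cancel₀ hzq, one_smul] at h2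
      obtain ⟨x, hx, hxn⟩ := hswap g hgI
      refine hxn ?_
      have hx' : mv g x ∈ U' := hU'm.2 ⟨x, hx, rfl⟩
      have h3 := hperp (mv g x - pol Q e (mv g x) • v) (U'.sub_mem hx' (U'.smul_mem _ hv))
        (by rw [pol_sub_right hQ, pol_smul_right hQ, hev]; ring)
      have := W.add_mem h3 (W.smul_mem (pol Q e (mv g x)) h2)
      rwa [sub_add_cancel] at this
    -- every singular vector of the image is split by U and W
    have hout : ∀ e ∈ U', e ≠ 0 → Q e = 0 → ∃ w ∈ W, pol Q w e ≠ 0 := by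
      intro e he he0 hee
      by_contra h
      push Not at h
      obtain ⟨a, ha, rfl⟩ := hU'm.1 he
      have heU : mv g a ∈ U := by
        rw [← orth_orth_eq hQ hU, ← hWdef]
        exact h
      exact hno g hg hgW _ heU he0 hee (by rw [mv_inv_mv]; exact ha)
    have hsplit : ∀ e ∈ U', e ≠ 0 → Q e = 0 → Module.finrank F U = 4 ∧ Nat.card F = 2 ∧
        ∃ a b : ι → F, a ∈ U ⊓ U' ∧ b ∈ W ⊓ U' ∧ e = a + b := by
      intro e he he0 hee
      obtain ⟨w, hw, hwe⟩ := hout e he he0 hee
      have heW : e ∉ W := fun h => hin ⟨e, he, he0, hee, h⟩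
      obtain ⟨x, hx, hx0, hxx, hex1⟩ := hsec e
      -- elements of the hyperplane section
      have hz0 : ∀ z ∈ U', pol Q e z = 0 → pol Q x z = 0 → ∃ k : F, z + k • e ∈ W ∧
          pol Q w (z + k • e) = -Q z * pol Q w e ∧
          ∀ t ∈ W, pol Q t (z + k • e) = -Q z * pol Q t e := by
        intro z hz hez hxz
        have hf := hS e he hee z hz hez ⟨x, hx, hx0, hxx, hex1, (pol_comm _ _).trans hxz⟩
        have h1 := W.smul_mem (pol Q w e)⁻¹ (hf w hw)
        rw [smul_sub, smul_smul, smul_smul, inv_mul_cancel₀ hwe, one_smul, sub_eq_add_neg, ← neg_smul] at h1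
        refine ⟨_, h1, ?_, fun t ht => ?_⟩
        · rw [pol_add_right hQ, pol_smul_right hQ]
          field_simp
          ring
        · have h2 := W.sub_mem (hf t ht) (W.smul_mem (pol Q t e) h1)
          rw [smul_add, smul_smul,
            show ∀ (p : ι → F) (r r' : F), p - r • e - (p + r' • e) = -(r + r') • e from fun p r r' => by module]
            at h2
          by_cases hr : pol Q t z + Q z * pol Q t e +
              pol Q t e * -((pol Q w e)⁻¹ * (pol Q w z + Q z * pol Q w e)) = 0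
          · rw [pol_add_right hQ, pol_smul_right hQ]
            linear_combination hr
          · exfalso
            have := W.smul_mem (-(pol Q t z + Q z * pol Q t e +
              pol Q t e * -((pol Q w e)⁻¹ * (pol Q w z + Q z * pol Q w e))))⁻¹ h2
            rw [smul_smul, inv_mul_cancel₀ (neg_ne_zero.2 hr), one_smul] at this
            exact heW this
      obtain ⟨K, hK⟩ : ∃ K, K = (LinearMap.ker ((LinearMap.pi ![formQ hQ e, formQ hQ x]).comp U'.subtype)).map
          U'.subtype := ⟨_, rfl⟩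
      have hKm : ∀ z ∈ K, z ∈ U' ∧ pol Q e z = 0 ∧ pol Q x z = 0 := by
        rw [hK]
        rintro _ ⟨z, hz, rfl⟩
        have hz' := LinearMap.mem_ker.1 hz
        exact ⟨z.2, (pol_comm _ _).trans (congrFun hz' 0), (pol_comm _ _).trans (congrFun hz' 1)⟩
      have hKd : Module.finrank F U ≤ Module.finrank F K + 2 := by
        rw [hK, Submodule.finrank_map_subtype_eq, ← hU'd]
        have a1 := LinearMap.finrank_range_add_finrank_ker
          ((LinearMap.pi ![formQ hQ e, formQ hQ x]).comp U'.subtype)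
        have a2 := Submodule.finrank_le
          (LinearMap.range ((LinearMap.pi ![formQ hQ e, formQ hQ x]).comp U'.subtype))
        rw [Module.finrank_fin_fun] at a2
        omega
      have hq : ∀ z ∈ K, Q z = 0 → z ∈ Submodule.span F {e} := fun z hz hzz => by
        obtain ⟨hzU, hez, hxz⟩ := hKm z hz
        obtain ⟨k, hk, -, hk'⟩ := hz0 z hzU hez hxz
        have h0 : z + k • e = 0 := by
          refine hWn _ hk fun t ht => ?_
          rw [hk' t ht, hzz]; ring
        exact Submodule.mem_span_singleton.2 ⟨-k, by rw [neg_smul]; exact (eq_neg_of_add_eq_zero_left h0).symm⟩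
      obtain ⟨z, hzK, hzs⟩ : ∃ z ∈ K, z ∉ Submodule.span F {e} := by
        by_contra h
        push Not at h
        have := Submodule.finrank_mono (t := Submodule.span F {e}) h
        rw [finrank_span_singleton he0] at this
        omega
      have hzq : Q z ≠ 0 := fun h => hzs (hq z hzK h)
      obtain ⟨hzU, hez, hxz⟩ := hKm z hzK
      obtain ⟨k, hk, -, hk'⟩ := hz0 z hzU hez hxz
      -- the section is the span of e and z
      have hK2 : K ≤ Submodule.span F ({e, z} : Set (ι → F)) := by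
        intro t ht
        obtain ⟨htU, het, hxt⟩ := hKm t ht
        obtain ⟨j, hj, -, hj'⟩ := hz0 t htU het hxt
        have h0 : (t + j • e) - (Q t / Q z) • (z + k • e) = 0 := by
          refine hWn _ (W.sub_mem hj (W.smul_mem _ hk)) fun r hr => ?_
          rw [pol_sub_right hQ, pol_smul_right hQ, hj' r hr, hk' r hr]
          field_simp
          ring
        refine Submodule.mem_span_pair.2 ⟨Q t / Q z * k - j, Q t / Q z, ?_⟩
        linear_combination (norm := module) -h0
      have hU4 : Module.finrank F U = 4 := by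
        have h1 := (Submodule.finrank_mono hK2).trans (show _ ≤ 2 by
          classical
          exact (finrank_span_le_card _).trans
            (by rw [Set.toFinset_insert, Set.toFinset_singleton]; exact Finset.card_le_two))
        omega
      -- in odd characteristic the section is singular
      have htwo : (2 : F) = 0 := by
        by_contra h2
        have h1 := hk' _ hk
        rw [pol_self hQ, q_add hQ, q_smul hQ, hee, pol_add_left hQ, pol_smul_left hQ, pol_smul_right hQ,
          pol_comm z e, hez, pol_self hQ, hee] at h1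
        exact mul_ne_zero h2 hzq (by linear_combination h1)
      have hF : ∀ c : F, c = 0 ∨ c = 1 := by
        intro c
        by_contra hc
        push Not at hc
        obtain ⟨j, hj, -, hj'⟩ := hz0 (c • z) (U'.smul_mem _ hzU) (by rw [pol_smul_right hQ, hez, mul_zero])
          (by rw [pol_smul_right hQ, hxz, mul_zero])
        have hm : (j - c * k) • e ∈ W := by
          have := W.sub_mem hj (W.smul_mem c hk)
          convert this using 1
          module
        have hjk : j = c * k := by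
          by_contra h
          have := W.smul_mem (j - c * k)⁻¹ hm
          rw [smul_smul, inv_mul_cancel₀ (sub_ne_zero.2 h), one_smul] at this
          exact heW this
        have h1 := hj' w hw
        rw [hjk, mul_smul, ← smul_add, pol_smul_right hQ, hk' w hw, q_smul hQ] at h1
        exact mul_ne_zero (mul_ne_zero hc.1 (sub_ne_zero.2 hc.2)) (mul_ne_zero hzq hwe) (by linear_combination h1)
      have hcard : Nat.card F = 2 := Nat.card_eq_two_iff.2 ⟨0, 1, zero_ne_one, Set.eq_univ_of_forall fun c => by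
        rcases hF c with rfl | rfl <;> simp⟩
      have hz1 : Q z = 1 := (hF (Q z)).resolve_left hzq
      refine ⟨hU4, hcard, e - (z + k • e), z + k • e, ⟨?_, U'.sub_mem he (U'.add_mem hzU (U'.smul_mem _ he))⟩,
        ⟨hk, U'.add_mem hzU (U'.smul_mem _ he)⟩, (sub_add_cancel _ _).symm⟩
      rw [← orth_orth_eq hQ hU, ← hWdef]
      intro t ht
      rw [pol_sub_right hQ, hk' t ht, hz1]
      linear_combination pol Q t e * htwo
    -- the image is the sum of its parts in U and W
    obtain ⟨e, he, he0, hee⟩ := exists_singular hQ (X := U') (by omega)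
    obtain ⟨hU4, hcard, a, b, ha, hb, hab⟩ := hsplit e he he0 hee
    have hsum : U' ≤ (U ⊓ U') ⊔ (W ⊓ U') := by
      intro x hx
      obtain ⟨p, hp, q, hq, hpp, hqq, hxpq⟩ : ∃ p ∈ U', ∃ q ∈ U', Q p = 0 ∧ Q q = 0 ∧ x = p + q := by
        rcases eq_or_ne x 0 with rfl | hx0
        · exact ⟨0, U'.zero_mem, 0, U'.zero_mem, q_zero hQ, q_zero hQ, (add_zero 0).symm⟩
        obtain ⟨d, hd, hdd, hxd⟩ := exists_singular_not_orth hQ hU'n (by omega) hx hx0
        exact ⟨x - (Q x / pol Q x d) • d, U'.sub_mem hx (U'.smul_mem _ hd), (Q x / pol Q x d) • d,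
          U'.smul_mem _ hd, by rw [q_sub hQ, q_smul hQ, hdd, pol_smul_right hQ, div_mul_cancel₀ _ hxd]; ring,
          by rw [q_smul hQ, hdd, mul_zero], (sub_add_cancel _ _).symm⟩
      have hmem : ∀ p ∈ U', Q p = 0 → p ∈ (U ⊓ U') ⊔ (W ⊓ U') := fun p hp hpp => by
        rcases eq_or_ne p 0 with rfl | hp0
        · exact Submodule.zero_mem _
        obtain ⟨-, -, a, b, ha, hb, rfl⟩ := hsplit p hp hp0 hpp
        exact Submodule.add_mem_sup ha hb
      rw [hxpq]
      exact Submodule.add_mem _ (hmem p hp hpp) (hmem q hq hqq)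
    have hne : a ≠ 0 ∧ b ≠ 0 := by
      constructor
      · exact fun h => hin ⟨e, he, he0, hee, by rw [hab, h, zero_add]; exact hb.1⟩
      · intro h
        rw [h, add_zero] at hab
        obtain ⟨a', ha', hga'⟩ := hU'm.1 he
        exact hno g hg hgW e (hab ▸ ha.1) he0 hee (by rw [← hga', mv_inv_mv]; exact ha')
    have one : ∀ c : F, c ≠ 0 → c = 1 := fun c hc => by
      obtain ⟨x, y, hxy, huniv⟩ := Nat.card_eq_two_iff.1 hcard
      have h0 : (0 : F) = x ∨ (0 : F) = y := by simpa using huniv.ge (Set.mem_univ (0 : F))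
      have h1 : (1 : F) = x ∨ (1 : F) = y := by simpa using huniv.ge (Set.mem_univ (1 : F))
      have h2 : c = x ∨ c = y := by simpa using huniv.ge (Set.mem_univ c)
      rcases h0 with rfl | rfl <;> rcases h1 with h1 | h1 <;> rcases h2 with h2 | h2 <;>
        first
          | exact h2.trans h1.symm
          | exact absurd h2 hc
          | exact absurd h1 one_ne_zero
    have aniso : ∀ y, y ∈ U' → y ∈ U ∨ y ∈ W → y ≠ 0 → Q y = 1 := fun y hy hyor hy0 => one _ fun hyy => by
      rcases hyor with h | h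
      · obtain ⟨y', hy', rfl⟩ := hU'm.1 hy
        exact hno g hg hgW _ h hy0 hyy (by rw [mv_inv_mv]; exact hy')
      · exact hin ⟨y, hy, hy0, hyy, h⟩
    have part : ∀ p, p ≠ 0 → p ∈ U ⊓ U' ∨ p ∈ W ⊓ U' → ∃ p', (p' ∈ U ⊓ U' ∧ p ∈ U ∨ p' ∈ W ⊓ U' ∧ p ∈ W) ∧
        pol Q p p' = 1 := by
      intro p hp0 hp
      obtain ⟨y, hy, hpy⟩ : ∃ y ∈ U', pol Q p y ≠ 0 := by
        by_contra h
        push Not at h
        exact hp0 (hU'n p (hp.elim (fun h => h.2) fun h => h.2) fun y hy => (pol_comm _ _).trans (h y hy))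
      obtain ⟨r, hr, t, ht, rfl⟩ := Submodule.mem_sup.1 (hsum hy)
      rcases hp with hp | hp
      · rw [pol_add_right hQ, hUW ht.1 hp.1, add_zero] at hpy
        exact ⟨r, Or.inl ⟨hr, hp.1⟩, one _ hpy⟩
      · rw [pol_add_right hQ, hWU hp.1 hr.1, zero_add] at hpy
        exact ⟨t, Or.inr ⟨ht, hp.1⟩, one _ hpy⟩
    have hdisj : ∀ p, p ∈ U → p ∈ W → p = 0 := fun p hpU hpW => hU p hpU fun x hx => hUW hpW hx
    obtain ⟨a', ha', haa'⟩ := part a hne.1 (Or.inl ha)
    obtain ⟨b', hb', hbb'⟩ := part b hne.2 (Or.inr hb)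
    have ha'' := ha'.resolve_right fun h => hne.1 (hdisj a ha.1 h.2)
    have hb'' := hb'.resolve_left fun h => hne.2 (hdisj b h.2 hb.1)
    have ha'0 : a' ≠ 0 := fun h => by rw [h, pol_zero_right hQ] at haa'; exact zero_ne_one haa'
    have hb'0 : b' ≠ 0 := fun h => by rw [h, pol_zero_right hQ] at hbb'; exact zero_ne_one hbb'
    have h2 : (2 : F) = 0 := by
      by_contra h
      exact one_ne_zero (α := F) (by linear_combination one _ h)
    have hqt : Q (a' + b') = 0 := by
      rw [q_add hQ, aniso a' ha''.1.2 (Or.inl ha''.1.1) ha'0, aniso b' hb''.1.2 (Or.inr hb''.1.1) hb'0,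
        hUW hb''.1.1 ha''.1.1]
      linear_combination h2
    have het : pol Q e (a' + b') = 0 := by
      rw [hab, pol_add_left hQ, pol_add_right hQ, pol_add_right hQ, haa', hbb', hUW hb''.1.1 ha.1,
        hWU hb.1 ha''.1.1]
      linear_combination h2
    have hind : LinearIndependent F ![e, a' + b'] := LinearIndependent.pair_iff.2 fun k l hkl => by
      have h1 := congrArg (fun v => pol Q v a') hkl
      have h1' := congrArg (fun v => pol Q v a) hkl
      simp only [hab, pol_add_left hQ, pol_smul_left hQ, pol_zero_left hQ, pol_self hQ, h2, zero_mul, mul_zero,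
        haa', pol_comm a' a, hWU hb.1 ha''.1.1, hWU hb.1 ha.1, hWU hb''.1.1 ha''.1.1, hWU hb''.1.1 ha.1, add_zero,
        zero_add, mul_one] at h1 h1'
      exact ⟨h1, h1'⟩
    refine hsmall hU4 hcard ⟨(Submodule.span F ({e, a' + b'} : Set (ι → F))).map (mvLin g⁻¹), ?_, ?_, ?_⟩
    · rintro _ ⟨y, hy, rfl⟩
      have hyU' : y ∈ U' := Submodule.span_le.2 (by
        rintro z (rfl | rfl)
        exacts [he, U'.add_mem ha''.1.2 hb''.1.2]) hy
      obtain ⟨y', hy', rfl⟩ := hU'm.1 hyU'
      rwa [show mvLin g⁻¹ (mv g y') = mv g⁻¹ (mv g y') by simp [mvLin, mv], mv_inv_mv]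
    · rintro _ ⟨y, hy, rfl⟩
      obtain ⟨k, l, rfl⟩ := Submodule.mem_span_pair.1 hy
      rw [show mvLin g⁻¹ (k • e + l • (a' + b')) = mv g⁻¹ (k • e + l • (a' + b')) by simp [mvLin, mv],
        mem_isometry.1 ((isometryGroup F Q).inv_mem hgI), q_add hQ, q_smul hQ, q_smul hQ, pol_smul_left hQ,
        pol_smul_right hQ, hee, hqt, het]
      ring
    · have h3 := finrank_span_eq_card hind
      rw [Fintype.card_fin, Matrix.range_cons, Matrix.range_cons, Matrix.range_empty, Set.union_empty,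
        Set.singleton_union] at h3
      rw [← LinearEquiv.finrank_eq (Submodule.equivMapOfInjective (mvLin g⁻¹)
        (fun x y hxy => mv_inj g⁻¹ (by simpa [mvLin, mv] using hxy)) _), h3, hU4]
  -- the partner and the balancing space
  obtain ⟨v, hv, hvv, huv⟩ := exists_partner hQ hU hu hu0 huu
  obtain ⟨hPn, hP2⟩ := nondeg_pair hQ huu hvv huv
  have hPU : Submodule.span F ({u, v} : Set (ι → F)) ≤ U :=
    Submodule.span_le.2 (by rintro x (rfl | rfl) <;> assumption)
  have hXn := nondeg_inf_orth hQ hPn hU hPU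
  have hX3 : 2 ≤ Module.finrank F ↥(U ⊓ orth hQ (Submodule.span F ({u, v} : Set (ι → F)))) := by
    have := finrank_inf_orth_add hQ hPn hPU
    rw [hP2] at this
    omega
  have hval : ∀ c : F, c ≠ 0 → ∃ d ∈ U, pol Q u d = 0 ∧ pol Q v d = 0 ∧ Q d = c := fun c hc => by
    obtain ⟨d, hd, hdc⟩ := exists_value_any hQ hXn hX3 hc
    exact ⟨d, hd.1, hd.2 u (Submodule.subset_span (Set.mem_insert _ _)),
      hd.2 v (Submodule.subset_span (Set.mem_insert_of_mem _ rfl)), hdc⟩
  have hu' : pol Q u u = 0 := by rw [pol_self hQ, huu, mul_zero]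
  have hv' : pol Q v v = 0 := by rw [pol_self hQ, hvv, mul_zero]
  -- scaling and swapping inside U
  have htor : ∀ c : F, c ≠ 0 → ∃ g ∈ M, ∃ d ∈ M, mv g u = c⁻¹ • u ∧ mv d u = v ∧ ∀ z ∈ W, mv g z = z := by
    intro c hc
    set a := u - v
    set b := c • u - v
    have hau : pol Q u a = -1 := by rw [pol_sub_right hQ, hu', huv, zero_sub]
    have hbu : pol Q u b = -1 := by rw [pol_sub_right hQ, pol_smul_right hQ, hu', huv]; ring
    have hqa : Q a = -1 := by rw [q_sub hQ, huu, hvv, huv]; ring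
    have hqb : Q b = -c := by rw [q_sub hQ, q_smul hQ, pol_smul_left hQ, huu, hvv, huv]; ring
    obtain ⟨d, hd, hud, hvd, hdq⟩ := hval (-1) (neg_ne_zero.2 one_ne_zero)
    obtain ⟨e, he, hue, hve, heq⟩ := hval (-c) (neg_ne_zero.2 hc)
    have had : pol Q a d = 0 := by rw [pol_sub_left hQ, hud, hvd, sub_zero]
    have heb : pol Q b e = 0 := by rw [pol_sub_left hQ, pol_smul_left hQ, hue, hve]; ring
    obtain ⟨g₁, hg₁, hg₁'⟩ := exists_double hQ hn (a := a) (b := d) (by rw [hqa]; exact neg_ne_zero.2 one_ne_zero)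
      (hqa.trans hdq.symm) had
    obtain ⟨g₂, hg₂, hg₂'⟩ := exists_double hQ hn (a := b) (b := e) (by rw [hqb]; exact neg_ne_zero.2 hc)
      (hqb.trans heq.symm) heb
    have haU : a ∈ U := U.sub_mem hu hv
    have hbU : b ∈ U := U.sub_mem (U.smul_mem _ hu) hv
    have f₁ : ∀ z ∈ W, mv g₁ z = z := fun z hz => by
      rw [hg₁', hWU hz haU, hWU hz hd]; simp
    have f₂ : ∀ z ∈ W, mv g₂ z = z := fun z hz => by
      rw [hg₂', hWU hz hbU, hWU hz he]; simp
    have m₁ := hH hg₁ fun z hz => by rw [f₁ z hz]; exact hz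
    have m₂ := hH hg₂ fun z hz => by rw [f₂ z hz]; exact hz
    refine ⟨g₁ * g₂, M.mul_mem m₁ m₂, g₁, m₁, ?_, ?_, fun z hz => by rw [mv_mul, f₂ z hz, f₁ z hz]⟩
    · have : mv g₂ u = c⁻¹ • v := by
        rw [hg₂', hbu, hqb, hue, zero_div, zero_smul, sub_zero, neg_div_neg_eq, one_div, smul_sub, smul_smul,
          inv_mul_cancel₀ hc, one_smul]
        abel
      have hva : pol Q v a = 1 := by rw [pol_sub_right hQ, pol_comm v u, huv, hv', sub_zero]
      rw [mv_mul, this, mv_smul, hg₁', hva, hvd, hqa]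
      congr 1
      simp [a]
    · rw [hg₁', hau, hud, hqa]
      simp [a]
  let Y : Submodule F (ι → F) :=
    { carrier := {y | y ∈ W ∧ ∃ g ∈ M, IsSiegel Q g u y}
      zero_mem' := ⟨W.zero_mem, 1, M.one_mem, isSiegel_zero hQ u⟩
      add_mem' := fun {y y'} ⟨hy, g, hg, hgs⟩ ⟨hy', g', hg', hgs'⟩ => ⟨W.add_mem hy hy', g * g', M.mul_mem hg hg',
        isSiegel_mul hQ huu (hUW hy hu) (hUW hy' hu) hgs hgs'⟩
      smul_mem' := fun c y ⟨hy, g, hg, hgs⟩ => by
        refine ⟨W.smul_mem c hy, ?_⟩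
        rcases eq_or_ne c 0 with rfl | hc
        · exact ⟨1, M.one_mem, by rw [zero_smul]; exact isSiegel_zero hQ u⟩
        obtain ⟨t, ht, -, -, htu, -, htW⟩ := htor c⁻¹ (inv_ne_zero hc)
        refine ⟨t * g * t⁻¹, M.mul_mem (M.mul_mem ht hg) (M.inv_mem ht), ?_⟩
        have := isSiegel_conj hQ (hMO ht) hgs
        rwa [htu, htW y hy, inv_inv, isSiegel_smul hQ] at this }
  have hinv : ∀ {h : GL ι F}, h ∈ M → mv h u = u → ∀ {y}, y ∈ Y → mv h y ∈ W → mv h y ∈ Y := by
    intro h hh hhu y hy hhy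
    obtain ⟨-, g, hg, hgs⟩ := hy
    refine ⟨hhy, h * g * h⁻¹, M.mul_mem (M.mul_mem hh hg) (M.inv_mem hh), ?_⟩
    have := isSiegel_conj hQ (hMO hh) hgs
    rwa [hhu] at this
  have hy₀Y : y₀ ∈ Y := ⟨hy₀, g₀, hg₀, hg₀s⟩
  have hYW : W ≤ Y := by
    by_contra hWY
    rcases Nat.lt_or_ge (Module.finrank F W) 3 with hk | hk
    swap
    · obtain ⟨e, he, hee, hye⟩ := exists_singular_not_orth hQ hWn hk hy₀ hy00
      have habs := absorb hQ hWn hk (Y := Y) (y₀ := y₀) he hye fun z hz hez => by
        obtain ⟨g, -, hg⟩ := exists_siegel hQ hee hez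
        have hgW : ∀ x ∈ W, mv g x ∈ W := fun x hx => by
          rw [hg]; exact W.sub_mem (W.add_mem hx (W.smul_mem _ hz)) (W.smul_mem _ he)
        have := Y.sub_mem (hinv (hH (siegel_mem_omega hQ hn hee hez hg) hgW)
          (isSiegel_fix hQ hg (hUW he hu) (hUW hz hu)) hy₀Y (hgW _ hy₀)) hy₀Y
        rwa [hg, show ∀ p q r : ι → F, p + q - r - p = q - r from fun p q r => by abel] at this
      refine hWY fun x hx => ?_
      have h1 := habs (x - (pol Q x e / pol Q y₀ e) • y₀) (W.sub_mem hx (W.smul_mem _ hy₀)) (by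
        rw [pol_sub_right hQ, pol_smul_right hQ, pol_comm e y₀, div_mul_cancel₀ _ hye, pol_comm e x, sub_self])
      have := Y.add_mem h1 (Y.smul_mem (pol Q x e / pol Q y₀ e) hy₀Y)
      rwa [sub_add_cancel] at this
    · -- reflections of a line or plane
      have hrefl : ∀ a ∈ W, Q a ≠ 0 → pol Q y₀ a ≠ 0 → a ∈ Y := by
        intro a ha haq hya
        obtain ⟨b, hb, hub, -, hbq⟩ := hval (Q a) haq
        obtain ⟨g, hg, hgs⟩ := exists_double hQ hn haq hbq.symm (hWU ha hb)
        have hgW : ∀ x ∈ W, mv g x ∈ W := fun x hx => by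
          rw [hgs, hWU hx hb, zero_div, zero_smul, sub_zero]; exact W.sub_mem hx (W.smul_mem _ ha)
        have := Y.sub_mem hy₀Y (hinv (hH hg hgW)
          (by rw [hgs, hUW ha hu, hub]; simp) hy₀Y (hgW _ hy₀))
        rw [hgs, hWU hy₀ hb, zero_div, zero_smul, sub_zero, sub_sub_cancel] at this
        have := Y.smul_mem (pol Q y₀ a / Q a)⁻¹ this
        rwa [smul_smul, inv_mul_cancel₀ (div_ne_zero hya haq), one_smul] at this
      obtain ⟨x, hx, hxY, hxy⟩ : ∃ x ∈ W, x ∉ Y ∧ pol Q x y₀ ≠ 0 := by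
        obtain ⟨x₁, hx₁, hx₁Y⟩ := SetLike.not_le_iff_exists.1 hWY
        obtain ⟨x₂, hx₂, hx₂y⟩ : ∃ x ∈ W, pol Q x y₀ ≠ 0 := by
          by_contra h
          push Not at h
          exact hy00 (hWn _ hy₀ h)
        by_cases h1 : pol Q x₁ y₀ = 0
        · by_cases h2 : x₂ ∈ Y
          · exact ⟨x₁ + x₂, W.add_mem hx₁ hx₂, fun h => hx₁Y (by simpa using Y.sub_mem h h2),
              by rw [pol_add_left hQ, h1, zero_add]; exact hx₂y⟩
          · exact ⟨x₂, hx₂, h2, hx₂y⟩
        · exact ⟨x₁, hx₁, hx₁Y, h1⟩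
      have hx0 : x ≠ 0 := fun h => hxY (h ▸ Y.zero_mem)
      have hk2 : Module.finrank F W = 2 := by
        have h1 : Submodule.span F {y₀} < W := lt_of_le_of_ne ((Submodule.span_singleton_le_iff_mem _ _).2 hy₀)
          fun h => hxY ((Submodule.span_singleton_le_iff_mem _ _).2 hy₀Y (h ▸ hx))
        have := Submodule.finrank_lt_finrank_of_lt h1
        rw [finrank_span_singleton hy00] at this
        omega
      rcases hex hk2 with hani | hq4
      · exact hxY (hrefl x hx (fun h => hx0 (hani x hx h)) (by rw [pol_comm]; exact hxy))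
      · have : Fintype F := Fintype.ofFinite F
        classical
        rw [Nat.card_eq_fintype_card] at hq4
        -- the excluded parameters form a set of at most three elements
        let P : Polynomial F := Polynomial.C (Q y₀) * Polynomial.X ^ 2 + Polynomial.C (pol Q x y₀) * Polynomial.X +
          Polynomial.C (Q x)
        let R : Polynomial F := Polynomial.C (2 * Q y₀) * Polynomial.X + Polynomial.C (pol Q x y₀)
        have hP : P ≠ 0 := fun h => hxy (by
          have := congrArg (fun p => Polynomial.coeff p 1) h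
          simpa [P] using this)
        have hR : R ≠ 0 := fun h => hxy (by
          have := congrArg (fun p => Polynomial.coeff p 0) h
          simpa [R] using this)
        obtain ⟨t, ht⟩ : ∃ t : F, t ∉ P.roots.toFinset ∪ R.roots.toFinset := by
          by_contra h
          push Not at h
          have h1 := Finset.card_le_card (s := Finset.univ) (t := P.roots.toFinset ∪ R.roots.toFinset) fun t _ => h t
          have h2 := Finset.card_union_le P.roots.toFinset R.roots.toFinset
          have h3 := (Multiset.toFinset_card_le _).trans ((Polynomial.card_roots' P).trans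
            (Polynomial.natDegree_quadratic_le (a := Q y₀) (b := pol Q x y₀) (c := Q x)))
          have h4 := (Multiset.toFinset_card_le _).trans ((Polynomial.card_roots' R).trans
            (Polynomial.natDegree_linear_le (a := 2 * Q y₀) (b := pol Q x y₀)))
          rw [Finset.card_univ] at h1
          omega
        simp only [Finset.mem_union, Multiset.mem_toFinset, Polynomial.mem_roots hP, Polynomial.mem_roots hR,
          Polynomial.IsRoot.def, not_or] at ht
        refine hxY ?_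
        have := Y.sub_mem (hrefl (x + t • y₀) (W.add_mem hx (W.smul_mem _ hy₀))
          (fun h => ht.1 (by
            rw [q_add hQ, q_smul hQ, pol_smul_right hQ] at h
            simp [P]
            linear_combination h))
          (fun h => ht.2 (by
            rw [pol_add_right hQ, pol_smul_right hQ, pol_self hQ, pol_comm y₀ x] at h
            simp [R]
            linear_combination h))) (Y.smul_mem t hy₀Y)
        rwa [add_sub_cancel_right] at this
  have hufull : u ∈ qFull Q M := ⟨huu, fun y hy => by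
    obtain ⟨a, ha, hya⟩ := exists_proj hQ hU y
    rw [← hWdef] at hya
    have hua : pol Q u a = 0 := by
      have := hUW hya hu
      rw [pol_sub_right hQ, hy, zero_sub, neg_eq_zero] at this
      exact this
    obtain ⟨g, hg, hgs⟩ := hSU hu ha huu hua
    obtain ⟨-, g', hg', hgs'⟩ := hYW hya
    have := isSiegel_mul hQ huu hua (hUW hya hu) hgs hgs'
    rw [add_sub_cancel] at this
    exact ⟨g * g', M.mul_mem hg hg', this⟩⟩
  obtain ⟨-, -, d, hd, -, hdu, -⟩ := htor 1 one_ne_zero
  exact eq_omega_of_pair hQ hn hMS hufull (hdu ▸ qFull_mv hQ hMO hd hufull) huv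

theorem stab_nonsingular_maximal [Finite F] (hn : 7 ≤ Fintype.card ι) (h2 : (2 : F) = 0) {v : ι → F}
    (hv : Q v ≠ 0) :
    Geo.IsMaximalIn (Geo.omegaGL Q) (Geo.subspaceStabilizer (Submodule.span F {v}) ⊓ Geo.omegaGL Q) := by
  have hvv : pol Q v v = 0 := by rw [pol_self hQ, h2, zero_mul]
  have hv0 : v ≠ 0 := fun h => hv (by rw [h, q_zero hQ])
  refine ⟨?_, fun M hHM hMS => ?_⟩
  · refine lt_of_le_of_ne inf_le_right fun he => ?_
    have h4 := le_finrank_orth hQ (Submodule.span F {v})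
    rw [finrank_span_singleton hv0] at h4
    obtain ⟨u, hu, hu0, huu⟩ := exists_singular hQ (X := orth hQ (Submodule.span F {v})) (by omega)
    have hvu : pol Q v u = 0 := hu v (Submodule.mem_span_singleton_self v)
    obtain ⟨φ, hφ, hφv⟩ := exists_dual (W := Submodule.span F {u}) (u := v) fun h => by
      obtain ⟨c, hc⟩ := Submodule.mem_span_singleton.1 h
      exact hv (by rw [← hc, q_smul hQ, huu, mul_zero])
    obtain ⟨y, hy⟩ := exists_eq_pol hQ φ
    have huy : pol Q u y = 0 := by rw [← hy]; exact hφ u (Submodule.mem_span_singleton_self u)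
    have hvy : pol Q v y = 1 := by rw [← hy]; exact hφv
    obtain ⟨g, -, hg⟩ := exists_siegel hQ huu huy
    have h1 := mv_mem_of_mem_stab (he.ge (siegel_mem_omega hQ hn huu huy hg)).1 (Submodule.mem_span_singleton_self v)
    rw [hg, hvu, hvy, zero_smul, add_zero, mul_zero, add_zero, one_smul] at h1
    obtain ⟨c, hc⟩ := Submodule.mem_span_singleton.1
      ((Submodule.span F {v}).sub_mem (Submodule.mem_span_singleton_self v) h1)
    rw [sub_sub_cancel] at hc
    rcases eq_or_ne c 0 with rfl | hc0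
    · exact hu0 (by rw [← hc, zero_smul])
    · rw [← hc, q_smul hQ, mul_eq_zero] at huu
      exact huu.elim (pow_ne_zero 2 hc0) hv
  have hMO : M ≤ isometryGroup F Q := hMS.trans (omega_le_isometry hQ)
  have hSH : ∀ {u y : ι → F}, Q u = 0 → pol Q u y = 0 → pol Q v u = 0 → pol Q v y = 0 →
      ∃ g ∈ M, IsSiegel Q g u y := by
    intro u y huu huy hvu hvy
    obtain ⟨g, -, hg⟩ := exists_siegel hQ huu huy
    refine ⟨g, hHM ⟨mem_subspaceStabilizer_of_le fun z hz => ?_, siegel_mem_omega hQ hn huu huy hg⟩, hg⟩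
    obtain ⟨c, rfl⟩ := Submodule.mem_span_singleton.1 hz
    rw [mv_smul, isSiegel_fix hQ hg hvu hvy]; exact hz
  by_cases hsub : M ≤ Geo.subspaceStabilizer (Submodule.span F {v})
  · exact Or.inl (le_antisymm (le_inf hsub hMS) hHM)
  refine Or.inr ?_
  obtain ⟨g, hg, hgv⟩ := SetLike.not_le_iff_exists.1 hsub
  have hgI := hMO hg
  set w := mv g v with hwdef
  have hwv : w ∉ Submodule.span F {v} := fun h => hgv (mem_subspaceStabilizer_of_le fun z hz => by
    obtain ⟨c, rfl⟩ := Submodule.mem_span_singleton.1 hz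
    rw [mv_smul]; exact Submodule.smul_mem _ c h)
  have hqw : Q w = Q v := mem_isometry.1 hgI v
  -- a singular vector orthogonal to v and w, outside their span
  obtain ⟨C, hC⟩ := (Submodule.span F ({v, w} : Set (ι → F))).exists_isCompl
  have h1 := Submodule.finrank_add_eq_of_isCompl hC
  rw [Module.finrank_pi] at h1
  have h4 := le_finrank_orth hQ (Submodule.span F ({v, w} : Set (ι → F)))
  have h7 : Module.finrank F ↥(Submodule.span F ({v, w} : Set (ι → F))) ≤ 2 := by
    classical
    exact (finrank_span_le_card _).trans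
      (by rw [Set.toFinset_insert, Set.toFinset_singleton]; exact Finset.card_le_two)
  have h5 := Submodule.finrank_sup_add_finrank_inf_eq C (orth hQ (Submodule.span F ({v, w} : Set (ι → F))))
  have h6 := Submodule.finrank_le (C ⊔ orth hQ (Submodule.span F ({v, w} : Set (ι → F))))
  rw [Module.finrank_pi] at h6
  obtain ⟨u, hu, hu0, huu⟩ := exists_singular hQ
    (X := C ⊓ orth hQ (Submodule.span F ({v, w} : Set (ι → F)))) (by omega)
  have hvu : pol Q v u = 0 := hu.2 v (Submodule.subset_span (Set.mem_insert _ _))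
  have hwu : pol Q w u = 0 := hu.2 w (Submodule.subset_span (Set.mem_insert_of_mem _ rfl))
  have hind : v ∉ Submodule.span F ({u, w} : Set (ι → F)) := fun h => by
    obtain ⟨a, b, hab⟩ := Submodule.mem_span_pair.1 h
    rcases eq_or_ne a 0 with rfl | ha
    · rw [zero_smul, zero_add] at hab
      rcases eq_or_ne b 0 with rfl | hb
      · exact hv0 (by rw [← hab, zero_smul])
      exact hwv (Submodule.mem_span_singleton.2 ⟨b⁻¹, by rw [← hab, smul_smul, inv_mul_cancel₀ hb, one_smul]⟩)
    refine hu0 ?_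
    have : u ∈ Submodule.span F ({v, w} : Set (ι → F)) ⊓ C := ⟨Submodule.mem_span_pair.2 ⟨a⁻¹, -(a⁻¹ * b), by
      rw [← hab, smul_add, smul_smul, smul_smul, inv_mul_cancel₀ ha, neg_smul]; module⟩, hu.1⟩
    rwa [hC.inf_eq_bot, Submodule.mem_bot] at this
  obtain ⟨φ, hφ, hφv⟩ := exists_dual hind
  obtain ⟨y₁, hy₁⟩ := exists_eq_pol hQ φ
  have hy₁v : pol Q v y₁ = 1 := by rw [← hy₁]; exact hφv
  have hy₁u : pol Q u y₁ = 0 := by rw [← hy₁]; exact hφ u (Submodule.subset_span (Set.mem_insert _ _))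
  have hy₁w : pol Q w y₁ = 0 := by rw [← hy₁]; exact hφ w (Submodule.subset_span (Set.mem_insert_of_mem _ rfl))
  have hufull : u ∈ qFull Q M := ⟨huu, fun y hy => by
    set t := pol Q v y
    have e1 : pol Q u (t • y₁) = 0 := by rw [pol_smul_right hQ, hy₁u, mul_zero]
    obtain ⟨s, hs, hss⟩ := hSH (u := mv g⁻¹ u) (y := mv g⁻¹ (t • y₁))
      (by rw [← mem_isometry.1 hgI, mv_mv_inv]; exact huu)
      (by rw [← pol_mv hQ hgI, mv_mv_inv, mv_mv_inv]; exact e1)
      (by rw [← pol_mv hQ hgI, mv_mv_inv, ← hwdef]; exact hwu)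
      (by rw [← pol_mv hQ hgI, mv_mv_inv, ← hwdef, pol_smul_right hQ, hy₁w, mul_zero])
    have hc := isSiegel_conj hQ hgI hss
    rw [mv_mv_inv, mv_mv_inv] at hc
    have e2 : pol Q u (y - t • y₁) = 0 := by rw [pol_sub_right hQ, hy, e1, sub_zero]
    obtain ⟨s', hs', hss'⟩ := hSH huu e2 hvu (by rw [pol_sub_right hQ, pol_smul_right hQ, hy₁v]; simp [t])
    have := isSiegel_mul hQ huu e2 e1 hss' hc
    rw [sub_add_cancel] at this
    exact ⟨_, M.mul_mem hs' (M.mul_mem (M.mul_mem hg hs) (M.inv_mem hg)), this⟩⟩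
  -- a partner orthogonal to v
  have huv : v ∉ Submodule.span F {u} := fun h => hind (Submodule.span_mono (Set.singleton_subset_iff.2
    (Set.mem_insert _ _)) h)
  obtain ⟨z, hvz, huz⟩ := exists_orth_not_orth hQ (W := Submodule.span F {u}) huv
    (Submodule.mem_span_singleton_self u) hu0
  set p := z - Q z • u with hpdef
  have hpp : Q p = 0 := by rw [hpdef, q_sub hQ, q_smul hQ, pol_smul_right hQ, pol_comm z u, huz, huu]; ring
  have hup : pol Q u p = 1 := by rw [hpdef, pol_sub_right hQ, pol_smul_right hQ, huz, pol_self hQ, huu]; ring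
  have hvp : pol Q v p = 0 := by rw [hpdef, pol_sub_right hQ, pol_smul_right hQ, hvz, hvu]; ring
  obtain ⟨k₀, hk₀⟩ := FiniteField.isSquare_of_char_two
    (ringChar.eq_iff.2 (CharTwo.of_one_ne_zero_of_two_eq_zero one_ne_zero h2)) (-1 / Q v)
  rw [div_eq_iff hv] at hk₀
  set d := k₀ • v with hd
  have hdq : Q d = -1 := by rw [hd, q_smul hQ, hk₀]; ring
  have hud : pol Q u d = 0 := by rw [hd, pol_smul_right hQ, pol_comm u v, hvu, mul_zero]
  have hpd : pol Q p d = 0 := by rw [hd, pol_smul_right hQ, pol_comm p v, hvp, mul_zero]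
  have hvd : pol Q v d = 0 := by rw [hd, pol_smul_right hQ, hvv, mul_zero]
  have hqa : Q (u - p) = -1 := by rw [q_sub hQ, huu, hpp, hup]; ring
  obtain ⟨k, hk, hks⟩ := exists_double hQ hn (a := u - p) (b := d)
    (by rw [hqa]; exact neg_ne_zero.2 one_ne_zero) (hqa.trans hdq.symm)
    (by rw [pol_sub_left hQ, hud, hpd, sub_zero])
  have hkv : mv k v = v := by rw [hks, pol_sub_right hQ, hvu, hvp, hvd]; simp
  have hkM : k ∈ M := hHM ⟨mem_subspaceStabilizer_of_le fun x hx => by
    obtain ⟨c, rfl⟩ := Submodule.mem_span_singleton.1 hx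
    rw [mv_smul, hkv]; exact hx, hk⟩
  have hku : mv k u = p := by
    rw [hks, pol_sub_right hQ, pol_self hQ, huu, hup, hqa, hud]
    simp
  exact eq_omega_of_pair hQ hn hMS hufull (hku ▸ qFull_mv hQ hMO hkM hufull) hup

end Cfsg.Agent.Transvec.Orth
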