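/-
Common part of the maximality proofs for subfield subgroups: rational vectors and matrices, matrices that are
rational up to a scalar, and the involution argument showing that an overgroup consists of such matrices.
-/
import Cfsg.Agent.Lib.Transvec.Basic
set_option autoImplicit false

namespace Cfsg.Agent.Transvec

open scoped Matrix
open Matrix

variable {ι : Type} [Fintype ι] [DecidableEq ι] {F : Type*} [Field F] (F₀ : Subfield F)

/-- A vector with entries in F₀. -/
def RatV (x : ι → F) : Prop := ∀ i, x i ∈ F₀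

/-- A matrix with entries in F₀. -/
def RatM (A : Matrix ι ι F) : Prop := ∀ i j, A i j ∈ F₀

/-- A functional taking values in F₀ on rational vectors. -/
def RatD (φ : Module.Dual F (ι → F)) : Prop := ∀ i, φ (Pi.single i 1) ∈ F₀

/-- A non-zero multiple has entries in F₀. -/
def RatLine (x : ι → F) : Prop := ∃ a : F, a ≠ 0 ∧ RatV F₀ (a • x)

/-- An invertible matrix that becomes rational after multiplying by a scalar. -/
def SRat (g : GL ι F) : Prop := ∃ a : F, a ≠ 0 ∧ RatM F₀ (a • (g : Matrix ι ι F))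

variable {F₀}

theorem ratV_add {x y : ι → F} (hx : RatV F₀ x) (hy : RatV F₀ y) : RatV F₀ (x + y) :=
  fun i => F₀.add_mem (hx i) (hy i)

theorem ratV_smul {x : ι → F} {a : F} (ha : a ∈ F₀) (hx : RatV F₀ x) : RatV F₀ (a • x) :=
  fun i => F₀.mul_mem ha (hx i)

theorem ratV_single (i : ι) {a : F} (ha : a ∈ F₀) : RatV F₀ (Pi.single i a : ι → F) := fun j => by
  by_cases h : j = i
  · subst h; simpa using ha
  · simp [h]

theorem ratM_one : RatM F₀ (1 : Matrix ι ι F) := fun i j => by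
  rw [Matrix.one_apply]; split <;> simp

theorem ratM_mul {A B : Matrix ι ι F} (hA : RatM F₀ A) (hB : RatM F₀ B) : RatM F₀ (A * B) :=
  fun i j => by
    rw [Matrix.mul_apply]
    exact F₀.sum_mem fun k _ => F₀.mul_mem (hA i k) (hB k j)

theorem ratM_sub {A B : Matrix ι ι F} (hA : RatM F₀ A) (hB : RatM F₀ B) : RatM F₀ (A - B) :=
  fun i j => F₀.sub_mem (hA i j) (hB i j)

theorem ratM_add {A B : Matrix ι ι F} (hA : RatM F₀ A) (hB : RatM F₀ B) : RatM F₀ (A + B) :=
  fun i j => F₀.add_mem (hA i j) (hB i j)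

theorem ratV_mulVec {A : Matrix ι ι F} {x : ι → F} (hA : RatM F₀ A) (hx : RatV F₀ x) :
    RatV F₀ (A *ᵥ x) :=
  fun i => F₀.sum_mem fun k _ => F₀.mul_mem (hA i k) (hx k)

theorem ratM_det {A : Matrix ι ι F} (hA : RatM F₀ A) : A.det ∈ F₀ := by
  rw [Matrix.det_apply']
  exact F₀.sum_mem fun σ _ => F₀.mul_mem (intCast_mem F₀ _) (F₀.prod_mem fun k _ => hA _ _)

theorem ratM_inv {A : Matrix ι ι F} (hA : RatM F₀ A) : RatM F₀ A⁻¹ := by
  intro i j
  rw [Matrix.inv_def, Matrix.smul_apply, Ring.inverse_eq_inv', Matrix.adjugate_apply, smul_eq_mul]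
  refine F₀.mul_mem (F₀.inv_mem (ratM_det hA)) (ratM_det fun k l => ?_)
  rw [Matrix.updateRow_apply]
  split
  · exact ratV_single i F₀.one_mem l
  · exact hA k l

theorem ratD_apply {φ : Module.Dual F (ι → F)} (hφ : RatD F₀ φ) {x : ι → F} (hx : RatV F₀ x) :
    φ x ∈ F₀ := by
  rw [pi_eq_sum_univ' x, map_sum]
  refine F₀.sum_mem fun i _ => ?_
  rw [map_smul]
  exact F₀.mul_mem (hx i) (hφ i)

/-- The functional given by a row vector. -/
noncomputable def dotDual (c : ι → F) : Module.Dual F (ι → F) :=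
  ∑ i, c i • LinearMap.proj i

theorem dotDual_apply (c x : ι → F) : dotDual c x = ∑ i, c i * x i := by
  simp [dotDual, LinearMap.sum_apply]

theorem dotDual_single (c : ι → F) (i : ι) : dotDual c (Pi.single i 1) = c i := by
  simp [dotDual_apply, Pi.single_apply]

theorem ratD_dotDual {c : ι → F} (hc : RatV F₀ c) : RatD F₀ (dotDual c) := fun i => by
  rw [dotDual_single]; exact hc i

theorem dotDual_ne_zero {c : ι → F} (hc : c ≠ 0) : dotDual c ≠ 0 := fun h => hc <| funext fun i => by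
  rw [← dotDual_single c i, h]; rfl

/-- A singular rational matrix has a non-zero rational left kernel vector. -/
theorem exists_rat_left_ker {D : Matrix ι ι F} (hD : RatM F₀ D) (hdet : D.det = 0) :
    ∃ c : ι → F, c ≠ 0 ∧ RatV F₀ c ∧ ∀ x, dotDual c (D *ᵥ x) = 0 := by
  set D₀ : Matrix ι ι F₀ := fun i j => ⟨D i j, hD i j⟩ with hD₀
  have hmap : D₀.map F₀.subtype = D := rfl
  have h0 : D₀.det = 0 := by
    apply F₀.subtype.injective
    rw [RingHom.map_det, map_zero]
    exact hdet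
  obtain ⟨v, hv0, hv⟩ := Matrix.exists_vecMul_eq_zero_iff.2 h0
  refine ⟨fun i => (v i : F), fun h => hv0 (funext fun i => Subtype.ext (congrFun h i)),
    fun i => (v i).2, fun x => ?_⟩
  have key : (fun i => (v i : F)) ᵥ* D = 0 := by
    funext j
    have := congrArg Subtype.val (congrFun hv j)
    simpa [Matrix.vecMul, dotProduct, hD₀] using this
  have : (fun i => (v i : F)) ⬝ᵥ (D *ᵥ x) = 0 := by rw [Matrix.dotProduct_mulVec, key, zero_dotProduct]
  rw [dotDual_apply]
  exact this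

/-- F₀-linear conditions, fewer than the dimension, have a common non-zero rational solution. -/
theorem exists_rat_zero {W : Type*} [AddCommGroup W] [Module F₀ W] [Module.Finite F₀ W]
    (L : (ι → F₀) →ₗ[F₀] W) (h : Module.finrank F₀ W < Fintype.card ι) :
    ∃ v : ι → F₀, v ≠ 0 ∧ L v = 0 := by
  have hlt : Module.finrank F₀ W < Module.finrank F₀ (ι → F₀) := by rwa [Module.finrank_pi]
  obtain ⟨v, hv, hv0⟩ := (LinearMap.ker L).ne_bot_iff.1 (LinearMap.ker_ne_bot_of_finrank_lt hlt)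
  exact ⟨v, hv0, LinearMap.mem_ker.1 hv⟩

theorem ratV_coe (v : ι → F₀) : RatV F₀ (fun i => (v i : F)) := fun i => (v i).2

theorem coe_ne_zero {v : ι → F₀} (hv : v ≠ 0) : (fun i => (v i : F)) ≠ 0 :=
  fun h => hv (funext fun i => Subtype.ext (congrFun h i))

/-- A rational functional killing two given rational vectors. -/
theorem exists_ratD_two (hn : 3 ≤ Fintype.card ι) {u w : ι → F} (hu : RatV F₀ u) (hw : RatV F₀ w) :
    ∃ c : ι → F, c ≠ 0 ∧ RatV F₀ c ∧ dotDual c u = 0 ∧ dotDual c w = 0 := by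
  set u₀ : ι → F₀ := fun i => ⟨u i, hu i⟩
  set w₀ : ι → F₀ := fun i => ⟨w i, hw i⟩
  obtain ⟨v, hv0, hv⟩ := exists_rat_zero (F₀ := F₀)
    ((∑ i, u₀ i • (LinearMap.proj i : (ι → F₀) →ₗ[F₀] F₀)).prod
      (∑ i, w₀ i • (LinearMap.proj i : (ι → F₀) →ₗ[F₀] F₀)))
    (by rw [Module.finrank_prod, Module.finrank_self]; omega)
  refine ⟨fun i => (v i : F), coe_ne_zero hv0, ratV_coe v, ?_, ?_⟩
  · have := congrArg (fun p : F₀ × F₀ => (p.1 : F)) hv
    rw [dotDual_apply]
    simpa [LinearMap.sum_apply, u₀, mul_comm] using this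
  · have := congrArg (fun p : F₀ × F₀ => (p.2 : F)) hv
    rw [dotDual_apply]
    simpa [LinearMap.sum_apply, w₀, mul_comm] using this

/-- A rational vector killed by two given rational functionals. -/
theorem exists_ratV_two (hn : 3 ≤ Fintype.card ι) {φ ψ : Module.Dual F (ι → F)} (hφ : RatD F₀ φ)
    (hψ : RatD F₀ ψ) : ∃ v : ι → F, v ≠ 0 ∧ RatV F₀ v ∧ φ v = 0 ∧ ψ v = 0 := by
  obtain ⟨c, hc0, hc, h1, h2⟩ := exists_ratD_two hn (u := fun i => φ (Pi.single i 1))
    (w := fun i => ψ (Pi.single i 1)) hφ hψ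
  refine ⟨c, hc0, hc, ?_, ?_⟩
  · rw [← h1, dotDual_apply]
    conv_lhs => rw [pi_eq_sum_univ' c, map_sum]
    simp
  · rw [← h2, dotDual_apply]
    conv_lhs => rw [pi_eq_sum_univ' c, map_sum]
    simp

/-! ### Rational up to scalars -/

theorem srat_mv {g : GL ι F} (hg : SRat F₀ g) {v : ι → F} (hv : RatV F₀ v) :
    RatLine F₀ (mv g v) := by
  obtain ⟨a, ha, h⟩ := hg
  refine ⟨a, ha, ?_⟩
  have := ratV_mulVec h hv
  rwa [Matrix.smul_mulVec] at this

/-- A matrix mapping every rational line to a rational line is rational up to a scalar. -/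
theorem srat_of_lines [Nonempty ι] {g : GL ι F}
    (h : ∀ v : ι → F, RatV F₀ v → v ≠ 0 → RatLine F₀ (mv g v)) : SRat F₀ g := by
  choose a ha0 ha using fun i => h (Pi.single i 1) (ratV_single i F₀.one_mem)
    (fun hc => one_ne_zero (α := F) (by simpa using congrFun hc i))
  set W : Matrix ι ι F := (g : Matrix ι ι F) * Matrix.diagonal a with hW
  have hWcol : ∀ k i, W k i = (a i • mv g (Pi.single i 1)) k := by
    intro k i
    simp [hW, Matrix.mul_diagonal, mv, Matrix.mulVec_single, mul_comm]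
  have hWrat : RatM F₀ W := fun k i => by rw [hWcol]; exact ha i k
  have hWdet : W.det ≠ 0 := by
    rw [hW, Matrix.det_mul, Matrix.det_diagonal]
    exact mul_ne_zero (Matrix.GeneralLinearGroup.det_ne_zero g) (Finset.prod_ne_zero_iff.2 fun i _ => ha0 i)
  have ratio : ∀ i j, a i / a j ∈ F₀ := by
    intro i j
    rcases eq_or_ne i j with rfl | hij
    · rw [div_self (ha0 i)]; exact F₀.one_mem
    have hv : (Pi.single i 1 + Pi.single j 1 : ι → F) ≠ 0 := fun hc => one_ne_zero (α := F) (by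
      simpa [hij] using congrFun hc i)
    obtain ⟨b, hb, hbr⟩ := h _ (ratV_add (ratV_single i F₀.one_mem) (ratV_single j F₀.one_mem)) hv
    set c : ι → F := Pi.single i (b / a i) + Pi.single j (b / a j)
    have hc : W *ᵥ c = b • mv g (Pi.single i 1 + Pi.single j 1) := by
      rw [hW, ← Matrix.mulVec_mulVec, ← mv_smul]
      show mv g _ = mv g _
      congr 1
      funext k
      simp only [Matrix.mulVec_diagonal, c, Pi.add_apply, Pi.smul_apply, smul_eq_mul]
      rcases eq_or_ne k i with rfl | hki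
      · simp [hij, mul_div_cancel₀ _ (ha0 k)]
      rcases eq_or_ne k j with rfl | hkj
      · simp [hki, mul_div_cancel₀ _ (ha0 k)]
      · simp [hki, hkj]
    have hcrat : RatV F₀ c := by
      have := ratV_mulVec (ratM_inv hWrat) hbr
      rwa [← hc, Matrix.mulVec_mulVec, Matrix.nonsing_inv_mul _ (isUnit_iff_ne_zero.2 hWdet),
        Matrix.one_mulVec] at this
    have h1 : b / a i ∈ F₀ := by simpa [c, hij] using hcrat i
    have h2 : b / a j ∈ F₀ := by simpa [c, hij.symm] using hcrat j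
    have := F₀.div_mem h2 h1
    rwa [show b / a j / (b / a i) = a i / a j by field_simp] at this
  obtain ⟨i₀⟩ := ‹Nonempty ι›
  refine ⟨a i₀, ha0 i₀, fun k i => ?_⟩
  have := F₀.mul_mem (ratio i₀ i) (hWrat k i)
  rw [hW, Matrix.mul_diagonal] at this
  rw [Matrix.smul_apply, smul_eq_mul]
  rwa [show a i₀ / a i * ((g : Matrix ι ι F) k i * a i) = a i₀ * (g : Matrix ι ι F) k i by
    field_simp [ha0 i]] at this

theorem mem_subfield_one_iff (g : GL ι F) :
    g ∈ (Matrix.GeneralLinearGroup.map (F₀.subtype : F₀ →+* F)).range ⊔ Geo.scalars ι F ↔ SRat F₀ g := by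
  constructor
  · intro hg
    obtain ⟨r, ⟨r₀, rfl⟩, σ, hσ, rfl⟩ := Subgroup.mem_sup_of_normal_right.1 hg
    obtain ⟨c, hc⟩ := (Geo.mem_scalars_iff σ).1 hσ
    refine ⟨(c : F)⁻¹, inv_ne_zero c.ne_zero, fun i j => ?_⟩
    rw [Units.val_mul, hc, Matrix.mul_smul, Matrix.mul_one, smul_smul, inv_mul_cancel₀ c.ne_zero, one_smul]
    exact ((r₀ : Matrix ι ι F₀) i j).2
  · rintro ⟨a, ha, h⟩
    set A₀ : Matrix ι ι F₀ := fun i j => ⟨_, h i j⟩ with hA₀
    have hmap : F₀.subtype.mapMatrix A₀ = a • (g : Matrix ι ι F) := rfl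
    have hdet : A₀.det ≠ 0 := fun h0 => by
      have h1 := congrArg F₀.subtype h0
      rw [RingHom.map_det, hmap, map_zero, Matrix.det_smul] at h1
      exact mul_ne_zero (pow_ne_zero _ ha) (Matrix.GeneralLinearGroup.det_ne_zero g) h1
    refine Subgroup.mem_sup_of_normal_right.2 ⟨_, ⟨Matrix.GeneralLinearGroup.mkOfDetNeZero A₀ hdet, rfl⟩,
      Units.map (Matrix.scalar ι : F →+* Matrix ι ι F).toMonoidHom (Units.mk0 a ha)⁻¹, ⟨_, rfl⟩, Units.ext ?_⟩
    rw [Units.val_mul]
    show (F₀.subtype.mapMatrix A₀) * Matrix.scalar ι (a⁻¹ : F) = _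
    rw [hmap, Matrix.scalar_apply, ← Matrix.smul_one_eq_diagonal, Matrix.mul_smul, Matrix.mul_one,
      smul_smul, inv_mul_cancel₀ ha, one_smul]

/-! ### Conjugate ranks -/

theorem rank_conj (q : GL ι F) (A : Matrix ι ι F) :
    ((q : Matrix ι ι F) * A * ((q⁻¹ : GL ι F) : Matrix ι ι F)).rank = A.rank := by
  rw [Matrix.rank_mul_eq_left_of_isUnit_det _ _ (Matrix.isUnit_det_of_right_inverse (by
      rw [← Units.val_mul, inv_mul_cancel]; rfl)),
    Matrix.rank_mul_eq_right_of_isUnit_det _ _ (Matrix.isUnit_det_of_right_inverse (by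
      rw [← Units.val_mul, mul_inv_cancel]; rfl))]

theorem rank_add_le' (A B : Matrix ι ι F) : (A + B).rank ≤ A.rank + B.rank := by
  refine (Submodule.finrank_mono (t := LinearMap.range A.mulVecLin ⊔ LinearMap.range B.mulVecLin) ?_).trans
    (Submodule.finrank_add_le_finrank_add_finrank _ _)
  rintro _ ⟨v, rfl⟩
  rw [Matrix.mulVecLin_add, LinearMap.add_apply]
  exact Submodule.add_mem_sup (LinearMap.mem_range_self _ v) (LinearMap.mem_range_self _ v)

theorem rank_neg_mat (A : Matrix ι ι F) : (-A).rank = A.rank := by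
  rw [show -A = (-1 : Matrix ι ι F) * A by rw [neg_one_mul]]
  refine Matrix.rank_mul_eq_right_of_isUnit_det _ _ ?_
  rw [Matrix.det_neg, Matrix.det_one, mul_one]
  exact isUnit_one.neg.pow _

/-! ### The involution argument -/

theorem invol_det_sub_one {s : GL ι F} (hs2 : s * s = 1) (hs : (s : Matrix ι ι F) ≠ -1) :
    ((s : Matrix ι ι F) - 1).det = 0 := by
  by_contra h
  apply hs
  have h2 : (s : Matrix ι ι F) * s = 1 := by rw [← Units.val_mul, hs2]; rfl
  have h1 : ((s : Matrix ι ι F) - 1) * ((s : Matrix ι ι F) + 1) = 0 := by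
    simp [sub_mul, mul_add, h2]
  have hu : IsUnit ((s : Matrix ι ι F) - 1).det := isUnit_iff_ne_zero.2 h
  have h3 := congrArg (((s : Matrix ι ι F) - 1)⁻¹ * ·) h1
  simp only [← Matrix.mul_assoc, Matrix.nonsing_inv_mul _ hu, Matrix.one_mul, Matrix.mul_zero] at h3
  exact eq_neg_of_add_eq_zero_left h3

theorem ratM_of_srat_sq (hr : ∀ a : F, a ^ 2 ∈ F₀ → a ∈ F₀) [Nonempty ι] {w : GL ι F}
    (hw : SRat F₀ w) (h2 : w * w = 1) : RatM F₀ (w : Matrix ι ι F) := by
  obtain ⟨a, ha, h⟩ := hw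
  obtain ⟨i⟩ := ‹Nonempty ι›
  have hsq := ratM_mul h h i i
  rw [Matrix.smul_mul, Matrix.mul_smul, ← Units.val_mul, h2, smul_smul] at hsq
  have haF : a ∈ F₀ := hr a (by simpa [pow_two] using hsq)
  intro k l
  have := F₀.mul_mem (F₀.inv_mem haF) (h k l)
  rwa [Matrix.smul_apply, smul_eq_mul, inv_mul_cancel_left₀ ha] at this

/-- If every element of M conjugating one rational involution of small rank to another one is rational up to a
scalar, and M contains two rational involutions that are not conjugate up to sign, then all of M is. -/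
theorem srat_of_involution_conj [Finite F] [Nonempty ι] {M : Subgroup (GL ι F)}
    (hr : ∀ a : F, a ^ 2 ∈ F₀ → a ∈ F₀)
    {s z : GL ι F}
    (hK : ∀ g ∈ M, ∀ x ∈ M, ∀ x' ∈ M, x * x = 1 → x' * x' = 1 → RatM F₀ (x : Matrix ι ι F) →
      RatM F₀ (x' : Matrix ι ι F) → x ≠ 1 → (x : Matrix ι ι F) ≠ -1 →
      ((x : Matrix ι ι F) - 1).rank ≤ ((s : Matrix ι ι F) - 1).rank + ((z : Matrix ι ι F) - 1).rank →
      g * x = x' * g → SRat F₀ g)
    (hs : s ∈ M) (hz : z ∈ M) (hs2 : s * s = 1) (hz2 : z * z = 1)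
    (hsR : RatM F₀ (s : Matrix ι ι F)) (hzR : RatM F₀ (z : Matrix ι ι F))
    (hs1 : s ≠ 1) (hsn : (s : Matrix ι ι F) ≠ -1) (hz1 : z ≠ 1) (hzn : (z : Matrix ι ι F) ≠ -1)
    (hab : ((s : Matrix ι ι F) - 1).rank ≠ ((z : Matrix ι ι F) - 1).rank)
    (hneg : (-1 : F) = 1 ∨ (((s : Matrix ι ι F) + 1).rank ≠ ((z : Matrix ι ι F) - 1).rank ∧
      ((s : Matrix ι ι F) + 1).rank ≠ ((s : Matrix ι ι F) - 1).rank)) :
    ∀ g ∈ M, SRat F₀ g := by
  intro g hg
  obtain ⟨t, ht⟩ : ∃ t : GL ι F, t = g * z * g⁻¹ := ⟨_, rfl⟩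
  have htM : t ∈ M := ht ▸ M.mul_mem (M.mul_mem hg hz) (M.inv_mem hg)
  have ht2 : t * t = 1 := by
    rw [ht, show g * z * g⁻¹ * (g * z * g⁻¹) = g * (z * z) * g⁻¹ by group, hz2]; group
  have htv : ∀ A : Matrix ι ι F, (t : Matrix ι ι F) - A =
      (g : Matrix ι ι F) * ((z : Matrix ι ι F) - ((g⁻¹ : GL ι F) : Matrix ι ι F) * A * g) *
        ((g⁻¹ : GL ι F) : Matrix ι ι F) := by
    intro A
    rw [ht, Units.val_mul, Units.val_mul, mul_sub, sub_mul]
    congr 1
    simp [← Matrix.mul_assoc, Matrix.mul_assoc A]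
  have ht1 : (t : Matrix ι ι F) - 1 =
      (g : Matrix ι ι F) * ((z : Matrix ι ι F) - 1) * ((g⁻¹ : GL ι F) : Matrix ι ι F) := by
    rw [htv 1, Matrix.mul_one, ← Units.val_mul, inv_mul_cancel]; rfl
  -- it suffices that t is rational
  suffices htR : RatM F₀ (t : Matrix ι ι F) by
    exact hK g hg z hz t htM hz2 ht2 hzR htR hz1 hzn (Nat.le_add_left _ _) (by rw [ht]; group)
  have hsR' : ∀ x ∈ M, x * s = s * x → SRat F₀ x := fun x hx hxs =>
    hK x hx s hs s hs hs2 hs2 hsR hsR hs1 hsn (Nat.le_add_right _ _) hxs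
  -- powers of s * t
  obtain ⟨y, hy⟩ : ∃ y : GL ι F, y = s * t := ⟨_, rfl⟩
  have hex : ∃ m, 0 < m ∧ y ^ m ∈ Geo.scalars ι F := by
    obtain ⟨m, hm, hm1⟩ := (isOfFinOrder_iff_pow_eq_one.1 (isOfFinOrder_of_finite y))
    exact ⟨m, hm, hm1 ▸ one_mem _⟩
  classical
  obtain ⟨hm0, hmC⟩ := Nat.find_spec hex
  have hmin : ∀ l, 0 < l → l < Nat.find hex → y ^ l ∉ Geo.scalars ι F := fun l hl hlt h =>
    Nat.find_min hex hlt ⟨hl, h⟩
  obtain ⟨c, hc⟩ := (Geo.mem_scalars_iff _).1 hmC
  have hsys : s * y * s⁻¹ = y⁻¹ := by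
    rw [inv_eq_of_mul_eq_one_right hs2, hy, _root_.mul_inv_rev, inv_eq_of_mul_eq_one_right hs2,
      inv_eq_of_mul_eq_one_right ht2, ← mul_assoc, hs2, one_mul]
  have hsl : ∀ l : ℕ, s * y ^ l * s⁻¹ = (y ^ l)⁻¹ := fun l => by
    rw [← conj_pow, hsys, inv_pow]
  have htyt : t * y * t⁻¹ = y⁻¹ := by
    rw [inv_eq_of_mul_eq_one_right ht2, hy, _root_.mul_inv_rev, inv_eq_of_mul_eq_one_right hs2,
      inv_eq_of_mul_eq_one_right ht2, mul_assoc, mul_assoc, ht2, mul_one]
  have htl : ∀ l : ℕ, t * y ^ l * t⁻¹ = (y ^ l)⁻¹ := fun l => by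
    rw [← conj_pow, htyt, inv_pow]
  rcases Nat.even_or_odd' (Nat.find hex) with ⟨l, hl | hl⟩
  · -- even case: a central involution of the dihedral group
    obtain ⟨w, hw⟩ : ∃ w : GL ι F, w = y ^ l := ⟨_, rfl⟩
    have hwC : w ∉ Geo.scalars ι F := hw ▸ hmin l (by omega) (by omega)
    have hw2 : ((w * w : GL ι F) : Matrix ι ι F) = (c : F) • 1 := by
      rw [hw, ← pow_add, ← two_mul, ← hl]; exact hc
    have hsw : s * w * s⁻¹ = w⁻¹ := by rw [hw]; exact hsl l
    have htw : t * w * t⁻¹ = w⁻¹ := by rw [hw]; exact htl l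
    have hwinv : ((w⁻¹ : GL ι F) : Matrix ι ι F) = (c : F)⁻¹ • (w : Matrix ι ι F) := by
      have : ((w⁻¹ * (w * w) : GL ι F) : Matrix ι ι F) = w := by rw [inv_mul_cancel_left]
      rw [Units.val_mul, hw2, Matrix.mul_smul, Matrix.mul_one] at this
      conv_rhs => rw [← this]
      rw [smul_smul, inv_mul_cancel₀ c.ne_zero, one_smul]
    have hc2 : (c : F) * c = 1 := by
      have h1 : ((s * (w * w) * s⁻¹ : GL ι F) : Matrix ι ι F) = ((w⁻¹ * w⁻¹ : GL ι F) : Matrix ι ι F) := by
        rw [show s * (w * w) * s⁻¹ = s * w * s⁻¹ * (s * w * s⁻¹) by group, hsw]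
      rw [Units.val_mul, Units.val_mul, hw2, Matrix.mul_smul, Matrix.mul_one, Matrix.smul_mul,
        ← Units.val_mul, mul_inv_cancel, Units.val_mul, hwinv, Matrix.smul_mul, Matrix.mul_smul,
        ← Units.val_mul, hw2, smul_smul, smul_smul] at h1
      obtain ⟨i⟩ := ‹Nonempty ι›
      have := congrFun (congrFun h1 i) i
      simp at this
      field_simp at this
      linear_combination this
    have hc1 : (c : F) = 1 := by
      rcases mul_self_eq_one_iff.1 hc2 with h | h
      · exact h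
      rcases hneg with h' | ⟨-, h'⟩
      · rw [h, h']
      exfalso
      apply h'
      have hsw' : (s : Matrix ι ι F) * w = -((w : Matrix ι ι F) * s) := by
        have : ((s * w : GL ι F) : Matrix ι ι F) = ((w⁻¹ * s : GL ι F) : Matrix ι ι F) := by
          rw [← hsw, inv_mul_cancel_right]
        rw [Units.val_mul, Units.val_mul, hwinv, h] at this
        simpa using this
      have hdet : IsUnit (w : Matrix ι ι F).det :=
        isUnit_iff_ne_zero.2 (Matrix.GeneralLinearGroup.det_ne_zero w)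
      calc ((s : Matrix ι ι F) + 1).rank = (((s : Matrix ι ι F) + 1) * w).rank :=
            (Matrix.rank_mul_eq_left_of_isUnit_det _ _ hdet).symm
        _ = ((-(w : Matrix ι ι F)) * ((s : Matrix ι ι F) - 1)).rank := by
            congr 1; rw [add_mul, one_mul, hsw', mul_sub, mul_one, neg_mul]; abel
        _ = ((s : Matrix ι ι F) - 1).rank := by
            refine Matrix.rank_mul_eq_right_of_isUnit_det _ _ ?_
            rw [Matrix.det_neg]
            exact ((isUnit_one.neg).pow _).mul hdet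
    have hw21 : w * w = 1 := Units.ext (by rw [hw2, hc1, one_smul]; rfl)
    have hwinv' : w⁻¹ = w := inv_eq_of_mul_eq_one_right hw21
    have hsw1 : w * s = s * w := by
      conv_rhs => rw [show s * w = s * w * s⁻¹ * s by group, hsw, hwinv']
    have htw1 : t * w = w * t := by
      rw [show t * w = t * w * t⁻¹ * t by group, htw, hwinv']
    have hwM : w ∈ M := by rw [hw, hy]; exact M.pow_mem (M.mul_mem hs htM) l
    have hwR := ratM_of_srat_sq hr (hsR' w hwM hsw1) hw21
    have hwn : (w : Matrix ι ι F) ≠ -1 := fun h => hwC ((Geo.mem_scalars_iff w).2 ⟨-1, by simp [h]⟩)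
    have hwrank : ((w : Matrix ι ι F) - 1).rank ≤
        ((s : Matrix ι ι F) - 1).rank + ((z : Matrix ι ι F) - 1).rank := by
      have h1 : ((y : Matrix ι ι F) - 1).rank ≤
          ((t : Matrix ι ι F) - 1).rank + ((s : Matrix ι ι F) - 1).rank := by
        rw [show (y : Matrix ι ι F) - 1 = (s : Matrix ι ι F) * ((t : Matrix ι ι F) - 1) + ((s : Matrix ι ι F) - 1)
          by rw [hy, Units.val_mul, mul_sub, mul_one]; abel]
        exact (rank_add_le' _ _).trans (Nat.add_le_add_right (Matrix.rank_mul_le_right _ _) _)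
      calc ((w : Matrix ι ι F) - 1).rank
          = ((∑ i ∈ Finset.range l, (y : Matrix ι ι F) ^ i) * ((y : Matrix ι ι F) - 1)).rank := by
            rw [geom_sum_mul, hw, Units.val_pow_eq_pow_val]
        _ ≤ ((y : Matrix ι ι F) - 1).rank := Matrix.rank_mul_le_right _ _
        _ ≤ _ := h1.trans (by rw [show ((t : Matrix ι ι F) - 1).rank = ((z : Matrix ι ι F) - 1).rank by
              rw [ht1, rank_conj], Nat.add_comm])
    exact ratM_of_srat_sq hr (hK t htM w hwM w hwM hw21 hw21 hwR hwR (fun h => hwC (h ▸ one_mem _)) hwn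
      hwrank htw1) ht2
  · -- odd case: t is conjugate to a multiple of s
    exfalso
    obtain ⟨C, hCdef⟩ : ∃ C : GL ι F, C = y ^ Nat.find hex := ⟨_, rfl⟩
    rw [← hCdef] at hc
    obtain ⟨h, hh⟩ : ∃ h : GL ι F, h = y ^ l := ⟨_, rfl⟩
    have h1 : h * t * h⁻¹ = y⁻¹ * C * t := by
      have e : h⁻¹ = t * h * t⁻¹ := by rw [hh]; exact (htl l).symm
      rw [e, inv_eq_of_mul_eq_one_right ht2, show h * t * (t * h * t) = h * (t * t) * h * t by group, ht2,
        mul_one, hCdef, hl, hh, ← pow_add, ← two_mul, pow_succ' y (2 * l), inv_mul_cancel_left]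
    have hCv : ∀ A : GL ι F, C * A = A * C := fun A => by
      refine Units.ext ?_
      rw [Units.val_mul, Units.val_mul, hc, Matrix.smul_mul, Matrix.mul_smul, Matrix.one_mul, Matrix.mul_one]
    obtain ⟨q, hq⟩ : ∃ q : GL ι F, q = h⁻¹ * t := ⟨_, rfl⟩
    have h2 : t = C * (q * s * q⁻¹) := by
      have h3 : t = h⁻¹ * (y⁻¹ * C * t) * h := by rw [← h1]; group
      rw [hy, _root_.mul_inv_rev, inv_eq_of_mul_eq_one_right hs2, inv_eq_of_mul_eq_one_right ht2,
        ← hCv (t * s), show h⁻¹ * (C * (t * s) * t) * h = h⁻¹ * C * (t * s * t * h) by group,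
        ← hCv h⁻¹] at h3
      rw [hq, _root_.mul_inv_rev, inv_inv, inv_eq_of_mul_eq_one_right ht2]
      refine h3.trans ?_
      group
    have h2' : (t : Matrix ι ι F) = (q : Matrix ι ι F) * ((c : F) • (s : Matrix ι ι F)) *
        ((q⁻¹ : GL ι F) : Matrix ι ι F) := by
      rw [h2, Units.val_mul, hc, Matrix.smul_mul, Matrix.one_mul, Units.val_mul, Units.val_mul]
      simp
    have hrank : ((z : Matrix ι ι F) - 1).rank = ((c : F) • (s : Matrix ι ι F) - 1).rank := by
      rw [← rank_conj g, ← ht1, ← rank_conj q ((c : F) • (s : Matrix ι ι F) - 1), mul_sub, sub_mul, ← h2',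
        Matrix.mul_one, ← Units.val_mul, mul_inv_cancel]
      rfl
    have hc2 : (c : F) * c = 1 := by
      have h3 : ((t * t : GL ι F) : Matrix ι ι F) = ((c : F) * c) • 1 := by
        rw [Units.val_mul, h2']
        simp only [Matrix.mul_smul, Matrix.smul_mul, smul_smul]
        congr 1
        rw [← Units.val_mul, ← Units.val_mul, ← Units.val_mul,
          show q * s * q⁻¹ * (q * s * q⁻¹) = q * (s * s) * q⁻¹ by group, hs2, mul_one, mul_inv_cancel]
        rfl
      rw [ht2] at h3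
      obtain ⟨i⟩ := ‹Nonempty ι›
      simpa using (congrFun (congrFun h3 i) i).symm
    rcases mul_self_eq_one_iff.1 hc2 with hc1 | hc1
    · exact hab (by rw [hrank, hc1, one_smul])
    rcases hneg with h' | ⟨h', -⟩
    · exact hab (by rw [hrank, hc1, h', one_smul])
    · apply h'
      rw [hrank, hc1, neg_one_smul, show -(s : Matrix ι ι F) - 1 = -((s : Matrix ι ι F) + 1) by abel,
        rank_neg_mat]

/-- If every element of M carrying a rational subspace to one with a rational point is rational up to a scalar,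
and M contains two rational involutions that are not conjugate up to sign, then all of M is. -/
theorem srat_of_involutions [Finite F] [Nonempty ι] {M : Subgroup (GL ι F)}
    (hr : ∀ a : F, a ^ 2 ∈ F₀ → a ∈ F₀)
    (hK : ∀ g ∈ M, ∀ D : Matrix ι ι F, RatM F₀ D → D ≠ 0 → D.det = 0 → ∀ y : ι → F,
      RatV F₀ (mv g (D *ᵥ y)) → mv g (D *ᵥ y) ≠ 0 → SRat F₀ g)
    {s z : GL ι F} (hs : s ∈ M) (hz : z ∈ M) (hs2 : s * s = 1) (hz2 : z * z = 1)
    (hsR : RatM F₀ (s : Matrix ι ι F)) (hzR : RatM F₀ (z : Matrix ι ι F))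
    (hs1 : s ≠ 1) (hsn : (s : Matrix ι ι F) ≠ -1) (hz1 : z ≠ 1) (hzn : (z : Matrix ι ι F) ≠ -1)
    (hab : ((s : Matrix ι ι F) - 1).rank ≠ ((z : Matrix ι ι F) - 1).rank)
    (hneg : (-1 : F) = 1 ∨ (((s : Matrix ι ι F) + 1).rank ≠ ((z : Matrix ι ι F) - 1).rank ∧
      ((s : Matrix ι ι F) + 1).rank ≠ ((s : Matrix ι ι F) - 1).rank)) :
    ∀ g ∈ M, SRat F₀ g :=
  srat_of_involution_conj hr (fun g hg x _ x' _ hx2 _ hxR hxR' hx1 hxn _ hgx => by
    have hD0 : (x : Matrix ι ι F) - 1 ≠ 0 := fun h => hx1 (Units.ext (sub_eq_zero.1 h))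
    have hD0' : (x' : Matrix ι ι F) - 1 ≠ 0 := fun h => hx1 (by
      rw [show x' = 1 from Units.ext (sub_eq_zero.1 h), one_mul] at hgx
      simpa using hgx)
    obtain ⟨j, hj⟩ : ∃ j, ((x' : Matrix ι ι F) - 1) *ᵥ Pi.single j 1 ≠ 0 := by
      by_contra hc
      push Not at hc
      exact hD0' (Matrix.ext_of_mulVec_single fun j => by rw [hc j, Matrix.zero_mulVec])
    have hy : mv g (((x : Matrix ι ι F) - 1) *ᵥ mv g⁻¹ (Pi.single j 1)) =
        ((x' : Matrix ι ι F) - 1) *ᵥ Pi.single j 1 := by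
      rw [Matrix.sub_mulVec, Matrix.sub_mulVec, Matrix.one_mulVec, Matrix.one_mulVec, mv_sub, mv_mv_inv]
      congr 1
      show mv g (mv x (mv g⁻¹ _)) = mv x' _
      rw [← mv_mul, hgx, mv_mul, mv_mv_inv]
    exact hK g hg _ (ratM_sub hxR ratM_one) hD0 (invol_det_sub_one hx2 hxn) _
      (by rw [hy]; exact ratV_mulVec (ratM_sub hxR' ratM_one) (ratV_single j F₀.one_mem)) (by rwa [hy]))
    hs hz hs2 hz2 hsR hzR hs1 hsn hz1 hzn hab hneg

/-! ### Subfields of prime index -/

theorem finrank_eq_of_card [Fintype F] {r : ℕ} (hcard : Fintype.card F = Nat.card F₀ ^ r) :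
    Module.finrank F₀ F = r := by
  have : Fintype F₀ := Fintype.ofFinite _
  have h := Module.card_eq_pow_finrank (K := F₀) (V := F)
  rw [hcard, Nat.card_eq_fintype_card] at h
  exact (Nat.pow_right_injective Fintype.one_lt_card h).symm

theorem adjoin_eq_top [Fintype F] {r : ℕ} (hr : r.Prime) (hcard : Fintype.card F = Nat.card F₀ ^ r)
    {c : F} (hc : c ∉ F₀) : IntermediateField.adjoin F₀ ({c} : Set F) = ⊤ := by
  have : Fact (Module.finrank F₀ F).Prime := ⟨finrank_eq_of_card hcard ▸ hr⟩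
  have hne : IntermediateField.adjoin F₀ ({c} : Set F) ≠ ⊥ := fun h => hc <| by
    have := IntermediateField.mem_adjoin_simple_self F₀ c
    rw [h, IntermediateField.mem_bot] at this
    obtain ⟨x, rfl⟩ := this
    exact x.2
  exact (IntermediateField.isSimpleOrder_of_finrank_prime F₀ F (finrank_eq_of_card hcard ▸ hr)).eq_bot_or_eq_top
    _ |>.resolve_left hne

theorem sq_mem_imp [Fintype F] {r : ℕ} (hr : r.Prime) (hr2 : r ≠ 2)
    (hcard : Fintype.card F = Nat.card F₀ ^ r) (a : F) (ha : a ^ 2 ∈ F₀) : a ∈ F₀ := by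
  by_contra hc
  have hint : IsIntegral F₀ a := Algebra.IsIntegral.isIntegral a
  have h1 := IntermediateField.adjoin.finrank hint
  rw [adjoin_eq_top hr hcard hc, IntermediateField.finrank_top', finrank_eq_of_card hcard] at h1
  have h2 : minpoly F₀ a ∣ Polynomial.X ^ 2 - Polynomial.C (⟨a ^ 2, ha⟩ : F₀) :=
    minpoly.dvd _ _ (by simp [Polynomial.aeval_def]; exact sub_self _)
  have h3 := Polynomial.natDegree_le_of_dvd h2 (Polynomial.X_pow_sub_C_ne_zero two_pos _)
  rw [Polynomial.natDegree_X_pow_sub_C, ← h1] at h3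
  exact hr2 (le_antisymm h3 hr.two_le)

/-- A set closed under multiplication by F₀ and by one element outside F₀, and under addition, is closed
under multiplication by every scalar. -/
theorem mul_closed [Fintype F] {r : ℕ} (hr : r.Prime) (hcard : Fintype.card F = Nat.card F₀ ^ r)
    {B : Set F} (hadd : ∀ a ∈ B, ∀ b ∈ B, a + b ∈ B) (hmul₀ : ∀ a ∈ F₀, ∀ b ∈ B, a * b ∈ B)
    {c : F} (hc : c ∉ F₀) (hmulc : ∀ b ∈ B, c * b ∈ B) : ∀ x : F, ∀ b ∈ B, x * b ∈ B := by
  intro x
  have hx : x ∈ Algebra.adjoin F₀ ({c} : Set F) := by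
    rw [← IntermediateField.adjoin_simple_toSubalgebra_of_isAlgebraic (Algebra.IsAlgebraic.isAlgebraic c),
      adjoin_eq_top hr hcard hc]
    trivial
  induction hx using Algebra.adjoin_induction with
  | mem y hy => rw [Set.mem_singleton_iff] at hy; subst hy; exact hmulc
  | algebraMap a => exact hmul₀ a a.2
  | add y z _ _ hy hz => intro b hb; rw [add_mul]; exact hadd _ (hy b hb) _ (hz b hb)
  | mul y z _ _ hy hz => intro b hb; rw [mul_assoc]; exact hy _ (hz b hb)

/-! ### Transport of maximality -/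

theorem isMaximalIn_map {G G' : Type*} [Group G] [Group G'] (e : G ≃* G') {K H : Subgroup G}
    (h : Geo.IsMaximalIn K H) : Geo.IsMaximalIn (K.map e.toMonoidHom) (H.map e.toMonoidHom) := by
  have hinj : Function.Injective e.toMonoidHom := e.injective
  refine ⟨(Subgroup.map_lt_map_iff_of_injective hinj).2 h.1, fun M hHM hMK => ?_⟩
  have hM : (M.comap e.toMonoidHom).map e.toMonoidHom = M :=
    Subgroup.map_comap_eq_self_of_surjective e.surjective M
  rcases h.2 (M.comap e.toMonoidHom) (Subgroup.map_le_iff_le_comap.1 hHM)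
    ((Subgroup.map_le_map_iff_of_injective hinj).1 (hM.symm ▸ hMK)) with h' | h'
  · exact Or.inl (by rw [← hM, h'])
  · exact Or.inr (by rw [← hM, h'])

end Cfsg.Agent.Transvec
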