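/-
Maximality of the subfield subgroups of the special linear group over a subfield of prime index.
-/
import Cfsg.Agent.Lib.Transvec.SubfieldCore
import Cfsg.Agent.Lib.SubfieldMax.Dickson3
set_option autoImplicit false

namespace Cfsg.Agent.Transvec

open scoped Matrix
open Matrix

section

variable {ι : Type} [Fintype ι] [DecidableEq ι] {F : Type*} [Field F] {F₀ : Subfield F}

theorem ratM_tv {v : ι → F} {φ : Module.Dual F (ι → F)} (h : φ v = 0) (hv : RatV F₀ v)
    (hφ : RatD F₀ φ) : RatM F₀ (tv v φ h : Matrix ι ι F) := by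
  intro i j
  have e : (tv v φ h : Matrix ι ι F) i j = mv (tv v φ h) (Pi.single j 1) i := by simp [mv]
  rw [e, mv_tv]
  exact F₀.add_mem (ratV_single j F₀.one_mem i) (F₀.mul_mem (hφ j) (hv i))

theorem srat_of_ratM {g : GL ι F} (h : RatM F₀ (g : Matrix ι ι F)) : SRat F₀ g :=
  ⟨1, one_ne_zero, by rwa [one_smul]⟩

/-- The commutator of two transvections when the second axis contains the first centre. -/
theorem tv_comm_axis {v w : ι → F} {θ χ : Module.Dual F (ι → F)} (h : θ v = 0) (h' : χ w = 0)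
    (hχ : χ v = 0) (h'' : (θ w • χ) v = 0) :
    tv v θ h * tv w χ h' * (tv v θ h)⁻¹ * (tv w χ h')⁻¹ = tv v (θ w • χ) h'' := by
  have h3 : χ (mv (tv v θ h) w) = 0 := by rw [mv_tv, map_add, h', map_smul, hχ, smul_zero, add_zero]
  rw [tv_conj h' (tv v θ h) h3 rfl fun x => by rw [mv_tv, map_add, map_smul, hχ, smul_zero, add_zero],
    tv_inv]
  refine ext_mv fun x => ?_
  simp only [mv_mul, mv_tv, LinearMap.neg_apply, LinearMap.smul_apply, map_add, map_neg, map_smul, h',
    smul_eq_mul, mul_zero, add_zero, neg_smul, neg_zero, smul_add, smul_smul]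
  module

/-- The commutator of two transvections when the first axis contains the second centre. -/
theorem tv_comm_centre {v u : ι → F} {θ χ : Module.Dual F (ι → F)} (h : θ v = 0) (h' : χ u = 0)
    (hθ : θ u = 0) (h'' : (-(χ v) • θ) u = 0) :
    tv v θ h * tv u χ h' * (tv v θ h)⁻¹ * (tv u χ h')⁻¹ = tv u (-(χ v) • θ) h'' := by
  have h3 : (χ - χ v • θ) u = 0 := by simp [h', hθ]
  rw [tv_conj h' (tv v θ h) h3 (tv_fix h hθ).symm fun x => by simp [mv_tv, h]; ring, tv_inv, tv_mul_tv]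
  exact tv_congr _ _ fun x => by
    simp only [LinearMap.add_apply, LinearMap.sub_apply, LinearMap.neg_apply, LinearMap.smul_apply, smul_eq_mul]
    congr 1; ring

theorem comm_mem {M : Subgroup (GL ι F)} {a b : GL ι F} (ha : a ∈ M) (hb : b ∈ M) :
    a * b * a⁻¹ * b⁻¹ ∈ M :=
  M.mul_mem (M.mul_mem (M.mul_mem ha hb) (M.inv_mem ha)) (M.inv_mem hb)

theorem dual_eq_zero {φ : Module.Dual F (ι → F)} (h : ∀ i, φ (Pi.single i 1) = 0) : φ = 0 :=
  LinearMap.ext fun x => by
    rw [pi_eq_sum_univ' x, map_sum]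
    exact Finset.sum_eq_zero fun i _ => by rw [map_smul, h i, smul_zero]

/-- A rational functional killing u with value 1 at v, when v is not a multiple of u. -/
theorem exists_rat_annihilator {u v : ι → F} (hu : RatV F₀ u) (hu0 : u ≠ 0)
    (hv : ∀ k : F, v ≠ k • u) :
    ∃ χ : Module.Dual F (ι → F), RatD F₀ χ ∧ χ ≠ 0 ∧ χ u = 0 ∧ χ v ≠ 0 := by
  obtain ⟨i₀, hi₀⟩ := Function.ne_iff.1 hu0
  simp only [Pi.zero_apply] at hi₀
  obtain ⟨i, hi⟩ : ∃ i, v i - u i / u i₀ * v i₀ ≠ 0 := by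
    by_contra h
    push Not at h
    refine hv (v i₀ / u i₀) (funext fun i => ?_)
    rw [Pi.smul_apply, smul_eq_mul, ← sub_eq_zero, ← h i]
    field_simp
  refine ⟨LinearMap.proj i - (u i / u i₀) • LinearMap.proj i₀, fun j => ?_, ?_, ?_, ?_⟩
  · simp only [LinearMap.sub_apply, LinearMap.smul_apply, LinearMap.proj_apply, smul_eq_mul]
    exact F₀.sub_mem (ratV_single j F₀.one_mem i)
      (F₀.mul_mem (F₀.div_mem (hu i) (hu i₀)) (ratV_single j F₀.one_mem i₀))
  · exact fun h => hi (by simpa using congrArg (fun φ : Module.Dual F (ι → F) => φ v) h)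
  · simp [div_mul_cancel₀ _ hi₀]
  · simpa using hi

/-- A rational vector with φ = 1 and χ = 0, when χ is not a multiple of φ. -/
theorem exists_rat_vector {φ χ : Module.Dual F (ι → F)} (hφ : RatD F₀ φ) (hχ : RatD F₀ χ)
    (hφ0 : φ ≠ 0) (h : ∀ k : F, χ ≠ k • φ) :
    ∃ w : ι → F, RatV F₀ w ∧ φ w = 1 ∧ χ w = 0 := by
  obtain ⟨i, hi⟩ : ∃ i, φ (Pi.single i 1) ≠ 0 := by
    by_contra hc
    push Not at hc
    exact hφ0 (dual_eq_zero hc)
  obtain ⟨j, hj⟩ : ∃ j, φ (Pi.single i 1) * χ (Pi.single j 1) - φ (Pi.single j 1) * χ (Pi.single i 1) ≠ 0 := by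
    by_contra hc
    push Not at hc
    refine h (χ (Pi.single i 1) / φ (Pi.single i 1))
      (sub_eq_zero.1 (dual_eq_zero fun j => ?_))
    simp only [LinearMap.sub_apply, LinearMap.smul_apply, smul_eq_mul]
    field_simp
    linear_combination hc j
  set d := φ (Pi.single i 1) * χ (Pi.single j 1) - φ (Pi.single j 1) * χ (Pi.single i 1) with hd
  refine ⟨(χ (Pi.single j 1) / d) • Pi.single i 1 - (χ (Pi.single i 1) / d) • Pi.single j 1,
    fun k => F₀.sub_mem (ratV_smul (F₀.div_mem (hχ j) ?_) (ratV_single i F₀.one_mem) k)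
      (ratV_smul (F₀.div_mem (hχ i) ?_) (ratV_single j F₀.one_mem) k), ?_, ?_⟩
  · exact F₀.sub_mem (F₀.mul_mem (hφ i) (hχ j)) (F₀.mul_mem (hφ j) (hχ i))
  · exact F₀.sub_mem (F₀.mul_mem (hφ i) (hχ j)) (F₀.mul_mem (hφ j) (hχ i))
  · rw [map_sub, map_smul, map_smul, smul_eq_mul, smul_eq_mul, div_mul_eq_mul_div, div_mul_eq_mul_div,
      div_sub_div_same, div_eq_one_iff_eq hj, hd]
    ring
  · rw [map_sub, map_smul, map_smul, smul_eq_mul, smul_eq_mul]
    ring

variable {M : Subgroup (GL ι F)}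
  (hT : ∀ (v : ι → F) (φ : Module.Dual F (ι → F)) (h : φ v = 0), RatV F₀ v → RatD F₀ φ → tv v φ h ∈ M)
  (hn : 3 ≤ Fintype.card ι)

include hT hn

theorem ratLine_centre
    (hP : ∀ (v : ι → F) (φ : Module.Dual F (ι → F)) (c : F) (h : (c • φ) v = 0), RatV F₀ v → v ≠ 0 →
      RatD F₀ φ → φ ≠ 0 → φ v = 0 → tv v (c • φ) h ∈ M → c ∈ F₀)
    {x : ι → F} {θ : Module.Dual F (ι → F)} (hθx : θ x = 0) (hθ : θ ≠ 0) (hm : tv x θ hθx ∈ M)
    {u : ι → F} (hu : RatV F₀ u) (hu0 : u ≠ 0) (hθu : θ u = 0) : RatLine F₀ x := by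
  have step1 : ∀ (u : ι → F) (θ : Module.Dual F (ι → F)) (h : θ u = 0), RatV F₀ u → u ≠ 0 →
      tv u θ h ∈ M → RatD F₀ θ := by
    intro u θ h hu hu0 hm i
    obtain ⟨c, hc0, hc, hcu, hci⟩ := exists_ratD_two hn hu (ratV_single (F₀ := F₀) i F₀.one_mem)
    have h'' : (θ (Pi.single i 1) • dotDual c) u = 0 := by simp [hcu]
    have := comm_mem hm (hT _ _ hci (ratV_single i F₀.one_mem) (ratD_dotDual hc))
    rw [tv_comm_axis h hci hcu h''] at this
    exact hP u _ _ h'' hu hu0 (ratD_dotDual hc) (dotDual_ne_zero hc0) hcu this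
  have step2 : ∀ (u : ι → F), RatV F₀ u → u ≠ 0 → θ u = 0 → ∀ χ : Module.Dual F (ι → F),
      RatD F₀ χ → χ u = 0 → RatD F₀ (χ x • θ) := by
    intro u hu hu0 hθu χ hχ hχu i
    have h'' : (-(χ x) • θ) u = 0 := by simp [hθu]
    have := comm_mem hm (hT u χ hχu hu hχ)
    rw [tv_comm_centre hθx hχu hθu h''] at this
    have := F₀.neg_mem (step1 u _ h'' hu hu0 this i)
    simpa using this
  by_cases hx : ∃ k : F, x = k • u
  · obtain ⟨k, rfl⟩ := hx
    rcases eq_or_ne k 0 with rfl | hk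
    · exact ⟨1, one_ne_zero, fun i => by simp⟩
    · exact ⟨k⁻¹, inv_ne_zero hk, by rwa [smul_smul, inv_mul_cancel₀ hk, one_smul]⟩
  push Not at hx
  obtain ⟨χ, hχ, -, hχu, hχx⟩ := exists_rat_annihilator hu hu0 hx
  have hθ₀ := step2 u hu hu0 hθu χ hχ hχu
  obtain ⟨j, hj⟩ : ∃ j, θ (Pi.single j 1) ≠ 0 := by
    by_contra hc
    push Not at hc
    exact hθ (dual_eq_zero hc)
  refine ⟨(χ x)⁻¹, inv_ne_zero hχx, fun i => ?_⟩
  have hproj : RatD F₀ (LinearMap.proj i : Module.Dual F (ι → F)) := fun k => ratV_single k F₀.one_mem i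
  obtain ⟨u', hu'0, hu', h1, h2⟩ := exists_ratV_two hn hθ₀ hproj
  have hθu' : θ u' = 0 := by simpa [hχx] using h1
  have := F₀.div_mem (step2 u' hu' hu'0 hθu' _ hproj h2 j) (hθ₀ j)
  simp only [LinearMap.smul_apply, LinearMap.proj_apply, smul_eq_mul] at this
  rw [Pi.smul_apply, smul_eq_mul]
  rwa [show x i * θ (Pi.single j 1) / (χ x * θ (Pi.single j 1)) = (χ x)⁻¹ * x i by field_simp] at this

omit hn in
theorem ratLine_image (hL : ∀ {x : ι → F} {θ : Module.Dual F (ι → F)} (hθx : θ x = 0), θ ≠ 0 →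
      tv x θ hθx ∈ M → ∀ {u : ι → F}, RatV F₀ u → u ≠ 0 → θ u = 0 → RatLine F₀ x)
    {g : GL ι F} (hg : g ∈ M) {v : ι → F} {φ : Module.Dual F (ι → F)} (hv : RatV F₀ v)
    (hφ : RatD F₀ φ) (hφ0 : φ ≠ 0) (hφv : φ v = 0) {u : ι → F} (hu : RatV F₀ u) (hu0 : u ≠ 0)
    (hφu : φ (mv g⁻¹ u) = 0) : RatLine F₀ (mv g v) := by
  have h' : (φ.comp (mvLin g⁻¹)) (mv g v) = 0 := by
    rw [LinearMap.comp_apply, Matrix.toLin'_apply]
    exact (congrArg φ (mv_inv_mv g v)).trans hφv
  have hc : g * tv v φ hφv * g⁻¹ = tv (mv g v) (φ.comp (mvLin g⁻¹)) h' :=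
    tv_conj hφv g h' rfl fun x => by
      rw [LinearMap.comp_apply, Matrix.toLin'_apply]; exact congrArg φ (mv_inv_mv g x)
  have hne : φ.comp (mvLin g⁻¹) ≠ 0 := fun h => hφ0 <| LinearMap.ext fun x => by
    have := congrArg (fun ψ : Module.Dual F (ι → F) => ψ (mv g x)) h
    rw [LinearMap.comp_apply, Matrix.toLin'_apply] at this
    exact (congrArg φ (mv_inv_mv g x)).symm.trans this
  refine hL h' hne ?_ hu hu0 (by rw [LinearMap.comp_apply, Matrix.toLin'_apply]; exact hφu)
  rw [← hc]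
  exact M.mul_mem (M.mul_mem hg (hT v φ hφv hv hφ)) (M.inv_mem hg)

/-- Either all parameters are rational or M contains every transvection. -/
theorem all_tv_mem [Fintype F] {r : ℕ} (hr : r.Prime) (hcard : Fintype.card F = Nat.card F₀ ^ r)
    {v₀ : ι → F} {φ₀ : Module.Dual F (ι → F)} {c₀ : F} (h₀ : (c₀ • φ₀) v₀ = 0) (hv₀ : RatV F₀ v₀)
    (hv₀0 : v₀ ≠ 0) (hφ₀ : RatD F₀ φ₀) (hφ₀0 : φ₀ ≠ 0) (hφv₀ : φ₀ v₀ = 0)
    (hm : tv v₀ (c₀ • φ₀) h₀ ∈ M) (hc₀ : c₀ ∉ F₀) : Geo.specialLinear ι F ≤ M := by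
  have key : ∀ (c : F) (v : ι → F) (φ : Module.Dual F (ι → F)), RatV F₀ v → RatD F₀ φ → φ ≠ 0 →
      φ v = 0 → ∀ h : (c • φ) v = 0, tv v (c • φ) h ∈ M →
      ∀ χ : Module.Dual F (ι → F), RatD F₀ χ → ∀ hχ : χ v = 0, (∀ k : F, χ ≠ k • φ) →
      ∀ d : F, (∀ (w : ι → F) (hw : χ w = 0), RatV F₀ w → tv w (d • χ) (by simp [hw]) ∈ M) →
      tv v ((c * d) • χ) (by simp [hχ]) ∈ M := by
    intro c v φ hv hφ hφ0 hφv h hm χ hχr hχ hne d hd
    obtain ⟨w, hw, hw1, hw0⟩ := exists_rat_vector hφ hχr hφ0 hne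
    have := comm_mem hm (hd w hw0 hw)
    rw [tv_comm_axis h (by simp [hw0]) (by simp [hχ]) (by simp [hχ])] at this
    rw [tv_congr (v' := v) (φ' := (c • φ) w • d • χ) _ (by simp [hχ]) fun x => by
      simp [hw1, mul_assoc]]
    exact this
  -- changing the functional
  have hfun : ∀ (c : F) (v : ι → F) (φ : Module.Dual F (ι → F)), RatV F₀ v → RatD F₀ φ → φ ≠ 0 →
      φ v = 0 → ∀ h : (c • φ) v = 0, tv v (c • φ) h ∈ M →
      ∀ χ : Module.Dual F (ι → F), RatD F₀ χ → ∀ hχ : χ v = 0, tv v (c • χ) (by simp [hχ]) ∈ M := by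
    intro c v φ hv hφ hφ0 hφv h hm χ hχr hχ
    have direct : ∀ (ψ : Module.Dual F (ι → F)), RatD F₀ ψ → ψ ≠ 0 → ψ v = 0 →
        ∀ h : (c • ψ) v = 0, tv v (c • ψ) h ∈ M → (∀ k : F, χ ≠ k • ψ) →
        tv v (c • χ) (by simp [hχ]) ∈ M := by
      intro ψ hψ hψ0 hψv h hm hne
      have := key c v ψ hv hψ hψ0 hψv h hm χ hχr hχ hne 1 fun w hw hwr => by
        rw [tv_congr (v' := w) (φ' := χ) _ hw fun x => by simp]
        exact hT _ _ hw hwr hχr
      rwa [tv_congr (v' := v) (φ' := c • χ) _ (by simp [hχ]) fun x => by simp] at this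
    by_cases hk : ∃ k : F, χ = k • φ
    · obtain ⟨k, hk⟩ := hk
      obtain ⟨i, hi⟩ : ∃ i, φ (Pi.single i 1) ≠ 0 := by
        by_contra hc
        push Not at hc
        exact hφ0 (dual_eq_zero hc)
      obtain ⟨e, he0, he, hev, hei⟩ := exists_ratD_two hn hv (ratV_single (F₀ := F₀) i F₀.one_mem)
      have h1 : tv v (c • dotDual e) (by simp [hev]) ∈ M := by
        have := key c v φ hv hφ hφ0 hφv h hm (dotDual e) (ratD_dotDual he) hev (fun k' hk' => ?_) 1
          fun w hw hwr => by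
            rw [tv_congr (v' := w) (φ' := dotDual e) _ hw fun x => by simp]
            exact hT _ _ hw hwr (ratD_dotDual he)
        · rwa [tv_congr (v' := v) (φ' := c • dotDual e) _ (by simp [hev]) fun x => by simp] at this
        · rw [hk', LinearMap.smul_apply, smul_eq_mul] at hei
          rcases mul_eq_zero.1 hei with h0 | h0
          · exact dotDual_ne_zero he0 (by rw [hk', h0, zero_smul])
          · exact hi h0
      by_cases hχ0 : χ = 0
      · rw [tv_congr (v' := v) (φ' := 0) _ rfl fun x => by simp [hχ0], tv_zero]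
        exact M.one_mem
      refine direct _ (ratD_dotDual he) (dotDual_ne_zero he0) hev _ h1 fun k' hk' => hχ0 ?_
      have h0 : k * φ (Pi.single i 1) = k' * dotDual e (Pi.single i 1) := by
        simpa [hk] using congrArg (fun ψ : Module.Dual F (ι → F) => ψ (Pi.single i 1)) hk'
      rw [hei, mul_zero] at h0
      rw [hk, (mul_eq_zero.1 h0).resolve_right hi, zero_smul]
    · push Not at hk
      exact direct φ hφ hφ0 hφv h hm hk
  -- changing the centre
  have hall : ∀ (c : F) (v : ι → F) (φ : Module.Dual F (ι → F)), RatV F₀ v → v ≠ 0 → RatD F₀ φ → φ ≠ 0 →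
      φ v = 0 → ∀ h : (c • φ) v = 0, tv v (c • φ) h ∈ M →
      ∀ (u : ι → F) (χ : Module.Dual F (ι → F)) (hχ : χ u = 0), RatV F₀ u → RatD F₀ χ →
        tv u (c • χ) (by simp [hχ]) ∈ M := by
    intro c v φ hv hv0 hφ hφ0 hφv h hm u χ hχ hu hχr
    by_cases hk : ∃ k : F, u = k • v
    · obtain ⟨k, hk⟩ := hk
      by_cases hu0 : u = 0
      · rw [show tv u (c • χ) (by simp [hχ]) = 1 from ext_mv fun x => by
          rw [mv_tv, mv_one, hu0, smul_zero, add_zero]]
        exact M.one_mem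
      have hk0 : k ≠ 0 := fun h => hu0 (by rw [hk, h, zero_smul])
      have hkF : k ∈ F₀ := by
        obtain ⟨i, hi⟩ := Function.ne_iff.1 hv0
        have := F₀.div_mem (hu i) (hv i)
        rwa [hk, Pi.smul_apply, smul_eq_mul, mul_div_cancel_right₀ _ hi] at this
      have hχv : χ v = 0 := by simpa [hk, hk0] using hχ
      have := hfun c v φ hv hφ hφ0 hφv h hm (k • χ)
        (fun i => by simpa using F₀.mul_mem hkF (hχr i)) (by simp [hχv])
      rw [tv_congr (v' := v) (φ' := c • k • χ) _ (by simp [hχv]) fun x => by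
        simp [hk, smul_smul]; ring_nf]
      exact this
    push Not at hk
    rcases eq_or_ne u 0 with hu0 | hu0
    · exact (hk 0 (by rw [hu0, zero_smul])).elim
    obtain ⟨e, he0, he, hev, heu⟩ := exists_ratD_two hn hv hu
    have h1 := hfun c v φ hv hφ hφ0 hφv h hm (dotDual e) (ratD_dotDual he) hev
    obtain ⟨η, hη, -, hηu, hηv⟩ := exists_rat_annihilator hu hu0 (v := v) (fun k hk' => by
      rcases eq_or_ne k 0 with h0 | h0
      · exact hv0 (by rw [hk', h0, zero_smul])
      · exact hk k⁻¹ (by rw [hk', smul_smul, inv_mul_cancel₀ h0, one_smul]))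
    have hη' : RatD F₀ (-(η v)⁻¹ • η) := fun i => by
      simpa using F₀.neg_mem (F₀.mul_mem (F₀.inv_mem (ratD_apply hη hv)) (hη i))
    have h2 := comm_mem h1 (hT u _ (by simp [hηu]) hu hη')
    rw [tv_comm_centre _ _ (by simp [heu]) (by simp [heu]),
      tv_congr (v' := u) (φ' := c • dotDual e) _ (by simp [heu]) fun x => by simp [hηv]] at h2
    exact hfun c u _ hu (ratD_dotDual he) (dotDual_ne_zero he0) heu _ h2 χ hχr hχ
  -- the set of parameters
  set C : Set F := {c | ∀ (v : ι → F) (φ : Module.Dual F (ι → F)) (h : φ v = 0), RatV F₀ v → RatD F₀ φ →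
    tv v (c • φ) (by simp [h]) ∈ M} with hC
  have h1 : (1 : F) ∈ C := fun v φ h hv hφ => by
    rw [tv_congr (v' := v) (φ' := φ) _ h fun x => by simp]; exact hT v φ h hv hφ
  have hc₀C : c₀ ∈ C := fun v φ h hv hφ => hall c₀ v₀ φ₀ hv₀ hv₀0 hφ₀ hφ₀0 hφv₀ h₀ hm v φ h hv hφ
  have hadd : ∀ a ∈ C, ∀ b ∈ C, a + b ∈ C := fun a ha b hb v φ h hv hφ => by
    have := M.mul_mem (ha v φ h hv hφ) (hb v φ h hv hφ)
    rw [tv_mul_tv] at this
    rwa [tv_congr (v' := v) (φ' := a • φ + b • φ) _ (by simp [h]) fun x => by simp [add_mul]]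
  have hmul₀ : ∀ a ∈ F₀, ∀ b ∈ C, a * b ∈ C := fun a ha b hb v φ h hv hφ => by
    rw [tv_congr (v' := v) (φ' := b • a • φ) _ (by simp [h]) fun x => by simp; ring_nf]
    exact hb v _ (by simp [h]) hv fun i => by simpa using F₀.mul_mem ha (hφ i)
  have hmulc : ∀ b ∈ C, c₀ * b ∈ C := fun b hb v χ h hv hχ => by
    by_cases hχ0 : χ = 0
    · rw [tv_congr (v' := v) (φ' := 0) _ rfl fun x => by simp [hχ0], tv_zero]
      exact M.one_mem
    obtain ⟨i, hi⟩ : ∃ i, χ (Pi.single i 1) ≠ 0 := by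
      by_contra hc
      push Not at hc
      exact hχ0 (dual_eq_zero hc)
    obtain ⟨e, he0, he, hev, hei⟩ := exists_ratD_two hn hv (ratV_single (F₀ := F₀) i F₀.one_mem)
    refine key c₀ v _ hv (ratD_dotDual he) (dotDual_ne_zero he0) hev (by simp [hev])
      (hc₀C v _ hev hv (ratD_dotDual he)) χ hχ h (fun k hk => hi ?_) b fun w hw hwr => hb w χ hw hwr hχ
    rw [hk, LinearMap.smul_apply, hei, smul_zero]
  have hCall : ∀ c : F, c ∈ C := fun c => by
    simpa using mul_closed hr hcard hadd hmul₀ hc₀ hmulc c 1 h1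
  -- all transvections
  refine specialLinear_le fun v φ h => ?_
  suffices htop : ∀ x, x ∈ centreSpace M from mem_centreSpace.1 (htop v) φ h
  intro x
  rw [pi_eq_sum_univ' x]
  refine Submodule.sum_mem _ fun j _ => Submodule.smul_mem _ _ ?_
  rw [mem_centreSpace]
  intro ψ hψ
  have hterm : ∀ i, (ψ (Pi.single i 1) • (LinearMap.proj i : Module.Dual F (ι → F))) (Pi.single j 1) = 0 :=
    fun i => by
      rcases eq_or_ne i j with rfl | hij
      · simp [hψ]
      · simp [hij]
  have hsum : ∀ s : Finset ι, ∀ h' : (∑ i ∈ s, ψ (Pi.single i 1) •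
      (LinearMap.proj i : Module.Dual F (ι → F))) (Pi.single j 1) = 0,
      tv (Pi.single j 1) (∑ i ∈ s, ψ (Pi.single i 1) • LinearMap.proj i) h' ∈ M := by
    intro s
    induction s using Finset.induction_on with
    | empty => intro h'; simp only [Finset.sum_empty]; rw [tv_zero]; exact M.one_mem
    | insert a s ha ih =>
      intro h'
      have hs : (∑ i ∈ s, ψ (Pi.single i 1) •
          (LinearMap.proj i : Module.Dual F (ι → F))) (Pi.single j 1) = 0 := by
        rw [LinearMap.sum_apply]; exact Finset.sum_eq_zero fun i _ => hterm i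
      have ha' : tv (Pi.single j 1) (ψ (Pi.single a 1) • LinearMap.proj a) (hterm a) ∈ M := by
        rcases eq_or_ne a j with rfl | haj
        · rw [tv_congr (v' := Pi.single a 1) (φ' := 0) _ rfl fun x => by simp [hψ], tv_zero]
          exact M.one_mem
        · exact hCall _ (Pi.single j 1) (LinearMap.proj a) (by simp [haj]) (ratV_single j F₀.one_mem)
            fun k => ratV_single k F₀.one_mem a
      have := M.mul_mem ha' (ih hs)
      rw [tv_mul_tv] at this
      rw [tv_congr (v' := Pi.single j 1)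
        (φ' := ψ (Pi.single a 1) • LinearMap.proj a + ∑ i ∈ s, ψ (Pi.single i 1) • LinearMap.proj i) h'
        (by rw [LinearMap.add_apply, hterm a, hs, add_zero]) fun x => by rw [Finset.sum_insert ha]]
      exact this
  have heq : ψ = ∑ i, ψ (Pi.single i 1) • (LinearMap.proj i : Module.Dual F (ι → F)) := by
    refine sub_eq_zero.1 (dual_eq_zero fun k => ?_)
    simp [LinearMap.sum_apply, Pi.single_apply]
  rw [tv_congr (v' := Pi.single j 1) (φ' := ∑ i, ψ (Pi.single i 1) • (LinearMap.proj i : Module.Dual F (ι → F)))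
    hψ (by rw [← heq]; exact hψ) fun y => by rw [← heq]]
  exact hsum _ _

end

/-- The rational reflection-like involution with -1 in the first k places. -/
noncomputable def negDiag (F : Type*) [Field F] (n k : ℕ) : GL (Fin n) F where
  val := Matrix.diagonal fun i => if (i : ℕ) < k then -1 else 1
  inv := Matrix.diagonal fun i => if (i : ℕ) < k then -1 else 1
  val_inv := by rw [Matrix.diagonal_mul_diagonal, ← Matrix.diagonal_one]; congr 1; funext i; split <;> simp
  inv_val := by rw [Matrix.diagonal_mul_diagonal, ← Matrix.diagonal_one]; congr 1; funext i; split <;> simp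

theorem card_lt_subtype {n k : ℕ} (h : k ≤ n) : Fintype.card {i : Fin n // (i : ℕ) < k} = k := by
  conv_rhs => rw [← Fintype.card_fin k]
  exact Fintype.card_congr ⟨fun i => ⟨i.1, i.2⟩, fun i => ⟨Fin.castLE h i, i.2⟩, fun i => rfl, fun i => rfl⟩

theorem negDiag_rank_sub {F : Type*} [Field F] (h2 : (2 : F) ≠ 0) {n k : ℕ} (h : k ≤ n) :
    ((negDiag F n k : Matrix (Fin n) (Fin n) F) - 1).rank = k := by
  classical
  rw [show (negDiag F n k : Matrix (Fin n) (Fin n) F) - 1 =
      Matrix.diagonal (fun i : Fin n => if (i : ℕ) < k then -2 else 0) by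
    rw [← Matrix.diagonal_one]
    show Matrix.diagonal _ - _ = _
    rw [Matrix.diagonal_sub]
    congr 1; funext i; split <;> norm_num, Matrix.rank_diagonal]
  conv_rhs => rw [← card_lt_subtype h]
  exact Fintype.card_congr (Equiv.subtypeEquivRight fun i => by split <;> simp_all)

theorem negDiag_rank_add {F : Type*} [Field F] (h2 : (2 : F) ≠ 0) {n k : ℕ} (h : k ≤ n) :
    ((negDiag F n k : Matrix (Fin n) (Fin n) F) + 1).rank = n - k := by
  classical
  rw [show (negDiag F n k : Matrix (Fin n) (Fin n) F) + 1 =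
      Matrix.diagonal (fun i : Fin n => if (i : ℕ) < k then 0 else 2) by
    rw [← Matrix.diagonal_one]
    show Matrix.diagonal _ + _ = _
    rw [Matrix.diagonal_add]
    congr 1; funext i; split <;> norm_num, Matrix.rank_diagonal]
  have := Fintype.card_subtype_compl (fun i : Fin n => (i : ℕ) < k)
  rw [card_lt_subtype h, Fintype.card_fin] at this
  rw [← this]
  exact Fintype.card_congr (Equiv.subtypeEquivRight fun i => by split <;> simp_all)

/-! ### Odd characteristic and odd prime index -/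

section dickson

variable {ι : Type} [Fintype ι] [DecidableEq ι] {F : Type*} [Field F] {F₀ : Subfield F}

/-- The action of a two by two matrix on the plane of v, w, fixing the common kernel of χ, ψ. -/
noncomputable def planeMap (v w : ι → F) (χ ψ : Module.Dual F (ι → F)) (B : Matrix (Fin 2) (Fin 2) F) :
    Matrix ι ι F :=
  1 + LinearMap.toMatrix' (((B 0 0 - 1) • χ + B 0 1 • ψ).smulRight v +
    (B 1 0 • χ + (B 1 1 - 1) • ψ).smulRight w)

theorem planeMap_mulVec (v w : ι → F) (χ ψ : Module.Dual F (ι → F)) (B : Matrix (Fin 2) (Fin 2) F)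
    (x : ι → F) : planeMap v w χ ψ B *ᵥ x =
      x + ((B 0 0 - 1) * χ x + B 0 1 * ψ x) • v + (B 1 0 * χ x + (B 1 1 - 1) * ψ x) • w := by
  rw [planeMap, Matrix.add_mulVec, Matrix.one_mulVec, LinearMap.toMatrix'_mulVec, add_assoc]
  rfl

theorem planeMap_one (v w : ι → F) (χ ψ : Module.Dual F (ι → F)) : planeMap v w χ ψ 1 = 1 :=
  Matrix.ext_of_mulVec_single fun i => by rw [planeMap_mulVec, Matrix.one_mulVec]; simp

theorem planeMap_mul {v w : ι → F} {χ ψ : Module.Dual F (ι → F)} (h1 : χ v = 1) (h2 : χ w = 0)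
    (h3 : ψ v = 0) (h4 : ψ w = 1) (A B : Matrix (Fin 2) (Fin 2) F) :
    planeMap v w χ ψ (A * B) = planeMap v w χ ψ A * planeMap v w χ ψ B :=
  Matrix.ext_of_mulVec_single fun i => by
    rw [← Matrix.mulVec_mulVec, planeMap_mulVec, planeMap_mulVec, planeMap_mulVec]
    simp only [map_add, map_smul, h1, h2, h3, h4, smul_eq_mul, mul_one, mul_zero, add_zero, zero_add,
      Matrix.mul_apply, Fin.sum_univ_two]
    module

variable {M : Subgroup (GL ι F)}
  (hT : ∀ (v : ι → F) (φ : Module.Dual F (ι → F)) (h : φ v = 0), RatV F₀ v → RatD F₀ φ → tv v φ h ∈ M)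
  (hP : ∀ (v : ι → F) (φ : Module.Dual F (ι → F)) (c : F) (h : (c • φ) v = 0), RatV F₀ v → v ≠ 0 →
      RatD F₀ φ → φ ≠ 0 → φ v = 0 → tv v (c • φ) h ∈ M → c ∈ F₀)

include hT hP

/-- If M contains the rational multiples of a transvection, its products with rational data are rational. -/
theorem pair_mem_of_tv [Fintype F] {r : ℕ} (hr : r.Prime) (hr2 : r ≠ 2)
    (hcard : Fintype.card F = Nat.card F₀ ^ r) (h2 : (2 : F) ≠ 0) {a : ι → F}
    {φ : Module.Dual F (ι → F)} (h : φ a = 0)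
    (hM : ∀ c ∈ F₀, tv a (c • φ) (by simp [h]) ∈ M)
    {v : ι → F} {ψ : Module.Dual F (ι → F)} (hv : RatV F₀ v) (hψ : RatD F₀ ψ) (hψv : ψ v = 0) :
    φ v * ψ a ∈ F₀ := by
  by_contra hl
  obtain ⟨hφv, hψa⟩ := mul_ne_zero_iff.1 fun e => hl (e ▸ F₀.zero_mem)
  set l := φ v * ψ a with hldef
  set w : ι → F := (ψ a)⁻¹ • a with hw
  set χ : Module.Dual F (ι → F) := (φ v)⁻¹ • φ with hχ
  have h1 : χ v = 1 := by simp [hχ, inv_mul_cancel₀ hφv]
  have h2' : χ w = 0 := by simp [hχ, hw, h]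
  have h4 : ψ w = 1 := by simp [hw, inv_mul_cancel₀ hψa]
  let Φ : Matrix.SpecialLinearGroup (Fin 2) F →* GL ι F :=
    MonoidHom.toHomUnits
      { toFun := fun B => planeMap v w χ ψ (B : Matrix (Fin 2) (Fin 2) F)
        map_one' := planeMap_one v w χ ψ
        map_mul' := fun A B => planeMap_mul h1 h2' hψv h4 (A : Matrix (Fin 2) (Fin 2) F) B }
  have hΦ : ∀ B x, mv (Φ B) x = planeMap v w χ ψ (B : Matrix (Fin 2) (Fin 2) F) *ᵥ x := fun B x => rfl
  have hupp : ∀ c : F, Φ (PStable.upp c) = tv v (c • ψ) (by simp [hψv]) := fun c => ext_mv fun x => by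
    rw [hΦ, planeMap_mulVec, mv_tv, PStable.upp_val]; simp
  have hlow : ∀ c : F, Φ (PStable.low (c * l)) = tv a (c • φ) (by simp [h]) := fun c => ext_mv fun x => by
    rw [hΦ, planeMap_mulVec, mv_tv, PStable.low_val]
    simp only [hw, hχ, hldef, Matrix.of_apply, Matrix.cons_val', Matrix.cons_val_zero, Matrix.cons_val_one,
      Matrix.cons_val_fin_one, sub_self, zero_mul, mul_zero, add_zero, zero_smul, LinearMap.smul_apply,
      smul_eq_mul, smul_smul]
    congr 1
    field_simp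
  have h2k : (2 : F₀) ≠ 0 := fun e =>
    h2 (by have := congrArg F₀.subtype e; rwa [map_ofNat, map_zero] at this)
  have hsub : DicksonAlpha.grp (k := F₀) l ≤ M.comap Φ := by
    rw [DicksonAlpha.grp, Subgroup.closure_le]
    rintro _ (⟨c, rfl⟩ | ⟨c, rfl⟩) <;> rw [SetLike.mem_coe, Subgroup.mem_comap]
    · rw [hupp]
      refine hT _ _ _ hv fun i => ?_
      rw [LinearMap.smul_apply, smul_eq_mul]
      exact F₀.mul_mem c.2 (hψ i)
    · rw [hlow]; exact hM _ c.2
  rcases DicksonAlpha.finite_case' h2k (adjoin_eq_top hr hcard hl) (fun e => hl (e ▸ F₀.zero_mem)) with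
    htop | ⟨hk3, γ, -, hγ⟩
  · have := hsub (htop ▸ Subgroup.mem_top (PStable.upp l))
    rw [Subgroup.mem_comap, hupp] at this
    exact hl (hP v ψ l _ hv (fun e => by simp [e] at h1) hψ (fun e => by simp [e] at h4) hψv this)
  · have e := congrArg (fun A : Matrix.SpecialLinearGroup (Fin 2) F => (A : Matrix (Fin 2) (Fin 2) F)) hγ
    simp only [Matrix.SpecialLinearGroup.coe_mul, PStable.upp_val] at e
    have e00 := congrFun (congrFun e 0) 0
    have e01 := congrFun (congrFun e 0) 1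
    have hd := PStable.det_one γ
    simp [Matrix.mul_apply, Fin.sum_univ_two] at e00 e01
    have hsq : (γ.1 0 0) ^ 2 = -1 := by
      linear_combination -hd + γ.1 0 0 * e01 - γ.1 0 1 * e00
    have hm := sq_mem_imp hr hr2 hcard (γ.1 0 0) (hsq ▸ F₀.neg_mem F₀.one_mem)
    haveI : Fintype F₀ := Fintype.ofFinite _
    set y : F₀ := ⟨_, hm⟩
    have hy : y ^ 2 = -1 := Subtype.ext (by simpa using hsq)
    have hy3 := FiniteField.pow_card y
    rw [← Nat.card_eq_fintype_card, hk3] at hy3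
    have hy0 : y ≠ 0 := fun e => by simp [e] at hy
    apply h2k
    have : y ^ 2 = 1 := mul_right_cancel₀ hy0 (by rw [one_mul, ← pow_succ, hy3])
    linear_combination hy - this

/-- If M contains the rational multiples of a transvection, that transvection is rational. -/
theorem rat_of_tv [Fintype F] {r : ℕ} (hr : r.Prime) (hr2 : r ≠ 2)
    (hcard : Fintype.card F = Nat.card F₀ ^ r) (h2 : (2 : F) ≠ 0) (hn : 2 ≤ Fintype.card ι) {a : ι → F}
    {φ : Module.Dual F (ι → F)} (h : φ a = 0) (hM : ∀ c ∈ F₀, tv a (c • φ) (by simp [h]) ∈ M)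
    (i j : ι) : φ (Pi.single i 1) * a j ∈ F₀ := by
  have off : ∀ i j : ι, i ≠ j → φ (Pi.single i 1) * a j ∈ F₀ := fun i j hij =>
    pair_mem_of_tv hT hP hr hr2 hcard h2 h hM (v := Pi.single i 1) (ψ := LinearMap.proj j)
      (ratV_single i F₀.one_mem) (fun k => ratV_single k F₀.one_mem j) (by simp [Ne.symm hij])
  rcases ne_or_eq i j with hij | rfl
  · exact off i j hij
  haveI : Nontrivial ι := Fintype.one_lt_card_iff_nontrivial.1 hn
  obtain ⟨k, hk⟩ := exists_ne i
  have hd := pair_mem_of_tv hT hP hr hr2 hcard h2 h hM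
    (v := Pi.single i 1 - Pi.single k 1)
    (ψ := (LinearMap.proj i : Module.Dual F (ι → F)) + (LinearMap.proj k : Module.Dual F (ι → F)))
    (fun l => F₀.sub_mem (ratV_single i F₀.one_mem l) (ratV_single k F₀.one_mem l))
    (fun l => by
      simp only [LinearMap.add_apply, LinearMap.coe_proj, Function.eval]
      exact F₀.add_mem (ratV_single l F₀.one_mem i) (ratV_single l F₀.one_mem k))
    (by
      simp only [LinearMap.add_apply, LinearMap.coe_proj, Function.eval, Pi.sub_apply]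
      simp [hk, Ne.symm hk])
  simp only [LinearMap.add_apply, LinearMap.coe_proj, Function.eval] at hd
  simp only [map_sub] at hd
  set p := φ (Pi.single i 1)
  set p' := φ (Pi.single k 1)
  have hik := off i k (Ne.symm hk)
  have hki := off k i hk
  have hd' : p * a i - p' * a k ∈ F₀ := by
    have := F₀.add_mem (F₀.sub_mem hd hik) hki
    convert this using 1
    ring
  have hs := sq_mem_imp hr hr2 hcard (p * a i + p' * a k) (by
    have h4 : ((4 : ℕ) : F) ∈ F₀ := natCast_mem F₀ 4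
    have := F₀.add_mem (F₀.mul_mem hd' hd') (F₀.mul_mem h4 (F₀.mul_mem hik hki))
    convert this using 1
    push_cast
    ring)
  have h2m : ((2 : ℕ) : F) ∈ F₀ := natCast_mem F₀ 2
  have := F₀.div_mem (F₀.add_mem hd' hs) h2m
  convert this using 1
  rw [eq_div_iff (by simpa using h2)]
  push_cast
  ring

end dickson

theorem sl_subfield_maximal {F : Type*} [Field F] [Fintype F] {n : ℕ} (hn : 6 ≤ n) {F₀ : Subfield F}
    {r : ℕ} (hr : r.Prime) (hcard : Fintype.card F = Nat.card F₀ ^ r) :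
    Geo.IsMaximalIn (Geo.specialLinear (Fin n) F)
      (((Matrix.GeneralLinearGroup.map (F₀.subtype : F₀ →+* F)).range ⊔ Geo.scalars (Fin n) F) ⊓
        Geo.specialLinear (Fin n) F) := by
  have h3 : 3 ≤ Fintype.card (Fin n) := by rw [Fintype.card_fin]; omega
  have hne : Nonempty (Fin n) := ⟨⟨0, by omega⟩⟩
  obtain ⟨c, hc⟩ : ∃ c : F, c ∉ F₀ := by
    by_contra hall
    push Not at hall
    have : Nat.card F₀ = Fintype.card F := by
      rw [← Nat.card_eq_fintype_card]
      exact Nat.card_congr ⟨fun x => x.1, fun x => ⟨x, hall x⟩, fun x => rfl, fun x => rfl⟩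
    rw [← this] at hcard
    have h1 : 1 < Nat.card F₀ := Finite.one_lt_card
    have h4 : Nat.card F₀ ^ 1 < Nat.card F₀ ^ r := Nat.pow_lt_pow_right h1 hr.one_lt
    rw [pow_one, ← hcard] at h4
    exact lt_irrefl _ h4
  refine ⟨lt_of_le_of_ne inf_le_right fun heq => hc ?_, fun M hHM hMS => ?_⟩
  · set v : Fin n → F := Pi.single ⟨0, by omega⟩ 1
    set φ : Module.Dual F (Fin n → F) := c • LinearMap.proj ⟨1, by omega⟩
    have hφ : φ v = 0 := by simp [φ, v]
    obtain ⟨a, ha, hA⟩ := (mem_subfield_one_iff _).1 (heq.ge (tv_mem_specialLinear hφ)).1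
    have e : ∀ i j, a * mv (tv v φ hφ) (Pi.single j 1) i ∈ F₀ := fun i j => by
      simpa [mv] using hA i j
    have e1 := e ⟨2, by omega⟩ ⟨2, by omega⟩
    have e2 := e ⟨0, by omega⟩ ⟨1, by omega⟩
    rw [mv_tv] at e1 e2
    simp [φ, v] at e1 e2
    have := F₀.div_mem e2 e1
    rwa [mul_div_cancel_left₀ _ ha] at this
  have hT : ∀ (v : Fin n → F) (φ : Module.Dual F (Fin n → F)) (h : φ v = 0), RatV F₀ v → RatD F₀ φ →
      tv v φ h ∈ M := fun v φ h hv hφ =>
    hHM ⟨(mem_subfield_one_iff _).2 (srat_of_ratM (ratM_tv h hv hφ)), tv_mem_specialLinear h⟩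
  by_cases hP : ∀ (v : Fin n → F) (φ : Module.Dual F (Fin n → F)) (c : F) (h : (c • φ) v = 0),
      RatV F₀ v → v ≠ 0 → RatD F₀ φ → φ ≠ 0 → φ v = 0 → tv v (c • φ) h ∈ M → c ∈ F₀
  swap
  · push Not at hP
    obtain ⟨v, φ, c', h, hv, hv0, hφ, hφ0, hφv, hm, hc'⟩ := hP
    exact Or.inr (le_antisymm hMS (all_tv_mem hT h3 hr hcard h hv hv0 hφ hφ0 hφv hm hc'))
  refine Or.inl (le_antisymm (fun g hg => ⟨(mem_subfield_one_iff g).2 ?_, hMS hg⟩) hHM)
  have hL := @ratLine_centre (Fin n) _ _ F _ F₀ M hT h3 hP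
  by_cases hrn : r < n
  · -- every functional has a rational zero
    refine srat_of_lines fun v hv hv0 => ?_
    obtain ⟨e, he0, he, hev, -⟩ := exists_ratD_two h3 hv hv
    set L : (Fin n → F₀) →ₗ[F₀] F :=
      (((dotDual e).comp (mvLin g⁻¹)).restrictScalars F₀).comp ((Algebra.linearMap F₀ F).compLeft (Fin n))
    obtain ⟨u, hu0, hu⟩ := exists_rat_zero L (by
      rw [finrank_eq_of_card hcard, Fintype.card_fin]; exact hrn)
    exact ratLine_image hT hL hg hv (ratD_dotDual he) (dotDual_ne_zero he0) hev (ratV_coe u)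
      (coe_ne_zero hu0) hu
  have hr2 : r ≠ 2 := by omega
  have hK : ∀ g ∈ M, ∀ D : Matrix (Fin n) (Fin n) F, RatM F₀ D → D ≠ 0 → D.det = 0 → ∀ y : Fin n → F,
      RatV F₀ (mv g (D *ᵥ y)) → mv g (D *ᵥ y) ≠ 0 → SRat F₀ g := by
    intro g hg D hD _ hdet y hu hu0
    obtain ⟨e, he0, he, heD⟩ := exists_rat_left_ker hD hdet
    obtain ⟨v, hv0, hv, hev, -⟩ := exists_ratV_two h3 (ratD_dotDual he) (ratD_dotDual he)
    obtain ⟨a, ha, hav⟩ := ratLine_image hT hL hg hv (ratD_dotDual he) (dotDual_ne_zero he0) hev hu hu0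
      (by rw [mv_inv_mv]; exact heD y)
    refine srat_of_lines fun w hw hw0 => ?_
    obtain ⟨d, hd0, hd, hdw, hdv⟩ := exists_ratD_two h3 hw hv
    exact ratLine_image hT hL hg hw (ratD_dotDual hd) (dotDual_ne_zero hd0) hdw hav
      (smul_ne_zero ha fun h => hv0 (mv_inj g (h.trans (mv_zero g).symm)))
      (by rw [mv_smul, mv_inv_mv, map_smul, hdv, smul_zero])
  have hroot := sq_mem_imp hr hr2 hcard
  set i0 : Fin n := ⟨0, by omega⟩
  set i1 : Fin n := ⟨1, by omega⟩
  set i2 : Fin n := ⟨2, by omega⟩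
  set i3 : Fin n := ⟨3, by omega⟩
  by_cases h2 : (2 : F) = 0
  · -- characteristic two
    have hneg : (-1 : F) = 1 := by linear_combination -h2
    set A := tv (Pi.single i0 (1 : F)) (LinearMap.proj i1) (by simp [i0, i1]) with hA
    set B := tv (Pi.single i2 (1 : F)) (LinearMap.proj i3) (by simp [i2, i3]) with hB
    have hAR : RatM F₀ (A : Matrix (Fin n) (Fin n) F) :=
      ratM_tv _ (ratV_single i0 F₀.one_mem) fun k => ratV_single k F₀.one_mem i1
    have hBR : RatM F₀ (B : Matrix (Fin n) (Fin n) F) :=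
      ratM_tv _ (ratV_single i2 F₀.one_mem) fun k => ratV_single k F₀.one_mem i3
    have hAM : A ∈ M := hT _ _ _ (ratV_single i0 F₀.one_mem) fun k => ratV_single k F₀.one_mem i1
    have hBM : B ∈ M := hT _ _ _ (ratV_single i2 F₀.one_mem) fun k => ratV_single k F₀.one_mem i3
    have hAv : ∀ x, mv A x = x + x i1 • Pi.single i0 1 := fun x => mv_tv _ x
    have hzv : ∀ x, mv (A * B) x = x + x i3 • Pi.single i2 1 + x i1 • Pi.single i0 1 := fun x => by
      rw [mv_mul, hAv, hB, mv_tv]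
      simp [i1, i2]
    have two_smul' : ∀ (a : F) (y : Fin n → F), a • y + a • y = 0 := fun a y => by
      rw [← two_smul F, smul_smul, h2, zero_mul, zero_smul]
    have hA2 : A * A = 1 := ext_mv fun x => by
      rw [mv_mul, hAv, hAv, mv_one, add_assoc]
      simp [i0, i1, two_smul']
    have hz2 : A * B * (A * B) = 1 := ext_mv fun x => by
      rw [mv_mul, hzv, hzv, mv_one]
      simp only [Pi.add_apply, Pi.smul_apply, smul_eq_mul]
      rw [Pi.single_eq_of_ne (by simp [i3, i2]), Pi.single_eq_of_ne (by simp [i3, i0]),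
        Pi.single_eq_of_ne (by simp [i1, i2]), Pi.single_eq_of_ne (by simp [i1, i0])]
      have ha := two_smul' (x i3) (Pi.single i2 1)
      have hb := two_smul' (x i1) (Pi.single i0 1)
      simp only [mul_zero, add_zero]
      linear_combination (norm := module) ha + hb
    have hsA : ((A : Matrix (Fin n) (Fin n) F) - 1).rank ≤ 1 := by
      refine le_trans (Submodule.finrank_mono (t := Submodule.span F {(Pi.single i0 1 : Fin n → F)}) ?_)
        ((finrank_span_le_card _).trans (by simp))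
      rintro _ ⟨x, rfl⟩
      rw [Matrix.mulVecLin_apply, Matrix.sub_mulVec, Matrix.one_mulVec, show (A : Matrix (Fin n) (Fin n) F) *ᵥ x
        = mv A x from rfl, hAv, add_sub_cancel_left]
      exact Submodule.smul_mem _ _ (Submodule.mem_span_singleton_self _)
    have hsz : 2 ≤ (((A * B : GL (Fin n) F) : Matrix (Fin n) (Fin n) F) - 1).rank := by
      have hind : LinearIndependent F ![(Pi.single i2 1 : Fin n → F), Pi.single i0 1] := by
        rw [LinearIndependent.pair_iff]
        intro s t hst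
        have e1 := congrFun hst i2
        have e2 := congrFun hst i0
        simp [i0, i2] at e1 e2
        exact ⟨e1, e2⟩
      have := finrank_span_eq_card hind
      rw [Fintype.card_fin] at this
      refine this.symm.le.trans (Submodule.finrank_mono (Submodule.span_le.2 ?_))
      rintro _ ⟨k, rfl⟩
      fin_cases k
      · refine ⟨Pi.single i3 1, ?_⟩
        rw [Matrix.mulVecLin_apply, Matrix.sub_mulVec, Matrix.one_mulVec]
        show mv (A * B) (Pi.single i3 1) - _ = _
        rw [hzv]; simp [i1, i3]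
      · refine ⟨Pi.single i1 1, ?_⟩
        rw [Matrix.mulVecLin_apply, Matrix.sub_mulVec, Matrix.one_mulVec]
        show mv (A * B) (Pi.single i1 1) - _ = _
        rw [hzv]; simp [i1, i3]
    have hA1 : A ≠ 1 := fun h => by
      have := congrFun (congrArg (fun g => mv g (Pi.single i1 1)) h) i0
      simp [hAv, mv_one, i0, i1] at this
    have hz1 : A * B ≠ 1 := fun h => by
      have := congrFun (congrArg (fun g => mv g (Pi.single i1 1)) h) i0
      simp [hzv, mv_one, i0, i1, i3] at this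
    have hn1 : (-1 : Matrix (Fin n) (Fin n) F) = 1 := by
      rw [← neg_one_smul F (1 : Matrix (Fin n) (Fin n) F), hneg, one_smul]
    refine srat_of_involutions (s := A) (z := A * B) hroot hK hAM (M.mul_mem hAM hBM) hA2 hz2 hAR
      (by rw [Units.val_mul]; exact ratM_mul hAR hBR) hA1 ?_ hz1 ?_ (by omega) (Or.inl hneg) g hg
    · intro h
      exact hA1 (Units.ext ((h.trans hn1).trans Units.val_one.symm))
    · intro h
      exact hz1 (Units.ext ((h.trans hn1).trans Units.val_one.symm))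
  · refine srat_of_lines fun v hv hv0 => ?_
    obtain ⟨e, he0, he, hev, -⟩ := exists_ratD_two h3 hv hv
    set φ := (dotDual e).comp (mvLin g⁻¹) with hφ
    have hφe : ∀ x, φ (mv g x) = dotDual e x := fun x => by
      rw [hφ, LinearMap.comp_apply, Matrix.toLin'_apply]
      exact congrArg (dotDual e) (mv_inv_mv g x)
    have hφv : φ (mv g v) = 0 := (hφe v).trans hev
    have hrat := rat_of_tv hT hP hr hr2 hcard h2 (by omega) hφv fun c hc => by
      rw [← tv_conj (v := v) (φ := c • dotDual e) (by simp [hev]) g _ rfl fun x => by simp [hφe]]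
      refine M.mul_mem (M.mul_mem hg (hT _ _ _ hv fun i => ?_)) (M.inv_mem hg)
      rw [LinearMap.smul_apply, smul_eq_mul]
      exact F₀.mul_mem hc (ratD_dotDual he i)
    obtain ⟨i, hi⟩ : ∃ i, φ (Pi.single i 1) ≠ 0 := by
      by_contra hc
      push Not at hc
      refine dotDual_ne_zero he0 (LinearMap.ext fun x => ?_)
      rw [← hφe x, dual_eq_zero hc, LinearMap.zero_apply, LinearMap.zero_apply]
    exact ⟨_, hi, fun j => by rw [Pi.smul_apply, smul_eq_mul]; exact hrat i j⟩

end Cfsg.Agent.Transvec
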