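/-
Maximality of the similarity group of a quadratic form in the special linear group (odd characteristic).
-/
import Cfsg.Agent.Lib.Transvec.OrthNondeg
import Cfsg.Agent.Lib.Transvec.SubfieldSL
set_option autoImplicit false

namespace Cfsg.Agent.Transvec.Orth

open scoped Matrix
open Matrix Cfsg.Agent.Transvec

variable {ι : Type} [Fintype ι] [DecidableEq ι] {F : Type*} [Field F] {Q : (ι → F) → F}
variable (hQ : Geo.IsNondegenerateQuadraticForm Q)
include hQ

/-- The transvection with centre a and axis polar to p lies in M. -/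
def AxTv (M : Subgroup (GL ι F)) (a p : ι → F) : Prop :=
  ∃ h : formQ hQ p a = 0, tv a (formQ hQ p) h ∈ M

theorem axTv_congr {M : Subgroup (GL ι F)} {a p a' p' : ι → F} (h : AxTv hQ M a p) (hp : pol Q a' p' = 0)
    (he : ∀ z, pol Q z p • a = pol Q z p' • a') : AxTv hQ M a' p' := by
  obtain ⟨h1, h2⟩ := h
  refine ⟨hp, ?_⟩
  rwa [tv_congr (v' := a) (φ' := formQ hQ p) hp h1 fun z => (he z).symm]

theorem axTv_conj {M : Subgroup (GL ι F)} {g : GL ι F} (hg : g ∈ M) (hgI : g ∈ isometryGroup F Q) {a p : ι → F}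
    (h : AxTv hQ M a p) : AxTv hQ M (mv g a) (mv g p) := by
  obtain ⟨h1, h2⟩ := h
  have h' : formQ hQ (mv g p) (mv g a) = 0 := by rw [formQ_apply, pol_mv hQ hgI]; exact h1
  refine ⟨h', ?_⟩
  rw [← tv_conj h1 g h' rfl fun z => pol_mv hQ hgI z p]
  exact M.mul_mem (M.mul_mem hg h2) (M.inv_mem hg)

theorem axTv_add_left {M : Subgroup (GL ι F)} {a b p : ι → F} (ha : AxTv hQ M a p) (hb : AxTv hQ M b p) :
    AxTv hQ M (a + b) p := by
  obtain ⟨a1, a2⟩ := ha
  obtain ⟨b1, b2⟩ := hb
  have h' : formQ hQ p (a + b) = 0 := by rw [map_add, a1, b1, add_zero]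
  refine ⟨h', ?_⟩
  have := M.mul_mem a2 b2
  rwa [show tv a (formQ hQ p) a1 * tv b (formQ hQ p) b1 = tv (a + b) (formQ hQ p) h' from ext_mv fun z => by
    simp only [mv_mul, mv_tv, map_add, map_smul, b1, smul_eq_mul, mul_zero, add_zero]; module] at this

theorem axTv_add_right {M : Subgroup (GL ι F)} {a p q : ι → F} (hp : AxTv hQ M a p) (hq : AxTv hQ M a q) :
    AxTv hQ M a (p + q) := by
  obtain ⟨a1, a2⟩ := hp
  obtain ⟨b1, b2⟩ := hq
  have h' : formQ hQ (p + q) a = 0 := by
    rw [formQ_apply, pol_add_right hQ, show pol Q a p = 0 from a1, show pol Q a q = 0 from b1, add_zero]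
  refine ⟨h', ?_⟩
  have := M.mul_mem a2 b2
  rwa [show tv a (formQ hQ p) a1 * tv a (formQ hQ q) b1 = tv a (formQ hQ (p + q)) h' from ext_mv fun z => by
    simp only [mv_mul, mv_tv, map_add, map_smul, b1, smul_eq_mul, mul_zero, add_zero, formQ_apply,
      pol_add_right hQ]
    rw [show pol Q a p = 0 from a1]; module] at this

theorem axTv_neg_left {M : Subgroup (GL ι F)} {a p : ι → F} (ha : AxTv hQ M a p) : AxTv hQ M (-a) p := by
  obtain ⟨a1, a2⟩ := ha
  have h' : formQ hQ p (-a) = 0 := by rw [map_neg, a1, neg_zero]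
  refine ⟨h', ?_⟩
  have := M.inv_mem a2
  rw [tv_inv a1] at this
  rwa [tv_congr (v' := a) (φ' := -formQ hQ p) h' (by simp [a1]) fun z => by simp]

/-- A subspace is spanned by its singular vectors outside a small radical. -/
theorem singular_le [Finite F] {L K : Submodule F (ι → F)}
    (hd : Module.finrank F ↥(L ⊓ orth hQ L) + 3 ≤ Module.finrank F L)
    (h : ∀ e ∈ L, Q e = 0 → e ∈ K) : L ≤ K := by
  obtain ⟨C, hC⟩ := (L ⊓ orth hQ L).exists_isCompl
  have h1 := Submodule.finrank_add_eq_of_isCompl hC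
  have h2 := Submodule.finrank_sup_add_finrank_inf_eq C L
  have h3 := Submodule.finrank_le (C ⊔ L)
  have hCn : Nondeg Q (C ⊓ L) := fun u hu h' => by
    have hR : u ∈ L ⊓ orth hQ L := by
      refine ⟨hu.2, fun x hx => ?_⟩
      obtain ⟨r, hr, c, hc, rfl⟩ := Submodule.mem_sup.1 (hC.sup_eq_top.ge (Submodule.mem_top (x := x)))
      have hcL : c ∈ L := by simpa using L.sub_mem hx hr.1
      rw [pol_add_left hQ, pol_comm, hr.2 u hu.2, h' c ⟨hc, hcL⟩, add_zero]
    have : u ∈ (L ⊓ orth hQ L) ⊓ C := ⟨hR, hu.1⟩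
    rwa [hC.inf_eq_bot, Submodule.mem_bot] at this
  have hC3 : 3 ≤ Module.finrank F ↥(C ⊓ L) := by omega
  have key : ∀ y ∈ L, y ∉ orth hQ L → y ∈ K := by
    intro y hy hyo
    obtain ⟨r, hr, c, hc, rfl⟩ := Submodule.mem_sup.1 (hC.sup_eq_top.ge (Submodule.mem_top (x := y)))
    have hcL : c ∈ L := by simpa using L.sub_mem hy hr.1
    have hc0 : c ≠ 0 := fun h0 => hyo (by rw [h0, add_zero]; exact hr.2)
    obtain ⟨e, he, hee, hce⟩ := exists_singular_not_orth hQ hCn hC3 ⟨hc, hcL⟩ hc0
    have hye : pol Q (r + c) e ≠ 0 := by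
      rwa [pol_add_left hQ, pol_comm r, hr.2 e he.2, zero_add]
    set k := Q (r + c) / pol Q (r + c) e
    have hs := h (r + c - k • e) (L.sub_mem hy (L.smul_mem _ he.2)) (by
      rw [q_sub hQ, q_smul hQ, hee, pol_smul_right hQ, div_mul_cancel₀ _ hye]; ring)
    simpa using K.add_mem hs (K.smul_mem k (h e he.2 hee))
  intro y hy
  by_cases hyo : y ∈ orth hQ L
  swap
  · exact key y hy hyo
  obtain ⟨c, hc, hc0⟩ := (C ⊓ L).ne_bot_iff.1 fun h0 => by rw [h0, finrank_bot] at hC3; omega
  have hco : c ∉ orth hQ L := fun hh => hc0 (hCn c hc fun w hw => hh w hw.2)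
  have h4 := key (y + c) (L.add_mem hy hc.2) fun hh => hco (by simpa using (orth hQ L).sub_mem hh hyo)
  simpa using K.sub_mem h4 (key c hc.2 hco)

/-- Each element is a sum of two squares. -/
theorem exists_two_squares [Fintype F] (h2 : (2 : F) ≠ 0) (s : F) : ∃ x y : F, x ^ 2 + y ^ 2 = s := by
  obtain ⟨x, y, hxy⟩ := FiniteField.exists_root_sum_quadratic
    (f := Polynomial.C (1 : F) * Polynomial.X ^ 2 + Polynomial.C (-s)) (g := Polynomial.C (1 : F) * Polynomial.X ^ 2)
    (by
      rw [Polynomial.degree_add_eq_left_of_degree_lt] <;> rw [Polynomial.degree_C_mul_X_pow 2 one_ne_zero]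
      · rfl
      · exact lt_of_le_of_lt Polynomial.degree_C_le (by norm_num))
    (Polynomial.degree_C_mul_X_pow 2 one_ne_zero)
    (FiniteField.odd_card_of_char_ne_two fun h => h2 (by
        have : CharP F 2 := ringChar.eq_iff.1 h
        exact CharP.cast_eq_zero F 2))
  simp only [Polynomial.eval_add, Polynomial.eval_mul, Polynomial.eval_C, Polynomial.eval_pow, Polynomial.eval_X,
    one_mul] at hxy
  exact ⟨x, y, by linear_combination hxy⟩

/-- A non-degenerate space of dimension at least two takes every non-zero value. -/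
theorem exists_value_two [Fintype F] (h2 : (2 : F) ≠ 0) {X : Submodule F (ι → F)} (hX : Nondeg Q X)
    (hd : 2 ≤ Module.finrank F X) {a : F} (ha : a ≠ 0) : ∃ x ∈ X, Q x = a := by
  obtain ⟨x, hx, hxx⟩ := exists_anisotropic hQ hX fun h => by rw [h, finrank_bot] at hd; omega
  have hx0 : x ≠ 0 := fun h => hxx (by rw [h, q_zero hQ])
  have hxn : Nondeg Q (Submodule.span F {x}) := fun w hw h => by
    obtain ⟨k, rfl⟩ := Submodule.mem_span_singleton.1 hw
    have := h x (Submodule.mem_span_singleton_self x)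
    rw [pol_smul_right hQ, pol_self hQ, mul_eq_zero, or_iff_left (mul_ne_zero h2 hxx)] at this
    rw [this, zero_smul]
  have hle : Submodule.span F {x} ≤ X := (Submodule.span_singleton_le_iff_mem _ _).2 hx
  have hdim := finrank_inf_orth_add hQ hxn hle
  rw [finrank_span_singleton hx0] at hdim
  have hYn := nondeg_inf_orth hQ hxn hX hle
  obtain ⟨y, hy, hyy⟩ := exists_anisotropic hQ hYn fun h => by rw [h, finrank_bot] at hdim; omega
  have hxy : pol Q x y = 0 := hy.2 x (Submodule.mem_span_singleton_self x)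
  obtain ⟨u, v, huv⟩ := FiniteField.exists_root_sum_quadratic
    (f := Polynomial.C (Q x) * Polynomial.X ^ 2 + Polynomial.C (-a))
    (g := Polynomial.C (Q y) * Polynomial.X ^ 2)
    (by
      rw [Polynomial.degree_add_eq_left_of_degree_lt] <;> rw [Polynomial.degree_C_mul_X_pow 2 hxx]
      · rfl
      · exact lt_of_le_of_lt Polynomial.degree_C_le (by norm_num))
    (Polynomial.degree_C_mul_X_pow 2 hyy)
    (FiniteField.odd_card_of_char_ne_two fun h => h2 (by
        have : CharP F 2 := ringChar.eq_iff.1 h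
        exact CharP.cast_eq_zero F 2))
  simp only [Polynomial.eval_add, Polynomial.eval_mul, Polynomial.eval_C, Polynomial.eval_pow,
    Polynomial.eval_X] at huv
  refine ⟨u • x + v • y, X.add_mem (X.smul_mem _ hx) (X.smul_mem _ hy.1), ?_⟩
  rw [q_add hQ, q_smul hQ, q_smul hQ, pol_smul_left hQ, pol_smul_right hQ, hxy]
  linear_combination huv

variable [Fintype F]

/-- Siegel elements inside X are transitive on its non-zero singular vectors. -/
theorem exists_move_singular (hc2 : (2 : F) ≠ 0) {X : Submodule F (ι → F)} {K : Subgroup (GL ι F)}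
    (hX : Nondeg Q X) (h4 : 4 ≤ Module.finrank F X)
    (hK : ∀ u ∈ X, ∀ y ∈ X, Q u = 0 → pol Q u y = 0 → ∃ g ∈ K, IsSiegel Q g u y) {u w : ι → F}
    (hu : u ∈ X) (hw : w ∈ X) (hu0 : u ≠ 0) (hw0 : w ≠ 0) (huu : Q u = 0) (hww : Q w = 0) :
    ∃ g ∈ K, mv g u = w ∧ ∀ z, (∀ x ∈ X, pol Q z x = 0) → mv g z = z := by
  have step : ∀ {u x : ι → F}, u ∈ X → x ∈ X → Q u = 0 → Q x = 0 → pol Q u x ≠ 0 →
      ∃ g ∈ K, mv g u = x ∧ ∀ z, (∀ r ∈ X, pol Q z r = 0) → mv g z = z := by
    intro u x hu hx huu hxx hux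
    classical
    set P := Submodule.span F ({u, x} : Set (ι → F))
    set B := pol Q u x
    have hu' : pol Q u u = 0 := by rw [pol_self hQ, huu, mul_zero]
    have hx' : pol Q x x = 0 := by rw [pol_self hQ, hxx, mul_zero]
    have hPn : Nondeg Q P := fun r hr h => by
      obtain ⟨a, b, rfl⟩ := Submodule.mem_span_pair.1 hr
      have h1 := h u (Submodule.subset_span (Set.mem_insert _ _))
      have h2 := h x (Submodule.subset_span (Set.mem_insert_of_mem _ rfl))
      rw [pol_add_right hQ, pol_smul_right hQ, pol_smul_right hQ] at h1 h2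
      rw [hu', mul_zero, zero_add, mul_eq_zero, or_iff_left hux] at h1
      rw [hx', mul_zero, add_zero, pol_comm x u, mul_eq_zero, or_iff_left hux] at h2
      rw [h1, h2, zero_smul, zero_smul, add_zero]
    have hPX : P ≤ X := Submodule.span_le.2 (by rintro r (rfl | rfl) <;> assumption)
    have hd := finrank_inf_orth_add hQ hPn hPX
    have hP2 : Module.finrank F P ≤ 2 :=
      (finrank_span_le_card _).trans
        (by rw [Set.toFinset_insert, Set.toFinset_singleton]; exact Finset.card_le_two)
    obtain ⟨y, hy, hyq⟩ := exists_value_two hQ hc2 (nondeg_inf_orth hQ hPn hX hPX) (by omega)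
      (neg_ne_zero.2 (inv_ne_zero hux))
    have hyu : pol Q u y = 0 := hy.2 u (Submodule.subset_span (Set.mem_insert _ _))
    have hyx : pol Q x y = 0 := hy.2 x (Submodule.subset_span (Set.mem_insert_of_mem _ rfl))
    set v := B⁻¹ • u + B⁻¹ • x + y
    have hv : v ∈ X := X.add_mem (X.add_mem (X.smul_mem _ hu) (X.smul_mem _ hx)) hy.1
    have hvv : Q v = 0 := by
      simp only [v, q_add hQ, q_smul hQ, huu, hxx, hyq, pol_add_left hQ, pol_smul_left hQ,
        pol_smul_right hQ, hyu, hyx]
      rw [show pol Q u x = B from rfl]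
      field_simp
      ring
    have h1 : pol Q u v = 1 := by
      simp only [v, pol_add_right hQ, pol_smul_right hQ, hu', hyu]
      rw [show pol Q u x = B from rfl]
      field_simp
      ring
    have h2 : pol Q x v = 1 := by
      simp only [v, pol_add_right hQ, pol_smul_right hQ, hx', hyx, pol_comm x u]
      rw [show pol Q u x = B from rfl]
      field_simp
      ring
    obtain ⟨r, hr, hr', hmove⟩ := exists_move_along hQ hvv (huu.trans hxx.symm) h1 h2
    have hrX : r ∈ X := hr' ▸ X.sub_mem hx hu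
    obtain ⟨g, hg, hgs⟩ := hK v hv r hrX hvv hr
    exact ⟨g, hg, hmove g hgs, fun z hz => isSiegel_fix hQ hgs (hz _ hv) (hz _ hrX)⟩
  by_cases huw : pol Q u w = 0
  swap
  · exact step hu hw huu hww huw
  obtain ⟨z, hz, hzz, huz, hwz⟩ : ∃ z ∈ X, Q z = 0 ∧ pol Q u z ≠ 0 ∧ pol Q w z ≠ 0 := by
    obtain ⟨z₁, m₁, hz₁, h1⟩ := exists_partner hQ hX hu hu0 huu
    obtain ⟨z₂, m₂, hz₂, h2⟩ := exists_partner hQ hX hw hw0 hww
    by_cases h3 : pol Q w z₁ = 0
    swap
    · exact ⟨z₁, m₁, hz₁, by rw [h1]; exact one_ne_zero, h3⟩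
    by_cases h4 : pol Q u z₂ = 0
    swap
    · exact ⟨z₂, m₂, hz₂, h4, by rw [h2]; exact one_ne_zero⟩
    refine ⟨z₁ + z₂ - pol Q z₁ z₂ • u, X.sub_mem (X.add_mem m₁ m₂) (X.smul_mem _ hu), ?_, ?_, ?_⟩
    · rw [q_sub hQ, q_add hQ, q_smul hQ, hz₁, hz₂, huu, pol_smul_right hQ, pol_add_left hQ,
        pol_comm z₁ u, h1, pol_comm z₂ u, h4]
      ring
    · rw [pol_sub_right hQ, pol_add_right hQ, pol_smul_right hQ, h1, h4, pol_self hQ, huu]; simp
    · rw [pol_sub_right hQ, pol_add_right hQ, pol_smul_right hQ, h3, h2, pol_comm w u, huw]; simp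
  obtain ⟨g₁, hg₁, e₁, f₁⟩ := step hu hz huu hzz huz
  obtain ⟨g₂, hg₂, e₂, f₂⟩ := step hz hw hzz hww fun h => hwz (by rw [pol_comm, h])
  exact ⟨g₂ * g₁, K.mul_mem hg₂ hg₁, by rw [mv_mul, e₁, e₂],
    fun r hr => by rw [mv_mul, f₁ r hr, f₂ r hr]⟩

/-- One transvection with singular axis, together with the orthogonal group, gives the special linear group. -/
theorem specialLinear_le_of_axTv (hn : 6 ≤ Fintype.card ι) (h2 : (2 : F) ≠ 0) {M : Subgroup (GL ι F)}
    (hΩ : siegelGroup Q ≤ M) {a p : ι → F} (hpp : Q p = 0) (hp0 : p ≠ 0) (ha0 : a ≠ 0) (hm : AxTv hQ M a p) :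
    Geo.specialLinear ι F ≤ M := by
  have htop : 5 ≤ Module.finrank F (⊤ : Submodule F (ι → F)) := by rw [finrank_top, Module.finrank_pi]; omega
  have hS : ∀ {u y : ι → F}, Q u = 0 → pol Q u y = 0 → ∃ g ∈ siegelGroup Q, IsSiegel Q g u y := by
    intro u y hu hy
    obtain ⟨g, -, hg⟩ := exists_siegel hQ hu hy
    exact ⟨g, Subgroup.subset_closure ⟨u, y, hu, hy, hg⟩, hg⟩
  have hmove : ∀ {u w : ι → F}, Q u = 0 → Q w = 0 → u ≠ 0 → w ≠ 0 → ∃ g ∈ siegelGroup Q, mv g u = w := by
    intro u w hu hw hu0 hw0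
    obtain ⟨g, hg, hgu, -⟩ := exists_move_singular hQ h2 (nondeg_top hQ) (by omega) (K := siegelGroup Q)
      (fun u _ y _ hu hy => hS hu hy) (Submodule.mem_top (x := u)) (Submodule.mem_top (x := w)) hu0 hw0
      hu hw
    exact ⟨g, hg, hgu⟩
  have hconj : ∀ {g : GL ι F}, g ∈ siegelGroup Q → ∀ {a p : ι → F}, AxTv hQ M a p → AxTv hQ M (mv g a) (mv g p) :=
    fun {g} hg {a p} h => axTv_conj hQ (hΩ hg) (siegelGroup_le_isometry hQ hg) h
  have hp' : pol Q p p = 0 := by rw [pol_self hQ, hpp, mul_zero]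
  -- a transvection in the centre p
  obtain ⟨c, hc, hcp⟩ : ∃ c : F, c ≠ 0 ∧ AxTv hQ M (c • p) p := by
    by_cases hdep : a ∈ Submodule.span F {p}
    · obtain ⟨c, rfl⟩ := Submodule.mem_span_singleton.1 hdep
      exact ⟨c, fun h => ha0 (by rw [h, zero_smul]), hm⟩
    obtain ⟨φ, hφ, hφa⟩ := exists_dual hdep
    obtain ⟨y, hy⟩ := exists_eq_pol hQ φ
    have hpy : pol Q p y = 0 := by rw [← hy]; exact hφ p (Submodule.mem_span_singleton_self p)
    have hap : pol Q a p = 0 := hm.1
    obtain ⟨g, hg, hgs⟩ := hS hpp hpy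
    have h1 := hconj hg hm
    rw [isSiegel_fix hQ hgs hp' hpy, hgs, hap, ← hy a, hφa, zero_smul, add_zero, mul_zero, add_zero, one_smul] at h1
    have := axTv_add_left hQ hm (axTv_neg_left hQ h1)
    rw [show a + -(a - p) = (1 : F) • p by rw [one_smul]; abel] at this
    exact ⟨1, one_ne_zero, this⟩
  have hsq : ∀ t : F, AxTv hQ M ((c * t ^ 2) • p) p := by
    intro t
    rcases eq_or_ne t 0 with rfl | ht
    · refine axTv_congr hQ (axTv_add_left hQ hcp (axTv_neg_left hQ hcp)) (by simp [pol_zero_left hQ]) fun z => ?_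
      simp
    obtain ⟨g, hg, hgp⟩ := hmove hpp (w := t • p) (by rw [q_smul hQ, hpp, mul_zero]) hp0 (smul_ne_zero ht hp0)
    have := hconj hg hcp
    rw [mv_smul, hgp] at this
    refine axTv_congr hQ this (by rw [pol_smul_left hQ, hp', mul_zero]) fun z => ?_
    rw [pol_smul_right hQ]
    module
  have hT : ∀ (u : ι → F), Q u = 0 → u ≠ 0 → ∀ l : F, AxTv hQ M (l • u) u := by
    intro u hu hu0 l
    obtain ⟨x, y, hxy⟩ := exists_two_squares hQ h2 (l / c)
    have := axTv_add_left hQ (hsq x) (hsq y)
    rw [← add_smul, ← mul_add, hxy, mul_div_cancel₀ _ hc] at this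
    obtain ⟨g, hg, hgp⟩ := hmove hpp hu hp0 hu0
    have := hconj hg this
    rwa [mv_smul, hgp] at this
  -- a transvection with orthogonal singular centre and axis
  obtain ⟨q, r, hqq, hq0, hrr, hind, hqr⟩ : ∃ q r : ι → F, Q q = 0 ∧ q ≠ 0 ∧ Q r = 0 ∧
      r ∉ Submodule.span F {q} ∧ AxTv hQ M q r := by
    obtain ⟨u, -, hu0, huu⟩ := exists_singular hQ (X := (⊤ : Submodule F (ι → F))) (by omega)
    obtain ⟨v, -, hvv, huv⟩ := exists_partner hQ (nondeg_top hQ) (Submodule.mem_top (x := u)) hu0 huu
    have hv0 : v ≠ 0 := fun h => by rw [h, pol_zero_right hQ] at huv; exact zero_ne_one huv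
    obtain ⟨hPn, hP2⟩ := nondeg_pair hQ huu hvv huv
    obtain ⟨hXn, hXd⟩ := orth_nondeg hQ hPn
    rw [hP2] at hXd
    obtain ⟨x, hx, hxq⟩ := exists_value_nondeg hQ hXn (by omega) 1
    have hx1 : Q x ≠ 0 := by rw [hxq]; exact one_ne_zero
    have hux : pol Q u x = 0 := hx u (Submodule.subset_span (Set.mem_insert _ _))
    have hvx : pol Q v x = 0 := hx v (Submodule.subset_span (Set.mem_insert_of_mem _ rfl))
    have hxn : Nondeg Q (Submodule.span F {x}) := fun w hw h => by
      obtain ⟨k, rfl⟩ := Submodule.mem_span_singleton.1 hw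
      have := h x (Submodule.mem_span_singleton_self x)
      rw [pol_smul_right hQ, pol_self hQ, mul_eq_zero, or_iff_left (mul_ne_zero h2 hx1)] at this
      rw [this, zero_smul]
    have hlx : Submodule.span F {x} ≤ orth hQ (Submodule.span F ({u, v} : Set (ι → F))) :=
      (Submodule.span_singleton_le_iff_mem _ _).2 hx
    have hYd := finrank_inf_orth_add hQ hxn hlx
    rw [finrank_span_singleton (fun h => hx1 (by rw [h, q_zero hQ]))] at hYd
    obtain ⟨w, hw, hwq⟩ := exists_value_nondeg hQ (nondeg_inf_orth hQ hxn hXn hlx) (by omega) (-1)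
    have huw : pol Q u w = 0 := hw.1 u (Submodule.subset_span (Set.mem_insert _ _))
    have hvw : pol Q v w = 0 := hw.1 v (Submodule.subset_span (Set.mem_insert_of_mem _ rfl))
    have hxw : pol Q x w = 0 := hw.2 x (Submodule.mem_span_singleton_self x)
    have huu' : pol Q u u = 0 := by rw [pol_self hQ, huu, mul_zero]
    have hvv' : pol Q v v = 0 := by rw [pol_self hQ, hvv, mul_zero]
    obtain ⟨hv1, hvM⟩ := hT v hvv hv0 1
    obtain ⟨hu1, huM⟩ := hT u huu hu0 1
    set a := u + v
    set b := u - v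
    set r := u - v + x
    set q := u + v + w
    have hgu : mv (tv ((1 : F) • v) (formQ hQ v) hv1) ((1 : F) • u) = a := by
      rw [mv_tv, one_smul, formQ_apply, huv, one_smul, one_smul]
    have hab : formQ hQ b a = 0 := by
      rw [formQ_apply, pol_sub_right hQ, pol_add_left hQ, pol_add_left hQ, huu', hvv', pol_comm v u, huv]; ring
    have hmab : tv a (formQ hQ b) hab ∈ M := by
      have := M.mul_mem (M.mul_mem hvM huM) (M.inv_mem hvM)
      rwa [tv_conj hu1 (tv ((1 : F) • v) (formQ hQ v) hv1) hab hgu.symm fun z => by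
        rw [mv_tv, formQ_apply, formQ_apply, formQ_apply, one_smul, pol_sub_right hQ, pol_add_left hQ,
          pol_add_left hQ, pol_smul_left hQ, pol_smul_left hQ, hvv', pol_comm v u, huv]
        ring] at this
    have hr : Q r = 0 := by
      rw [q_add hQ, q_sub hQ, huu, hvv, huv, hxq, pol_sub_left hQ, hux, hvx]; ring
    have hr0 : r ≠ 0 := fun h => by
      have := congrArg (fun z => pol Q z u) h
      simp only [r, pol_add_left hQ, pol_sub_left hQ, huu', pol_comm v u, huv, pol_comm x u, hux,
        pol_zero_left hQ] at this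
      simp at this
    have har : pol Q a r = 0 := by
      simp only [a, r, pol_add_left hQ, pol_add_right hQ, pol_sub_right hQ, huu', hvv', huv, pol_comm v u, hux, hvx]
      ring
    have hbr : pol Q r b = -2 := by
      simp only [b, r, pol_add_left hQ, pol_sub_left hQ, pol_sub_right hQ, huu', hvv', huv, pol_comm v u,
        pol_comm x u, pol_comm x v, hux, hvx]
      ring
    obtain ⟨hr1, hrM⟩ := hT r hr hr0 1
    have hq : Q q = 0 := by
      rw [q_add hQ, q_add hQ, huu, hvv, huv, hwq, pol_add_left hQ, huw, hvw]; ring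
    have hqr : pol Q q r = 0 := by
      simp only [q, r, pol_add_left hQ, pol_add_right hQ, pol_sub_right hQ, huu', hvv', huv, pol_comm v u,
        pol_comm w u, pol_comm w v, pol_comm w x, huw, hvw, hxw, hux, hvx]
      ring
    have haq : pol Q a q = 2 := by
      simp only [a, q, pol_add_left hQ, pol_add_right hQ, huu', hvv', huv, pol_comm v u, huw, hvw]
      ring
    have hq0 : q ≠ 0 := fun h => h2 (by rw [← haq, h, pol_zero_right hQ])
    obtain ⟨hq1, hqM⟩ := hT q hq hq0 1
    -- commutators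
    have e1 : (formQ hQ b ((1 : F) • r) • formQ hQ r) a = 0 := by
      rw [LinearMap.smul_apply, formQ_apply hQ r a, har, smul_zero]
    have c1 := comm_mem hmab hrM
    rw [tv_comm_axis hab hr1 (show formQ hQ r a = 0 from har) e1] at c1
    have e2 : formQ hQ ((-2 : F) • r) a = 0 := by rw [formQ_apply, pol_smul_right hQ, har, mul_zero]
    rw [tv_congr (v' := a) (φ' := formQ hQ ((-2 : F) • r)) e1 e2 fun z => by
      rw [LinearMap.smul_apply, one_smul, formQ_apply, formQ_apply, formQ_apply, hbr, pol_smul_right hQ,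
        smul_eq_mul]] at c1
    have e3 : formQ hQ ((-2 : F) • r) ((1 : F) • q) = 0 := by
      rw [formQ_apply, one_smul, pol_smul_right hQ, hqr, mul_zero]
    have c2 := comm_mem c1 hqM
    rw [tv_comm_centre e2 hq1 e3 (by rw [LinearMap.smul_apply, e3, smul_zero])] at c2
    refine ⟨q, (4 : F) • r, hq, hq0, by rw [q_smul hQ, hr, mul_zero], fun h => ?_, ?_⟩
    · obtain ⟨k, hk⟩ := Submodule.mem_span_singleton.1 h
      have h' := congrArg (fun z => pol Q a z) hk
      simp only [pol_smul_right hQ, haq, har, mul_zero] at h'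
      rw [(mul_eq_zero.1 h').resolve_right h2, zero_smul] at hk
      exact hr0 ((smul_eq_zero.1 hk.symm).resolve_left
        (by rw [show (4 : F) = 2 * 2 by norm_num]; exact mul_ne_zero h2 h2))
    · refine ⟨by rw [formQ_apply, pol_smul_right hQ, hqr, mul_zero], ?_⟩
      rwa [tv_congr (v' := (1 : F) • q) (φ' := -(formQ hQ q a) • formQ hQ ((-2 : F) • r)) _
        (by rw [LinearMap.smul_apply, e3, smul_zero]) fun z => by
          rw [LinearMap.smul_apply, formQ_apply, formQ_apply, formQ_apply, haq, one_smul, pol_smul_right hQ,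
            pol_smul_right hQ, smul_eq_mul]
          module]
  -- q is a centre
  obtain ⟨d, -, hdd, hqd⟩ := exists_partner hQ (nondeg_top hQ) (Submodule.mem_top (x := q)) hq0 hqq
  obtain ⟨hPn, hP2⟩ := nondeg_pair hQ hqq hdd hqd
  obtain ⟨hXn, hXd⟩ := orth_nondeg hQ hPn
  rw [hP2] at hXd
  set X := orth hQ (Submodule.span F ({q, d} : Set (ι → F)))
  have hXq : ∀ x ∈ X, pol Q q x = 0 := fun x hx => hx q (Submodule.subset_span (Set.mem_insert _ _))
  have hqq' : pol Q q q = 0 := by rw [pol_self hQ, hqq, mul_zero]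
  have hline : ∀ s : F, AxTv hQ M q (s • q) := fun s =>
    axTv_congr hQ (hT q hqq hq0 s) (by rw [pol_smul_right hQ, hqq', mul_zero]) fun z => by
      rw [pol_smul_right hQ]; module
  have hsplit : ∀ y, pol Q q y = 0 → y - pol Q y d • q ∈ X := fun y hy => (mem_orth_span hQ).2 (by
    rintro w (rfl | rfl)
    · rw [pol_sub_right hQ, pol_smul_right hQ, hy, hqq']; ring
    · rw [pol_sub_right hQ, pol_smul_right hQ, pol_comm w y, pol_comm w q, hqd]; ring)
  have hr₀ : AxTv hQ M q (r - pol Q r d • q) := by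
    have := axTv_add_right hQ hqr (hline (-pol Q r d))
    rwa [neg_smul, ← sub_eq_add_neg] at this
  have hr₀q : Q (r - pol Q r d • q) = 0 := by
    rw [q_sub hQ, q_smul hQ, hrr, hqq, pol_smul_right hQ, pol_comm r q, show pol Q q r = 0 from hqr.1]; ring
  have hr₀0 : r - pol Q r d • q ≠ 0 := fun h => hind (Submodule.mem_span_singleton.2 ⟨_, (sub_eq_zero.1 h).symm⟩)
  have hXs : ∀ e ∈ X, Q e = 0 → AxTv hQ M q e := by
    intro e he hee
    rcases eq_or_ne e 0 with rfl | he0
    · simpa using hline 0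
    obtain ⟨g, hg, hgr, hgf⟩ := exists_move_singular hQ h2 hXn (by omega) (K := siegelGroup Q)
      (fun u _ y _ hu hy => hS hu hy) (hsplit r hqr.1) he hr₀0 he0 hr₀q hee
    have := hconj hg hr₀
    rwa [hgr, hgf q hXq] at this
  have hcentre : q ∈ centres M := by
    have hXall : ∀ x ∈ X, AxTv hQ M q x := by
      intro x hx
      rcases eq_or_ne x 0 with rfl | hx0
      · simpa using hline 0
      obtain ⟨e, he, hee, hxe⟩ := exists_singular_not_orth hQ hXn (by omega) hx hx0
      set k := Q x / pol Q x e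
      have := axTv_add_right hQ (hXs (x - k • e) (X.sub_mem hx (X.smul_mem _ he)) (by
        rw [q_sub hQ, q_smul hQ, hee, pol_smul_right hQ, div_mul_cancel₀ _ hxe]; ring))
        (hXs (k • e) (X.smul_mem _ he) (by rw [q_smul hQ, hee, mul_zero]))
      rwa [sub_add_cancel] at this
    intro φ hφ
    obtain ⟨y, hy⟩ := exists_eq_pol hQ φ
    obtain ⟨h, hmem⟩ := axTv_add_right hQ (hXall _ (hsplit y (by rw [← hy]; exact hφ))) (hline (pol Q y d))
    rwa [tv_congr (v' := q) (φ' := formQ hQ (y - pol Q y d • q + pol Q y d • q)) hφ h fun z => by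
      rw [sub_add_cancel, formQ_apply, hy]]
  have hall : ∀ x, Q x = 0 → x ∈ centreSpace M := by
    intro x hxx
    rcases eq_or_ne x 0 with rfl | hx0
    · exact centres_zero M
    obtain ⟨g, hg, hgq⟩ := hmove hqq hxx hq0 hx0
    exact hgq ▸ centres_mv (hΩ hg) hcentre
  have hfull : (⊤ : Submodule F (ι → F)) ≤ centreSpace M := by
    refine singular_le hQ ?_ fun e _ he => hall e he
    rw [show (⊤ : Submodule F (ι → F)) ⊓ orth hQ ⊤ = ⊥ from eq_bot_iff.2 fun x hx =>
      (Submodule.mem_bot F).2 (nondeg_top hQ x hx.1 fun w hw => hx.2 w hw), finrank_bot]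
    omega
  exact specialLinear_le fun v φ h => hfull (Submodule.mem_top (x := v)) φ h

/-- The similarities of a quadratic form are maximal in the special linear group. -/
theorem similarity_maximal (hn : 6 ≤ Fintype.card ι) (h2 : (2 : F) ≠ 0) :
    Geo.IsMaximalIn (Geo.specialLinear ι F) (Geo.quadSimilarityGroup Q ⊓ Geo.specialLinear ι F) := by
  obtain ⟨e, -, he0, hee⟩ := exists_singular hQ (X := (⊤ : Submodule F (ι → F)))
    (by rw [finrank_top, Module.finrank_pi]; omega)
  obtain ⟨d, -, hdd, hed⟩ := exists_partner hQ (nondeg_top hQ) (Submodule.mem_top (x := e)) he0 hee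
  refine ⟨lt_of_le_of_ne inf_le_right fun heq => ?_, fun M hHM hMS => ?_⟩
  · obtain ⟨hPn, hP2⟩ := nondeg_pair hQ hee hdd hed
    obtain ⟨hXn, hXd⟩ := orth_nondeg hQ hPn
    obtain ⟨z, hz, hzz⟩ := exists_anisotropic hQ hXn fun h => by rw [h, finrank_bot, hP2] at hXd; omega
    have hez : pol Q e z = 0 := hz e (Submodule.subset_span (Set.mem_insert _ _))
    have hdz : pol Q d z = 0 := hz d (Submodule.subset_span (Set.mem_insert_of_mem _ rfl))
    have hez' : formQ hQ z e = 0 := hez
    obtain ⟨μ, hμ⟩ := (heq.ge (tv_mem_specialLinear (v := e) (φ := formQ hQ z) hez')).1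
    have h1 := hμ z
    change Q (mv _ z) = _ at h1
    rw [mv_tv, formQ_apply, q_add hQ, q_smul hQ, pol_smul_right hQ, pol_comm z e, hez, hee] at h1
    have hμ1 : (μ : F) = 1 := mul_right_cancel₀ hzz (by linear_combination -h1)
    have h3 := hμ (d + z)
    change Q (mv _ (d + z)) = _ at h3
    rw [mv_tv, formQ_apply, pol_add_left hQ, hdz, pol_self hQ, q_add hQ (d + z), q_smul hQ, pol_smul_right hQ,
      q_add hQ d z, hdz, hdd, hee, pol_add_left hQ, pol_comm d e, hed, pol_comm z e, hez, hμ1] at h3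
    exact mul_ne_zero h2 hzz (by linear_combination h3)
  by_cases hM : ∀ g ∈ M, g ∈ Geo.quadSimilarityGroup Q
  · exact Or.inl (le_antisymm (fun g hg => ⟨hM g hg, hMS hg⟩) hHM)
  push Not at hM
  obtain ⟨g, hg, hgs⟩ := hM
  have hΩ : siegelGroup Q ≤ M := by
    refine (Subgroup.closure_le _).2 ?_
    rintro s ⟨u, y, hu, hy, hs⟩
    refine hHM ⟨⟨1, fun z => ?_⟩, ?_⟩
    · rw [Units.val_one, one_mul]
      exact mem_isometry.1 (isSiegel_mem_isometry hQ hu hy hs) z
    · obtain ⟨s', hs', hs''⟩ : ∃ s' ∈ Geo.specialLinear ι F, IsSiegel Q s' u y := by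
        have h1 : formQ hQ u y = 0 := (pol_comm y u).trans hy
        have huu : pol Q u u = 0 := by rw [pol_self hQ, hu, mul_zero]
        have h2 : (Q y • formQ hQ u - formQ hQ y) u = 0 := by simp [formQ_apply, huu, hy]
        refine ⟨tv u (Q y • formQ hQ u - formQ hQ y) h2 * tv y (formQ hQ u) h1,
          Subgroup.mul_mem _ (tv_mem_specialLinear _) (tv_mem_specialLinear _), fun z => ?_⟩
        simp only [mv_mul, mv_tv, LinearMap.sub_apply, LinearMap.smul_apply, formQ_apply, smul_eq_mul,
          pol_add_left hQ, pol_smul_left hQ, pol_comm y u, hy, pol_self hQ y]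
        module
      rwa [isSiegel_unique hs hs'']
  refine Or.inr (le_antisymm hMS ?_)
  obtain ⟨a, p, hpp, hp0, ha0, hm⟩ : ∃ a p : ι → F, Q p = 0 ∧ p ≠ 0 ∧ a ≠ 0 ∧ AxTv hQ M a p := by
    by_contra hcon
    apply hgs
    have hA : ∀ u, ∃ a, ∀ y, pol Q (mv g y) (mv g u) = pol Q y a := fun u =>
      let ⟨a, ha⟩ := exists_eq_pol hQ ((formQ hQ (mv g u)).comp (mvLin g))
      ⟨a, fun y => by rw [← ha]; simp [formQ_apply]⟩
    choose A hA using hA
    have hinjf : ∀ {a b : ι → F}, (∀ y, pol Q y a = pol Q y b) → a = b := fun {a b} h =>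
      sub_eq_zero.1 (nondeg_top hQ _ Submodule.mem_top fun y _ => by rw [pol_sub_right hQ, h y, sub_self])
    have Aadd : ∀ u v, A (u + v) = A u + A v := fun u v => hinjf fun y => by
      rw [pol_add_right hQ, ← hA, ← hA, ← hA, mv_add, pol_add_right hQ]
    have Asmul : ∀ (c : F) u, A (c • u) = c • A u := fun c u => hinjf fun y => by
      rw [pol_smul_right hQ, ← hA, ← hA, mv_smul, pol_smul_right hQ]
    -- each totally singular line is invariant under A
    have lines : ∀ u y, Q u = 0 → Q y = 0 → pol Q u y = 0 → LinearIndependent F ![u, y] →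
        A u ∈ Submodule.span F ({u, y} : Set (ι → F)) := by
      intro u y hu hy huy hind
      obtain ⟨s, hs, hss⟩ : ∃ s ∈ M, IsSiegel Q s u y := by
        obtain ⟨s, -, hs⟩ := exists_siegel hQ hu huy
        exact ⟨s, hΩ (Subgroup.subset_closure ⟨_, _, hu, huy, hs⟩), hs⟩
      set a := mv g u
      set b := mv g y
      obtain ⟨c, hc⟩ := exists_eq_pol hQ ((formQ hQ u).comp (mvLin g⁻¹))
      obtain ⟨c', hc'⟩ := exists_eq_pol hQ ((formQ hQ y).comp (mvLin g⁻¹))
      have hcg : ∀ z, pol Q (mv g z) c = pol Q z u := fun z => by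
        rw [← hc, LinearMap.comp_apply, Matrix.toLin'_apply]
        show pol Q (mv g⁻¹ (mv g z)) u = _
        rw [mv_inv_mv]
      have hc'g : ∀ z, pol Q (mv g z) c' = pol Q z y := fun z => by
        rw [← hc', LinearMap.comp_apply, Matrix.toLin'_apply]
        show pol Q (mv g⁻¹ (mv g z)) y = _
        rw [mv_inv_mv]
      have huu : pol Q u u = 0 := by rw [pol_self hQ, hu, mul_zero]
      have hyy : pol Q y y = 0 := by rw [pol_self hQ, hy, mul_zero]
      set T := g * s * g⁻¹
      have hT : ∀ z, mv T z = z + pol Q z c • b - pol Q z c' • a := fun z => by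
        obtain ⟨w, rfl⟩ : ∃ w, z = mv g w := ⟨mv g⁻¹ z, (mv_mv_inv g z).symm⟩
        rw [mv_mul, mv_mul, mv_inv_mv, hss, hy, zero_mul, add_zero, mv_sub, mv_add, mv_smul, mv_smul, hcg, hc'g]
      -- the orthogonal of the image
      obtain ⟨L, hL⟩ : ∃ L, L = orth hQ (Submodule.span F ({a, b} : Set (ι → F))) := ⟨_, rfl⟩
      have hLK : L ≤ LinearMap.ker (formQ hQ c) ⊓ LinearMap.ker (formQ hQ c') := by
        intro z hz
        by_contra hzK
        have h4 := le_finrank_orth hQ (Submodule.span F ({a, b} : Set (ι → F)))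
        rw [← hL] at h4
        have hab2 : Module.finrank F ↥(Submodule.span F ({a, b} : Set (ι → F))) ≤ 2 := by
          classical
          exact (finrank_span_le_card _).trans
            (by rw [Set.toFinset_insert, Set.toFinset_singleton]; exact Finset.card_le_two)
        have hLab : ∀ x ∈ L, pol Q a x = 0 ∧ pol Q b x = 0 := fun x hx => by
          rw [hL] at hx
          exact ⟨hx a (Submodule.subset_span (Set.mem_insert _ _)),
            hx b (Submodule.subset_span (Set.mem_insert_of_mem _ rfl))⟩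
        have hzero : ∀ {ψ : Module.Dual F (ι → F)} {x : ι → F}, ψ x = 0 → x ∈ LinearMap.ker ψ :=
          fun h => LinearMap.mem_ker.2 h
        have hTM : T ∈ M := M.mul_mem (M.mul_mem hg hs) (M.inv_mem hg)
        have hwz : ∀ s t : F, t • b - s • a = 0 → t = 0 ∧ s = 0 := fun s t h0 => by
          have h1 : mv g (t • y - s • u) = mv g 0 := by rw [mv_sub, mv_smul, mv_smul, mv_zero]; exact h0
          have h2 := LinearIndependent.pair_iff.1 hind (-s) t (by rw [← mv_inj g h1]; module)
          exact ⟨h2.2, neg_eq_zero.1 h2.1⟩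
        -- a singular point of L outside the common kernel gives a transvection
        have hpK : ∀ p ∈ L, p ≠ 0 → Q p = 0 →
            p ∈ LinearMap.ker (formQ hQ c) ⊓ LinearMap.ker (formQ hQ c') := by
          intro p hp hp0 hpq
          by_contra hpK
          obtain ⟨hap, hbp⟩ := hLab p hp
          have hpp' : pol Q p p = 0 := by rw [pol_self hQ, hpq, mul_zero]
          obtain ⟨k, hk, hk0⟩ : ∃ k ∈ L ⊓ LinearMap.ker (formQ hQ p) ⊓
              (LinearMap.ker (formQ hQ c) ⊓ LinearMap.ker (formQ hQ c')), k ≠ 0 := by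
            refine (Submodule.ne_bot_iff _).1 fun h0 => ?_
            have k1 := Submodule.finrank_sup_add_finrank_inf_eq (L ⊓ LinearMap.ker (formQ hQ p))
              (LinearMap.ker (formQ hQ c) ⊓ LinearMap.ker (formQ hQ c'))
            have k2 := Submodule.finrank_le ((L ⊓ LinearMap.ker (formQ hQ p)) ⊔
              (LinearMap.ker (formQ hQ c) ⊓ LinearMap.ker (formQ hQ c')))
            have k3 := Submodule.finrank_sup_add_finrank_inf_eq L (LinearMap.ker (formQ hQ p))
            have k4 := Submodule.finrank_le (L ⊔ LinearMap.ker (formQ hQ p))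
            have k5 := Submodule.finrank_sup_add_finrank_inf_eq (LinearMap.ker (formQ hQ c))
              (LinearMap.ker (formQ hQ c'))
            have k6 := Submodule.finrank_le (LinearMap.ker (formQ hQ c) ⊔ LinearMap.ker (formQ hQ c'))
            have k7 := LinearMap.finrank_range_add_finrank_ker (formQ hQ c)
            have k8 := LinearMap.finrank_range_add_finrank_ker (formQ hQ c')
            have k9 := LinearMap.finrank_range_add_finrank_ker (formQ hQ p)
            have k10 := Submodule.finrank_le (LinearMap.range (formQ hQ c))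
            have k11 := Submodule.finrank_le (LinearMap.range (formQ hQ c'))
            have k12 := Submodule.finrank_le (LinearMap.range (formQ hQ p))
            rw [h0, finrank_bot] at k1
            rw [Module.finrank_self] at k10 k11 k12
            rw [Module.finrank_pi] at k2 k4 k6 k7 k8 k9
            omega
          -- the transvections for k and -k
          have hax : ∀ k : ι → F, k ∈ L ⊓ LinearMap.ker (formQ hQ p) ⊓
              (LinearMap.ker (formQ hQ c) ⊓ LinearMap.ker (formQ hQ c')) →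
              AxTv hQ M (pol Q p c • b - pol Q p c' • a) (-(k - Q k • p)) := by
            intro k hk
            obtain ⟨hak, hbk⟩ := hLab k hk.1.1
            have hkp : pol Q p k = 0 := by rw [pol_comm]; exact LinearMap.mem_ker.1 hk.1.2
            have hkc : pol Q k c = 0 := LinearMap.mem_ker.1 hk.2.1
            have hkc' : pol Q k c' = 0 := LinearMap.mem_ker.1 hk.2.2
            obtain ⟨t, -, ht⟩ := exists_siegel hQ hpq hkp
            have htM : t ∈ M := hΩ (Subgroup.subset_closure ⟨_, _, hpq, hkp, ht⟩)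
            have hneg : ∀ x r : ι → F, pol Q x (-r) = -pol Q x r := fun x r => by
              rw [← neg_one_smul F r, pol_smul_right hQ, neg_one_mul]
            have hw : formQ hQ (-(k - Q k • p)) (pol Q p c • b - pol Q p c' • a) = 0 := by
              simp only [formQ_apply, hneg, pol_sub_right hQ, pol_smul_right hQ, pol_sub_left hQ,
                pol_smul_left hQ, hap, hbp, hak, hbk]
              ring
            refine ⟨hw, ?_⟩
            have hTt : T * t = tv _ _ hw * t * T := ext_mv fun z => by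
              simp only [mv_mul, mv_tv, hT, ht _, formQ_apply, hneg, pol_add_left hQ, pol_sub_left hQ,
                pol_sub_right hQ, pol_add_right hQ, pol_smul_left hQ, pol_smul_right hQ, hap, hbp, hak, hbk, hkp, hkc, hkc', hpp',
                pol_comm k p, pol_self hQ k]
              module
            have := comm_mem hTM htM
            rwa [show T * t * T⁻¹ * t⁻¹ = tv _ _ hw by rw [hTt]; group] at this
          have hw0 : pol Q p c • b - pol Q p c' • a ≠ 0 := fun h0 =>
            hpK ⟨hzero (hwz _ _ h0).1, hzero (hwz _ _ h0).2⟩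
          by_cases hkk : Q k = 0
          · refine hcon ⟨_, -(k - Q k • p), ?_, ?_, hw0, hax k hk⟩
            · rw [hkk, zero_smul, sub_zero, q_neg hQ, hkk]
            · rw [hkk, zero_smul, sub_zero]; exact neg_ne_zero.2 hk0
          have hsum := axTv_add_right hQ (hax k hk) (hax (-k) (Submodule.neg_mem _ hk))
          rw [q_neg hQ, show -(k - Q k • p) + -(-k - Q k • p) = (2 * Q k) • p by module] at hsum
          refine hcon ⟨_, _, ?_, smul_ne_zero (mul_ne_zero h2 hkk) hp0, hw0, hsum⟩
          rw [q_smul hQ, hpq, mul_zero]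
        obtain ⟨p, hp, hp0, hpq⟩ := exists_singular hQ (X := L) (by omega)
        have hpc : pol Q p c = 0 := LinearMap.mem_ker.1 (hpK p hp hp0 hpq).1
        have hpc' : pol Q p c' = 0 := LinearMap.mem_ker.1 (hpK p hp hp0 hpq).2
        by_cases hpz : pol Q p z = 0
        · -- an element of L orthogonal to p outside the kernel
          obtain ⟨hap, hbp⟩ := hLab p hp
          obtain ⟨haz, hbz⟩ := hLab z hz
          have hpp' : pol Q p p = 0 := by rw [pol_self hQ, hpq, mul_zero]
          obtain ⟨t, -, ht⟩ := exists_siegel hQ hpq hpz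
          have htM : t ∈ M := hΩ (Subgroup.subset_closure ⟨_, _, hpq, hpz, ht⟩)
          have hw : formQ hQ p (pol Q z c • b - pol Q z c' • a) = 0 := by
            rw [formQ_apply, pol_sub_left hQ, pol_smul_left hQ, pol_smul_left hQ, hap, hbp]; ring
          have hTt : T * t = tv _ _ hw * t * T := ext_mv fun x => by
            simp only [mv_mul, mv_tv, hT, ht _, formQ_apply, pol_add_left hQ, pol_sub_left hQ,
              pol_smul_left hQ, hap, hbp, haz, hbz, hpz, hpc, hpc', hpp', pol_comm z p]
            module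
          refine hcon ⟨_, p, hpq, hp0, fun h0 => hzK ⟨hzero (hwz _ _ h0).1, hzero (hwz _ _ h0).2⟩, hw, ?_⟩
          have := comm_mem hTM htM
          rwa [show T * t * T⁻¹ * t⁻¹ = tv _ _ hw by rw [hTt]; group] at this
        · set m := Q z / pol Q p z
          have hm : Q (z - m • p) = 0 := by
            rw [q_sub hQ, q_smul hQ, hpq, pol_smul_right hQ, pol_comm z p]
            simp only [m]
            field_simp
            ring
          rcases eq_or_ne (z - m • p) 0 with h0 | h0
          · exact hzK (sub_eq_zero.1 h0 ▸ Submodule.smul_mem _ m (hpK p hp hp0 hpq))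
          · have hz1 := Submodule.add_mem _ (hpK _ (L.sub_mem hz (L.smul_mem _ hp)) h0 hm)
              (Submodule.smul_mem _ m (hpK p hp hp0 hpq))
            rw [sub_add_cancel] at hz1
            exact hzK hz1
      -- duality
      have hmem : ∀ v, (∀ z, pol Q z (A u) = 0 → pol Q z (A y) = 0 → pol Q z v = 0) →
          v ∈ Submodule.span F ({A u, A y} : Set (ι → F)) := by
        intro v hv
        by_contra hv'
        obtain ⟨φ, hφ, hφv⟩ := exists_dual hv'
        obtain ⟨z, hz⟩ := exists_eq_pol hQ φ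
        have := hv z (by rw [pol_comm, ← hz]; exact hφ _ (Submodule.subset_span (Set.mem_insert _ _)))
          (by rw [pol_comm, ← hz]; exact hφ _ (Submodule.subset_span (Set.mem_insert_of_mem _ rfl)))
        rw [pol_comm, ← hz, hφv] at this
        exact one_ne_zero this
      have hker : ∀ z, pol Q z (A u) = 0 → pol Q z (A y) = 0 → pol Q z u = 0 ∧ pol Q z y = 0 := by
        intro z h1 h2
        have := hLK (show mv g z ∈ L by
          rw [hL]
          refine (mem_orth_span hQ).2 ?_
          rintro w (rfl | rfl)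
          · rw [pol_comm, hA]; exact h1
          · rw [pol_comm, hA]; exact h2)
        have e1 : pol Q (mv g z) c = 0 := LinearMap.mem_ker.1 this.1
        have e2 : pol Q (mv g z) c' = 0 := LinearMap.mem_ker.1 this.2
        exact ⟨by rw [← hcg]; exact e1, by rw [← hc'g]; exact e2⟩
      have hle : Submodule.span F ({u, y} : Set (ι → F)) ≤ Submodule.span F ({A u, A y} : Set (ι → F)) := by
        refine Submodule.span_le.2 ?_
        rintro v (rfl | rfl)
        · exact hmem _ fun z h1 h2 => (hker z h1 h2).1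
        · exact hmem _ fun z h1 h2 => (hker z h1 h2).2
      have heq := Submodule.eq_of_le_of_finrank_le hle (by
        have h1 := finrank_span_eq_card hind
        rw [Fintype.card_fin, Matrix.range_cons, Matrix.range_cons, Matrix.range_empty, Set.union_empty,
          Set.singleton_union] at h1
        rw [h1]
        classical
        exact (finrank_span_le_card _).trans
          (by rw [Set.toFinset_insert, Set.toFinset_singleton]; exact Finset.card_le_two))
      rw [heq]
      exact Submodule.subset_span (Set.mem_insert _ _)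
    have eig : ∀ u, Q u = 0 → ∃ k : F, A u = k • u := by
      intro u hu
      rcases eq_or_ne u 0 with rfl | hu0
      · exact ⟨0, by simpa using Asmul 0 (0 : ι → F)⟩
      obtain ⟨v, -, hvv, huv⟩ := exists_partner hQ (nondeg_top hQ) (Submodule.mem_top (x := u)) hu0 hu
      obtain ⟨hPn, hP2⟩ := nondeg_pair hQ hu hvv huv
      obtain ⟨hXn, hXd⟩ := orth_nondeg hQ hPn
      rw [hP2] at hXd
      obtain ⟨e₁, he₁, he₁0, he₁q⟩ := exists_singular hQ
        (X := orth hQ (Submodule.span F ({u, v} : Set (ι → F)))) (by omega)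
      obtain ⟨e₂, he₂, he₂q, he₁₂⟩ := exists_partner hQ hXn he₁ he₁0 he₁q
      have hu1 : pol Q u e₁ = 0 := he₁ u (Submodule.subset_span (Set.mem_insert _ _))
      have hu2 : pol Q u e₂ = 0 := he₂ u (Submodule.subset_span (Set.mem_insert _ _))
      have hv1 : pol Q v e₁ = 0 := he₁ v (Submodule.subset_span (Set.mem_insert_of_mem _ rfl))
      have hv2 : pol Q v e₂ = 0 := he₂ v (Submodule.subset_span (Set.mem_insert_of_mem _ rfl))
      have hindep : ∀ e, e ≠ 0 → pol Q v e = 0 → LinearIndependent F ![u, e] := fun e he hve => by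
        rw [LinearIndependent.pair_iff]
        intro s t hst
        have hs : s = 0 := by
          simpa [pol_add_right hQ, pol_smul_right hQ, hve, pol_comm v u, huv, pol_zero_right hQ] using
            congrArg (fun z => pol Q v z) hst
        rw [hs, zero_smul, zero_add, smul_eq_zero] at hst
        exact ⟨hs, hst.resolve_right he⟩
      have he₂0 : e₂ ≠ 0 := fun h => by rw [h, pol_zero_right hQ] at he₁₂; exact zero_ne_one he₁₂
      obtain ⟨s₁, t₁, h1⟩ := Submodule.mem_span_pair.1 (lines u e₁ hu he₁q hu1 (hindep e₁ he₁0 hv1))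
      obtain ⟨s₂, t₂, h2'⟩ := Submodule.mem_span_pair.1 (lines u e₂ hu he₂q hu2 (hindep e₂ he₂0 hv2))
      refine ⟨s₁, ?_⟩
      have := congrArg (fun z => pol Q e₂ z) (h1.trans h2'.symm)
      simp only [pol_add_right hQ, pol_smul_right hQ, pol_comm e₂ u, hu2, pol_comm e₂ e₁, he₁₂, pol_self hQ, he₂q,
        mul_zero, zero_add, mul_one] at this
      rw [← h1, this, zero_smul, add_zero]
    choose k hk using eig
    have same : ∀ u w (hu : Q u = 0) (hw : Q w = 0), u ≠ 0 → w ≠ 0 → k u hu = k w hw := by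
      intro u w hu hw hu0 hw0
      have step : ∀ u w (hu : Q u = 0) (hw : Q w = 0), pol Q u w ≠ 0 → k u hu = k w hw := by
        intro u w hu hw huw
        have h1 := hA u w
        have h2' := hA w u
        rw [pol_comm (mv g u), h1, hk u hu, hk w hw, pol_smul_right hQ, pol_smul_right hQ, pol_comm w u] at h2'
        exact mul_right_cancel₀ huw h2'
      by_cases huw : pol Q u w = 0
      swap
      · exact step u w hu hw huw
      obtain ⟨z, hzz, huz, hwz⟩ : ∃ z, Q z = 0 ∧ pol Q u z ≠ 0 ∧ pol Q w z ≠ 0 := by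
        obtain ⟨z₁, -, hz₁, h1⟩ := exists_partner hQ (nondeg_top hQ) (Submodule.mem_top (x := u)) hu0 hu
        obtain ⟨z₂, -, hz₂, h2'⟩ := exists_partner hQ (nondeg_top hQ) (Submodule.mem_top (x := w)) hw0 hw
        by_cases h3 : pol Q w z₁ = 0
        swap
        · exact ⟨z₁, hz₁, by rw [h1]; exact one_ne_zero, h3⟩
        by_cases h4 : pol Q u z₂ = 0
        swap
        · exact ⟨z₂, hz₂, h4, by rw [h2']; exact one_ne_zero⟩
        refine ⟨z₁ + z₂ - pol Q z₁ z₂ • u, ?_, ?_, ?_⟩
        · rw [q_sub hQ, q_add hQ, q_smul hQ, hz₁, hz₂, hu, pol_smul_right hQ, pol_add_left hQ, pol_comm z₁ u,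
            h1, pol_comm z₂ u, h4]
          ring
        · rw [pol_sub_right hQ, pol_add_right hQ, pol_smul_right hQ, h1, h4, pol_self hQ, hu]; simp
        · rw [pol_sub_right hQ, pol_add_right hQ, pol_smul_right hQ, h3, h2', pol_comm w u, huw]; simp
      rw [step u z hu hzz huz, step w z hw hzz hwz]
    set μ := k e hee with hμ
    have hAll : ∀ u, A u = μ • u := by
      let E : Submodule F (ι → F) :=
        { carrier := {u | A u = μ • u}
          add_mem' := fun {a b} ha hb => by
            show A (a + b) = _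
            rw [Aadd, show A a = μ • a from ha, show A b = μ • b from hb, smul_add]
          zero_mem' := by simpa using Asmul 0 (0 : ι → F)
          smul_mem' := fun c a ha => by
            show A (c • a) = _
            rw [Asmul, show A a = μ • a from ha, smul_comm] }
      have hE : (⊤ : Submodule F (ι → F)) ≤ E := by
        refine singular_le hQ ?_ fun w _ hw => ?_
        · rw [show (⊤ : Submodule F (ι → F)) ⊓ orth hQ ⊤ = ⊥ from eq_bot_iff.2 fun x hx =>
            (Submodule.mem_bot F).2 (nondeg_top hQ x hx.1 fun w hw => hx.2 w hw), finrank_bot, finrank_top,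
            Module.finrank_pi]
          omega
        · rcases eq_or_ne w 0 with rfl | hw0
          · exact E.zero_mem
          · show A w = μ • w
            rw [hk w hw, same w e hw hee hw0 he0]
      exact fun u => hE (Submodule.mem_top (x := u))
    have hμ0 : μ ≠ 0 := fun h => he0 (mv_inj g ((nondeg_top hQ (mv g e) Submodule.mem_top fun y _ => by
      obtain ⟨y', rfl⟩ : ∃ y', y = mv g y' := ⟨mv g⁻¹ y, (mv_mv_inv g y).symm⟩
      rw [hA, hAll, h, zero_smul, pol_zero_right hQ]).trans (mv_zero g).symm))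
    refine ⟨Units.mk0 μ hμ0, fun v => ?_⟩
    show Q (mv g v) = μ * Q v
    have h := hA v v
    rw [hAll, pol_smul_right hQ, pol_self hQ, pol_self hQ] at h
    exact mul_left_cancel₀ h2 (by linear_combination h)
  exact specialLinear_le_of_axTv hQ hn h2 hΩ hpp hp0 ha0 hm

end Cfsg.Agent.Transvec.Orth
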