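/-
Maximality of the stabiliser of two complementary totally singular subspaces of even dimension.
-/
import Cfsg.Agent.Lib.Transvec.OrthStab
import Cfsg.Agent.Lib.Transvec.OrthNondeg
set_option autoImplicit false

namespace Cfsg.Agent.Transvec.Orth

open scoped Matrix
open Matrix Cfsg.Agent.Transvec

variable {ι : Type} [Fintype ι] [DecidableEq ι] {F : Type*} [Field F] {Q : (ι → F) → F}

/-- All Siegel elements of the line through a and b lie in M. -/
def LineIn (Q : (ι → F) → F) (M : Subgroup (GL ι F)) (a b : ι → F) : Prop :=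
  ∀ l : F, ∃ g ∈ M, IsSiegel Q g a (l • b)

variable (hQ : Geo.IsNondegenerateQuadraticForm Q)
include hQ

theorem lineIn_symm {M : Subgroup (GL ι F)} {a b : ι → F} (ha : Q a = 0) (hb : Q b = 0)
    (h : LineIn Q M a b) : LineIn Q M b a := by
  intro l
  obtain ⟨g, hg, hg'⟩ := h (-l)
  refine ⟨g, hg, fun z => ?_⟩
  rw [hg', q_smul hQ, q_smul hQ, pol_smul_right hQ, pol_smul_right hQ, ha, hb]
  module

theorem lineIn_conj {M : Subgroup (GL ι F)} (hMO : M ≤ isometryGroup F Q) {g : GL ι F} (hg : g ∈ M)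
    {a b : ι → F} (h : LineIn Q M a b) : LineIn Q M (mv g a) (mv g b) := by
  intro l
  obtain ⟨e, he, he'⟩ := h l
  refine ⟨g * e * g⁻¹, M.mul_mem (M.mul_mem hg he) (M.inv_mem hg), ?_⟩
  rw [← mv_smul]
  exact isSiegel_conj hQ (hMO hg) he'

theorem lineIn_add {M : Subgroup (GL ι F)} {a b c : ι → F} (ha : Q a = 0) (hb : pol Q a b = 0)
    (hc : pol Q a c = 0) (h : LineIn Q M a b) (h' : LineIn Q M a c) : LineIn Q M a (b + c) := by
  intro l
  obtain ⟨g, hg, hg'⟩ := h l
  obtain ⟨e, he, he'⟩ := h' l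
  exact ⟨g * e, M.mul_mem hg he, smul_add l b c ▸ isSiegel_mul hQ ha (by rw [pol_smul_right hQ, hb, mul_zero])
    (by rw [pol_smul_right hQ, hc, mul_zero]) hg' he'⟩

omit hQ in
theorem lineIn_smul {M : Subgroup (GL ι F)} {a b : ι → F} (c : F) (h : LineIn Q M a b) : LineIn Q M a (c • b) :=
  fun l => smul_smul l c b ▸ h (l * c)

theorem lineIn_sub {M : Subgroup (GL ι F)} {a b c : ι → F} (ha : Q a = 0) (hb : pol Q a b = 0)
    (hc : pol Q a c = 0) (h : LineIn Q M a b) (h' : LineIn Q M a c) : LineIn Q M a (b - c) := by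
  rw [sub_eq_add_neg, ← neg_one_smul F c]
  exact lineIn_add hQ ha hb (by rw [pol_smul_right hQ, hc, mul_zero]) h (lineIn_smul _ h')

theorem lineIn_self {M : Subgroup (GL ι F)} {a : ι → F} (ha : Q a = 0) (c : F) : LineIn Q M a (c • a) :=
  fun l => ⟨1, M.one_mem, by
    rw [smul_smul, ← zero_add ((l * c) • a)]
    exact isSiegel_add_self hQ ha (pol_zero_right hQ a) _ (isSiegel_zero hQ a)⟩

section Pair

variable {W W' : Submodule F (ι → F)} (hW : ∀ w ∈ W, Q w = 0) (hW' : ∀ w ∈ W', Q w = 0) (hc : IsCompl W W')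

omit hQ in
theorem exists_parts {W W' : Submodule F (ι → F)} (hc : IsCompl W W') (v : ι → F) :
    ∃ p ∈ W, ∃ w ∈ W', v = p + w := by
  obtain ⟨p, hp, w, hw, h⟩ := Submodule.mem_sup.1 (hc.sup_eq_top ▸ Submodule.mem_top : v ∈ W ⊔ W')
  exact ⟨p, hp, w, hw, h.symm⟩

omit hQ in
theorem eq_zero_of_compl {W W' : Submodule F (ι → F)} (hc : IsCompl W W') {v : ι → F} (h1 : v ∈ W)
    (h2 : v ∈ W') : v = 0 :=
  (Submodule.mem_bot F).1 (hc.inf_eq_bot ▸ ⟨h1, h2⟩)

include hW hc

theorem exists_rep_compl (φ : Module.Dual F (ι → F)) : ∃ w ∈ W', ∀ x ∈ W, φ x = pol Q x w := by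
  obtain ⟨z, hz⟩ := exists_eq_pol hQ φ
  obtain ⟨p, hp, w, hw, rfl⟩ := exists_parts hc z
  exact ⟨w, hw, fun x hx => by rw [hz, pol_add_right hQ, pol_eq_zero_of_singular hQ hW hx hp, zero_add]⟩

theorem exists_avoid_pair {U : Submodule F (ι → F)} (hU : Module.finrank F U + 2 < Module.finrank F W)
    (y y' : ι → F) : ∃ z ∈ W, pol Q z y = 0 ∧ pol Q z y' = 0 ∧ z ∉ U := by
  by_contra h
  push Not at h
  set L := ((formQ hQ y).prod (formQ hQ y')).comp W.subtype
  have h1 := LinearMap.finrank_range_add_finrank_ker L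
  have h2 := Submodule.finrank_le (LinearMap.range L)
  rw [Module.finrank_prod, Module.finrank_self] at h2
  have h3 : (LinearMap.ker L).map W.subtype ≤ U := by
    rintro _ ⟨z, hz, rfl⟩
    have hz' := LinearMap.mem_ker.1 hz
    exact h z z.2 (congrArg Prod.fst hz') (congrArg Prod.snd hz')
  have h4 := Submodule.finrank_mono h3
  rw [Submodule.finrank_map_subtype_eq] at h4
  omega

variable {M : Subgroup (GL ι F)} (hMO : M ≤ isometryGroup F Q)
  (hH : ∀ g ∈ Geo.omegaGL Q, (∀ u ∈ W, mv g u ∈ W) → (∀ u ∈ W', mv g u ∈ W') → g ∈ M)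
  (hn : 10 ≤ Fintype.card ι)

omit hc
include hW' hn hH

theorem line_std [Finite F] {p w : ι → F} (hp : p ∈ W) (hw : w ∈ W') (h : pol Q p w = 0) :
    LineIn Q M p w := by
  intro l
  have h' : pol Q p (l • w) = 0 := by rw [pol_smul_right hQ, h, mul_zero]
  obtain ⟨g, -, hg⟩ := exists_siegel hQ (hW p hp) h'
  refine ⟨g, hH g (siegel_mem_omega hQ (by omega) (hW p hp) h' hg) (fun u hu => ?_) (fun u hu => ?_), hg⟩
  · rw [hg, pol_eq_zero_of_singular hQ hW hu hp, zero_smul, add_zero]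
    exact W.sub_mem hu (W.smul_mem _ hp)
  · rw [hg, pol_eq_zero_of_singular hQ hW' hu (W'.smul_mem l hw), hW' _ (W'.smul_mem l hw), zero_mul, add_zero,
      zero_smul, sub_zero]
    exact W'.add_mem hu (W'.smul_mem _ (W'.smul_mem l hw))

include hc hMO

/-- A non-standard line gives a line inside W. -/
theorem pure_of_line [Finite F] (hk : 5 ≤ Module.finrank F W) {x y x' y' : ι → F} (hx : x ∈ W) (hy : y ∈ W')
    (hx' : x' ∈ W) (hy' : y' ∈ W') (haa : Q (x + y) = 0) (hab : pol Q (x + y) (x' + y') = 0)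
    (hx0 : x ≠ 0) (hind : x' ∉ Submodule.span F {x}) (h : LineIn Q M (x + y) (x' + y')) :
    ∃ u ∈ W, ∃ p ∈ W, u ≠ 0 ∧ p ∉ Submodule.span F {u} ∧ LineIn Q M u p := by
  obtain ⟨p, hp, hpy, hpy', hpx⟩ := exists_avoid_pair hQ hW hc (U := Submodule.span F ({x, x'} : Set (ι → F)))
    (by
      classical
      have := (finrank_span_le_card (R := F) ({x, x'} : Set (ι → F))).trans
        (by rw [Set.toFinset_insert, Set.toFinset_singleton]; exact Finset.card_le_two : _ ≤ 2)
      omega) y y'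
  have hx'p : x' ∉ Submodule.span F ({x, p} : Set (ι → F)) := fun h => by
    obtain ⟨α, β, hab⟩ := Submodule.mem_span_pair.1 h
    rcases eq_or_ne β 0 with rfl | hβ
    · exact hind (Submodule.mem_span_singleton.2 ⟨α, by simpa using hab⟩)
    · refine hpx (Submodule.mem_span_pair.2 ⟨-(α / β), β⁻¹, ?_⟩)
      apply smul_right_injective (ι → F) hβ
      show β • _ = β • p
      rw [smul_add, smul_smul, smul_smul, mul_inv_cancel₀ hβ, mul_neg, mul_div_cancel₀ _ hβ, one_smul]
      linear_combination (norm := module) -hab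
  obtain ⟨φ, hφ, hφx⟩ := exists_dual hx'p
  obtain ⟨w, hw, hw'⟩ := exists_rep_compl hQ hW hc φ
  have hxw : pol Q x w = 0 := (hw' x hx).symm.trans (hφ x (Submodule.subset_span (by simp)))
  have hpw : pol Q p w = 0 := (hw' p hp).symm.trans (hφ p (Submodule.subset_span (by simp)))
  have hx'w : pol Q x' w = 1 := (hw' x' hx').symm.trans hφx
  obtain ⟨g, hg, hgs⟩ := line_std hQ hW hW' hH hn hp hw hpw 1
  rw [one_smul] at hgs
  have hga : mv g (x + y) = x + y := isSiegel_fix hQ hgs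
    (by rw [pol_add_left hQ, pol_eq_zero_of_singular hQ hW hx hp, pol_comm, hpy, add_zero])
    (by rw [pol_add_left hQ, hxw, pol_eq_zero_of_singular hQ hW' hy hw, add_zero])
  have hgb : mv g (x' + y') = x' + y' - p := by
    rw [hgs, pol_add_left hQ, pol_add_left hQ, pol_eq_zero_of_singular hQ hW hx' hp, pol_comm y' p, hpy', hx'w,
      pol_eq_zero_of_singular hQ hW' hy' hw, hW' w hw]
    module
  have hap : pol Q (x + y) p = 0 := by
    rw [pol_add_left hQ, pol_eq_zero_of_singular hQ hW hx hp, pol_comm, hpy, add_zero]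
  have h1 := lineIn_conj hQ hMO hg h
  rw [hga, hgb] at h1
  have h2 := lineIn_sub hQ haa hab (by rw [pol_sub_right hQ, hab, hap, sub_zero]) h h1
  rw [sub_sub_cancel] at h2
  have h3 := lineIn_symm hQ haa (hW p hp) h2
  have hpa : pol Q p (x + y) = 0 := (pol_comm _ _).trans hap
  have h4 := lineIn_sub hQ (hW p hp) hpa hpy h3 (line_std hQ hW hW' hH hn hp hy hpy)
  rw [add_sub_cancel_right] at h4
  have hp0 : p ≠ 0 := fun h => hpx (h ▸ Submodule.zero_mem _)
  refine ⟨p, hp, x, hx, hp0, fun h => ?_, h4⟩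
  obtain ⟨c, hc'⟩ := Submodule.mem_span_singleton.1 h
  have hc0 : c ≠ 0 := fun h => hx0 (by rw [← hc', h, zero_smul])
  exact hpx (Submodule.mem_span_pair.2 ⟨c⁻¹, 0, by rw [← hc', smul_smul, inv_mul_cancel₀ hc0, one_smul, zero_smul,
    add_zero]⟩)

theorem line_row [Finite F] {u p : ι → F} (hu : u ∈ W) (hp : p ∈ W) (hu0 : u ≠ 0)
    (hup : p ∉ Submodule.span F {u}) (h : LineIn Q M u p) {v : ι → F} (hv : v ∈ W) : LineIn Q M u v := by
  by_cases hvs : v ∈ Submodule.span F ({u, p} : Set (ι → F))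
  · obtain ⟨α, β, rfl⟩ := Submodule.mem_span_pair.1 hvs
    exact lineIn_add hQ (hW u hu) (by rw [pol_smul_right hQ, pol_self hQ, hW u hu]; ring)
      (by rw [pol_smul_right hQ, pol_eq_zero_of_singular hQ hW hu hp, mul_zero]) (lineIn_self hQ (hW u hu) α)
      (lineIn_smul β h)
  have hpz : p ∉ Submodule.span F ({u, p - v} : Set (ι → F)) := fun h' => by
    obtain ⟨α, β, hab⟩ := Submodule.mem_span_pair.1 h'
    rcases eq_or_ne β 0 with rfl | hβ
    · exact hup (Submodule.mem_span_singleton.2 ⟨α, by simpa using hab⟩)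
    · refine hvs (Submodule.mem_span_pair.2 ⟨α / β, 1 - β⁻¹, ?_⟩)
      apply smul_right_injective (ι → F) hβ
      show β • _ = β • v
      rw [smul_add, smul_smul, smul_smul, mul_div_cancel₀ _ hβ, mul_sub, mul_inv_cancel₀ hβ, mul_one]
      linear_combination (norm := module) hab
  obtain ⟨φ, hφ, hφp⟩ := exists_dual hpz
  obtain ⟨w, hw, hw'⟩ := exists_rep_compl hQ hW hc φ
  have hz : p - v ∈ W := W.sub_mem hp hv
  obtain ⟨g, hg, hgs⟩ := line_std hQ hW hW' hH hn hz hw
    ((hw' _ hz).symm.trans (hφ _ (Submodule.subset_span (by simp)))) 1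
  rw [one_smul] at hgs
  have h1 := lineIn_conj hQ hMO hg h
  rw [isSiegel_fix hQ hgs (pol_eq_zero_of_singular hQ hW hu hz)
    ((hw' u hu).symm.trans (hφ u (Submodule.subset_span (by simp)))),
    hgs, pol_eq_zero_of_singular hQ hW hp hz, ← hw' p hp, hφp, hW' w hw] at h1
  simpa using h1

/-- A line inside W makes every vector of W full. -/
theorem full_of_pure [Finite F] {u p : ι → F} (hu : u ∈ W) (hp : p ∈ W) (hu0 : u ≠ 0)
    (hup : p ∉ Submodule.span F {u}) (h : LineIn Q M u p) {v : ι → F} (hv : v ∈ W) : v ∈ qFull Q M := by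
  have hall : ∀ a ∈ W, ∀ b ∈ W, LineIn Q M a b := by
    intro a ha b hb
    by_cases hau : a ∈ Submodule.span F {u}
    · obtain ⟨c, rfl⟩ := Submodule.mem_span_singleton.1 hau
      intro l
      obtain ⟨g, hg, hg'⟩ := line_row hQ hW hW' hc hMO hH hn hu hp hu0 hup h hb (c * l)
      exact ⟨g, hg, (isSiegel_smul hQ c).2 (by rwa [smul_smul])⟩
    · have h1 := lineIn_symm hQ (hW u hu) (hW a ha) (line_row hQ hW hW' hc hMO hH hn hu hp hu0 hup h ha)
      have ha0 : a ≠ 0 := fun h => hau (h ▸ Submodule.zero_mem _)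
      refine line_row hQ hW hW' hc hMO hH hn ha hu ha0 (fun h' => ?_) h1 hb
      obtain ⟨c, hc'⟩ := Submodule.mem_span_singleton.1 h'
      have hc0 : c ≠ 0 := fun h => hu0 (by rw [← hc', h, zero_smul])
      exact hau (Submodule.mem_span_singleton.2 ⟨c⁻¹, by rw [← hc', smul_smul, inv_mul_cancel₀ hc0, one_smul]⟩)
  refine ⟨hW v hv, fun y hy => ?_⟩
  obtain ⟨a, ha, b, hb, rfl⟩ := exists_parts hc y
  have hva := pol_eq_zero_of_singular hQ hW hv ha
  have hvb : pol Q v b = 0 := by rwa [pol_add_right hQ, hva, zero_add] at hy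
  obtain ⟨g, hg, hgs⟩ := lineIn_add hQ (hW v hv) hva hvb (hall v hv a ha) (line_std hQ hW hW' hH hn hv hb hvb) 1
  exact ⟨g, hg, by rwa [one_smul] at hgs⟩

end Pair

/-- An element of the commutator subgroup interchanging two paired totally singular subspaces of even dimension. -/
theorem exists_omega_swap [Finite F] (hn : 10 ≤ Fintype.card ι) : ∀ (j : ℕ) (U U' : Submodule F (ι → F)),
    (∀ u ∈ U, Q u = 0) → (∀ u ∈ U', Q u = 0) → Module.finrank F U = 2 * j →
    (∀ u ∈ U, (∀ v ∈ U', pol Q u v = 0) → u = 0) → (∀ v ∈ U', (∀ u ∈ U, pol Q v u = 0) → v = 0) →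
    ∃ g ∈ Geo.omegaGL Q, (∀ u ∈ U, mv g u ∈ U') ∧ (∀ v ∈ U', mv g v ∈ U) ∧
      ∀ z, (∀ u ∈ U, pol Q z u = 0) → (∀ v ∈ U', pol Q z v = 0) → mv g z = z := by
  intro j
  induction j with
  | zero =>
    intro U U' hU hU' hd hn1 hn2
    have hU0 : U = ⊥ := Submodule.finrank_eq_zero.1 (by omega)
    refine ⟨1, one_mem _, fun u hu => ?_, fun v hv => ?_, fun z _ _ => mv_one z⟩
    · rw [hU0, Submodule.mem_bot] at hu; rw [hu, mv_one]; exact U'.zero_mem
    · rw [mv_one, hn2 v hv fun u hu => by rw [hU0, Submodule.mem_bot] at hu; rw [hu, pol_zero_right hQ]]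
      exact U.zero_mem
  | succ j ih =>
    intro U U' hU hU' hd hn1 hn2
    obtain ⟨e, he, he0⟩ := U.ne_bot_iff.1 (fun h => by rw [h, finrank_bot] at hd; omega)
    obtain ⟨f, hf, hef⟩ : ∃ f ∈ U', pol Q e f = 1 := by
      obtain ⟨f₀, hf₀, h⟩ : ∃ f₀ ∈ U', pol Q e f₀ ≠ 0 := by
        by_contra h; push Not at h; exact he0 (hn1 e he h)
      exact ⟨(pol Q e f₀)⁻¹ • f₀, U'.smul_mem _ hf₀, by rw [pol_smul_right hQ, inv_mul_cancel₀ h]⟩
    obtain ⟨e', he', he'f, -, he'n⟩ : ∃ z ∈ U, pol Q z f = 0 ∧ True ∧ z ≠ 0 := by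
      by_contra h
      push Not at h
      have h1 := LinearMap.finrank_range_add_finrank_ker ((formQ hQ f).comp U.subtype)
      have h2 := Submodule.finrank_le (LinearMap.range ((formQ hQ f).comp U.subtype))
      rw [Module.finrank_self] at h2
      have h3 : LinearMap.ker ((formQ hQ f).comp U.subtype) = ⊥ :=
        (Submodule.eq_bot_iff _).2 fun z hz => Subtype.ext (h z z.2 (LinearMap.mem_ker.1 hz) trivial)
      rw [h3, finrank_bot] at h1
      omega
    obtain ⟨f', hf', he'f'⟩ : ∃ f' ∈ U', pol Q e' f' = 1 ∧ pol Q e f' = 0 := by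
      obtain ⟨f₀, hf₀, h⟩ : ∃ f₀ ∈ U', pol Q e' f₀ ≠ 0 := by
        by_contra h; push Not at h; exact he'n (hn1 e' he' h)
      refine ⟨(pol Q e' f₀)⁻¹ • (f₀ - pol Q e f₀ • f), U'.smul_mem _ (U'.sub_mem hf₀ (U'.smul_mem _ hf)), ?_, ?_⟩
      · rw [pol_smul_right hQ, pol_sub_right hQ, pol_smul_right hQ, he'f, mul_zero, sub_zero, inv_mul_cancel₀ h]
      · rw [pol_smul_right hQ, pol_sub_right hQ, pol_smul_right hQ, hef, mul_one, sub_self, mul_zero]
    obtain ⟨he'f', hef'⟩ := he'f'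
    have ee : pol Q e e' = 0 := pol_eq_zero_of_singular hQ hU he he'
    have ff : pol Q f f' = 0 := pol_eq_zero_of_singular hQ hU' hf hf'
    have hfe' : pol Q f e' = 0 := (pol_comm _ _).trans he'f
    have hfe : pol Q f e = 1 := (pol_comm _ _).trans hef
    have hf'e' : pol Q f' e' = 1 := (pol_comm _ _).trans he'f'
    have hf'e : pol Q f' e = 0 := (pol_comm _ _).trans hef'
    have e'e : pol Q e' e = 0 := (pol_comm _ _).trans ee
    have f'f : pol Q f' f = 0 := (pol_comm _ _).trans ff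
    have qa : Q (e - f) = -1 := by rw [q_sub hQ, hU e he, hU' f hf, hef]; ring
    have qb : Q (e' - f') = -1 := by rw [q_sub hQ, hU e' he', hU' f' hf', he'f']; ring
    obtain ⟨s, hs, hsv⟩ := exists_double hQ (by omega) (a := e - f) (b := e' - f') (by rw [qa]; simp) (qa.trans qb.symm)
      (by rw [pol_sub_left hQ, pol_sub_right hQ, pol_sub_right hQ, ee, hef', hfe', ff]; ring)
    set U₁ := U ⊓ (LinearMap.ker (formQ hQ f) ⊓ LinearMap.ker (formQ hQ f'))
    set U₁' := U' ⊓ (LinearMap.ker (formQ hQ e) ⊓ LinearMap.ker (formQ hQ e'))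
    have p1 : ∀ u ∈ U, u - pol Q u f • e - pol Q u f' • e' ∈ U₁ := fun u hu =>
      ⟨U.sub_mem (U.sub_mem hu (U.smul_mem _ he)) (U.smul_mem _ he'),
        LinearMap.mem_ker.2 (by rw [formQ_apply, pol_sub_left hQ, pol_sub_left hQ, pol_smul_left hQ,
          pol_smul_left hQ, hef, he'f]; ring),
        LinearMap.mem_ker.2 (by rw [formQ_apply, pol_sub_left hQ, pol_sub_left hQ, pol_smul_left hQ,
          pol_smul_left hQ, hef', he'f']; ring)⟩
    have p2 : ∀ u ∈ U', u - pol Q u e • f - pol Q u e' • f' ∈ U₁' := fun u hu =>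
      ⟨U'.sub_mem (U'.sub_mem hu (U'.smul_mem _ hf)) (U'.smul_mem _ hf'),
        LinearMap.mem_ker.2 (by rw [formQ_apply, pol_sub_left hQ, pol_sub_left hQ, pol_smul_left hQ,
          pol_smul_left hQ, hfe, hf'e]; ring),
        LinearMap.mem_ker.2 (by rw [formQ_apply, pol_sub_left hQ, pol_sub_left hQ, pol_smul_left hQ,
          pol_smul_left hQ, hfe', hf'e']; ring)⟩
    have hd₁ : Module.finrank F U₁ = 2 * j := by
      have h1 := LinearMap.finrank_range_add_finrank_ker (((formQ hQ f).prod (formQ hQ f')).comp U.subtype)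
      rw [LinearMap.range_eq_top.2 fun c => ⟨⟨c.1 • e + c.2 • e', U.add_mem (U.smul_mem _ he) (U.smul_mem _ he')⟩,
        by ext <;> simp [formQ_apply, pol_add_left hQ, pol_smul_left hQ, hef, he'f, hef', he'f']⟩, finrank_top, Module.finrank_prod,
        Module.finrank_self] at h1
      have h2 : (LinearMap.ker (((formQ hQ f).prod (formQ hQ f')).comp U.subtype)).map U.subtype = U₁ := by
        ext z; simp [U₁]; tauto
      rw [← h2, Submodule.finrank_map_subtype_eq]
      omega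
    obtain ⟨g, hg, hgU, hgU', hgf⟩ := ih U₁ U₁' (fun u hu => hU u hu.1) (fun u hu => hU' u hu.1) hd₁
      (fun u hu h => hn1 u hu.1 fun v hv => by
        have := h _ (p2 v hv)
        rwa [pol_sub_right hQ, pol_sub_right hQ, pol_smul_right hQ, pol_smul_right hQ,
          show pol Q u f = 0 from LinearMap.mem_ker.1 hu.2.1, show pol Q u f' = 0 from LinearMap.mem_ker.1 hu.2.2,
          mul_zero, mul_zero, sub_zero, sub_zero] at this)
      (fun v hv h => hn2 v hv.1 fun u hu => by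
        have := h _ (p1 u hu)
        rwa [pol_sub_right hQ, pol_sub_right hQ, pol_smul_right hQ, pol_smul_right hQ,
          show pol Q v e = 0 from LinearMap.mem_ker.1 hv.2.1, show pol Q v e' = 0 from LinearMap.mem_ker.1 hv.2.2,
          mul_zero, mul_zero, sub_zero, sub_zero] at this)
    have gfix : ∀ z, (z = e ∨ z = e' ∨ z = f ∨ z = f') → mv g z = z := by
      intro z hz
      refine hgf z (fun u hu => ?_) (fun v hv => ?_)
      · rcases hz with rfl | rfl | rfl | rfl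
        · exact pol_eq_zero_of_singular hQ hU he hu.1
        · exact pol_eq_zero_of_singular hQ hU he' hu.1
        · exact (pol_comm _ _).trans (LinearMap.mem_ker.1 hu.2.1)
        · exact (pol_comm _ _).trans (LinearMap.mem_ker.1 hu.2.2)
      · rcases hz with rfl | rfl | rfl | rfl
        · exact (pol_comm _ _).trans (LinearMap.mem_ker.1 hv.2.1)
        · exact (pol_comm _ _).trans (LinearMap.mem_ker.1 hv.2.2)
        · exact pol_eq_zero_of_singular hQ hU' hf hv.1
        · exact pol_eq_zero_of_singular hQ hU' hf' hv.1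
    have hsv' : ∀ z, mv s z = z + (pol Q z e - pol Q z f) • (e - f) + (pol Q z e' - pol Q z f') • (e' - f') :=
      fun z => by
        rw [hsv, qa, qb, pol_sub_right hQ, pol_sub_right hQ, div_neg, div_one, div_neg, div_one, neg_smul,
          neg_smul]
        abel
    have sfix : ∀ z, pol Q z e = 0 → pol Q z e' = 0 → pol Q z f = 0 → pol Q z f' = 0 → mv s z = z :=
      fun z h1 h2 h3 h4 => by rw [hsv', h1, h2, h3, h4]; simp
    have se : mv s e = f := by rw [hsv', pol_self hQ, hU e he, hef, ee, hef']; module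
    have se' : mv s e' = f' := by rw [hsv', pol_self hQ, hU e' he', e'e, he'f, he'f']; module
    have sf : mv s f = e := by rw [hsv', pol_self hQ, hU' f hf, hfe, hfe', ff]; module
    have sf' : mv s f' = e' := by rw [hsv', pol_self hQ, hU' f' hf', hf'e, hf'e', f'f]; module
    refine ⟨s * g, Subgroup.mul_mem _ hs hg, fun u hu => ?_, fun v hv => ?_, fun z h1 h2 => ?_⟩
    · have h2 := hgU _ (p1 u hu)
      rw [show u = u - pol Q u f • e - pol Q u f' • e' + pol Q u f • e + pol Q u f' • e' by abel, mv_mul]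
      simp only [mv_add, mv_smul, gfix e (Or.inl rfl), gfix e' (Or.inr (Or.inl rfl)), se, se']
      rw [sfix _ (LinearMap.mem_ker.1 h2.2.1) (LinearMap.mem_ker.1 h2.2.2)
          (pol_eq_zero_of_singular hQ hU' h2.1 hf) (pol_eq_zero_of_singular hQ hU' h2.1 hf')]
      exact U'.add_mem (U'.add_mem h2.1 (U'.smul_mem _ hf)) (U'.smul_mem _ hf')
    · have h2 := hgU' _ (p2 v hv)
      rw [show v = v - pol Q v e • f - pol Q v e' • f' + pol Q v e • f + pol Q v e' • f' by abel, mv_mul]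
      simp only [mv_add, mv_smul, gfix f (Or.inr (Or.inr (Or.inl rfl))), gfix f' (Or.inr (Or.inr (Or.inr rfl))), sf, sf']
      rw [sfix _ (pol_eq_zero_of_singular hQ hU h2.1 he) (pol_eq_zero_of_singular hQ hU h2.1 he')
          (LinearMap.mem_ker.1 h2.2.1) (LinearMap.mem_ker.1 h2.2.2)]
      exact U.add_mem (U.add_mem h2.1 (U.smul_mem _ he)) (U.smul_mem _ he')
    · rw [mv_mul, hgf z (fun u hu => h1 u hu.1) (fun v hv => h2 v hv.1),
        sfix z (h1 e he) (h1 e' he') (h2 f hf) (h2 f' hf')]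

/-- The stabiliser of a pair of complementary totally singular subspaces of even dimension is maximal. -/
theorem pair_maximal [Finite F] (hn : 10 ≤ Fintype.card ι) {k : ℕ} {D : Fin 2 → Submodule F (ι → F)}
    (hD : Geo.IsMDecomposition k D) (hts : ∀ i, Geo.IsTotallySingularQuad Q (D i))
    (hk : 2 * k = Fintype.card ι) (hke : Even k) :
    Geo.IsMaximalIn (Geo.omegaGL Q) (Geo.decompositionStabilizer D ⊓ Geo.omegaGL Q) := by
  obtain ⟨W, hWdef⟩ : ∃ W, W = D 0 := ⟨_, rfl⟩
  obtain ⟨W', hW'def⟩ : ∃ W, W = D 1 := ⟨_, rfl⟩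
  have hW : ∀ w ∈ W, Q w = 0 := fun w hw => hts 0 w (hWdef ▸ hw)
  have hW' : ∀ w ∈ W', Q w = 0 := fun w hw => hts 1 w (hW'def ▸ hw)
  have hkW : Module.finrank F W = k := hWdef ▸ hD.finrank_eq 0
  have hkW' : Module.finrank F W' = k := hW'def ▸ hD.finrank_eq 1
  have hc : IsCompl W W' := by
    refine ⟨hWdef ▸ hW'def ▸ hD.indep.pairwiseDisjoint (by decide), codisjoint_iff.2 (eq_top_iff.2 ?_)⟩
    rw [← hD.iSup_eq_top]
    exact iSup_le fun i => by fin_cases i <;> simp [hWdef, hW'def]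
  have hn1 : ∀ u ∈ W, (∀ v ∈ W', pol Q u v = 0) → u = 0 := fun u hu h =>
    nondeg_top hQ u Submodule.mem_top fun z _ => by
      obtain ⟨p, hp, w, hw, rfl⟩ := exists_parts hc z
      rw [pol_comm, pol_add_right hQ, pol_eq_zero_of_singular hQ hW hu hp, h w hw, add_zero]
  have hn2 : ∀ u ∈ W', (∀ v ∈ W, pol Q u v = 0) → u = 0 := fun u hu h =>
    nondeg_top hQ u Submodule.mem_top fun z _ => by
      obtain ⟨p, hp, w, hw, rfl⟩ := exists_parts hc z
      rw [pol_comm, pol_add_right hQ, h p hp, pol_eq_zero_of_singular hQ hW' hu hw, add_zero]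
  have hmem : ∀ {g : GL ι F}, g ∈ Geo.decompositionStabilizer D ↔
      ((∀ u ∈ W, mv g u ∈ W) ∧ (∀ u ∈ W', mv g u ∈ W') ∨ (∀ u ∈ W, mv g u ∈ W') ∧ (∀ u ∈ W', mv g u ∈ W)) := by
    intro g
    refine ⟨fun ⟨σ, hσ⟩ => ?_, fun h => ?_⟩
    · have hmv : ∀ i, ∀ u ∈ D i, mv g u ∈ D (σ i) := fun i u hu => (hσ i).le ⟨u, hu, by simp [mv]⟩
      have hne : σ 0 ≠ σ 1 := fun e => absurd (σ.injective e) (by decide)
      rcases eq_or_ne (σ 0) 0 with h | h
      · have h1 : σ 1 = 1 := by omega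
        exact Or.inl ⟨by simpa [hWdef, h] using hmv 0, by simpa [hW'def, h1] using hmv 1⟩
      · have h0 : σ 0 = 1 := by omega
        have h1 : σ 1 = 0 := by omega
        exact Or.inr ⟨by simpa [hWdef, hW'def, h0] using hmv 0, by simpa [hWdef, hW'def, h1] using hmv 1⟩
    · have key : ∀ (σ : Equiv.Perm (Fin 2)), (∀ i, ∀ u ∈ D i, mv g u ∈ D (σ i)) →
          g ∈ Geo.decompositionStabilizer D := fun σ hσ => ⟨σ, fun i => Submodule.eq_of_le_of_finrank_eq
        (by rintro _ ⟨x, hx, rfl⟩; simpa [mv] using hσ i x hx) (by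
          rw [← LinearEquiv.finrank_eq (Submodule.equivMapOfInjective _ (fun a b hab => mv_inj g
            (by simpa [mv] using hab)) (D i)), hD.finrank_eq, hD.finrank_eq])⟩
      rcases h with ⟨h1, h2⟩ | ⟨h1, h2⟩
      · exact key 1 fun i => by fin_cases i; exacts [by simpa [hWdef] using h1, by simpa [hW'def] using h2]
      · exact key (Equiv.swap 0 1) fun i => by
          fin_cases i; exacts [by simpa [hWdef, hW'def] using h1, by simpa [hWdef, hW'def] using h2]
  have hk5 : 5 ≤ k := by omega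
  refine ⟨lt_of_le_of_ne inf_le_right fun he => ?_, fun M hHM hMS => ?_⟩
  · obtain ⟨u, hu, hu0⟩ := W.ne_bot_iff.1 (fun h => by rw [h, finrank_bot] at hkW; omega)
    obtain ⟨p, hp, -, -, hpu⟩ := exists_avoid_pair hQ hW hc (U := Submodule.span F {u})
      (by rw [finrank_span_singleton hu0]; omega) 0 0
    obtain ⟨w, hw, huw⟩ : ∃ w ∈ W', pol Q w u ≠ 0 := by
      by_contra h
      push Not at h
      exact hu0 (hn1 u hu fun v hv => (pol_comm _ _).trans (h v hv))
    have hup := pol_eq_zero_of_singular hQ hW hu hp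
    obtain ⟨g, -, hg⟩ := exists_siegel hQ (hW u hu) hup
    have hgd := mv_mem_of_mem_stab (v := u) (W := W) (mem_subspaceStabilizer_of_le fun z hz => by
      rw [isSiegel_fix hQ hg (pol_eq_zero_of_singular hQ hW hz hu) (pol_eq_zero_of_singular hQ hW hz hp)]
      exact hz) hu
    rcases hmem.1 (he.ge (siegel_mem_omega hQ (by omega) (hW u hu) hup hg)).1 with ⟨-, h2⟩ | ⟨h1, -⟩
    · have h3 := W'.sub_mem (h2 w hw) hw
      rw [hg, show ∀ a b c : ι → F, a + b - c - a = b - c from fun a b c => by abel] at h3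
      have h4 := eq_zero_of_compl hc (W.sub_mem (W.smul_mem _ hp) (W.smul_mem _ hu)) h3
      refine hpu (Submodule.mem_span_singleton.2 ⟨(pol Q w u)⁻¹ * (pol Q w p + Q p * pol Q w u), ?_⟩)
      rw [mul_smul, ← sub_eq_zero.1 h4, smul_smul, inv_mul_cancel₀ huw, one_smul]
    · have h3 := h1 u hu
      have hgu : mv g u = 0 := eq_zero_of_compl hc hgd h3
      exact hu0 (mv_inj g (hgu.trans (mv_zero g).symm))
  have hMO : M ≤ isometryGroup F Q := hMS.trans (omega_le_isometry hQ)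
  have hH : ∀ g ∈ Geo.omegaGL Q, (∀ u ∈ W, mv g u ∈ W) → (∀ u ∈ W', mv g u ∈ W') → g ∈ M := fun g hg h1 h2 =>
    hHM ⟨hmem.2 (Or.inl ⟨h1, h2⟩), hg⟩
  have hH' : ∀ g ∈ Geo.omegaGL Q, (∀ u ∈ W', mv g u ∈ W') → (∀ u ∈ W, mv g u ∈ W) → g ∈ M :=
    fun g hg h1 h2 => hH g hg h2 h1
  obtain ⟨j, hj⟩ := hke
  obtain ⟨sw, hsw, hsW, hsW', -⟩ := exists_omega_swap hQ hn j W W' hW hW' (by omega) hn1 hn2
  have hswM : sw ∈ M := hHM ⟨hmem.2 (Or.inr ⟨hsW, hsW'⟩), hsw⟩
  by_cases hP : (∃ u ∈ W, ∃ p ∈ W, u ≠ 0 ∧ p ∉ Submodule.span F {u} ∧ LineIn Q M u p) ∨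
      ∃ u ∈ W', ∃ p ∈ W', u ≠ 0 ∧ p ∉ Submodule.span F {u} ∧ LineIn Q M u p
  · refine Or.inr ?_
    have hfull : ∀ v ∈ W, v ∈ qFull Q M := by
      rcases hP with ⟨u, hu, p, hp, hu0, hup, h⟩ | ⟨u, hu, p, hp, hu0, hup, h⟩
      · exact fun v hv => full_of_pure hQ hW hW' hc hMO hH hn hu hp hu0 hup h hv
      · intro v hv
        have := qFull_mv hQ hMO (M.inv_mem hswM) (full_of_pure hQ hW' hW hc.symm hMO hH' hn hu hp hu0 hup h
          (hsW v hv))
        rwa [mv_inv_mv] at this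
    obtain ⟨u, hu, hu0⟩ := W.ne_bot_iff.1 (fun h => by rw [h, finrank_bot] at hkW; omega)
    obtain ⟨w, hw, huw⟩ : ∃ w ∈ W', pol Q u w ≠ 0 := by
      by_contra h
      push Not at h
      exact hu0 (hn1 u hu h)
    refine eq_omega_of_pair hQ (by omega) hMS (hfull u hu) (v := (pol Q u w)⁻¹ • w) ?_
      (by rw [pol_smul_right hQ, inv_mul_cancel₀ huw])
    have h2 := qFull_mv hQ hMO (M.inv_mem hswM) (hfull _ (hsW' _ (W'.smul_mem (pol Q u w)⁻¹ hw)))
    rwa [mv_inv_mv] at h2
  refine Or.inl (le_antisymm (fun g hg => ⟨hmem.2 ?_, hMS hg⟩) hHM)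
  push Not at hP
  obtain ⟨hP1, hP2⟩ := hP
  -- images of standard lines are standard
  have std : ∀ p ∈ W, ∀ w ∈ W', pol Q p w = 0 → ∀ x ∈ W, ∀ y ∈ W', ∀ x' ∈ W, ∀ y' ∈ W',
      mv g p = x + y → mv g w = x' + y' →
      (x ≠ 0 → x' ∈ Submodule.span F {x}) ∧ (y ≠ 0 → y' ∈ Submodule.span F {y}) := by
    intro p hp w hw hpw x hx y hy x' hx' y' hy' e1 e2
    have hl := lineIn_conj hQ hMO hg (line_std hQ hW hW' hH hn hp hw hpw)
    have haa : Q (x + y) = 0 := by rw [← e1, mem_isometry.1 (hMO hg), hW p hp]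
    have hab : pol Q (x + y) (x' + y') = 0 := by rw [← e1, ← e2, pol_mv hQ (hMO hg), hpw]
    rw [e1, e2] at hl
    refine ⟨fun h0 => by_contra fun h => ?_, fun h0 => by_contra fun h => ?_⟩
    · obtain ⟨u, hu, p, hp, hu0, hup, hl'⟩ := pure_of_line hQ hW hW' hc hMO hH hn (by omega) hx hy hx' hy' haa hab
        h0 h hl
      exact hP1 u hu p hp hu0 hup hl'
    · obtain ⟨u, hu, p, hp, hu0, hup, hl'⟩ := pure_of_line hQ hW' hW hc.symm hMO hH' hn (by omega) hy hx hy' hx'
        (by rwa [add_comm]) (by rwa [add_comm y, add_comm y']) h0 h (by rwa [add_comm y, add_comm y'])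
      exact hP2 u hu p hp hu0 hup hl'
  have himage : ∀ p ∈ W, mv g p ∈ W ∨ mv g p ∈ W' := by
    intro p hp
    obtain ⟨x, hx, y, hy, e⟩ := exists_parts hc (mv g p)
    by_cases hx0 : x = 0
    · exact Or.inr (by rw [e, hx0, zero_add]; exact hy)
    by_cases hy0 : y = 0
    · exact Or.inl (by rw [e, hy0, add_zero]; exact hx)
    exfalso
    obtain ⟨w₁, hw₁, hw₁p, -, hw₁0⟩ := exists_avoid_pair hQ hW' hc.symm (U := (⊥ : Submodule F (ι → F)))
      (by rw [finrank_bot]; omega) p p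
    have hw₁n : w₁ ≠ 0 := fun h => hw₁0 (h ▸ Submodule.zero_mem _)
    obtain ⟨w₂, hw₂, hw₂p, -, hw₂1⟩ := exists_avoid_pair hQ hW' hc.symm (U := Submodule.span F {w₁})
      (by rw [finrank_span_singleton hw₁n]; omega) p p
    have mem : ∀ w ∈ W', pol Q w p = 0 → mv g w ∈ Submodule.span F ({x, y} : Set (ι → F)) := by
      intro w hw hwp
      obtain ⟨x', hx', y', hy', e'⟩ := exists_parts hc (mv g w)
      obtain ⟨h1, h2⟩ := std p hp w hw ((pol_comm _ _).trans hwp) x hx y hy x' hx' y' hy' e e'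
      rw [e']
      exact Submodule.add_mem _ (Submodule.span_mono (by simp) (h1 hx0)) (Submodule.span_mono (by simp) (h2 hy0))
    have hli : LinearIndependent F ![mv g p, mv g w₁, mv g w₂] := by
      rw [Fintype.linearIndependent_iff]
      intro c hc'
      have h0 : c 0 • p + c 1 • w₁ + c 2 • w₂ = 0 := mv_inj g (by
        rw [mv_add, mv_add, mv_smul, mv_smul, mv_smul, mv_zero]
        simpa [Fin.sum_univ_three] using hc')
      have hp0 : p ≠ 0 := fun h => hx0 (eq_zero_of_compl hc hx (by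
        rw [h, mv_zero] at e
        rw [show x = -y from eq_neg_of_add_eq_zero_left e.symm]; exact W'.neg_mem hy))
      have hc0 : c 0 = 0 := by
        have : c 0 • p = 0 := eq_zero_of_compl hc (W.smul_mem _ hp) (by
          rw [show c 0 • p = -(c 1 • w₁ + c 2 • w₂) by linear_combination (norm := module) h0]
          exact W'.neg_mem (W'.add_mem (W'.smul_mem _ hw₁) (W'.smul_mem _ hw₂)))
        exact (smul_eq_zero.1 this).resolve_right hp0
      rw [hc0, zero_smul, zero_add] at h0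
      have hc2 : c 2 = 0 := by
        by_contra h
        refine hw₂1 (Submodule.mem_span_singleton.2 ⟨-(c 1 / c 2), ?_⟩)
        apply smul_right_injective (ι → F) h
        show c 2 • _ = c 2 • w₂
        rw [smul_smul, mul_neg, mul_div_cancel₀ _ h]
        linear_combination (norm := module) -h0
      rw [hc2, zero_smul, add_zero] at h0
      intro i
      fin_cases i
      exacts [hc0, (smul_eq_zero.1 h0).resolve_right hw₁n, hc2]
    have hfr := finrank_span_eq_card hli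
    rw [Fintype.card_fin] at hfr
    have hsub : Submodule.span F (Set.range ![mv g p, mv g w₁, mv g w₂]) ≤ Submodule.span F {x, y} := by
      refine Submodule.span_le.2 ?_
      rintro _ ⟨i, rfl⟩
      fin_cases i
      · show mv g p ∈ _
        rw [e]; exact Submodule.add_mem _ (Submodule.subset_span (by simp)) (Submodule.subset_span (by simp))
      · exact mem w₁ hw₁ hw₁p
      · exact mem w₂ hw₂ hw₂p
    have := Submodule.finrank_mono hsub
    classical
    have h2 := (finrank_span_le_card (R := F) ({x, y} : Set (ι → F))).trans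
      (by rw [Set.toFinset_insert, Set.toFinset_singleton]; exact Finset.card_le_two : _ ≤ 2)
    omega
  -- the images of W determine those of W'
  have gn : ∀ {u : ι → F}, u ≠ 0 → mv g u ≠ 0 := fun hu h => hu (mv_inj g (h.trans (mv_zero g).symm))
  have dich : (∀ p ∈ W, mv g p ∈ W) ∨ (∀ p ∈ W, mv g p ∈ W') := by
    by_contra h
    push Not at h
    obtain ⟨⟨p, hp, hp'⟩, q, hq, hq'⟩ := h
    have hp'' := (himage p hp).resolve_left hp'
    have hq'' := (himage q hq).resolve_right hq'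
    rcases himage (p + q) (W.add_mem hp hq) with h1 | h1
    · rw [mv_add] at h1
      exact hp' ((add_sub_cancel_right (mv g p) (mv g q)) ▸ W.sub_mem h1 hq'')
    · rw [mv_add] at h1
      exact hq' ((add_sub_cancel_left (mv g p) (mv g q)) ▸ W'.sub_mem h1 hp'')
  have other : ∀ {A B : Submodule F (ι → F)}, IsCompl A B → Module.finrank F A = k →
      (∀ p ∈ W, mv g p ∈ A) → ∀ w ∈ W', ∀ x ∈ A, ∀ y ∈ B, mv g w = x + y →
      (∀ p ∈ W, pol Q p w = 0 → p ≠ 0 → x ∈ Submodule.span F {mv g p}) → mv g w ∈ B := by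
    intro A B hAB hA hgA w hw x hx y hy e h
    obtain ⟨p₁, hp₁, hp₁w, -, hp₁0⟩ := exists_avoid_pair hQ hW hc (U := (⊥ : Submodule F (ι → F)))
      (by rw [finrank_bot]; omega) w w
    have hp₁n : p₁ ≠ 0 := fun h => hp₁0 (h ▸ Submodule.zero_mem _)
    obtain ⟨p₂, hp₂, hp₂w, -, hp₂1⟩ := exists_avoid_pair hQ hW hc (U := Submodule.span F {p₁})
      (by rw [finrank_span_singleton hp₁n]; omega) w w
    have hp₂n : p₂ ≠ 0 := fun h => hp₂1 (h ▸ Submodule.zero_mem _)
    obtain ⟨c, hc'⟩ := Submodule.mem_span_singleton.1 (h p₁ hp₁ hp₁w hp₁n)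
    obtain ⟨d, hd'⟩ := Submodule.mem_span_singleton.1 (h p₂ hp₂ hp₂w hp₂n)
    have hx0 : x = 0 := by
      rcases eq_or_ne d 0 with rfl | hd
      · rw [← hd', zero_smul]
      refine absurd (Submodule.mem_span_singleton.2 ⟨d⁻¹ * c, ?_⟩) hp₂1
      apply mv_inj g
      rw [mv_smul, mul_smul, hc', ← hd', smul_smul, inv_mul_cancel₀ hd, one_smul]
    rw [e, hx0, zero_add]; exact hy
  rcases dich with hgW | hgW
  · refine Or.inl ⟨hgW, fun w hw => ?_⟩
    obtain ⟨x, hx, y, hy, e⟩ := exists_parts hc (mv g w)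
    exact other hc hkW hgW w hw x hx y hy e fun p hp hpw hp0 =>
      (std p hp w hw hpw _ (hgW p hp) 0 W'.zero_mem x hx y hy (add_zero _).symm e).1 (gn hp0)
  · refine Or.inr ⟨hgW, fun w hw => ?_⟩
    obtain ⟨x, hx, y, hy, e⟩ := exists_parts hc (mv g w)
    exact other hc.symm hkW' hgW w hw y hy x hx (by rw [e, add_comm]) fun p hp hpw hp0 =>
      (std p hp w hw hpw 0 W.zero_mem _ (hgW p hp) x hx y hy (zero_add _).symm e).2 (gn hp0)

end Cfsg.Agent.Transvec.Orth
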