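/-
Tools for the stabiliser of an orthogonal decomposition in odd characteristic.
-/
import Cfsg.Agent.Lib.Transvec.OrthPair
import Cfsg.Agent.Lib.Transvec.OrthParity
import Cfsg.Agent.Lib.Transvec.OrthStab
import Cfsg.Agent.Lib.Transvec.OrthMaximal
set_option autoImplicit false

namespace Cfsg.Agent.Transvec.Orth

open scoped Matrix
open Matrix Cfsg.Agent.Transvec

variable {ι : Type} [Fintype ι] [DecidableEq ι] {F : Type*} [Field F] {Q : (ι → F) → F}
variable (hQ : Geo.IsNondegenerateQuadraticForm Q)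
include hQ

omit hQ in
theorem isRefl_unique {r r' : GL ι F} {a : ι → F} (h : IsRefl Q r a) (h' : IsRefl Q r' a) : r = r' :=
  ext_mv fun z => by rw [h.2, h'.2]

/-- The product of two reflections of equal value lies in the commutator subgroup. -/
theorem refl_pair_mem [Finite F] (hn : 7 ≤ Fintype.card ι) {a b : ι → F} {ra rb : GL ι F}
    (hra : ra ∈ isometryGroup F Q) (ha : IsRefl Q ra a) (hb : IsRefl Q rb b) (hab : Q a = Q b) :
    ra * rb ∈ Geo.omegaGL Q := by
  have htop : 5 ≤ Module.finrank F (⊤ : Submodule F (ι → F)) := by rw [finrank_top, Module.finrank_pi]; omega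
  obtain ⟨s, hs, hsa, -⟩ := exists_move hQ (nondeg_top hQ) htop (K := siegelGroup Q)
    (fun u _ y _ hu hy => siegel_mem hQ hu hy) (Submodule.mem_top (x := a)) (Submodule.mem_top (x := b))
    (fun h0 => ha.1 (by rw [h0, q_zero hQ])) (fun h0 => hb.1 (by rw [h0, q_zero hQ])) hab
  have hc := isRefl_conj hQ (siegelGroup_le_isometry hQ hs) ha
  rw [hsa] at hc
  have hinv : ra⁻¹ = ra := inv_eq_of_mul_eq_one_right (isRefl_sq hQ ha)
  rw [isRefl_unique hb hc, omegaGL_eq hQ hn, show ra * (s * ra * s⁻¹) = ra * s * ra⁻¹ * s⁻¹ by rw [hinv]; group]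
  exact Subgroup.mul_mem _ (siegelGroup_conj hQ hra hs) (Subgroup.inv_mem _ hs)

theorem omega_conj [Finite F] (hn : 7 ≤ Fintype.card ι) {g w : GL ι F} (hg : g ∈ isometryGroup F Q)
    (hw : w ∈ Geo.omegaGL Q) : g * w * g⁻¹ ∈ Geo.omegaGL Q := by
  rw [omegaGL_eq hQ hn] at hw ⊢
  exact siegelGroup_conj hQ hg hw

/-- Every isometry is corrected into the commutator subgroup by an isometry supported on a given subspace. -/
theorem exists_supported [Finite F] (hn : 7 ≤ Fintype.card ι) {X : Submodule F (ι → F)} (hX : Nondeg Q X)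
    (h3 : 3 ≤ Module.finrank F X) {g : GL ι F} (hg : g ∈ isometryGroup F Q) :
    ∃ h ∈ isometryGroup F Q, (∀ z, (∀ x ∈ X, pol Q z x = 0) → mv h z = z) ∧ g * h ∈ Geo.omegaGL Q := by
  let G : Subgroup (GL ι F) :=
    { carrier := {g | g ∈ isometryGroup F Q ∧ ∃ h ∈ isometryGroup F Q,
        (∀ z, (∀ x ∈ X, pol Q z x = 0) → mv h z = z) ∧ g * h ∈ Geo.omegaGL Q}
      one_mem' := ⟨one_mem _, 1, one_mem _, fun z _ => mv_one z, by rw [one_mul]; exact one_mem _⟩
      mul_mem' := by
        rintro a b ⟨ha, h, hh, hf, ho⟩ ⟨hb, h', hh', hf', ho'⟩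
        refine ⟨Subgroup.mul_mem _ ha hb, h' * h, Subgroup.mul_mem _ hh' hh,
          fun z hz => by rw [mv_mul, hf z hz, hf' z hz], ?_⟩
        rw [show a * b * (h' * h) = a * (b * h') * a⁻¹ * (a * h) by group]
        exact Subgroup.mul_mem _ (omega_conj hQ hn ha ho') ho
      inv_mem' := by
        rintro a ⟨ha, h, hh, hf, ho⟩
        refine ⟨Subgroup.inv_mem _ ha, h⁻¹, Subgroup.inv_mem _ hh,
          fun z hz => by conv_lhs => rw [← hf z hz, mv_inv_mv], ?_⟩
        rw [show a⁻¹ * h⁻¹ = h * (a * h)⁻¹ * h⁻¹ by group]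
        exact omega_conj hQ hn hh (Subgroup.inv_mem _ ho) }
  suffices isometryGroup F Q ≤ G from (this hg).2
  refine (isometry_le hQ).trans ((Subgroup.closure_le _).2 ?_)
  rintro r (hr | ⟨hr, a, ha⟩)
  · exact ⟨siegelGroup_le_isometry hQ hr, 1, one_mem _, fun z _ => mv_one z,
      by rw [mul_one, omegaGL_eq hQ hn]; exact hr⟩
  · obtain ⟨c, hc, hcv⟩ := exists_value_nondeg hQ hX h3 (Q a)
    obtain ⟨s, hs, hs'⟩ := exists_refl hQ (a := c) (hcv ▸ ha.1)
    exact ⟨hr, s, hs, fun z hz => isRefl_fix hs' (hz c hc), refl_pair_mem hQ hn hr ha hs' hcv.symm⟩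

/-- The orthogonal of a non-singular vector inside a non-degenerate subspace. -/
theorem nondeg_perp (h2 : (2 : F) ≠ 0) {X : Submodule F (ι → F)} (hX : Nondeg Q X) {a : ι → F} (ha : a ∈ X)
    (haa : Q a ≠ 0) : Nondeg Q (X ⊓ orth hQ (Submodule.span F {a})) ∧
      Module.finrank F ↥(X ⊓ orth hQ (Submodule.span F {a})) + 1 = Module.finrank F X := by
  have hline : Nondeg Q (Submodule.span F {a}) := fun w hw h => by
    obtain ⟨c, rfl⟩ := Submodule.mem_span_singleton.1 hw
    have := h a (Submodule.mem_span_singleton_self a)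
    rw [pol_smul_right hQ, pol_self hQ, mul_eq_zero, or_iff_left (mul_ne_zero h2 haa)] at this
    rw [this, zero_smul]
  have hle : Submodule.span F {a} ≤ X := (Submodule.span_singleton_le_iff_mem _ _).2 ha
  have hd := finrank_inf_orth_add hQ hline hle
  rw [finrank_span_singleton (fun h => haa (by rw [h, q_zero hQ]))] at hd
  exact ⟨nondeg_inf_orth hQ hline hX hle, by omega⟩

omit hQ in
theorem exists_sq_ne_one [Fintype F] (h5 : 5 ≤ Fintype.card F) : ∃ r : F, r ≠ 0 ∧ r ^ 2 ≠ 1 := by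
  classical
  by_contra h
  push Not at h
  have h1 : (Finset.univ : Finset F) ⊆ {0, 1, -1} := fun r _ => by
    by_cases hr : r = 0
    · simp [hr]
    · rcases sq_eq_one_iff.1 (h r hr) with h' | h' <;> simp [h']
  have := Finset.card_le_card h1
  have h3 : ({0, 1, -1} : Finset F).card ≤ 3 := Finset.card_le_three
  rw [Finset.card_univ] at this
  omega

/-- A non-degenerate subspace of dimension at least two represents every non-zero value. -/
theorem exists_value_plane [Fintype F] (h2 : (2 : F) ≠ 0) {P : Submodule F (ι → F)} (hP : Nondeg Q P)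
    (hP2 : 2 ≤ Module.finrank F P) (κ : F) : ∃ p ∈ P, Q p = κ := by
  obtain ⟨p₁, h1, h1q⟩ := exists_anisotropic hQ hP fun h => by rw [h, finrank_bot] at hP2; omega
  obtain ⟨hn', hd⟩ := nondeg_perp hQ h2 hP h1 h1q
  obtain ⟨p₂, h3, h3q⟩ := exists_anisotropic hQ hn' fun h => by rw [h, finrank_bot] at hd; omega
  obtain ⟨x, y, hxy⟩ := FiniteField.exists_root_sum_quadratic
    (f := Polynomial.C (Q p₁) * Polynomial.X ^ 2 + Polynomial.C (-κ)) (g := Polynomial.C (Q p₂) * Polynomial.X ^ 2)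
    (by
      rw [Polynomial.degree_add_eq_left_of_degree_lt] <;> rw [Polynomial.degree_C_mul_X_pow 2 h1q]
      · rfl
      · exact lt_of_le_of_lt Polynomial.degree_C_le (by norm_num))
    (Polynomial.degree_C_mul_X_pow 2 h3q)
    (FiniteField.odd_card_of_char_ne_two fun h => h2 (by
      have : CharP F 2 := ringChar.eq_iff.1 h
      exact CharP.cast_eq_zero F 2))
  simp only [Polynomial.eval_add, Polynomial.eval_mul, Polynomial.eval_C, Polynomial.eval_pow,
    Polynomial.eval_X] at hxy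
  refine ⟨x • p₁ + y • p₂, P.add_mem (P.smul_mem _ h1) (P.smul_mem _ h3.1), ?_⟩
  rw [q_add hQ, q_smul hQ, q_smul hQ, pol_smul_left hQ, pol_smul_right hQ,
    h3.2 p₁ (Submodule.mem_span_singleton_self p₁)]
  linear_combination hxy

/-- In a plane over a field with at least five elements a given value is taken off any given line. -/
theorem exists_value_not_orth [Fintype F] (h2 : (2 : F) ≠ 0) (h5 : 5 ≤ Fintype.card F) {P : Submodule F (ι → F)}
    (hP : Nondeg Q P) (hP2 : Module.finrank F P = 2) {w : ι → F} (hw : w ∈ P) (hw0 : w ≠ 0) {κ : F}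
    (hκ : κ ≠ 0) : ∃ p ∈ P, Q p = κ ∧ pol Q p w ≠ 0 := by
  obtain ⟨p₀, h0, h0q⟩ := exists_value_plane hQ h2 hP hP2.ge κ
  by_cases hpw : pol Q p₀ w = 0
  swap
  · exact ⟨p₀, h0, h0q, hpw⟩
  obtain ⟨hn', hd⟩ := nondeg_perp hQ h2 hP h0 (h0q ▸ hκ)
  have hwP' : w ∈ P ⊓ orth hQ (Submodule.span F {p₀}) := ⟨hw, (mem_orth_span hQ).2 (by
    rintro u rfl
    exact hpw)⟩
  obtain ⟨p₂, h3, h3q⟩ := exists_anisotropic hQ hn' fun h => by rw [h, finrank_bot] at hd; omega
  have hp₂0 : p₂ ≠ 0 := fun h => h3q (by rw [h, q_zero hQ])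
  have hspan : Submodule.span F {p₂} = P ⊓ orth hQ (Submodule.span F {p₀}) :=
    Submodule.eq_of_le_of_finrank_le ((Submodule.span_singleton_le_iff_mem _ _).2 h3)
      (by rw [finrank_span_singleton hp₂0]; omega)
  obtain ⟨c, rfl⟩ := Submodule.mem_span_singleton.1 (hspan.ge hwP')
  have hc0 : c ≠ 0 := fun h => hw0 (by rw [h, zero_smul])
  set d := Q p₂ / κ with hd'
  have hd0 : d ≠ 0 := div_ne_zero h3q hκ
  obtain ⟨t, ht0, ht⟩ : ∃ t : F, t ≠ 0 ∧ 1 + d * t ^ 2 ≠ 0 := by
    obtain ⟨r, hr0, hr1⟩ := exists_sq_ne_one h5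
    by_cases h : 1 + d * (1 : F) ^ 2 = 0
    · refine ⟨r, hr0, fun h' => hr1 ?_⟩
      apply mul_left_cancel₀ hd0
      linear_combination h' - h
    · exact ⟨1, one_ne_zero, h⟩
  have hp₀₂ : pol Q p₀ p₂ = 0 := h3.2 p₀ (Submodule.mem_span_singleton_self p₀)
  refine ⟨((1 - d * t ^ 2) / (1 + d * t ^ 2)) • p₀ + (2 * t / (1 + d * t ^ 2)) • p₂,
    P.add_mem (P.smul_mem _ h0) (P.smul_mem _ h3.1), ?_, ?_⟩
  · rw [q_add hQ, q_smul hQ, q_smul hQ, pol_smul_left hQ, pol_smul_right hQ, hp₀₂, h0q,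
      show Q p₂ = d * κ by rw [hd', div_mul_cancel₀ _ hκ]]
    field_simp
    ring
  · rw [pol_add_left hQ, pol_smul_left hQ, pol_smul_left hQ, pol_smul_right hQ, pol_smul_right hQ, hp₀₂,
      pol_self hQ]
    simp only [mul_zero, zero_add]
    exact mul_ne_zero (div_ne_zero (mul_ne_zero h2 ht0) ht) (mul_ne_zero hc0 (mul_ne_zero h2 h3q))

section Blocks

variable {t k : ℕ} {D : Fin t → Submodule F (ι → F)} (hD : Geo.IsOrthogonalMDecomposition Q k D)
include hD

omit hQ in
theorem block_nondeg (i : Fin t) : Nondeg Q (D i) := fun u hu h => by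
  by_contra hu0
  obtain ⟨x, hx, hxu⟩ := (hD.decomp.nondegenerate i u hu hu0).1
  exact hxu (h x hx)

omit hQ in
theorem block_orth {i j : Fin t} (h : i ≠ j) {u v : ι → F} (hu : u ∈ D i) (hv : v ∈ D j) : pol Q u v = 0 :=
  hD.decomp.orthogonal i j h u hu v hv

theorem block_isCompl (i : Fin t) : IsCompl (D i) (orth hQ (D i)) := by
  refine ⟨Submodule.disjoint_def.2 fun x hx hx' => block_nondeg hD i x hx fun w hw => hx' w hw,
    codisjoint_iff.2 (eq_top_iff.2 fun v _ => ?_)⟩
  obtain ⟨u, hu, h⟩ := exists_proj hQ (block_nondeg hD i) v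
  rw [show v = u + (v - u) by abel]
  exact Submodule.add_mem_sup hu h

theorem eq_zero_of_orth_all {x : ι → F} (h : ∀ i, ∀ u ∈ D i, pol Q u x = 0) : x = 0 := by
  refine nondeg_top hQ x Submodule.mem_top fun w _ => ?_
  have hle : iSup D ≤ LinearMap.ker (formQ hQ x) := iSup_le fun i u hu => h i u hu
  rw [hD.decomp.decomp.iSup_eq_top] at hle
  exact hle Submodule.mem_top

theorem exists_other {v : ι → F} {j : Fin t} (hv : v ∉ D j) : ∃ i ≠ j, ∃ u ∈ D i, pol Q u v ≠ 0 := by
  by_contra h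
  push Not at h
  obtain ⟨a, ha, hb⟩ := exists_proj hQ (block_nondeg hD j) v
  have h0 : v - a = 0 := eq_zero_of_orth_all hQ hD fun i u hu => by
    rcases eq_or_ne i j with rfl | hij
    · exact hb u hu
    · rw [pol_sub_right hQ, h i hij u hu, block_orth hD hij hu ha, sub_zero]
  exact hv (sub_eq_zero.1 h0 ▸ ha)

theorem refl_block {r : GL ι F} {a : ι → F} {j : Fin t} (ha : a ∈ D j) (hr : IsRefl Q r a) (i : Fin t)
    {u : ι → F} (hu : u ∈ D i) : mv r u ∈ D i := by
  rcases eq_or_ne i j with rfl | hij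
  · rw [hr.2]; exact (D i).sub_mem hu ((D i).smul_mem _ ha)
  · rw [isRefl_fix hr (block_orth hD hij hu ha)]; exact hu

theorem mem_decomp_of_maps {g : GL ι F} (h : ∀ i, ∃ j, ∀ u ∈ D i, mv g u ∈ D j) :
    g ∈ Geo.decompositionStabilizer D := by
  choose σ hσ using h
  have hinj : Function.Injective (mvLin g) := fun x y h => mv_inj g (by simpa using h)
  have hmap : ∀ i, (D i).map (mvLin g) = D (σ i) := by
    intro i
    refine Submodule.eq_of_le_of_finrank_eq ?_ ?_
    · rintro _ ⟨u, hu, rfl⟩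
      simpa using hσ i u hu
    · rw [← LinearEquiv.finrank_eq (Submodule.equivMapOfInjective (mvLin g) hinj (D i)),
        hD.decomp.decomp.finrank_eq, hD.decomp.decomp.finrank_eq]
  have hσi : Function.Injective σ := by
    intro i j hij
    by_contra hne
    have heq : D i = D j := Submodule.map_injective_of_injective hinj (by rw [hmap, hmap, hij])
    obtain ⟨u, hu, hu0⟩ := (D i).ne_bot_iff.1 fun h => by
      have := hD.decomp.decomp.finrank_eq i
      rw [h, finrank_bot] at this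
      exact hD.decomp.decomp.pos.ne' this.symm
    exact hu0 (block_nondeg hD i u hu fun w hw => block_orth hD (Ne.symm hne) (heq ▸ hw) hu)
  exact ⟨Equiv.ofBijective σ (Finite.injective_iff_bijective.1 hσi), fun i => hmap i⟩

/-- An element interchanging two blocks and fixing the others. -/
theorem exists_block_swap {i l : Fin t} (hil : i ≠ l) :
    ∃ (g : GL ι F) (e : D i ≃ₗ[F] D l), g ∈ isometryGroup F Q ∧ (∀ x : D i, mv g x = e x) ∧
      (∀ x : D l, mv g x = e.symm x) ∧
      ∀ z, (∀ u ∈ D i, pol Q u z = 0) → (∀ u ∈ D l, pol Q u z = 0) → mv g z = z := by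
  obtain ⟨e, he⟩ := hD.isometric i l
  let Pi' := (D i).projectionOnto _ (block_isCompl hQ hD i)
  let Pl := (D l).projectionOnto _ (block_isCompl hQ hD l)
  let T : (ι → F) →ₗ[F] (ι → F) :=
    LinearMap.id - (D i).subtype.comp Pi' - (D l).subtype.comp Pl + (D l).subtype.comp (e.toLinearMap.comp Pi') +
      (D i).subtype.comp (e.symm.toLinearMap.comp Pl)
  have hT : ∀ z, T z = z - (Pi' z : ι → F) - (Pl z : ι → F) + (e (Pi' z) : ι → F) + (e.symm (Pl z) : ι → F) :=
    fun z => rfl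
  have zi : ∀ z, (∀ u ∈ D i, pol Q u z = 0) → Pi' z = 0 := fun z hz =>
    Submodule.projectionOnto_apply_right (block_isCompl hQ hD i) ⟨z, hz⟩
  have zl : ∀ z, (∀ u ∈ D l, pol Q u z = 0) → Pl z = 0 := fun z hz =>
    Submodule.projectionOnto_apply_right (block_isCompl hQ hD l) ⟨z, hz⟩
  have Ti : ∀ x : D i, T x = e x := fun x => by
    rw [hT, zl _ fun u hu => block_orth hD hil.symm hu x.2,
      show Pi' (x : ι → F) = x from Submodule.projectionOnto_apply_left _ x]
    simp
  have Tl : ∀ x : D l, T x = e.symm x := fun x => by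
    rw [hT, zi _ fun u hu => block_orth hD hil hu x.2,
      show Pl (x : ι → F) = x from Submodule.projectionOnto_apply_left _ x]
    simp
  have Tf : ∀ z, (∀ u ∈ D i, pol Q u z = 0) → (∀ u ∈ D l, pol Q u z = 0) → T z = z := fun z h1 h2 => by
    rw [hT, zi z h1, zl z h2]; simp
  have hdec : ∀ z, ∃ (a : D i) (b : D l) (r : ι → F), (∀ u ∈ D i, pol Q u r = 0) ∧ (∀ u ∈ D l, pol Q u r = 0) ∧
      z = (a : ι → F) + (b : ι → F) + r := fun z => by
    obtain ⟨a, ha, hza⟩ := exists_proj hQ (block_nondeg hD i) z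
    obtain ⟨b, hb, hzb⟩ := exists_proj hQ (block_nondeg hD l) z
    refine ⟨⟨a, ha⟩, ⟨b, hb⟩, z - a - b, fun u hu => ?_, fun u hu => ?_, by simp⟩
    · rw [pol_sub_right hQ, hza u hu, block_orth hD hil hu hb, sub_zero]
    · rw [show z - a - b = z - b - a by abel, pol_sub_right hQ, hzb u hu, block_orth hD hil.symm hu ha, sub_zero]
  have hTT : ∀ z, T (T z) = z := fun z => by
    obtain ⟨a, b, r, h1, h2, rfl⟩ := hdec z
    simp only [map_add, Ti, Tl, Tf r h1 h2, LinearEquiv.symm_apply_apply, LinearEquiv.apply_symm_apply]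
  let g : GL ι F :=
    { val := LinearMap.toMatrix' T
      inv := LinearMap.toMatrix' T
      val_inv := by
        rw [← LinearMap.toMatrix'_comp, show T.comp T = LinearMap.id from LinearMap.ext hTT]
        exact LinearMap.toMatrix'_id
      inv_val := by
        rw [← LinearMap.toMatrix'_comp, show T.comp T = LinearMap.id from LinearMap.ext hTT]
        exact LinearMap.toMatrix'_id }
  have hg : ∀ z, mv g z = T z := fun z => LinearMap.toMatrix'_mulVec T z
  refine ⟨g, e, mem_isometry.2 fun z => ?_, fun x => (hg _).trans (Ti x), fun x => (hg _).trans (Tl x),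
    fun z h1 h2 => (hg z).trans (Tf z h1 h2)⟩
  obtain ⟨a, b, r, h1, h2, rfl⟩ := hdec z
  rw [hg, map_add, map_add, Ti, Tl, Tf r h1 h2]
  have e2 : Q (e.symm b : ι → F) = Q (b : ι → F) := by
    have := he (e.symm b); rw [e.apply_symm_apply] at this; exact this.symm
  rw [q_add hQ, q_add hQ, q_add hQ, q_add hQ, he, e2, pol_add_left hQ, pol_add_left hQ,
    block_orth hD hil.symm (e a).2 (e.symm b).2, block_orth hD hil a.2 b.2, h1 _ a.2, h2 _ b.2,
    h1 _ (e.symm b).2, h2 _ (e a).2]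

end Blocks

end Cfsg.Agent.Transvec.Orth
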