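import Cfsg.Agent.Lib.Transvec.Quad
import Cfsg.Prelude.Def_SporadicB

/-!
Orthogonal groups over the field of two elements in dimension at least five: the transvections form a
generating class of 3-transpositions.
-/

set_option autoImplicit false

namespace Cfsg.Agent.Transvec.OrthTwo

open scoped Matrix
open Matrix Cfsg.Agent.Transvec Cfsg.Agent.Transvec.Orth

variable {ι : Type} [Fintype ι] [DecidableEq ι] {Q : (ι → ZMod 2) → ZMod 2}

theorem zmod2 : ∀ c : ZMod 2, c = 0 ∨ c = 1 := by decide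

theorem add_self_vec (v : ι → ZMod 2) : v + v = 0 := funext fun _ => CharTwo.add_self_eq_zero _

variable (hQ : Geo.IsNondegenerateQuadraticForm Q)
include hQ

theorem pol_self_two (a : ι → ZMod 2) : pol Q a a = 0 := by
  rw [pol_self hQ, show (2 : ZMod 2) = 0 from rfl, zero_mul]

/-- The transvection with a given centre. -/
noncomputable def refl (a : ι → ZMod 2) : GL ι (ZMod 2) := tv a (formQ hQ a) (pol_self_two hQ a)

theorem mv_refl (a z : ι → ZMod 2) : mv (refl hQ a) z = z + pol Q z a • a := mv_tv _ z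

theorem refl_mem {a : ι → ZMod 2} (ha : Q a = 1) : refl hQ a ∈ isometryGroup (ZMod 2) Q :=
  mem_isometry.2 fun z => by
    rw [mv_refl]
    rcases zmod2 (pol Q z a) with h | h
    · rw [h, zero_smul, add_zero]
    · rw [h, one_smul, q_add hQ, ha, h, add_assoc, CharTwo.add_self_eq_zero, add_zero]

theorem refl_mul_self (a : ι → ZMod 2) : refl hQ a * refl hQ a = 1 := ext_mv fun z => by
  rw [mv_mul, mv_one, mv_refl, mv_refl, pol_add_left hQ, pol_smul_left hQ, pol_self_two hQ, mul_zero, add_zero,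
    add_assoc, add_self_vec, add_zero]

theorem refl_conj {g : GL ι (ZMod 2)} (hg : g ∈ isometryGroup (ZMod 2) Q) (a : ι → ZMod 2) :
    g * refl hQ a * g⁻¹ = refl hQ (mv g a) :=
  tv_conj _ g _ rfl fun x => by rw [formQ_apply, formQ_apply, pol_mv hQ hg]

/-- The subgroup generated by the transvections. -/
noncomputable def reflGroup : Subgroup (GL ι (ZMod 2)) :=
  Subgroup.closure {g | ∃ a, Q a = 1 ∧ g = refl hQ a}

theorem refl_mem_group {a : ι → ZMod 2} (ha : Q a = 1) : refl hQ a ∈ reflGroup hQ :=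
  Subgroup.subset_closure ⟨a, ha, rfl⟩

theorem two_codim (u y : ι → ZMod 2) (hcard : 5 ≤ Fintype.card ι) :
    ∃ L : Submodule (ZMod 2) (ι → ZMod 2), (∀ z ∈ L, pol Q z u = 0 ∧ pol Q z y = 0) ∧
      ¬ ∀ a ∈ L, ∀ b ∈ L, pol Q a b = 0 := by
  let Φ : (ι → ZMod 2) →ₗ[ZMod 2] ZMod 2 × ZMod 2 := (formQ hQ u).prod (formQ hQ y)
  refine ⟨LinearMap.ker Φ, fun z hz => ?_, fun h => ?_⟩
  · have := LinearMap.mem_ker.1 hz
    exact ⟨congrArg Prod.fst this, congrArg Prod.snd this⟩
  · have h1 := finrank_totally_orth_le hQ (nondeg_top hQ) le_top h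
    have h2 := LinearMap.finrank_range_add_finrank_ker Φ
    have h3 := Submodule.finrank_le (LinearMap.range Φ)
    rw [Module.finrank_prod, Module.finrank_self] at h3
    rw [finrank_top] at h1
    rw [Module.finrank_fintype_fun_eq_card] at h1 h2
    omega

theorem exists_orth_one (u y : ι → ZMod 2) (hcard : 5 ≤ Fintype.card ι) :
    ∃ c, Q c = 1 ∧ pol Q c u = 0 ∧ pol Q c y = 0 := by
  obtain ⟨L, hL, hnot⟩ := two_codim hQ u y hcard
  by_contra hc
  push Not at hc
  have h0 : ∀ z ∈ L, Q z = 0 := fun z hz =>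
    (zmod2 (Q z)).resolve_right fun h => hc z h (hL z hz).1 (hL z hz).2
  refine hnot fun a ha b hb => ?_
  have := q_add hQ a b
  rw [h0 a ha, h0 b hb, h0 _ (L.add_mem ha hb)] at this
  simpa using this.symm

theorem siegel_single {u y : ι → ZMod 2} (hu : Q u = 0) (hy : Q y = 1) (huy : pol Q u y = 0) :
    ∃ E ∈ reflGroup hQ, ∀ z, mv E z = z + pol Q z u • y + (pol Q z y + pol Q z u) • u := by
  refine ⟨refl hQ y * refl hQ (y + u), mul_mem (refl_mem_group hQ hy) (refl_mem_group hQ ?_), fun z => ?_⟩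
  · rw [q_add hQ, hy, hu, pol_comm (Q := Q), huy]; rfl
  · rw [mv_mul, mv_refl, mv_refl, pol_add_left hQ, pol_smul_left hQ, pol_add_left hQ, pol_self_two hQ, huy,
      zero_add, mul_zero, add_zero, pol_add_right hQ]
    rw [show (pol Q z y + pol Q z u) • (y + u)
      = (pol Q z y + pol Q z u) • y + (pol Q z y + pol Q z u) • u from smul_add _ _ _, add_smul (r := pol Q z y)]
    have e := add_self_vec (pol Q z y • y)
    linear_combination (norm := module) e

theorem siegel_mem {u y : ι → ZMod 2} (hu : Q u = 0) (hy : Q y = 0) (huy : pol Q u y = 0)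
    (hcard : 5 ≤ Fintype.card ι) : ∃ E ∈ reflGroup hQ, ∀ z, mv E z = z + pol Q z u • y + pol Q z y • u := by
  obtain ⟨c, hc, hcu, hcy⟩ := exists_orth_one hQ u y hcard
  have huc : pol Q u c = 0 := by rw [pol_comm (Q := Q), hcu]
  obtain ⟨E1, hE1, e1⟩ := siegel_single hQ hu hc huc
  obtain ⟨E2, hE2, e2⟩ := siegel_single hQ (y := y + c) hu
    (by rw [q_add hQ, hy, hc, pol_comm (Q := Q), hcy]; rfl) (by rw [pol_add_right hQ, huy, huc, add_zero])
  refine ⟨E2 * E1, mul_mem hE2 hE1, fun z => ?_⟩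
  rw [mv_mul, e2, e1]
  simp only [pol_add_left hQ, pol_smul_left hQ, pol_add_right hQ, pol_self_two hQ, hcu, hcy, huy, huc,
    mul_zero, add_zero]
  have e := add_self_vec (pol Q z u • c + (pol Q z c + pol Q z u) • u)
  linear_combination (norm := module) e

theorem sub_eq_add_two (a b : ι → ZMod 2) : a - b = a + b := by
  funext i; simp [CharTwo.sub_eq_add]

theorem isometry_le_reflGroup (hcard : 5 ≤ Fintype.card ι) {g : GL ι (ZMod 2)}
    (hg : g ∈ isometryGroup (ZMod 2) Q) : g ∈ reflGroup hQ := by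
  classical
  have hle : reflGroup hQ ≤ isometryGroup (ZMod 2) Q :=
    (Subgroup.closure_le _).2 (by rintro _ ⟨a, ha, rfl⟩; exact refl_mem hQ ha)
  suffices ∀ n, ∀ g ∈ isometryGroup (ZMod 2) Q, (Finset.univ.filter fun z => mv g z ≠ z).card ≤ n →
      g ∈ reflGroup hQ from this _ g hg le_rfl
  intro n
  induction n with
  | zero =>
    intro g _ hn
    have : g = 1 := ext_mv fun z => by
      rw [mv_one]
      by_contra h
      have := Finset.card_pos (s := Finset.univ.filter fun z => mv g z ≠ z) |>.2 ⟨z, Finset.mem_filter.2 ⟨Finset.mem_univ z, h⟩⟩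
      omega
    rw [this]; exact one_mem _
  | succ n ih =>
    intro g hg hn
    have next' : ∀ r ∈ reflGroup hQ, (∀ z, mv g z = z → mv r z = z) → ∀ x, mv g x ≠ x → mv (r * g) x = x →
        g ∈ reflGroup hQ := fun r hr hfix x hx hrx => by
      have hmem := ih (r * g) (mul_mem (hle hr) hg) ?_
      · have := mul_mem (inv_mem hr) hmem
        rwa [inv_mul_cancel_left] at this
      · refine Nat.le_of_lt_succ (lt_of_lt_of_le (Finset.card_lt_card ?_) hn)
        refine Finset.ssubset_iff_of_subset (fun z hz => ?_) |>.2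
          ⟨x, Finset.mem_filter.2 ⟨Finset.mem_univ x, hx⟩, fun h => (Finset.mem_filter.1 h).2 hrx⟩
        refine Finset.mem_filter.2 ⟨Finset.mem_univ z, fun e => (Finset.mem_filter.1 hz).2 ?_⟩
        rw [mv_mul, e, hfix z e]
    by_cases hall : ∀ z, mv g z = z
    · have : g = 1 := ext_mv fun z => by rw [mv_one, hall z]
      rw [this]; exact one_mem _
    push Not at hall
    obtain ⟨x, hx⟩ := hall
    by_cases hA : ∃ x, pol Q x (mv g x) = 1
    · obtain ⟨x, hx1⟩ := hA
      have hne : mv g x ≠ x := fun e => by rw [e, pol_self_two hQ] at hx1; exact zero_ne_one hx1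
      set a := mv g x + x with ha
      have hQa : Q a = 1 := by
        rw [ha, q_add hQ, mem_isometry.1 hg, pol_comm (Q := Q), hx1, CharTwo.add_self_eq_zero, zero_add]
      refine next' (refl hQ a) (refl_mem_group hQ hQa) (fun z hz => ?_) x hne ?_
      · rw [mv_refl, ha, pol_add_right hQ]
        conv_lhs => rw [← hz, pol_mv hQ hg]
        rw [hz, CharTwo.add_self_eq_zero, zero_smul, add_zero]
      · rw [mv_mul, mv_refl, ha, pol_add_right hQ, pol_self_two hQ, zero_add, pol_comm (Q := Q), hx1, one_smul,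
          ← add_assoc, add_self_vec, zero_add]
    · push Not at hA
      have hA0 : ∀ x, pol Q x (mv g x) = 0 := fun x => (zmod2 _).resolve_right (hA x)
      have hsing : ∀ z, Q (mv g z + z) = 0 := fun z => by
        rw [q_add hQ, mem_isometry.1 hg, pol_comm (Q := Q), hA0, add_zero, CharTwo.add_self_eq_zero]
      set u := mv g x + x with hu
      have hu0 : u ≠ 0 := fun e => hx (by
        have := congrArg (fun w => w + x) e
        simpa [hu, add_assoc, add_self_vec] using this)
      obtain ⟨x', hx'⟩ : ∃ x', pol Q x (mv g x' + x') = 1 := by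
        by_contra h
        push Not at h
        refine hu0 (nondeg_top hQ u trivial fun w _ => ?_)
        obtain ⟨z, rfl⟩ : ∃ z, w = mv g z := ⟨mv g⁻¹ w, (mv_mv_inv g w).symm⟩
        have h0 := (zmod2 _).resolve_right (h z)
        rw [hu, pol_add_right hQ, pol_mv hQ hg]
        rw [pol_add_right hQ] at h0
        rw [pol_comm (Q := Q) z x, pol_comm (Q := Q) (mv g z) x, add_comm]
        exact h0
      set y := mv g x' + x' with hy
      have huy : pol Q u y = 0 := by
        have h := q_add hQ u y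
        rw [hsing x, hsing x', show u + y = mv g (x + x') + (x + x') by rw [hu, hy, mv_add]; abel, hsing,
          zero_add, zero_add] at h
        exact h.symm
      obtain ⟨E, hE, hEz⟩ := siegel_mem hQ (u := u) (y := y) (hsing x) (hsing x') huy hcard
      refine next' E hE (fun z hz => ?_) x hx ?_
      · have hzw : ∀ w, pol Q z (mv g w + w) = 0 := fun w => by
          rw [pol_add_right hQ]
          conv_lhs => arg 1; rw [← hz, pol_mv hQ hg]
          exact CharTwo.add_self_eq_zero _
        rw [hEz, hu, hy, hzw, hzw]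
        simp
      · rw [mv_mul, hEz]
        have h1 : pol Q (mv g x) u = 0 := by
          rw [hu, pol_add_right hQ, pol_self_two hQ, pol_comm (Q := Q), hA0, add_zero]
        have h2 : pol Q (mv g x) y = 1 := by
          rw [show mv g x = u + x by rw [hu, add_assoc, add_self_vec, add_zero], pol_add_left hQ, huy, hy, hx',
            zero_add]
        rw [h1, h2, zero_smul, add_zero, one_smul, hu, ← add_assoc, add_self_vec, zero_add]

theorem exists_map {v v' : ι → ZMod 2} (hcard : 5 ≤ Fintype.card ι) (hv : Q v = 1) (hv' : Q v' = 1) :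
    ∃ g ∈ isometryGroup (ZMod 2) Q, mv g v = v' := by
  have step : ∀ v v' : ι → ZMod 2, Q v = 1 → Q v' = 1 → pol Q v v' = 1 →
      ∃ g ∈ isometryGroup (ZMod 2) Q, mv g v = v' := fun v v' hv hv' h => by
    refine ⟨refl hQ (v + v'), refl_mem hQ (by rw [q_add hQ, hv, hv', h]; rfl), ?_⟩
    rw [mv_refl, pol_add_right hQ, pol_self_two hQ, zero_add, h, one_smul, ← add_assoc, add_self_vec, zero_add]
  rcases eq_or_ne v v' with rfl | hne
  · exact ⟨1, one_mem _, mv_one v⟩
  rcases zmod2 (pol Q v v') with h | h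
  swap
  · exact step v v' hv hv' h
  obtain ⟨w0, hw0, hw0'⟩ : ∃ w, pol Q w v = 1 ∧ pol Q w v' = 1 := by
    have ex : ∀ a : ι → ZMod 2, Q a = 1 → ∃ z, pol Q z a = 1 := fun a ha => by
      by_contra hh
      push Not at hh
      have := nondeg_top hQ a trivial fun w _ => (zmod2 _).resolve_right (hh w)
      rw [this, q_zero hQ] at ha
      exact zero_ne_one ha
    obtain ⟨z1, h1⟩ := ex v hv
    obtain ⟨z2, h2⟩ := ex v' hv'
    rcases zmod2 (pol Q z1 v') with a | a
    · rcases zmod2 (pol Q z2 v) with b | b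
      · exact ⟨z1 + z2, by rw [pol_add_left hQ, h1, b, add_zero], by rw [pol_add_left hQ, a, h2, zero_add]⟩
      · exact ⟨z2, b, h2⟩
    · exact ⟨z1, h1, a⟩
  obtain ⟨w, hw, hw'⟩ : ∃ w, (pol Q w v = 1 ∧ pol Q w v' = 1) ∧ Q w = 1 := by
    rcases zmod2 (Q w0) with hq | hq
    swap
    · exact ⟨w0, ⟨hw0, hw0'⟩, hq⟩
    obtain ⟨L, hL, hnot⟩ := two_codim hQ v v' hcard
    by_contra hc
    push Not at hc
    have hlin : ∀ z ∈ L, Q z = pol Q w0 z := fun z hz => by
      have := (zmod2 _).resolve_right (hc (w0 + z) ⟨by rw [pol_add_left hQ, hw0, (hL z hz).1, add_zero],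
        by rw [pol_add_left hQ, hw0', (hL z hz).2, add_zero]⟩)
      rw [q_add hQ, hq, zero_add] at this
      exact CharTwo.add_eq_zero.1 this
    refine hnot fun a ha b hb => ?_
    have := q_add hQ a b
    rw [hlin a ha, hlin b hb, hlin _ (L.add_mem ha hb), pol_add_right hQ] at this
    simpa using this.symm
  obtain ⟨g, hg, hgv⟩ := step v w hv hw' (by rw [pol_comm (Q := Q)]; exact hw.1)
  obtain ⟨k, hk, hkw⟩ := step w v' hw' hv' hw.2
  exact ⟨k * g, mul_mem hk hg, by rw [mv_mul, hgv, hkw]⟩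

theorem exists_pol_one {a : ι → ZMod 2} (ha : Q a = 1) : ∃ z, pol Q z a = 1 := by
  by_contra hh
  push Not at hh
  have := nondeg_top hQ a trivial fun w _ => (zmod2 _).resolve_right (hh w)
  rw [this, q_zero hQ] at ha
  exact zero_ne_one ha

theorem rank_refl {g : GL ι (ZMod 2)} (hg : g ∈ isometryGroup (ZMod 2) Q) :
    ((g : Matrix ι ι (ZMod 2)) - 1).rank = 1 ↔ ∃ a, Q a = 1 ∧ g = refl hQ a := by
  have hd : ∀ z, ((g : Matrix ι ι (ZMod 2)) - 1).mulVecLin z = mv g z + z := fun z => by
    rw [Matrix.mulVecLin_apply, Matrix.sub_mulVec, Matrix.one_mulVec, sub_eq_add_two hQ]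
  constructor
  · intro h
    rw [Matrix.rank] at h
    obtain ⟨⟨a, ha⟩, ha0, hspan⟩ := finrank_eq_one_iff'.1 h
    have ha0' : a ≠ 0 := fun e => ha0 (Subtype.ext e)
    have hrange : ∀ z, mv g z + z = 0 ∨ mv g z + z = a := fun z => by
      obtain ⟨c, hc⟩ := hspan ⟨_, LinearMap.mem_range_self _ z⟩
      have hc' : c • a = mv g z + z := (congrArg Subtype.val hc).trans (hd z)
      rcases zmod2 c with rfl | rfl
      · exact Or.inl (by rw [← hc', zero_smul])
      · exact Or.inr (by rw [← hc', one_smul])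
    have hmoved : ∀ z, mv g z + z = a → pol Q z a = Q a := fun z hz => by
      have e := mem_isometry.1 hg z
      rw [show mv g z = z + a by rw [← hz, add_comm, add_assoc, add_self_vec, add_zero], q_add hQ] at e
      have : Q a + pol Q z a = 0 := by linear_combination e
      exact (CharTwo.add_eq_zero.1 this).symm
    obtain ⟨x, hx⟩ : ∃ x, mv g x + x = a := by
      obtain ⟨x, hx⟩ := ha
      exact ⟨x, (hd x).symm.trans hx⟩
    have hfixed : ∀ z, mv g z + z = 0 → pol Q z a = 0 := fun z hz => by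
      have h1 := hmoved (z + x) (by rw [mv_add, add_add_add_comm, hz, hx, zero_add])
      rw [pol_add_left hQ, hmoved x hx] at h1
      simpa using h1
    have hQa : Q a = 1 := by
      refine (zmod2 _).resolve_left fun h0 => ha0' (nondeg_top hQ a trivial fun w _ => ?_)
      rcases hrange w with r | r
      · exact hfixed w r
      · rw [hmoved w r, h0]
    refine ⟨a, hQa, ext_mv fun z => ?_⟩
    rw [mv_refl]
    have hz : mv g z = z + (mv g z + z) := by rw [add_comm (mv g z), ← add_assoc, add_self_vec, zero_add]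
    rcases hrange z with r | r
    · rw [hfixed z r, zero_smul, hz, r]
    · rw [hmoved z r, hQa, one_smul, hz, r]
  · rintro ⟨a, ha, rfl⟩
    rw [Matrix.rank]
    have e : LinearMap.range ((refl hQ a : Matrix ι ι (ZMod 2)) - 1).mulVecLin = Submodule.span (ZMod 2) {a} := by
      refine le_antisymm ?_ ((Submodule.span_singleton_le_iff_mem _ _).2 ?_)
      · rintro _ ⟨z, rfl⟩
        rw [hd, mv_refl, add_comm, ← add_assoc, add_self_vec, zero_add]
        exact Submodule.smul_mem _ _ (Submodule.mem_span_singleton_self a)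
      · obtain ⟨z, hz⟩ := exists_pol_one hQ ha
        exact ⟨z, by rw [hd, mv_refl, hz, one_smul, add_comm, ← add_assoc, add_self_vec, zero_add]⟩
    rw [e, finrank_span_singleton]
    intro h
    rw [h, q_zero hQ] at ha
    exact zero_ne_one ha

theorem three_transpositions (hcard : 5 ≤ Fintype.card ι) :
    IsThreeTranspositionClass {g : ↥(isometryGroup (ZMod 2) Q) |
      (((g : GL ι (ZMod 2)) : Matrix ι ι (ZMod 2)) - 1).rank = 1} := by
  set D := {g : ↥(isometryGroup (ZMod 2) Q) | (((g : GL ι (ZMod 2)) : Matrix ι ι (ZMod 2)) - 1).rank = 1}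
  have hD : ∀ g : ↥(isometryGroup (ZMod 2) Q), g ∈ D ↔ ∃ a, Q a = 1 ∧ (g : GL ι (ZMod 2)) = refl hQ a :=
    fun g => rank_refl hQ g.2
  refine ⟨⟨fun d hd => ?_, fun d hd e he => ?_⟩, ?_, ?_⟩
  · obtain ⟨a, ha, hda⟩ := (hD d).1 hd
    refine orderOf_eq_prime (Subtype.ext ?_) fun h1 => ?_
    · rw [pow_two, Subgroup.coe_mul, hda, refl_mul_self hQ]; rfl
    · obtain ⟨z, hz⟩ := exists_pol_one hQ ha
      have := congrArg (fun g : ↥(isometryGroup (ZMod 2) Q) => mv (g : GL ι (ZMod 2)) z) h1
      simp only [hda, mv_refl, hz, one_smul, OneMemClass.coe_one, mv_one, add_eq_left] at this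
      rw [this, q_zero hQ] at ha
      exact zero_ne_one ha
  · obtain ⟨a, ha, hda⟩ := (hD d).1 hd
    obtain ⟨b, hb, heb⟩ := (hD e).1 he
    have hinv : ∀ c, (refl hQ c)⁻¹ = refl hQ c := fun c => inv_eq_of_mul_eq_one_right (refl_mul_self hQ c)
    have hc : ∀ a b, Q a = 1 → refl hQ a * refl hQ b * refl hQ a = refl hQ (b + pol Q b a • a) := fun a b ha => by
      conv_lhs => arg 2; rw [← hinv a]
      rw [refl_conj hQ (refl_mem hQ ha), mv_refl]
    rcases zmod2 (pol Q b a) with h | h
    · left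
      refine Subtype.ext ?_
      rw [SubmonoidClass.coe_pow, Subgroup.coe_mul, hda, heb, pow_two, ← mul_assoc, hc a b ha, h, zero_smul,
        add_zero, refl_mul_self hQ]
      rfl
    · right
      refine Subtype.ext ?_
      rw [SubmonoidClass.coe_pow, Subgroup.coe_mul, hda, heb,
        show (refl hQ a * refl hQ b) ^ 3
          = (refl hQ a * refl hQ b * refl hQ a) * (refl hQ b * refl hQ a * refl hQ b) by
            simp only [pow_succ, pow_zero, one_mul, mul_assoc],
        hc a b ha, hc b a hb, h, pol_comm (Q := Q) a b, h, one_smul, one_smul, add_comm b a, refl_mul_self hQ]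
      rfl
  · have hne : ∃ a, Q a = 1 := by
      obtain ⟨c, hc, -, -⟩ := exists_orth_one hQ 0 0 hcard
      exact ⟨c, hc⟩
    obtain ⟨a, ha⟩ := hne
    refine ⟨⟨refl hQ a, refl_mem hQ ha⟩, (hD _).2 ⟨a, ha, rfl⟩, ?_⟩
    ext g
    rw [hD, conjugatesOf, Set.mem_setOf_eq, isConj_iff]
    constructor
    · rintro ⟨b, hb, hg⟩
      obtain ⟨k, hk, hkab⟩ := exists_map hQ hcard ha hb
      exact ⟨⟨k, hk⟩, Subtype.ext (by
        show k * refl hQ a * k⁻¹ = _
        rw [refl_conj hQ hk, hkab, hg])⟩
    · rintro ⟨k, hk⟩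
      refine ⟨mv (k : GL ι (ZMod 2)) a, by rw [mem_isometry.1 k.2]; exact ha, ?_⟩
      rw [← hk, ← refl_conj hQ k.2]
      rfl
  · rw [eq_top_iff]
    intro g _
    have hg := isometry_le_reflGroup hQ hcard g.2
    have hmap : reflGroup hQ ≤ (Subgroup.closure D).map (isometryGroup (ZMod 2) Q).subtype :=
      (Subgroup.closure_le _).2 fun x ⟨a, ha, hx⟩ =>
        ⟨⟨refl hQ a, refl_mem hQ ha⟩, Subgroup.subset_closure ((hD _).2 ⟨a, ha, rfl⟩), hx.symm⟩
    obtain ⟨k, hk, e⟩ := hmap hg
    rwa [← Subtype.ext (show (k : GL ι (ZMod 2)) = g from e)]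

end Cfsg.Agent.Transvec.OrthTwo
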