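/-
Tools for orthogonal decompositions of a hermitian space into non-degenerate subspaces of equal dimension:
block components, orthonormal bases, transpositions of blocks inside the special unitary group.
-/
import Cfsg.Agent.Lib.Transvec.HermStab
set_option autoImplicit false

namespace Cfsg.Agent.Transvec.Herm

open scoped Matrix
open Matrix Cfsg.Agent.Transvec

variable {ι : Type} [Fintype ι] [DecidableEq ι] {F : Type*} [Field F]
variable {σ : F ≃+* F} {f : (ι → F) → (ι → F) → F} (hf : Geo.IsUnitaryForm σ f)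
include hf

theorem sum_left {κ : Type*} (s : Finset κ) (x : κ → ι → F) (v : ι → F) :
    f (∑ i ∈ s, x i) v = ∑ i ∈ s, f (x i) v :=
  map_sum (formH hf v) x s

theorem sum_right {κ : Type*} (s : Finset κ) (x : κ → ι → F) (v : ι → F) :
    f v (∑ i ∈ s, x i) = ∑ i ∈ s, f v (x i) := by
  rw [hf.herm, sum_left hf, map_sum]
  exact Finset.sum_congr rfl fun i _ => (hf.herm _ _).symm

theorem nondeg_of_isNondegenerateOn {W : Submodule F (ι → F)} (hW : Geo.IsNondegenerateOn f W) :
    Nondeg hf W :=
  (nondeg_iff hf).2 fun u hu h => by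
    by_contra hu0
    obtain ⟨x, hx, hxu⟩ := (hW u hu hu0).1
    exact hxu (h x hx)

/-- Exchange of two orthogonal unit vectors, compensated at a third anisotropic vector. -/
theorem exists_transposition [Finite F] {u v w : ι → F} (huu : f u u = 1) (hvv : f v v = 1) (huv : f u v = 0)
    (hwu : f w u = 0) (hwv : f w v = 0) (hw : f w w ≠ 0) :
    ∃ g ∈ preserving (Units.coeHom (Matrix ι ι F)) f ⊓ Geo.specialLinear ι F, ∃ β : F,
      ∀ z, mv g z = z - f z (u - v) • (u - v) + (β * f z w) • w := by
  have hrr : f (u - v) (u - v) = 2 := by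
    rw [sub_left hf, sub_right hf, sub_right hf, huu, hvv, huv, (f_eq_zero_comm hf).1 huv]; ring
  by_cases h2 : (2 : F) = 0
  · refine ⟨htv hf (u - v) (hrr.trans h2) (-1), ⟨htv_mem hf _ _ ?_, htv_mem_specialLinear hf _ _ _⟩, 0, fun z => ?_⟩
    · rw [map_neg, map_one]; linear_combination -h2
    · rw [mv_htv]; module
  · have hm : (-1 : F) * σ (-1) = 1 := by rw [map_neg, map_one]; ring
    obtain ⟨g, hg, hgz⟩ := exists_double_refl hf (w := u - v) (w' := w) (hrr ▸ h2) hw
      (by rw [sub_left hf, (f_eq_zero_comm hf).1 hwu, (f_eq_zero_comm hf).1 hwv, sub_zero]) hm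
    refine ⟨g, hg, (σ (-1) - 1) / f w w, fun z => ?_⟩
    rw [hgz, hrr, show ((-1 : F) - 1) / 2 = -1 by field_simp; ring]
    module

/-- An orthonormal basis of a non-degenerate subspace. -/
theorem exists_orthonormal [Finite F] : ∀ (k : ℕ) {X : Submodule F (ι → F)}, Nondeg hf X →
    Module.finrank F X = k → ∃ e : Fin k → ι → F, (∀ i, e i ∈ X) ∧
      (∀ i j, f (e i) (e j) = if i = j then 1 else 0) ∧ ∀ x ∈ X, x = ∑ i, f x (e i) • e i := by
  intro k
  induction k with
  | zero =>
    intro X _ h0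
    refine ⟨fun i => i.elim0, fun i => i.elim0, fun i => i.elim0, fun x hx => ?_⟩
    rw [Submodule.finrank_eq_zero.1 h0, Submodule.mem_bot] at hx
    simp [hx]
  | succ k ih =>
    intro X hX hk
    obtain ⟨v, hv, hvv⟩ := exists_anisotropic hf hX (fun h => by rw [h, finrank_bot] at hk; omega)
    obtain ⟨a, ha⟩ := exists_norm hf.ne_refl hf.involutive (f v v)⁻¹ (by rw [map_inv₀, self_fixed hf])
    have huu : f (a • v) (a • v) = 1 := by
      rw [hf.smul_left, smul_right hf, ← mul_assoc, ha, inv_mul_cancel₀ hvv]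
    have hu0 : f (a • v) (a • v) ≠ 0 := by rw [huu]; exact one_ne_zero
    have hle : Submodule.span F {a • v} ≤ X := by
      rw [Submodule.span_singleton_le_iff_mem]; exact X.smul_mem a hv
    have hdim := finrank_inf_orth_add hf (nondeg_span_single hf hu0) hle
    rw [finrank_span_single hf hu0, hk] at hdim
    obtain ⟨e, heX, hee, hex⟩ := ih (nondeg_inf_orth hf (nondeg_span_single hf hu0) hX hle) (by omega)
    have hue : ∀ i, f (a • v) (e i) = 0 := fun i => (orth_span_single_mem hf).1 (heX i).2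
    have heu : ∀ i, f (e i) (a • v) = 0 := fun i => (f_eq_zero_comm hf).1 (hue i)
    refine ⟨Fin.cons (a • v) e, fun i => ?_, fun i j => ?_, fun x hx => ?_⟩
    · refine Fin.cases ?_ (fun j => ?_) i
      · rw [Fin.cons_zero]; exact X.smul_mem a hv
      · rw [Fin.cons_succ]; exact (heX j).1
    · refine Fin.cases ?_ (fun i => ?_) i <;> refine Fin.cases ?_ (fun j => ?_) j
      · rw [Fin.cons_zero, huu, if_pos rfl]
      · rw [Fin.cons_zero, Fin.cons_succ, hue, if_neg (Fin.succ_ne_zero j).symm]
      · rw [Fin.cons_succ, Fin.cons_zero, heu, if_neg (Fin.succ_ne_zero i)]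
      · simp only [Fin.cons_succ, hee, Fin.succ_inj]
    · rw [Fin.sum_univ_succ]
      simp only [Fin.cons_zero, Fin.cons_succ]
      have hmem : x - f x (a • v) • (a • v) ∈ X ⊓ orth hf (Submodule.span F {a • v}) :=
        ⟨X.sub_mem hx (X.smul_mem _ (X.smul_mem a hv)), (orth_span_single_mem hf).2 (by
          rw [sub_right hf, smul_right hf, huu, mul_one, ← hf.herm, sub_self])⟩
      have h1 := hex _ hmem
      rw [sub_eq_iff_eq_add'] at h1
      conv_lhs => rw [h1]
      congr 1
      refine Finset.sum_congr rfl fun i _ => ?_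
      rw [sub_left hf, hf.smul_left, hue, mul_zero, sub_zero]

section Wreath

variable {t k : ℕ} {D : Fin t → Submodule F (ι → F)}
variable (hD : Geo.IsNondegenerateMDecomposition f k D)
include hD

omit [DecidableEq ι] hf in
theorem f_block {i j : Fin t} (h : i ≠ j) {u v : ι → F} (hu : u ∈ D i) (hv : v ∈ D j) : f u v = 0 :=
  hD.orthogonal i j h u hu v hv

theorem nondeg_block (i : Fin t) : Nondeg hf (D i) :=
  nondeg_of_isNondegenerateOn hf (hD.nondegenerate i)

omit [DecidableEq ι] hf in
theorem card_eq_mul : Fintype.card ι = t * k := by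
  classical
  have hI : DirectSum.IsInternal D :=
    DirectSum.isInternal_submodule_of_iSupIndep_of_iSup_eq_top hD.decomp.indep hD.decomp.iSup_eq_top
  let b : ∀ i, Module.Basis (Fin k) F (D i) := fun i =>
    Module.finBasisOfFinrankEq F (D i) (hD.decomp.finrank_eq i)
  have hcard := Module.finrank_eq_card_basis (hI.collectedBasis b)
  rw [Module.finrank_pi, Fintype.card_sigma] at hcard
  simpa [Finset.sum_const, smul_eq_mul] using hcard

omit [DecidableEq ι] hf in
theorem exists_sum_blocks (v : ι → F) : ∃ x : Fin t → ι → F, (∀ i, x i ∈ D i) ∧ v = ∑ i, x i := by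
  have hv : v ∈ iSup D := by rw [hD.decomp.iSup_eq_top]; exact Submodule.mem_top
  obtain ⟨x, hx, hsum⟩ := (Submodule.mem_iSup_iff_exists_finsupp D v).1 hv
  exact ⟨x, hx, by rw [← hsum, Finsupp.sum_fintype _ _ fun _ => rfl]⟩

theorem f_sum_block {x : Fin t → ι → F} (hx : ∀ i, x i ∈ D i) {j : Fin t} {u : ι → F}
    (hu : u ∈ D j) (S : Finset (Fin t)) :
    f u (∑ i ∈ S, x i) = if j ∈ S then f u (x j) else 0 := by
  rw [sum_right hf]
  split_ifs with h
  · exact Finset.sum_eq_single_of_mem j h fun i _ hij => f_block hD (Ne.symm hij) hu (hx i)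
  · exact Finset.sum_eq_zero fun i hi => f_block hD (by rintro rfl; exact h hi) hu (hx i)

theorem sum_not_mem_block {x : Fin t → ι → F} (hx : ∀ i, x i ∈ D i) {S : Finset (Fin t)} {i j : Fin t}
    (hi : i ∈ S) (hxi : x i ≠ 0) (hij : i ≠ j) : ∑ l ∈ S, x l ∉ D j := by
  intro h
  refine hxi ((nondeg_iff hf).1 (nondeg_block hf hD i) _ (hx i) fun w hw => ?_)
  have := f_sum_block hf hD hx hw S
  rw [if_pos hi, f_block hD hij hw h] at this
  exact this.symm

theorem eq_zero_of_mem_two {i j : Fin t} (h : i ≠ j) {u : ι → F} (hi : u ∈ D i) (hj : u ∈ D j) : u = 0 :=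
  (nondeg_iff hf).1 (nondeg_block hf hD i) u hi fun w hw => f_block hD h hw hj

omit hf in
theorem exists_nonzero_block (i : Fin t) : ∃ u ∈ D i, u ≠ 0 :=
  (D i).ne_bot_iff.1 fun h => by
    have := hD.decomp.finrank_eq i
    rw [h, finrank_bot] at this
    exact hD.decomp.pos.ne' this.symm

theorem mem_decompositionStabilizer {g : GL ι F}
    (h : ∀ i, ∃ j, ∀ u ∈ D i, mv g u ∈ D j) : g ∈ Geo.decompositionStabilizer D := by
  choose π hπ using h
  have hinj : Function.Injective (mvLin g) := fun x y h => mv_inj g (by simpa using h)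
  have hmap : ∀ i, (D i).map (mvLin g) = D (π i) := by
    intro i
    refine Submodule.eq_of_le_of_finrank_eq ?_ ?_
    · rintro _ ⟨u, hu, rfl⟩
      simpa using hπ i u hu
    · rw [← LinearEquiv.finrank_eq (Submodule.equivMapOfInjective (mvLin g) hinj (D i)),
        hD.decomp.finrank_eq, hD.decomp.finrank_eq]
  have hπi : Function.Injective π := by
    intro i j hij
    by_contra hne
    have heq : D i = D j := Submodule.map_injective_of_injective hinj (by rw [hmap, hmap, hij])
    obtain ⟨u, hu, hu0⟩ := exists_nonzero_block hD i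
    exact hu0 (eq_zero_of_mem_two hf hD hne hu (heq ▸ hu))
  exact ⟨Equiv.ofBijective π (Finite.injective_iff_bijective.1 hπi), fun i => hmap i⟩

/-- The sum of two blocks. -/
theorem nondeg_two_blocks [Finite F] {i j : Fin t} (h : i ≠ j) :
    Nondeg hf (D i ⊔ D j) ∧ Module.finrank F ↥(D i ⊔ D j) = k + k := by
  have := nondeg_sup hf (nondeg_block hf hD i) (nondeg_block hf hD j)
    (fun v hv u hu => f_block hD h hu hv)
  rwa [hD.decomp.finrank_eq, hD.decomp.finrank_eq] at this

variable [Finite F]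

/-- An element of SU exchanging two blocks and stabilising every other one. -/
theorem exists_block_swap {a b c : Fin t} (hab : a ≠ b) (hac : a ≠ c) (hbc : b ≠ c) :
    ∃ g ∈ preserving (Units.coeHom (Matrix ι ι F)) f ⊓ Geo.specialLinear ι F,
      (∀ u ∈ D b, mv g u ∈ D c) ∧ (∀ u ∈ D c, mv g u ∈ D b) ∧
      ∀ i, i ≠ b → i ≠ c → ∀ u ∈ D i, mv g u ∈ D i := by
  classical
  obtain ⟨w, hwD, hww⟩ := exists_anisotropic hf (nondeg_block hf hD a) (fun h => by
    obtain ⟨u, hu, hu0⟩ := exists_nonzero_block hD a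
    rw [h, Submodule.mem_bot] at hu; exact hu0 hu)
  obtain ⟨e, heX, hee, hex⟩ := exists_orthonormal hf k (nondeg_block hf hD b) (hD.decomp.finrank_eq b)
  obtain ⟨d, hdX, hdd, hdx⟩ := exists_orthonormal hf k (nondeg_block hf hD c) (hD.decomp.finrank_eq c)
  suffices H : ∀ s : Finset (Fin k), ∃ g ∈ preserving (Units.coeHom (Matrix ι ι F)) f ⊓ Geo.specialLinear ι F,
      (∀ i, mv g (e i) = if i ∈ s then d i else e i) ∧ (∀ i, mv g (d i) = if i ∈ s then e i else d i) ∧
      ∀ i, i ≠ b → i ≠ c → ∀ u ∈ D i, mv g u ∈ D i by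
    obtain ⟨g, hg, h1, h2, h3⟩ := H Finset.univ
    refine ⟨g, hg, fun u hu => ?_, fun u hu => ?_, h3⟩
    · rw [hex u hu, mv_sum]
      exact Submodule.sum_mem _ fun i _ => by
        rw [mv_smul, h1, if_pos (Finset.mem_univ i)]; exact Submodule.smul_mem _ _ (hdX i)
    · rw [hdx u hu, mv_sum]
      exact Submodule.sum_mem _ fun i _ => by
        rw [mv_smul, h2, if_pos (Finset.mem_univ i)]; exact Submodule.smul_mem _ _ (heX i)
  intro s
  induction s using Finset.induction with
  | empty => exact ⟨1, one_mem _, by simp [mv_one], by simp [mv_one], fun i _ _ u hu => by rwa [mv_one]⟩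
  | @insert r s hr ih =>
    obtain ⟨g, hg, h1, h2, h3⟩ := ih
    obtain ⟨h, hh, β, hhz⟩ := exists_transposition hf (u := e r) (v := d r) (w := w)
      (by rw [hee, if_pos rfl]) (by rw [hdd, if_pos rfl]) (f_block hD hbc (heX r) (hdX r))
      (f_block hD hab hwD (heX r)) (f_block hD hac hwD (hdX r)) hww
    have he : ∀ i, mv h (e i) = if i = r then d r else e i := by
      intro i
      rw [hhz, f_block hD hab.symm (heX i) hwD, sub_right hf, hee, f_block hD hbc (heX i) (hdX r)]
      split_ifs with hi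
      · subst hi; module
      · module
    have hd : ∀ i, mv h (d i) = if i = r then e r else d i := by
      intro i
      rw [hhz, f_block hD hac.symm (hdX i) hwD, sub_right hf, hdd, f_block hD hbc.symm (hdX i) (heX r)]
      split_ifs with hi
      · subst hi; module
      · module
    refine ⟨h * g, mul_mem hh hg, fun i => ?_, fun i => ?_, fun i hib hic u hu => ?_⟩
    · rw [mv_mul, h1]
      by_cases hir : i = r
      · subst hir; rw [if_neg hr, he, if_pos rfl, if_pos (Finset.mem_insert_self _ _)]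
      · by_cases his : i ∈ s
        · rw [if_pos his, hd, if_neg hir, if_pos (Finset.mem_insert_of_mem his)]
        · rw [if_neg his, he, if_neg hir, if_neg (by simp [hir, his])]
    · rw [mv_mul, h2]
      by_cases hir : i = r
      · subst hir; rw [if_neg hr, hd, if_pos rfl, if_pos (Finset.mem_insert_self _ _)]
      · by_cases his : i ∈ s
        · rw [if_pos his, he, if_neg hir, if_pos (Finset.mem_insert_of_mem his)]
        · rw [if_neg his, hd, if_neg hir, if_neg (by simp [hir, his])]
    · rw [mv_mul, hhz, sub_right hf, f_block hD hib (h3 i hib hic u hu) (heX r),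
        f_block hD hic (h3 i hib hic u hu) (hdX r), sub_zero, zero_smul, sub_zero]
      by_cases hia : i = a
      · subst hia; exact Submodule.add_mem _ (h3 i hib hic u hu) (Submodule.smul_mem _ _ hwD)
      · rw [f_block hD hia (h3 i hib hic u hu) hwD, mul_zero, zero_smul, add_zero]
        exact h3 i hib hic u hu

omit [Finite F] in
/-- The set C contains the isotropic vectors of D a ⊔ D b. -/
theorem pair_mv {M : Subgroup (GL ι F)} (hMf : M ≤ preserving (Units.coeHom (Matrix ι ι F)) f) {g : GL ι F}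
    (hg : g ∈ M) {a b a' b' : Fin t} (hga : ∀ u ∈ D a', mv g u ∈ D a) (hgb : ∀ u ∈ D b', mv g u ∈ D b)
    (hP : ∀ v ∈ D a, ∀ w ∈ D b, f (v + w) (v + w) = 0 → v + w ∈ hCentres hf M) :
    ∀ v ∈ D a', ∀ w ∈ D b', f (v + w) (v + w) = 0 → v + w ∈ hCentres hf M := by
  intro v hv w hw h
  have h1 := hP _ (hga v hv) _ (hgb w hw) (by rw [← mv_add]; exact (hMf hg _ _).trans h)
  rw [← mv_add] at h1
  have := hCentres_mv hf hMf (M.inv_mem hg) h1
  rwa [mv_inv_mv] at this

/-- If one pair of blocks gives centres, all pairs do. -/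
theorem pairs_of_one {M : Subgroup (GL ι F)} (hMf : M ≤ preserving (Units.coeHom (Matrix ι ι F)) f)
    (hHM : Geo.decompositionStabilizer D ⊓ (preserving (Units.coeHom (Matrix ι ι F)) f ⊓ Geo.specialLinear ι F) ≤ M)
    {a b : Fin t} (hab : a ≠ b)
    (hP : ∀ v ∈ D a, ∀ w ∈ D b, f (v + w) (v + w) = 0 → v + w ∈ hCentres hf M) :
    ∀ c d, c ≠ d → ∀ v ∈ D c, ∀ w ∈ D d, f (v + w) (v + w) = 0 → v + w ∈ hCentres hf M := by
  let P : Fin t → Fin t → Prop := fun a b =>
    ∀ v ∈ D a, ∀ w ∈ D b, f (v + w) (v + w) = 0 → v + w ∈ hCentres hf M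
  have symm : ∀ a b, P a b → P b a := fun a b h v hv w hw he => by
    rw [add_comm] at he ⊢; exact h w hw v hv he
  have step : ∀ a b c, a ≠ b → a ≠ c → P a b → P a c := by
    intro a b c hab hac h
    rcases eq_or_ne b c with rfl | hbc
    · exact h
    obtain ⟨g, hg, hgb, hgc, hgo⟩ := exists_block_swap hf hD hab hac hbc
    have hgM : g ∈ M := hHM ⟨mem_decompositionStabilizer hf hD fun i => by
      by_cases hib : i = b
      · subst hib; exact ⟨c, hgb⟩
      by_cases hic : i = c
      · subst hic; exact ⟨b, hgc⟩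
      exact ⟨i, hgo i hib hic⟩, hg⟩
    exact pair_mv hf hD hMf hgM (hgo a hab hac) hgc h
  intro c d hcd
  have hc : ∀ c, c ≠ a → P c a := fun c hc => symm _ _ (step a b c hab hc.symm hP)
  rcases eq_or_ne c a with rfl | hca
  · exact symm _ _ (hc d hcd.symm)
  · exact step c a d hca hcd (hc c hca)

end Wreath

end Cfsg.Agent.Transvec.Herm
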