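/-
Orthonormal frames of a hermitian space over a finite field: coordinates, monomial isometries, diagonal elements and
transpositions inside SU, and elementary facts on norm-one scalars.
-/
import Cfsg.Agent.Lib.Transvec.HermWreathTools
set_option autoImplicit false

namespace Cfsg.Agent.Transvec.Herm

open scoped Matrix
open Matrix Cfsg.Agent.Transvec

section Field

variable {F : Type*} [Field F] [Finite F] {σ : F ≃+* F}
variable (hne : σ ≠ RingEquiv.refl F) (hinv : ∀ a : F, σ (σ a) = a)
include hne hinv

omit hne hinv in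
open scoped Classical in
/-- The scalars of norm one. -/
noncomputable def normOnes (σ : F ≃+* F) : Finset F :=
  (Set.toFinite {η : F | η * σ η = 1}).toFinset

omit hne hinv in
theorem mem_normOnes {η : F} : η ∈ normOnes σ ↔ η * σ η = 1 := by
  rw [normOnes, Set.Finite.mem_toFinset, Set.mem_setOf_eq]

theorem card_normOnes : Nat.card (fixedField σ) + 1 ≤ (normOnes σ).card := by
  classical
  haveI : Fintype (fixedField σ) := Fintype.ofFinite _
  obtain ⟨a, ha⟩ : ∃ a, σ a ≠ a := by
    by_contra h
    push Not at h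
    exact hne (RingEquiv.ext h)
  have h0 : ∀ x : fixedField σ, (x : F) + a ≠ 0 := fun x h => ha (by
    rw [eq_neg_of_add_eq_zero_right h, map_neg, x.2])
  have h0' : ∀ x : fixedField σ, σ ((x : F) + a) ≠ 0 := fun x h =>
    h0 x ((map_eq_zero_iff σ σ.injective).1 h)
  let φ : Option (fixedField σ) → F := fun o =>
    match o with
    | none => 1
    | some x => ((x : F) + a) / σ ((x : F) + a)
  have hφ : Function.Injective φ := by
    rintro (_ | x) (_ | y) h
    · rfl
    · simp only [φ] at h
      rw [eq_div_iff (h0' y), one_mul, map_add, y.2] at h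
      exact absurd (add_left_cancel h) ha
    · simp only [φ] at h
      rw [div_eq_iff (h0' x), one_mul, map_add, x.2] at h
      exact absurd (add_left_cancel h.symm) ha
    · simp only [φ] at h
      rw [div_eq_div_iff (h0' x) (h0' y), map_add, map_add, x.2, y.2] at h
      have : ((x : F) - y) * (σ a - a) = 0 := by linear_combination h
      rw [Subtype.ext (sub_eq_zero.1 ((mul_eq_zero.1 this).resolve_right (sub_ne_zero.2 ha)))]
  calc Nat.card (fixedField σ) + 1 = (Finset.univ.image φ).card := by
        rw [Finset.card_image_of_injective _ hφ, Finset.card_univ, Fintype.card_option, Nat.card_eq_fintype_card]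
    _ ≤ _ := Finset.card_le_card fun z hz => by
        obtain ⟨o, -, rfl⟩ := Finset.mem_image.1 hz
        rw [mem_normOnes]
        cases o with
        | none => simp [φ]
        | some x =>
          have h1 := h0 x
          have h2 := h0' x
          simp only [φ]
          rw [map_div₀, hinv]
          field_simp

omit [Finite F] hne hinv in
theorem two_le_card_fixed [Finite F] : 2 ≤ Nat.card (fixedField σ) := by
  haveI : Nontrivial (fixedField σ) := inferInstance
  exact Finite.one_lt_card

theorem exists_normOne_avoid (S : Finset F) (hS : S.card ≤ Nat.card (fixedField σ)) :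
    ∃ η : F, η * σ η = 1 ∧ η ∉ S := by
  obtain ⟨η, hη, hη'⟩ := Finset.exists_mem_notMem_of_card_lt_card (s := S) (t := normOnes σ)
    (by have := card_normOnes hne hinv; omega)
  exact ⟨η, mem_normOnes.1 hη, hη'⟩

/-- An affine trace form on norm-one scalars takes each value at most twice. -/
theorem card_fibre_le (A B : F) (hB : B ≠ 0) (v : F) :
    haveI := Classical.decEq F
    ((normOnes σ).filter fun η => A + B * η + σ (B * η) = v).card ≤ 2 := by
  classical
  by_contra hc
  obtain ⟨a, ha, b, hb, c, hc', hab, hac, hbc⟩ := Finset.two_lt_card.1 (not_le.1 hc)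
  simp only [Finset.mem_filter, mem_normOnes] at ha hb hc'
  have eq : ∀ η, η * σ η = 1 → A + B * η + σ (B * η) = v → B * (η * η) + (A - v) * η + σ B = 0 := by
    intro η h1 h2
    rw [map_mul] at h2
    linear_combination η * h2 - σ B * h1
  have e1 := eq a ha.1 ha.2
  have e2 := eq b hb.1 hb.2
  have e3 := eq c hc'.1 hc'.2
  have s1 : B * (a + b) + (A - v) = 0 := by
    refine (mul_eq_zero.1 (show (a - b) * (B * (a + b) + (A - v)) = 0 by linear_combination e1 - e2)).resolve_left ?_
    exact sub_ne_zero.2 hab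
  have s2 : B * (a + c) + (A - v) = 0 := by
    refine (mul_eq_zero.1 (show (a - c) * (B * (a + c) + (A - v)) = 0 by linear_combination e1 - e3)).resolve_left ?_
    exact sub_ne_zero.2 hac
  exact hbc (sub_eq_zero.1 ((mul_eq_zero.1 (show B * (b - c) = 0 by linear_combination s1 - s2)).resolve_left hB))

end Field

variable {ι : Type} [Fintype ι] [DecidableEq ι] {F : Type*} [Field F]
variable {σ : F ≃+* F} {f : (ι → F) → (ι → F) → F} (hf : Geo.IsUnitaryForm σ f)

/-- An orthonormal frame. -/
structure Frame {t : ℕ} (f : (ι → F) → (ι → F) → F) (e : Fin t → ι → F) : Prop where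
  orth : ∀ i j, f (e i) (e j) = if i = j then 1 else 0
  expand : ∀ x, x = ∑ i, f x (e i) • e i

/-- The element maps every frame line to a frame line. -/
def FMon {t : ℕ} (e : Fin t → ι → F) (g : GL ι F) : Prop := ∀ k, ∃ l, ∃ a : F, mv g (e k) = a • e l

/-- The element negates the frame vectors indexed by W and fixes the others. -/
def Signs {t : ℕ} (e : Fin t → ι → F) (W : Finset (Fin t)) (g : GL ι F) : Prop :=
  ∀ k, mv g (e k) = if k ∈ W then -e k else e k

variable {t : ℕ} {e : Fin t → ι → F} (hfr : Frame f e)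
include hf hfr

theorem frame_ne (i : Fin t) : e i ≠ 0 := fun h => by
  have := hfr.orth i i
  rw [h, zero_left hf, if_pos rfl] at this
  exact zero_ne_one this

theorem frame_self (i : Fin t) : f (e i) (e i) = 1 := by rw [hfr.orth, if_pos rfl]

theorem frame_other {i j : Fin t} (h : i ≠ j) : f (e i) (e j) = 0 := by rw [hfr.orth, if_neg h]

theorem coord_ext {x y : ι → F} (h : ∀ i, f x (e i) = f y (e i)) : x = y := by
  rw [hfr.expand x, hfr.expand y]
  simp [h]

theorem eq_zero_of_coord {x : ι → F} (h : ∀ i, f x (e i) = 0) : x = 0 :=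
  coord_ext hf hfr fun i => by rw [h i, zero_left hf]

theorem f_coord (x y : ι → F) : f x y = ∑ i, f x (e i) * σ (f y (e i)) := by
  conv_lhs => rw [hfr.expand x]
  rw [sum_left hf]
  exact Finset.sum_congr rfl fun i _ => by rw [hf.smul_left, ← hf.herm]

theorem coord_smul (c : F) (i j : Fin t) : f (c • e i) (e j) = if i = j then c else 0 := by
  rw [hf.smul_left, hfr.orth, mul_ite, mul_one, mul_zero]

theorem coord_sum (s : Finset (Fin t)) (c : Fin t → F) (k : Fin t) :
    f (∑ i ∈ s, c i • e i) (e k) = if k ∈ s then c k else 0 := by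
  rw [sum_left hf]
  simp only [coord_smul hf hfr]
  rw [Finset.sum_ite_eq' s k c]

/-- A vector whose coordinates vanish outside s. -/
theorem mem_span_of_coord {x : ι → F} {s : Finset (Fin t)} (h : ∀ k, k ∉ s → f x (e k) = 0) :
    x = ∑ i ∈ s, f x (e i) • e i :=
  coord_ext hf hfr fun k => by
    rw [coord_sum hf hfr]
    split_ifs with hk
    · rfl
    · exact h k hk

theorem ext_frame {g h : GL ι F} (H : ∀ i, mv g (e i) = mv h (e i)) : g = h :=
  ext_mv fun x => by
    rw [hfr.expand x, mv_sum, mv_sum]
    exact Finset.sum_congr rfl fun i _ => by rw [mv_smul, mv_smul, H]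

/-- Orthonormal vectors supported on a set of coordinates. -/
theorem orth_family_card {κ : Type*} [Fintype κ] (y : κ → ι → F) (hy : ∀ a, f (y a) (y a) ≠ 0)
    (ho : ∀ a b, a ≠ b → f (y a) (y b) = 0) (s : Finset (Fin t))
    (hs : ∀ a, ∀ k, k ∉ s → f (y a) (e k) = 0) : Fintype.card κ ≤ s.card := by
  classical
  have hli : LinearIndependent F y := by
    rw [Fintype.linearIndependent_iff]
    intro g hg a
    have h1 := congrArg (fun z => f z (y a)) hg
    simp only [sum_left hf, hf.smul_left, zero_left hf] at h1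
    rw [Finset.sum_eq_single a (fun b _ hba => by rw [ho b a hba, mul_zero]) (by simp)] at h1
    exact (mul_eq_zero.1 h1).resolve_right (hy a)
  have hmem : ∀ a, y a ∈ Submodule.span F ((s.image e : Finset (ι → F)) : Set (ι → F)) := fun a => by
    rw [mem_span_of_coord hf hfr (hs a)]
    exact Submodule.sum_mem _ fun i hi => Submodule.smul_mem _ _
      (Submodule.subset_span (Finset.mem_coe.2 (Finset.mem_image_of_mem _ hi)))
  have hle : Submodule.span F (Set.range y) ≤ Submodule.span F ((s.image e : Finset (ι → F)) : Set (ι → F)) :=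
    Submodule.span_le.2 (by rintro z ⟨a, rfl⟩; exact hmem a)
  have h1 := Submodule.finrank_mono hle
  rw [finrank_span_eq_card hli] at h1
  exact h1.trans ((finrank_span_finset_le_card _).trans Finset.card_image_le)

theorem FMon.perm {g : GL ι F} (hg : FMon e g) (hgf : ∀ x y, f (mv g x) (mv g y) = f x y) :
    ∃ (π : Equiv.Perm (Fin t)) (a : Fin t → F), (∀ k, a k * σ (a k) = 1) ∧ ∀ k, mv g (e k) = a k • e (π k) := by
  choose π a ha using hg
  have ha1 : ∀ k, a k * σ (a k) = 1 := fun k => by
    have h := hgf (e k) (e k)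
    rwa [ha, hf.smul_left, smul_right hf, frame_self hf hfr, frame_self hf hfr, mul_one] at h
  have hinj : Function.Injective π := fun k k' h => by
    by_contra hne
    have h' := hgf (e k) (e k')
    rw [ha, ha, h, hf.smul_left, smul_right hf, frame_self hf hfr, frame_other hf hfr hne, mul_one] at h'
    have h1 : σ (a k') = 0 := (mul_eq_zero.1 h').resolve_left (left_ne_zero_of_mul_eq_one (ha1 k))
    exact right_ne_zero_of_mul_eq_one (ha1 k') h1
  exact ⟨Equiv.ofBijective π (Finite.injective_iff_bijective.1 hinj), a, ha1, ha⟩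

theorem FMon.inv {g : GL ι F} (hg : FMon e g) (hgf : ∀ x y, f (mv g x) (mv g y) = f x y) : FMon e g⁻¹ := by
  obtain ⟨π, a, ha1, ha⟩ := FMon.perm hf hfr hg hgf
  intro k
  refine ⟨π.symm k, σ (a (π.symm k)), ?_⟩
  have h := ha (π.symm k)
  rw [Equiv.apply_symm_apply, mv_eq_iff] at h
  rw [h, mv_smul, smul_smul, mul_comm, ha1, one_smul]

omit hf hfr in
theorem FMon.mul {g h : GL ι F} (hg : FMon e g) (hh : FMon e h) : FMon e (g * h) := fun k => by
  obtain ⟨l, a, ha⟩ := hh k
  obtain ⟨m, b, hb⟩ := hg l
  exact ⟨m, a * b, by rw [mv_mul, ha, mv_smul, hb, smul_smul]⟩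

omit hf hfr in
theorem Signs.fmon {W : Finset (Fin t)} {g : GL ι F} (hg : Signs e W g) : FMon e g := fun k => by
  by_cases hk : k ∈ W
  · exact ⟨k, -1, by rw [hg, if_pos hk, neg_one_smul]⟩
  · exact ⟨k, 1, by rw [hg, if_neg hk, one_smul]⟩

theorem Signs.coord {W : Finset (Fin t)} {g : GL ι F} (hg : Signs e W g) (x : ι → F) (k : Fin t) :
    f (mv g x) (e k) = if k ∈ W then -f x (e k) else f x (e k) := by
  have h : mv g x = ∑ i, (if i ∈ W then -f x (e i) else f x (e i)) • e i := by
    conv_lhs => rw [hfr.expand x, mv_sum]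
    refine Finset.sum_congr rfl fun i _ => ?_
    rw [mv_smul, hg]
    split_ifs <;> module
  rw [h, coord_sum hf hfr, if_pos (Finset.mem_univ k)]

theorem Signs.mul_self {W : Finset (Fin t)} {g : GL ι F} (hg : Signs e W g) : g * g = 1 :=
  ext_frame hf hfr fun k => by
    rw [mv_mul, mv_one, hg]
    split_ifs with hk
    · rw [mv_neg, hg, if_pos hk, neg_neg]
    · rw [hg, if_neg hk]

variable [Finite F]

/-- The diagonal element with η at i and its conjugate at j. -/
theorem exists_diag {i j : Fin t} (hij : i ≠ j) {η : F} (hη : η * σ η = 1) :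
    ∃ g ∈ preserving (Units.coeHom (Matrix ι ι F)) f ⊓ Geo.specialLinear ι F, FMon e g ∧
      ∀ z, mv g z = z + ((η - 1) * f z (e i)) • e i + ((σ η - 1) * f z (e j)) • e j := by
  obtain ⟨g, hg, hgz⟩ := exists_double_refl hf (w := e i) (w' := e j)
    (by rw [frame_self hf hfr]; exact one_ne_zero) (by rw [frame_self hf hfr]; exact one_ne_zero)
    (frame_other hf hfr hij) hη
  have hz : ∀ z, mv g z = z + ((η - 1) * f z (e i)) • e i + ((σ η - 1) * f z (e j)) • e j := fun z => by
    rw [hgz, frame_self hf hfr, frame_self hf hfr, div_one, div_one]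
  refine ⟨g, hg, fun k => ?_, hz⟩
  rcases eq_or_ne k i with rfl | hki
  · exact ⟨k, η, by rw [hz, frame_self hf hfr, frame_other hf hfr hij]; module⟩
  rcases eq_or_ne k j with rfl | hkj
  · exact ⟨k, σ η, by rw [hz, frame_self hf hfr, frame_other hf hfr hki]; module⟩
  exact ⟨k, 1, by rw [hz, frame_other hf hfr hki, frame_other hf hfr hkj]; module⟩

/-- The exchange of two frame vectors, compensated at a third. -/
theorem exists_swap {i j m : Fin t} (hij : i ≠ j) (hmi : m ≠ i) (hmj : m ≠ j) :
    ∃ g ∈ preserving (Units.coeHom (Matrix ι ι F)) f ⊓ Geo.specialLinear ι F, FMon e g ∧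
      mv g (e i) = e j ∧ mv g (e j) = e i ∧ ∀ k, k ≠ i → k ≠ j → k ≠ m → mv g (e k) = e k := by
  obtain ⟨g, hg, β, hgz⟩ := exists_transposition hf (frame_self hf hfr i) (frame_self hf hfr j)
    (frame_other hf hfr hij) (frame_other hf hfr hmi) (frame_other hf hfr hmj)
    (by rw [frame_self hf hfr m]; exact one_ne_zero)
  have hi : mv g (e i) = e j := by
    rw [hgz, sub_right hf, frame_self hf hfr, frame_other hf hfr hij, frame_other hf hfr hmi.symm]
    module
  have hj : mv g (e j) = e i := by
    rw [hgz, sub_right hf, frame_self hf hfr, frame_other hf hfr hij.symm, frame_other hf hfr hmj.symm]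
    module
  have ho : ∀ k, k ≠ i → k ≠ j → k ≠ m → mv g (e k) = e k := fun k h1 h2 h3 => by
    rw [hgz, sub_right hf, frame_other hf hfr h1, frame_other hf hfr h2, frame_other hf hfr h3]
    module
  refine ⟨g, hg, fun k => ?_, hi, hj, ho⟩
  rcases eq_or_ne k i with rfl | h1
  · exact ⟨j, 1, by rw [hi, one_smul]⟩
  rcases eq_or_ne k j with rfl | h2
  · exact ⟨i, 1, by rw [hj, one_smul]⟩
  rcases eq_or_ne k m with rfl | h3
  · refine ⟨k, 1 + β, ?_⟩
    rw [hgz, sub_right hf, frame_other hf hfr h1, frame_other hf hfr h2, frame_self hf hfr]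
    module
  exact ⟨k, 1, by rw [ho k h1 h2 h3, one_smul]⟩

end Cfsg.Agent.Transvec.Herm
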