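/-
Overgroups of the monomial subgroup of SU in odd characteristic: some non-monomial element fixes a frame line.
-/
import Cfsg.Agent.Lib.Transvec.HermFrame
set_option autoImplicit false
set_option maxHeartbeats 800000

namespace Cfsg.Agent.Transvec.Herm

open scoped Matrix
open Matrix Cfsg.Agent.Transvec

section Group

variable {G : Type*} [Group G] [Finite G]

/-- Two involutions are conjugate, or some involution in the dihedral group commutes with both. -/
theorem dihedral_cases {u t : G} (hu : u * u = 1) (ht : t * t = 1) :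
    (∃ j : ℕ, (u * t) ^ j * t * ((u * t) ^ j)⁻¹ = u) ∨
      ∃ m : ℕ, (u * t) ^ m ≠ 1 ∧ (u * t) ^ m * (u * t) ^ m = 1 ∧ u * (u * t) ^ m = (u * t) ^ m * u ∧
        t * (u * t) ^ m = (u * t) ^ m * t ∧
        ∃ j : ℕ, (u * t) ^ j * u * ((u * t) ^ j)⁻¹ = (u * t) ^ m * u ∨
          (u * t) ^ j * t * ((u * t) ^ j)⁻¹ = (u * t) ^ m * u := by
  have hui : u⁻¹ = u := inv_eq_of_mul_eq_one_right hu
  have hti : t⁻¹ = t := inv_eq_of_mul_eq_one_right ht
  set r := u * t with hr
  have hpos : 0 < orderOf r := orderOf_pos r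
  have hflip : ∀ j : ℕ, u * (r ^ j)⁻¹ = r ^ j * u := by
    intro j
    induction j with
    | zero => simp
    | succ j ih =>
      rw [pow_succ, _root_.mul_inv_rev, ← mul_assoc, show u * r⁻¹ = r * u by rw [hr, _root_.mul_inv_rev, hui, hti, mul_assoc],
        mul_assoc, ih, ← mul_assoc, ← pow_succ', pow_succ]
  have hrt : r * t = u := by rw [hr, mul_assoc, ht, mul_one]
  have hconjU : ∀ j : ℕ, r ^ j * u * (r ^ j)⁻¹ = r ^ (2 * j) * u := fun j => by
    rw [mul_assoc, hflip, ← mul_assoc, ← pow_add, two_mul]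
  have hconjT : ∀ j : ℕ, r ^ (j + 1) * t * (r ^ (j + 1))⁻¹ = r ^ (2 * j + 1) * u := fun j => by
    rw [pow_succ r j, mul_assoc (r ^ j) r t, hrt, _root_.mul_inv_rev, mul_assoc (r ^ j) u, ← mul_assoc u,
      show u * r⁻¹ = r * u by rw [hr, _root_.mul_inv_rev, hui, hti, mul_assoc], mul_assoc r u, hflip, ← mul_assoc,
      ← mul_assoc, ← pow_succ, ← pow_add]
    congr 2
    omega
  rcases Nat.even_or_odd' (orderOf r) with ⟨m, hm | hm⟩
  · right
    have hm0 : r ^ m ≠ 1 := pow_ne_one_of_lt_orderOf (by omega) (by omega)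
    have hsq : r ^ m * r ^ m = 1 := by rw [← pow_add, show m + m = orderOf r by omega, pow_orderOf_eq_one]
    have hinvm : (r ^ m)⁻¹ = r ^ m := inv_eq_of_mul_eq_one_right hsq
    have hum : u * r ^ m = r ^ m * u := by
      have h := hflip m; rwa [hinvm] at h
    refine ⟨m, hm0, hsq, hum, ?_, ?_⟩
    · have ht' : t = u * r := by rw [hr, ← mul_assoc, hu, one_mul]
      calc t * r ^ m = u * (r * r ^ m) := by rw [ht', mul_assoc]
        _ = u * r ^ m * r := by rw [← pow_succ', pow_succ, ← mul_assoc]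
        _ = r ^ m * t := by rw [hum, mul_assoc, ← ht']
    · rcases Nat.even_or_odd' m with ⟨j, hj | hj⟩
      · exact ⟨j, Or.inl (by rw [hconjU, hj])⟩
      · exact ⟨j + 1, Or.inr (by rw [hconjT, hj])⟩
  · left
    exact ⟨m + 1, by rw [hconjT, ← hm, pow_orderOf_eq_one, one_mul]⟩

end Group

variable {ι : Type} [Fintype ι] [DecidableEq ι] {F : Type*} [Field F] [Finite F]
variable {σ : F ≃+* F} {f : (ι → F) → (ι → F) → F} (hf : Geo.IsUnitaryForm σ f)
variable {t : ℕ} {e : Fin t → ι → F} (hfr : Frame f e)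
include hf hfr

omit hf hfr in
/-- Every element fixing a frame line is monomial. -/
def LineRigid (e : Fin t → ι → F) (M : Subgroup (GL ι F)) : Prop :=
  ∀ g ∈ M, ∀ a l, ∀ c : F, mv g (e a) = c • e l → FMon e g

open scoped Classical in
/-- A monomial involution moves at most twice as many frame vectors as the dimension of its displacement. -/
theorem moved_le {g : GL ι F} (hg : FMon e g) (hgf : ∀ x y, f (mv g x) (mv g y) = f x y) (hg2 : g * g = 1)
    {W : Submodule F (ι → F)} (hW : ∀ k, mv g (e k) - e k ∈ W) {r : ℕ} (hr : Module.finrank F W ≤ r) :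
    (Finset.univ.filter fun k => mv g (e k) ≠ e k).card ≤ 2 * r := by
  obtain ⟨π, a, ha1, ha⟩ := FMon.perm hf hfr hg hgf
  have hππ : ∀ k, π (π k) = k := fun k => by
    have h : mv g (mv g (e k)) = e k := by rw [← mv_mul, hg2, mv_one]
    rw [ha, mv_smul, ha, smul_smul] at h
    by_contra hne
    have h' := congrArg (fun z => f z (e k)) h
    simp only [coord_smul hf hfr, if_neg hne, frame_self hf hfr] at h'
    exact zero_ne_one h'
  set Mv := Finset.univ.filter fun k => mv g (e k) ≠ e k with hMv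
  set R := Mv.filter fun k => k ≤ π k with hR
  have hcover : Mv ⊆ R ∪ R.image π := by
    intro k hk
    by_cases hle : k ≤ π k
    · exact Finset.mem_union_left _ (Finset.mem_filter.2 ⟨hk, hle⟩)
    · refine Finset.mem_union_right _ (Finset.mem_image.2 ⟨π k, Finset.mem_filter.2 ⟨?_, ?_⟩, hππ k⟩)
      · refine Finset.mem_filter.2 ⟨Finset.mem_univ _, fun h => ?_⟩
        rw [ha, hππ] at h
        have h' := congrArg (fun z => f z (e (π k))) h
        simp only [coord_smul hf hfr, if_neg (fun h'' : k = π k => hle h''.le), frame_self hf hfr] at h'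
        exact zero_ne_one h'
      · rw [hππ]; exact (not_le.1 hle).le
  have hR' : R.card ≤ r := by
    have hli : LinearIndependent F fun k : R => (⟨mv g (e k.1) - e k.1, hW k.1⟩ : W) := by
      refine LinearIndependent.of_comp W.subtype ?_
      rw [Fintype.linearIndependent_iff]
      intro c hc k
      have h := congrArg (fun z => f z (e k.1)) hc
      simp only [Function.comp_apply, Submodule.coe_subtype, sum_left hf, hf.smul_left, zero_left hf] at h
      rw [Finset.sum_eq_single k] at h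
      · refine (mul_eq_zero.1 h).resolve_right fun h0 => ?_
        rw [ha, sub_left hf, coord_smul hf hfr, frame_self hf hfr] at h0
        split_ifs at h0 with hfix
        · have hmv := (Finset.mem_filter.1 (Finset.mem_filter.1 k.2).1).2
          rw [ha, hfix, sub_eq_zero.1 h0, one_smul] at hmv
          exact hmv rfl
        · rw [zero_sub, neg_eq_zero] at h0
          exact one_ne_zero h0
      · intro l _ hlk
        have hne : l.1 ≠ k.1 := fun h' => hlk (Subtype.ext h')
        have hne' : π l.1 ≠ k.1 := by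
          intro h'
          have h1 := (Finset.mem_filter.1 l.2).2
          have h2 := (Finset.mem_filter.1 k.2).2
          rw [← h', hππ] at h2
          exact hne (by rw [← h']; exact le_antisymm h1 h2)
        rw [ha, sub_left hf, coord_smul hf hfr, if_neg hne', frame_other hf hfr hne, sub_zero, mul_zero]
      · simp
    have := hli.fintype_card_le_finrank
    rw [Fintype.card_coe] at this
    omega
  calc Mv.card ≤ (R ∪ R.image π).card := Finset.card_le_card hcover
    _ ≤ R.card + (R.image π).card := Finset.card_union_le _ _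
    _ ≤ R.card + R.card := Nat.add_le_add_left Finset.card_image_le _
    _ ≤ 2 * r := by omega

/-- A monomial conjugate of a sign element forces sparse columns. -/
theorem sparse_of_conj (h2 : (2 : F) ≠ 0) {x w : GL ι F} (hxf : ∀ a b, f (mv x a) (mv x b) = f a b)
    {W : Finset (Fin t)} (hw : Signs e W w) (hmon : FMon e (x * w * x⁻¹)) :
    ∃ S : Finset (Fin t), S.card ≤ 2 * W.card ∧ ∀ k ∈ W, ∀ l, l ∉ S → f (mv x (e k)) (e l) = 0 := by
  classical
  have hwf : ∀ a b, f (mv w a) (mv w b) = f a b := fun a b => by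
    rw [f_coord hf hfr (mv w a), f_coord hf hfr a]
    refine Finset.sum_congr rfl fun i _ => ?_
    rw [Signs.coord hf hfr hw, Signs.coord hf hfr hw]
    split_ifs
    · rw [map_neg]; ring
    · rfl
  have hxf' : ∀ a b, f (mv x⁻¹ a) (mv x⁻¹ b) = f a b := fun a b => by
    have := hxf (mv x⁻¹ a) (mv x⁻¹ b)
    rwa [mv_mv_inv, mv_mv_inv, eq_comm] at this
  have hf' : ∀ a b, f (mv (x * w * x⁻¹) a) (mv (x * w * x⁻¹) b) = f a b := fun a b => by
    simp only [mv_mul]; rw [hxf, hwf, hxf']
  have hsq : (x * w * x⁻¹) * (x * w * x⁻¹) = 1 := by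
    rw [show (x * w * x⁻¹) * (x * w * x⁻¹) = x * (w * w) * x⁻¹ by group, Signs.mul_self hf hfr hw, mul_one,
      mul_inv_cancel]
  set Sp := Submodule.span F ((W.image fun k => mv x (e k) : Finset (ι → F)) : Set (ι → F)) with hSp
  have hmem : ∀ y, mv (x * w * x⁻¹) y - y ∈ Sp := by
    intro y
    have hwz : ∀ z, mv w z - z = ∑ i ∈ W, (-(2 * f z (e i))) • e i := fun z => coord_ext hf hfr fun l => by
      rw [sub_left hf, Signs.coord hf hfr hw, coord_sum hf hfr]
      split_ifs <;> ring
    have he : mv (x * w * x⁻¹) y - y = mv x (mv w (mv x⁻¹ y) - mv x⁻¹ y) := by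
      rw [mv_sub, mv_mv_inv, mv_mul, mv_mul]
    rw [he, hwz, mv_sum]
    exact Submodule.sum_mem _ fun i hi => by
      rw [mv_smul]
      exact Submodule.smul_mem _ _ (Submodule.subset_span (Finset.mem_coe.2 (Finset.mem_image_of_mem _ hi)))
  refine ⟨Finset.univ.filter fun k => mv (x * w * x⁻¹) (e k) ≠ e k,
    moved_le hf hfr hmon hf' hsq (fun k => hmem (e k))
      ((finrank_span_finset_le_card _).trans Finset.card_image_le), fun k hk l hl => ?_⟩
  simp only [Finset.mem_filter, Finset.mem_univ, true_and, not_not] at hl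
  have h := hf' (mv x (e k)) (e l)
  rw [hl, mv_mul, mv_mul, mv_inv_mv, hw k, if_pos hk, mv_neg, neg_left hf] at h
  have : (2 : F) * f (mv x (e k)) (e l) = 0 := by linear_combination -h
  exact (mul_eq_zero.1 this).resolve_left h2

variable {M : Subgroup (GL ι F)}
variable (hMS : M ≤ preserving (Units.coeHom (Matrix ι ι F)) f ⊓ Geo.specialLinear ι F)
variable (hMon : ∀ g ∈ preserving (Units.coeHom (Matrix ι ι F)) f ⊓ Geo.specialLinear ι F, FMon e g → g ∈ M)
include hMS hMon

/-- A sign element on a pair inside M. -/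
theorem exists_signs_pair {a b : Fin t} (hab : a ≠ b) : ∃ u ∈ M, Signs e {a, b} u := by
  obtain ⟨u, hu, hum, huz⟩ := exists_diag hf hfr hab (η := (-1 : F)) (by rw [map_neg, map_one]; ring)
  refine ⟨u, hMon u hu hum, fun k => ?_⟩
  rw [huz, map_neg, map_one, hfr.orth, hfr.orth]
  simp only [Finset.mem_insert, Finset.mem_singleton]
  rcases eq_or_ne k a with rfl | hka
  · rw [if_pos rfl, if_neg hab, if_pos (Or.inl rfl)]; module
  rcases eq_or_ne k b with rfl | hkb
  · rw [if_neg hka, if_pos rfl, if_pos (Or.inr rfl)]; module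
  rw [if_neg hka, if_neg hkb, if_neg (by tauto)]; module

theorem fmon_of_sparse_strong (h2 : (2 : F) ≠ 0) (hNX : LineRigid e M) {g : GL ι F} (hg : g ∈ M)
    {a : Fin t} {A : Finset (Fin t)} (hA : A.card + 5 ≤ t) (hcol : ∀ l, l ∉ A → f (mv g (e a)) (e l) = 0) :
    FMon e g := by
  classical
  set Z := Aᶜ with hZ
  have hZc : 5 ≤ Z.card := by rw [hZ, Finset.card_compl, Fintype.card_fin]; omega
  set x : Fin t → ι → F := fun c => mv g⁻¹ (e c) with hx
  have hgi : ∀ p q, f (mv g⁻¹ p) (mv g⁻¹ q) = f p q := fun p q => (hMS (M.inv_mem hg)).1 p q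
  have hgf : ∀ p q, f (mv g p) (mv g q) = f p q := fun p q => (hMS hg).1 p q
  have hpair : ∀ c ∈ Z, ∀ d ∈ Z, c ≠ d → ∃ S : Finset (Fin t), S.card ≤ 4 ∧
      ∀ l, l ∉ S → f (x c) (e l) = 0 ∧ f (x d) (e l) = 0 := by
    intro c hc d hd hcd
    rw [hZ, Finset.mem_compl] at hc hd
    obtain ⟨u, huM, hu⟩ := exists_signs_pair hf hfr hMS hMon hcd
    have hfix : mv u (mv g (e a)) = mv g (e a) := coord_ext hf hfr fun l => by
      rw [Signs.coord hf hfr hu]
      split_ifs with hl
      · simp only [Finset.mem_insert, Finset.mem_singleton] at hl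
        have h0 : f (mv g (e a)) (e l) = 0 := by rcases hl with rfl | rfl <;> apply hcol <;> assumption
        rw [h0, neg_zero]
      · rfl
    have hmon := hNX _ (M.mul_mem (M.mul_mem (M.inv_mem hg) huM) hg) a a 1
      (by rw [mv_mul, mv_mul, hfix, mv_inv_mv, one_smul])
    obtain ⟨S, hS, hS'⟩ := sparse_of_conj hf hfr h2 hgi hu (by rwa [inv_inv])
    refine ⟨S, by rw [Finset.card_pair hcd] at hS; omega, fun l hl => ⟨hS' c ?_ l hl, hS' d ?_ l hl⟩⟩ <;> simp
  obtain ⟨c, hc, d, hd, j, hcj, hdj⟩ :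
      ∃ c ∈ Z, ∃ d ∈ Z, ∃ j, f (x c) (e j) ≠ 0 ∧ f (x d) (e j) = 0 := by
    by_contra hcon
    push Not at hcon
    obtain ⟨c₀, hc₀, d₀, hd₀, hcd₀⟩ := Finset.one_lt_card.1 (show 1 < Z.card by omega)
    obtain ⟨S, hS, hS'⟩ := hpair c₀ hc₀ d₀ hd₀ hcd₀
    have := orth_family_card hf hfr (fun c : Z => x c.1)
      (fun c => by simp only [hx, hgi, frame_self hf hfr]; exact one_ne_zero)
      (fun c d h => by simp only [hx, hgi]; exact frame_other hf hfr fun h' => h (Subtype.ext h'))
      S (fun c l hl => by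
        by_contra hne
        exact hcon c.1 c.2 c₀ hc₀ l hne (hS' l hl).1)
    rw [Fintype.card_coe] at this
    omega
  have hcd : c ≠ d := fun h => hcj (h ▸ hdj)
  obtain ⟨S, hS, hS'⟩ := hpair c hc d hd hcd
  obtain ⟨m, -, hm⟩ := Finset.exists_mem_notMem_of_card_lt_card (s := S) (t := (Finset.univ : Finset (Fin t)))
    (by rw [Finset.card_univ, Fintype.card_fin]; omega)
  have hjm : j ≠ m := fun h => hcj (h ▸ (hS' m hm).1)
  set N := f (x c) (e j) * σ (f (x c) (e j)) with hN
  have hN0 : N ≠ 0 := mul_ne_zero hcj fun h => hcj ((map_eq_zero_iff σ σ.injective).1 h)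
  obtain ⟨η, hη, hη'⟩ := exists_normOne_avoid hf.ne_refl hf.involutive ({1, 1 - N⁻¹} : Finset F)
    (Finset.card_le_two.trans two_le_card_fixed)
  simp only [Finset.mem_insert, Finset.mem_singleton, not_or] at hη'
  obtain ⟨w, hw, hwm, hwz⟩ := exists_diag hf hfr hjm hη
  have hwM := hMon w hw hwm
  have hfixd : mv w (x d) = x d := by
    rw [hwz, hdj, (hS' m hm).2, mul_zero, mul_zero, zero_smul, zero_smul, add_zero, add_zero]
  have hmon := hNX _ (M.mul_mem (M.mul_mem hg hwM) (M.inv_mem hg)) d d 1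
    (by rw [mv_mul, mv_mul, show mv g⁻¹ (e d) = x d from rfl, hfixd, mv_mv_inv, one_smul])
  obtain ⟨l, α, hl⟩ := hmon c
  have hpc : mv (g * w * g⁻¹) (e c) = e c + ((η - 1) * f (x c) (e j)) • mv g (e j) := by
    rw [mv_mul, mv_mul, show mv g⁻¹ (e c) = x c from rfl, hwz, (hS' m hm).1, mul_zero, zero_smul, add_zero,
      mv_add, mv_smul, show mv g (x c) = e c from mv_mv_inv g (e c)]
  have hgjc : f (mv g (e j)) (e c) = σ (f (x c) (e j)) := by
    rw [← hf.herm]
    conv_lhs => rw [← mv_mv_inv g (e c), hgf]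
  have hne : f (mv (g * w * g⁻¹) (e c)) (e c) ≠ 0 := by
    rw [hpc, hf.add_left, hf.smul_left, frame_self hf hfr, hgjc, mul_assoc, ← hN]
    intro h
    apply hη'.2
    field_simp
    linear_combination h
  have hlc : l = c := by
    by_contra hlc
    rw [hl, coord_smul hf hfr, if_neg hlc] at hne
    exact hne rfl
  subst hlc
  rw [hpc] at hl
  have hcoef : (η - 1) * f (x l) (e j) ≠ 0 := mul_ne_zero (sub_ne_zero.2 hη'.1) hcj
  refine hNX g hg j l (((η - 1) * f (x l) (e j))⁻¹ * (α - 1)) ?_
  rw [← smul_smul, eq_inv_smul_iff₀ hcoef, sub_smul, one_smul, ← hl]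
  abel

/-- A column with at most eight non-zero coordinates already forces the group element to be monomial. -/
theorem fmon_of_sparse (h2 : (2 : F) ≠ 0) (ht : 10 ≤ t) (hNX : LineRigid e M) {g : GL ι F} (hg : g ∈ M)
    {a : Fin t} {A : Finset (Fin t)} (hA : A.card ≤ 8) (hcol : ∀ l, l ∉ A → f (mv g (e a)) (e l) = 0) :
    FMon e g := by
  classical
  have hgi : ∀ p q, f (mv g⁻¹ p) (mv g⁻¹ q) = f p q := fun p q => (hMS (M.inv_mem hg)).1 p q
  have hgf : ∀ p q, f (mv g p) (mv g q) = f p q := fun p q => (hMS hg).1 p q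
  obtain ⟨c, hc, d, hd, hcd⟩ := Finset.one_lt_card.1
    (show 1 < Aᶜ.card by rw [Finset.card_compl, Fintype.card_fin]; omega)
  rw [Finset.mem_compl] at hc hd
  obtain ⟨u, huM, hu⟩ := exists_signs_pair hf hfr hMS hMon hcd
  have hfix : mv u (mv g (e a)) = mv g (e a) := coord_ext hf hfr fun l => by
    rw [Signs.coord hf hfr hu]
    split_ifs with hl
    · simp only [Finset.mem_insert, Finset.mem_singleton] at hl
      have h0 : f (mv g (e a)) (e l) = 0 := by rcases hl with rfl | rfl <;> apply hcol <;> assumption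
      rw [h0, neg_zero]
    · rfl
  have hmon := hNX _ (M.mul_mem (M.mul_mem (M.inv_mem hg) huM) hg) a a 1
    (by rw [mv_mul, mv_mul, hfix, mv_inv_mv, one_smul])
  obtain ⟨S, hS, hS'⟩ := sparse_of_conj hf hfr h2 hgi hu (by rwa [inv_inv])
  rw [Finset.card_pair hcd] at hS
  obtain ⟨m, hm, m', hm', hmm⟩ := Finset.one_lt_card.1
    (show 1 < Sᶜ.card by rw [Finset.card_compl, Fintype.card_fin]; omega)
  rw [Finset.mem_compl] at hm hm'
  obtain ⟨v, hvM, hv⟩ := exists_signs_pair hf hfr hMS hMon hmm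
  have hfixd : mv v (mv g⁻¹ (e d)) = mv g⁻¹ (e d) := coord_ext hf hfr fun l => by
    rw [Signs.coord hf hfr hv]
    split_ifs with hl
    · simp only [Finset.mem_insert, Finset.mem_singleton] at hl
      have h0 : f (mv g⁻¹ (e d)) (e l) = 0 := by rcases hl with rfl | rfl <;> apply hS' d (by simp) <;> assumption
      rw [h0, neg_zero]
    · rfl
  have hmon' := hNX _ (M.mul_mem (M.mul_mem hg hvM) (M.inv_mem hg)) d d 1
    (by rw [mv_mul, mv_mul, hfixd, mv_mv_inv, one_smul])
  obtain ⟨T, hT, hT'⟩ := sparse_of_conj hf hfr h2 hgf hv hmon'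
  rw [Finset.card_pair hmm] at hT
  exact fmon_of_sparse_strong hf hfr hMS hMon h2 hNX hg (a := m) (A := T) (by omega) (hT' m (by simp))

/-- In odd characteristic the group is monomial or some non-monomial element fixes a frame line. -/
theorem not_lineRigid (h2 : (2 : F) ≠ 0) (ht : 10 ≤ t) (hnm : ∃ g ∈ M, ¬ FMon e g) :
    ∃ g ∈ M, ¬ FMon e g ∧ ∃ a l, ∃ c : F, mv g (e a) = c • e l := by
  classical
  by_contra hcon
  push Not at hcon
  have hNX : LineRigid e M := fun g hg a l c h => by
    by_contra hm; exact hcon g hg hm a l c h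
  have hMf : ∀ g ∈ M, ∀ p q, f (mv g p) (mv g q) = f p q := fun g hg p q => (hMS hg).1 p q
  -- commuting with a sign element
  have hC : ∀ y ∈ M, ∀ (A : Finset (Fin t)) (i : GL ι F), A.Nonempty → A.card ≤ 8 → Signs e A i →
      i * y = y * i → FMon e y := by
    intro y hy A i hAne hA8 hi hc
    obtain ⟨a, ha⟩ := hAne
    refine fmon_of_sparse hf hfr hMS hMon h2 ht hNX hy (a := a) hA8 fun l hl => ?_
    have h := Signs.coord hf hfr hi (mv y (e a)) l
    rw [← mv_mul, hc, mv_mul, hi a, if_pos ha, mv_neg, neg_left hf, if_neg hl] at h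
    exact (mul_eq_zero.1 (show (2 : F) * f (mv y (e a)) (e l) = 0 by linear_combination -h)).resolve_left h2
  -- conjugating a sign element into the monomial group
  have hX : ∀ x ∈ M, ∀ (W : Finset (Fin t)) (w : GL ι F), W.Nonempty → W.card ≤ 4 → Signs e W w →
      FMon e (x * w * x⁻¹) → FMon e x := by
    intro x hx W w hWne hW hw hm
    obtain ⟨a, ha⟩ := hWne
    obtain ⟨S, hS, hS'⟩ := sparse_of_conj hf hfr h2 (hMf x hx) hw hm
    exact fmon_of_sparse hf hfr hMS hMon h2 ht hNX hx (a := a) (A := S) (by omega) (hS' a ha)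
  obtain ⟨g, hg, hgm⟩ := hnm
  let p : Fin 4 → Fin t := fun i => ⟨i.1, by omega⟩
  have hp : Function.Injective p := fun i j h => Fin.ext (Fin.mk.inj_iff.1 h)
  have hp01 : p 0 ≠ p 1 := hp.ne (by decide)
  obtain ⟨w₂, hw₂M, hw₂⟩ := exists_signs_pair hf hfr hMS hMon hp01
  obtain ⟨w₂', hw₂'M, hw₂'⟩ := exists_signs_pair hf hfr hMS hMon (hp.ne (show (2 : Fin 4) ≠ 3 by decide))
  set B := Finset.univ.image p with hB
  have hB4 : B.card = 4 := by rw [hB, Finset.card_image_of_injective _ hp, Finset.card_univ, Fintype.card_fin]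
  set u := w₂ * w₂' with hudef
  have huM : u ∈ M := M.mul_mem hw₂M hw₂'M
  have hu : Signs e B u := by
    intro k
    rw [hudef, mv_mul, hw₂']
    simp only [hB, Finset.mem_image, Finset.mem_univ, true_and, Finset.mem_insert, Finset.mem_singleton]
    rcases eq_or_ne k (p 2) with rfl | h2'
    · rw [if_pos (Or.inl rfl), mv_neg, hw₂, if_neg (by simp [hp.eq_iff]), if_pos ⟨2, rfl⟩]
    rcases eq_or_ne k (p 3) with rfl | h3'
    · rw [if_pos (Or.inr rfl), mv_neg, hw₂, if_neg (by simp [hp.eq_iff]), if_pos ⟨3, rfl⟩]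
    rw [if_neg (by tauto), hw₂]
    simp only [Finset.mem_insert, Finset.mem_singleton]
    congr 1
    refine propext ⟨fun h => ?_, fun ⟨i, hi⟩ => ?_⟩
    · rcases h with h | h
      · exact ⟨0, h.symm⟩
      · exact ⟨1, h.symm⟩
    · subst hi
      fin_cases i
      · exact Or.inl rfl
      · exact Or.inr rfl
      · exact absurd rfl h2'
      · exact absurd rfl h3'
  have hW2 : ({p 0, p 1} : Finset (Fin t)).card ≤ 4 := Finset.card_le_two.trans (by norm_num)
  set t' := g * w₂ * g⁻¹ with ht'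
  have ht'M : t' ∈ M := M.mul_mem (M.mul_mem hg hw₂M) (M.inv_mem hg)
  have ht'm : ¬ FMon e t' := fun h => hgm (hX g hg _ w₂ (Finset.insert_nonempty _ _) hW2 hw₂ h)
  have ht'2 : t' * t' = 1 := by
    rw [ht', show g * w₂ * g⁻¹ * (g * w₂ * g⁻¹) = g * (w₂ * w₂) * g⁻¹ by group,
      Signs.mul_self hf hfr hw₂, mul_one, mul_inv_cancel]
  rcases dihedral_cases (Signs.mul_self hf hfr hu) ht'2 with ⟨j, hj⟩ | ⟨m, hm1, hm2, hmu, hmt, j, hj⟩
  · -- the two involutions are not conjugate
    set y := (u * t') ^ j * g with hy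
    have hyM : y ∈ M := M.mul_mem (M.pow_mem (M.mul_mem huM ht'M) j) hg
    have huy : u * y = y * w₂ := by
      have h1 : (u * t') ^ j * t' * ((u * t') ^ j)⁻¹ * y = y * w₂ := by rw [hy, ht']; group
      rwa [hj] at h1
    have := orth_family_card hf hfr (fun k : (({p 0, p 1} : Finset (Fin t))ᶜ : Finset (Fin t)) => mv y (e k.1))
      (fun k => by rw [hMf y hyM, frame_self hf hfr]; exact one_ne_zero)
      (fun k l h => by rw [hMf y hyM]; exact frame_other hf hfr fun h' => h (Subtype.ext h'))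
      Bᶜ (fun k l hl => by
        rw [Finset.mem_compl, not_not] at hl
        have h := Signs.coord hf hfr hu (mv y (e k.1)) l
        rw [← mv_mul, huy, mv_mul, hw₂ k.1, if_neg (Finset.mem_compl.1 k.2), if_pos hl] at h
        exact (mul_eq_zero.1 (show (2 : F) * f (mv y (e k.1)) (e l) = 0 by linear_combination h)).resolve_left h2)
    rw [Fintype.card_coe, Finset.card_compl, Finset.card_compl, Finset.card_pair hp01, hB4, Fintype.card_fin] at this
    omega
  · set i := (u * t') ^ m with hi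
    have hiM : i ∈ M := M.pow_mem (M.mul_mem huM ht'M) m
    have hBne : B.Nonempty := Finset.card_pos.1 (by omega)
    have him : FMon e i := hC i hiM B u hBne (by omega) hu hmu
    have hium : FMon e (i * u) := FMon.mul him hu.fmon
    -- i u is conjugate to u or to w₂
    obtain ⟨x, hxM, W, w, hWne, hW, hw, hxw⟩ : ∃ x ∈ M, ∃ (W : Finset (Fin t)) (w : GL ι F), W.Nonempty ∧
        W.card ≤ 4 ∧ Signs e W w ∧ x * w * x⁻¹ = i * u := by
      rcases hj with hj | hj
      · exact ⟨_, M.pow_mem (M.mul_mem huM ht'M) j, B, u, hBne, hB4.le, hu, hj⟩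
      · exact ⟨_, M.mul_mem (M.pow_mem (M.mul_mem huM ht'M) j) hg, {p 0, p 1}, w₂, Finset.insert_nonempty _ _,
          hW2, hw₂, by rw [← hj, ht']; group⟩
    have hxm : FMon e x := hX x hxM W w hWne hW hw (hxw ▸ hium)
    obtain ⟨π, c, hc1, hc⟩ := FMon.perm hf hfr hxm (hMf x hxM)
    set W' := W.image π with hW'
    have hiu : Signs e W' (i * u) := by
      intro k
      obtain ⟨k', rfl⟩ := π.surjective k
      have hinv : mv x⁻¹ (e (π k')) = σ (c k') • e k' := by
        refine ((mv_eq_iff x).1 ?_).symm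
        rw [mv_smul, hc, smul_smul, mul_comm, hc1, one_smul]
      have hiff : π k' ∈ W' ↔ k' ∈ W := by simp [hW']
      rw [← hxw, mv_mul, mv_mul, hinv, mv_smul, hw]
      by_cases hk : k' ∈ W
      · rw [if_pos hk, if_pos (hiff.2 hk), mv_smul, mv_neg, hc, smul_neg, smul_smul, mul_comm, hc1, one_smul]
      · rw [if_neg hk, if_neg fun h => hk (hiff.1 h), mv_smul, hc, smul_smul, mul_comm, hc1, one_smul]
    set A := (W' \ B) ∪ (B \ W') with hA
    have hiA : Signs e A i := by
      intro k
      have hieq : i = i * u * u := by rw [mul_assoc, Signs.mul_self hf hfr hu, mul_one]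
      rw [hieq, mv_mul, hu k]
      simp only [hA, Finset.mem_union, Finset.mem_sdiff]
      by_cases hk1 : k ∈ B <;> by_cases hk2 : k ∈ W' <;> simp [hk1, hk2, mv_neg, hiu k]
    have hAne : A.Nonempty := by
      rcases A.eq_empty_or_nonempty with he | he
      · exact absurd (ext_frame hf hfr fun k => by rw [hiA k, he, if_neg (Finset.notMem_empty k), mv_one]) hm1
      · exact he
    have hA8 : A.card ≤ 8 := by
      have h1 := Finset.card_union_le (W' \ B) (B \ W')
      have h2' : (W' \ B).card ≤ W'.card := Finset.card_le_card Finset.sdiff_subset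
      have h3 : (B \ W').card ≤ B.card := Finset.card_le_card Finset.sdiff_subset
      have h4 : W'.card ≤ W.card := Finset.card_image_le
      rw [← hA] at h1
      omega
    exact ht'm (hC t' ht'M A i hAne hA8 hiA hmt.symm)

end Cfsg.Agent.Transvec.Herm
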