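/-
Maximality in the isometry group of an alternating form of the stabiliser of an orthogonal decomposition.
-/
import Cfsg.Agent.Lib.Transvec.AltMaximal
set_option autoImplicit false

namespace Cfsg.Agent.Transvec

open scoped Matrix
open Matrix

variable {ι : Type} [Fintype ι] [DecidableEq ι] {F : Type*} [Field F]
variable {f : (ι → F) → (ι → F) → F} (hf : Geo.IsSymplecticForm f)

include hf

theorem nondeg_of_isNondegenerateOn {W : Submodule F (ι → F)} (hW : Geo.IsNondegenerateOn f W) :
    Nondeg hf W :=
  (nondeg_iff hf).2 fun u hu h => by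
    by_contra hu0
    obtain ⟨x, hx, hxu⟩ := (hW u hu hu0).1
    exact hxu (h x hx)

/-- An isometry fixing the orthogonal space of X pointwise maps X into itself. -/
theorem mv_mem_of_fix_orth {X : Submodule F (ι → F)} (hX : Nondeg hf X) {g : GL ι F}
    (hg : g ∈ preserving (Units.coeHom (Matrix ι ι F)) f)
    (hfix : ∀ y, (∀ x ∈ X, f y x = 0) → mv g y = y) {x : ι → F} (hx : x ∈ X) : mv g x ∈ X := by
  obtain ⟨u, hu, hxu⟩ := exists_proj hf hX (mv g x)
  have : mv g x - u = 0 := by
    refine (nondeg_iff hf).1 (nondeg_orth hf hX) _ hxu fun y hy => ?_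
    have h1 : mv g y = y := hfix y fun z hz => (f_eq_zero_comm hf).1 (hy z hz)
    have h2 := hg y x
    change f (mv g y) (mv g x) = f y x at h2
    rw [h1, (f_eq_zero_comm hf).1 (hy x hx)] at h2
    rw [f_sub_right hf, h2, (f_eq_zero_comm hf).1 (hy u hu), sub_zero]
  rwa [sub_eq_zero.1 this]

/-- Non-degenerate subspaces of equal dimension inside X are conjugate by transvections centred in X. -/
theorem exists_map_subspace {X : Submodule F (ι → F)} (hX : Nondeg hf X) {K : Subgroup (GL ι F)}
    (hK : ∀ v ∈ X, ∀ c, stv hf v c ∈ K) (hKf : K ≤ preserving (Units.coeHom (Matrix ι ι F)) f) :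
    ∀ (d : ℕ) (U U' Y : Submodule F (ι → F)), U ≤ X → U' ≤ X → Nondeg hf U → Nondeg hf U' →
      Nondeg hf Y → Y ≤ U → Y ≤ U' → Module.finrank F U = Module.finrank F U' →
      Module.finrank F U ≤ Module.finrank F Y + d →
      ∃ g ∈ K, (∀ u ∈ U, mv g u ∈ U') ∧ ∀ y, (∀ x ∈ X, f y x = 0) → mv g y = y := by
  intro d
  induction d with
  | zero =>
    intro U U' Y _ _ _ _ _ hYU hYU' _ hle
    refine ⟨1, K.one_mem, fun u hu => ?_, fun y _ => mv_one y⟩
    rw [mv_one]
    exact hYU' ((Submodule.eq_of_le_of_finrank_le hYU hle).symm ▸ hu)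
  | succ d ih =>
    intro U U' Y hUX hU'X hU hU' hY hYU hYU' hdim hle
    by_cases heq : Y = U
    · subst heq
      exact ⟨1, K.one_mem, fun u hu => by rw [mv_one]; exact hYU' hu, fun y _ => mv_one y⟩
    have hne : Y ≠ U' := fun h => heq (Submodule.eq_of_le_of_finrank_eq hYU (by rw [hdim, h]))
    have pick : ∀ T : Submodule F (ι → F), Nondeg hf T → Y ≤ T → Y ≠ T →
        ∃ e ∈ T ⊓ orth hf Y, ∃ e' ∈ T ⊓ orth hf Y, f e e' = 1 := by
      intro T hT hYT hYne
      obtain ⟨v, hv, hvY⟩ := SetLike.exists_of_lt (lt_of_le_of_ne hYT hYne)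
      obtain ⟨u, hu, hvu⟩ := exists_proj hf hY v
      have hmem : v - u ∈ T ⊓ orth hf Y := ⟨T.sub_mem hv (hYT hu), hvu⟩
      obtain ⟨e', he', h1⟩ := exists_partner hf (nondeg_inf_orth hf hY hT hYT) hmem
        (fun h => hvY (by rw [sub_eq_zero.1 h]; exact hu))
      exact ⟨_, hmem, e', he', h1⟩
    obtain ⟨e, he, e', he', hee⟩ := pick U hU hYU heq
    obtain ⟨a, ha, a', ha', haa⟩ := pick U' hU' hYU' hne
    have hX' := nondeg_inf_orth hf hY hX (hYU.trans hUX)
    obtain ⟨g, hg, hge, hge', hgfix⟩ := exists_move_pair hf hX' (K := K)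
      (fun v hv c => hK v hv.1 c) hKf ⟨hUX he.1, he.2⟩ ⟨hU'X ha.1, ha.2⟩ ⟨hUX he'.1, he'.2⟩
      ⟨hU'X ha'.1, ha'.2⟩ hee haa
    have hgY : ∀ y ∈ Y, mv g y = y := fun y hy => hgfix y fun x hx => hx.2 y hy
    have hgX : ∀ y, (∀ x ∈ X, f y x = 0) → mv g y = y := fun y hy => hgfix y fun x hx => hy x hx.1
    have hinj : Function.Injective (mvLin g) := fun x y h => mv_inj g (by simpa using h)
    set U₁ := U.map (mvLin g) with hU₁def
    have hmemU₁ : ∀ u ∈ U, mv g u ∈ U₁ := fun u hu => ⟨u, hu, by simp⟩
    have hU₁X : U₁ ≤ X := by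
      rintro _ ⟨u, hu, rfl⟩
      simpa using mv_mem_of_fix_orth hf hX (hKf hg) hgX (hUX hu)
    have hU₁ : Nondeg hf U₁ := by
      rw [nondeg_iff]
      rintro _ ⟨u, hu, rfl⟩ h
      have : u = 0 := (nondeg_iff hf).1 hU u hu fun w hw => by
        have h1 := h _ (hmemU₁ w hw)
        have h2 := hKf hg w u
        change f (mv g w) (mv g u) = f w u at h2
        rw [← h2]
        simpa using h1
      rw [this, map_zero]
    obtain ⟨hN, hlt⟩ := nondeg_sup_pair hf hY ha.2 ha'.2 haa
    obtain ⟨k, hk, hkU, hkfix⟩ := ih U₁ U' _ hU₁X hU'X hU₁ hU' hN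
      (sup_le (fun y hy => by have := hmemU₁ y (hYU hy); rwa [hgY y hy] at this)
        (Submodule.span_le.2 (by
          intro x hx
          rcases hx with rfl | rfl
          · rw [← hge]; exact hmemU₁ e he.1
          · rw [← hge']; exact hmemU₁ e' he'.1)))
      (sup_le hYU' (Submodule.span_le.2 (by
          intro x hx
          rcases hx with rfl | rfl
          · exact ha.1
          · exact ha'.1)))
      (by rw [← LinearEquiv.finrank_eq (Submodule.equivMapOfInjective (mvLin g) hinj U), hdim])
      (by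
        rw [← LinearEquiv.finrank_eq (Submodule.equivMapOfInjective (mvLin g) hinj U)]
        have := Submodule.finrank_lt_finrank_of_lt hlt; omega)
    exact ⟨k * g, K.mul_mem hk hg, fun u hu => by rw [mv_mul]; exact hkU _ (hmemU₁ u hu),
      fun y hy => by rw [mv_mul, hgX y hy, hkfix y hy]⟩

section Wreath

variable {t k : ℕ} {D : Fin t → Submodule F (ι → F)}
variable (hD : Geo.IsNondegenerateMDecomposition f k D)

include hD

theorem f_block {i j : Fin t} (h : i ≠ j) {u v : ι → F} (hu : u ∈ D i) (hv : v ∈ D j) : f u v = 0 :=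
  hD.orthogonal i j h u hu v hv

theorem exists_sum_blocks (v : ι → F) : ∃ x : Fin t → ι → F, (∀ i, x i ∈ D i) ∧ v = ∑ i, x i := by
  have hv : v ∈ iSup D := by rw [hD.decomp.iSup_eq_top]; exact Submodule.mem_top
  obtain ⟨x, hx, hsum⟩ := (Submodule.mem_iSup_iff_exists_finsupp D v).1 hv
  exact ⟨x, hx, by rw [← hsum, Finsupp.sum_fintype _ _ fun _ => rfl]⟩

theorem f_sum_block {x : Fin t → ι → F} (hx : ∀ i, x i ∈ D i) {j : Fin t} {u : ι → F}
    (hu : u ∈ D j) (S : Finset (Fin t)) :
    f u (∑ i ∈ S, x i) = if j ∈ S then f u (x j) else 0 := by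
  rw [f_sum_right hf]
  split_ifs with h
  · exact Finset.sum_eq_single_of_mem j h fun i _ hij => f_block hf hD (Ne.symm hij) hu (hx i)
  · exact Finset.sum_eq_zero fun i hi => f_block hf hD (by rintro rfl; exact h hi) hu (hx i)

theorem sum_not_mem_block {x : Fin t → ι → F} (hx : ∀ i, x i ∈ D i) {S : Finset (Fin t)} {i j : Fin t}
    (hi : i ∈ S) (hxi : x i ≠ 0) (hij : i ≠ j) : ∑ l ∈ S, x l ∉ D j := by
  intro h
  refine hxi ((nondeg_iff hf).1 (nondeg_of_isNondegenerateOn hf (hD.nondegenerate i)) _ (hx i) fun w hw => ?_)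
  have := f_sum_block hf hD hx hw S
  rw [if_pos hi, f_block hf hD hij hw h] at this
  exact this.symm

theorem exists_nonzero_block (i : Fin t) : ∃ u ∈ D i, u ≠ 0 :=
  (D i).ne_bot_iff.1 fun h => by
    have := hD.decomp.finrank_eq i
    rw [h, finrank_bot] at this
    exact hD.decomp.pos.ne' this.symm

theorem mem_decompositionStabilizer {g : GL ι F}
    (h : ∀ i, ∃ j, ∀ u ∈ D i, mv g u ∈ D j) : g ∈ Geo.decompositionStabilizer D := by
  choose σ hσ using h
  have hinj : Function.Injective (mvLin g) := fun x y h => mv_inj g (by simpa using h)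
  have hmap : ∀ i, (D i).map (mvLin g) = D (σ i) := by
    intro i
    refine Submodule.eq_of_le_of_finrank_eq ?_ ?_
    · rintro _ ⟨u, hu, rfl⟩
      simpa using hσ i u hu
    · rw [← LinearEquiv.finrank_eq (Submodule.equivMapOfInjective (mvLin g) hinj (D i)),
        hD.decomp.finrank_eq, hD.decomp.finrank_eq]
  have hσi : Function.Injective σ := by
    intro i j hij
    by_contra hne
    have heq : D i = D j := Submodule.map_injective_of_injective hinj (by rw [hmap, hmap, hij])
    obtain ⟨u, hu, hu0⟩ := exists_nonzero_block hf hD i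
    exact hu0 ((nondeg_iff hf).1 (nondeg_of_isNondegenerateOn hf (hD.nondegenerate i)) u hu fun w hw =>
      f_block hf hD hne hw (heq ▸ hu))
  exact ⟨Equiv.ofBijective σ (Finite.injective_iff_bijective.1 hσi), fun i => hmap i⟩

theorem wreath_maximal (hex : k ≠ 2 ∨ ∃ μ : F, μ ≠ 0 ∧ μ ≠ -1) :
    Geo.IsMaximalIn (preserving (Units.coeHom (Matrix ι ι F)) f)
      (Geo.decompositionStabilizer D ⊓ preserving (Units.coeHom (Matrix ι ι F)) f) := by
  classical
  have hN := fun i => nondeg_of_isNondegenerateOn hf (hD.nondegenerate i)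
  have ht : 2 ≤ t := hD.decomp.two_le
  choose z hz hz0 using exists_nonzero_block hf hD
  have hk2 : 2 ≤ k := by
    have i : Fin t := ⟨0, by omega⟩
    obtain ⟨d, hd, hzd⟩ := exists_partner hf (hN i) (hz i) (hz0 i)
    by_contra hk
    have hk1 : k = 1 := by have := hD.decomp.pos; omega
    have hspan : Submodule.span F {z i} = D i := Submodule.eq_of_le_of_finrank_eq
      ((Submodule.span_singleton_le_iff_mem _ _).2 (hz i))
      (by rw [finrank_span_singleton (hz0 i), hD.decomp.finrank_eq, hk1])
    rw [← hspan] at hd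
    obtain ⟨a, rfl⟩ := Submodule.mem_span_singleton.1 hd
    rw [hf.bilinear.smul_right, hf.alternating, mul_zero] at hzd
    exact zero_ne_one hzd
  set a₀ : Fin t := ⟨0, by omega⟩
  set b₀ : Fin t := ⟨1, by omega⟩
  have hab₀ : a₀ ≠ b₀ := fun h => by simp [a₀, b₀, Fin.ext_iff] at h
  refine ⟨?_, fun M hHM hMS => ?_⟩
  · refine lt_of_le_of_ne inf_le_right fun he => ?_
    obtain ⟨d, hd, hzd⟩ := exists_partner hf (hN a₀) (hz a₀) (hz0 a₀)
    obtain ⟨σ, hσ⟩ := (he.ge (stv_mem hf (d + z b₀) 1)).1
    have hm : mv (stv hf (d + z b₀) 1) (z a₀) ∈ D (σ a₀) := by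
      rw [← hσ a₀]; exact ⟨z a₀, hz a₀, by simp⟩
    rw [mv_stv, hf.bilinear.add_right, hzd, f_block hf hD hab₀ (hz a₀) (hz b₀), add_zero, one_mul,
      one_smul, ← add_assoc] at hm
    set x : Fin t → ι → F := fun i => if i = a₀ then z a₀ + d else if i = b₀ then z b₀ else 0 with hxdef
    have hx : ∀ i, x i ∈ D i := by
      intro i
      simp only [hxdef]
      split_ifs with h1 h2
      · subst h1; exact Submodule.add_mem _ (hz _) hd
      · subst h2; exact hz _
      · exact Submodule.zero_mem _
    have hsum : ∑ l ∈ ({a₀, b₀} : Finset (Fin t)), x l = z a₀ + d + z b₀ := by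
      rw [Finset.sum_pair hab₀]
      simp [hxdef, hab₀.symm]
    rw [← hsum] at hm
    by_cases hσa : σ a₀ = a₀
    · refine sum_not_mem_block hf hD hx (i := b₀) (by simp) ?_ (by rw [hσa]; exact hab₀.symm) hm
      simp [hxdef, hab₀.symm, hz0]
    · refine sum_not_mem_block hf hD hx (i := a₀) (by simp) ?_ (Ne.symm hσa) hm
      simp only [hxdef, if_pos]
      intro h
      rw [eq_neg_of_add_eq_zero_right h, f_neg_right hf, hf.alternating, neg_zero] at hzd
      exact zero_ne_one hzd
  set C := sCentres hf M
  have hC1 : ∀ i, ∀ v ∈ D i, v ∈ C := fun i v hv c => hHM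
    ⟨mem_decompositionStabilizer hf hD fun j => ⟨j, fun u hu => by
      by_cases hij : j = i
      · subst hij; rw [mv_stv]; exact Submodule.add_mem _ hu (Submodule.smul_mem _ _ hv)
      · rwa [stv_fix hf _ _ (f_block hf hD hij hu hv)]⟩, stv_mem hf v c⟩
  by_cases hmix : ∃ v ∈ C, ∀ i, v ∉ D i
  swap
  · refine Or.inl (le_antisymm (fun g hg => ⟨mem_decompositionStabilizer hf hD fun i => ?_, hMS hg⟩) hHM)
    push Not at hmix
    obtain ⟨j, hj⟩ := hmix _ (sCentres_mv hf hMS hg (hC1 i _ (hz i)))
    refine ⟨j, fun u hu => ?_⟩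
    obtain ⟨l, hl⟩ := hmix _ (sCentres_mv hf hMS hg (hC1 i _ hu))
    by_cases hlj : l = j
    · exact hlj ▸ hl
    · obtain ⟨p, hp⟩ := hmix _ (sCentres_mv hf hMS hg (hC1 i _ ((D i).add_mem (hz i) hu)))
      rw [mv_add] at hp
      by_contra huj
      set x : Fin t → ι → F := fun q => if q = j then mv g (z i) else if q = l then mv g u else 0 with hxdef
      have hx : ∀ q, x q ∈ D q := by
        intro q
        simp only [hxdef]
        split_ifs with h1 h2
        · subst h1; exact hj
        · subst h2; exact hl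
        · exact Submodule.zero_mem _
      have hsum : ∑ q ∈ ({j, l} : Finset (Fin t)), x q = mv g (z i) + mv g u := by
        rw [Finset.sum_pair (Ne.symm hlj)]
        simp [hxdef, hlj]
      rw [← hsum] at hp
      by_cases hpj : p = j
      · refine sum_not_mem_block hf hD hx (i := l) (by simp) ?_ (by rw [hpj]; exact hlj) hp
        simp only [hxdef, if_neg hlj, if_pos]
        exact fun h => huj (h ▸ Submodule.zero_mem _)
      · refine sum_not_mem_block hf hD hx (i := j) (by simp) ?_ (Ne.symm hpj) hp
        simp only [hxdef, if_pos]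
        exact fun h => hz0 i (mv_inj g (h.trans (mv_zero g).symm))
  refine Or.inr (sCentres_eq_univ hf hMS ?_)
  let Pat : Finset (Fin t) → Prop := fun S =>
    ∀ x : Fin t → ι → F, (∀ i, x i ∈ D i) → (∀ i ∈ S, x i ≠ 0) → ∑ i ∈ S, x i ∈ C
  have wit : ∀ (S : Finset (Fin t)) (x : Fin t → ι → F), (∀ i, x i ∈ D i) → (∀ i ∈ S, x i ≠ 0) →
      ∑ i ∈ S, x i ∈ C → Pat S := by
    intro S x hx hx0 hxC y hy hy0
    suffices H : ∀ R ⊆ S, (∑ i ∈ S, if i ∈ R then y i else x i) ∈ C by
      have := H S subset_rfl
      rwa [Finset.sum_congr rfl fun i hi => if_pos hi] at this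
    intro R
    induction R using Finset.induction with
    | empty => intro _; simpa using hxC
    | @insert r R hr ih =>
      intro hRS
      have hrS : r ∈ S := hRS (Finset.mem_insert_self _ _)
      obtain ⟨g, hg, hgr, hgfix⟩ := exists_move_nondeg hf (hN r) (K := M)
        (fun v hv c => hC1 r v hv c) (hx r) (hy r) (hx0 r hrS) (hy0 r hrS)
      have := sCentres_mv hf hMS hg (ih fun q hq => hRS (Finset.mem_insert_of_mem hq))
      rw [mv_sum] at this
      refine (Finset.sum_congr rfl fun i hi => ?_).subst this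
      by_cases hir : i = r
      · subst hir; rw [if_neg hr, if_pos (Finset.mem_insert_self _ _), hgr]
      · rw [hgfix _ fun w hw => ?_]
        · simp [hir]
        · split_ifs
          · exact f_block hf hD hir (hy i) hw
          · exact f_block hf hD hir (hx i) hw
  have fsum : ∀ (S : Finset (Fin t)) (x y : Fin t → ι → F), (∀ i, x i ∈ D i) → (∀ i, y i ∈ D i) →
      f (∑ i ∈ S, x i) (∑ i ∈ S, y i) = ∑ i ∈ S, f (x i) (y i) := by
    intro S x y hx hy
    rw [f_sum_left hf]
    exact Finset.sum_congr rfl fun i hi => by rw [f_sum_block hf hD hy (hx i), if_pos hi]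
  -- a vector orthogonal to y that is neither 0 nor -y
  have special : ∀ i, ∀ y ∈ D i, y ≠ 0 → ∃ v ∈ D i, v ≠ 0 ∧ f y v = 0 ∧ y + v ≠ 0 := by
    intro i y hy hy0
    by_cases hk3 : 3 ≤ k
    · obtain ⟨v, hv, hvy⟩ : ∃ v ∈ D i ⊓ LinearMap.ker (formR hf y), v ∉ Submodule.span F {y} := by
        by_contra h
        push Not at h
        have h1 := Submodule.finrank_mono (s := D i ⊓ LinearMap.ker (formR hf y))
          (t := Submodule.span F {y}) h
        rw [finrank_span_singleton hy0] at h1
        have h2 := Submodule.finrank_sup_add_finrank_inf_eq (D i) (LinearMap.ker (formR hf y))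
        have h3 := Submodule.finrank_le (D i ⊔ LinearMap.ker (formR hf y))
        have h4 := LinearMap.finrank_range_add_finrank_ker (formR hf y)
        have h5 := Submodule.finrank_le (LinearMap.range (formR hf y))
        rw [Module.finrank_self] at h5
        rw [hD.decomp.finrank_eq] at h2
        omega
      refine ⟨v, hv.1, fun h => hvy (h ▸ Submodule.zero_mem _),
        (f_eq_zero_comm hf).1 (LinearMap.mem_ker.1 hv.2), fun h => hvy ?_⟩
      rw [eq_neg_of_add_eq_zero_right h]
      exact Submodule.neg_mem _ (Submodule.mem_span_singleton_self y)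
    · obtain ⟨μ, hμ0, hμ1⟩ := hex.resolve_left (fun h => h (by omega))
      refine ⟨μ • y, Submodule.smul_mem _ _ hy, smul_ne_zero hμ0 hy0,
        by rw [hf.bilinear.smul_right, hf.alternating, mul_zero], fun h => hμ1 ?_⟩
      have h' : (1 + μ) • y = 0 := by rw [add_smul, one_smul]; exact h
      linear_combination (smul_eq_zero.1 h').resolve_right hy0
  -- from a pattern to a pair inside it
  have cancel : ∀ S, Pat S → ∀ a ∈ S, ∀ b ∈ S, a ≠ b → Pat {a, b} := by
    intro S hS a ha b hb hab
    obtain ⟨d, hd, hzd⟩ := exists_partner hf (hN a) (hz a) (hz0 a)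
    obtain ⟨v, hv, hv0, hzv, hzv'⟩ := special b (z b) (hz b) (hz0 b)
    set y : Fin t → ι → F := fun i => if i = a then d else if i = b then v else -z i with hydef
    have hy : ∀ i, y i ∈ D i := by
      intro i
      simp only [hydef]
      split_ifs with h1 h2
      · subst h1; exact hd
      · subst h2; exact hv
      · exact Submodule.neg_mem _ (hz i)
    have hy0 : ∀ i ∈ S, y i ≠ 0 := by
      intro i _
      simp only [hydef]
      split_ifs with h1 h2
      · intro h; rw [h, f_zero_right hf] at hzd; exact zero_ne_one hzd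
      · exact hv0
      · exact neg_ne_zero.2 (hz0 i)
    have hfzy : f (∑ i ∈ S, z i) (∑ i ∈ S, y i) ≠ 0 := by
      rw [fsum S z y hz hy, Finset.sum_eq_single_of_mem a ha]
      · simp only [hydef, if_pos, hzd]; exact one_ne_zero
      · intro i _ hia
        simp only [hydef, if_neg hia]
        split_ifs with h2
        · subst h2; exact hzv
        · rw [f_neg_right hf, hf.alternating, neg_zero]
    have := sCentres_add hf hMS (hS z hz fun i _ => hz0 i) (hS y hy hy0) hfzy
    rw [← Finset.sum_add_distrib] at this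
    refine wit _ (fun i => z i + y i) (fun i => (D i).add_mem (hz i) (hy i)) ?_ ?_
    · intro i hi
      simp only [Finset.mem_insert, Finset.mem_singleton] at hi
      rcases hi with rfl | rfl
      · simp only [hydef, if_pos]
        intro h
        rw [eq_neg_of_add_eq_zero_right h, f_neg_right hf, hf.alternating, neg_zero] at hzd
        exact zero_ne_one hzd
      · simp only [hydef, if_neg hab.symm, if_pos]
        exact hzv'
    · rw [Finset.sum_subset (s₂ := S) (f := fun i => z i + y i) ?_ ?_]
      · exact this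
      · intro i hi
        simp only [Finset.mem_insert, Finset.mem_singleton] at hi
        rcases hi with rfl | rfl <;> assumption
      · intro i _ hi
        simp only [Finset.mem_insert, Finset.mem_singleton, not_or] at hi
        simp [hydef, hi.1, hi.2]
  -- moving the second member of a pair
  have swapPair : ∀ a b c, a ≠ b → a ≠ c → Pat {a, b} → Pat {a, c} := by
    intro a b c hab hac hP
    rcases eq_or_ne b c with rfl | hbc
    · exact hP
    set X := D b ⊔ D c with hXdef
    have hX : Nondeg hf X := by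
      rw [nondeg_iff]
      intro w hw h
      obtain ⟨p, hp, q, hq, rfl⟩ := Submodule.mem_sup.1 hw
      have hp0 : p = 0 := (nondeg_iff hf).1 (hN b) p hp fun u hu => by
        have := h u (Submodule.mem_sup_left hu)
        rwa [hf.bilinear.add_right, f_block hf hD hbc hu hq, add_zero] at this
      have hq0 : q = 0 := (nondeg_iff hf).1 (hN c) q hq fun u hu => by
        have := h u (Submodule.mem_sup_right hu)
        rwa [hf.bilinear.add_right, f_block hf hD hbc.symm hu hp, zero_add] at this
      rw [hp0, hq0, add_zero]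
    obtain ⟨g, hg, hgb, hgfix⟩ := exists_map_subspace hf hX
      (K := preserving (Units.coeHom (Matrix ι ι F)) f) (fun v _ c => stv_mem hf v c) le_rfl k (D b) (D c) ⊥
      le_sup_left le_sup_right (hN b) (hN c) (nondeg_bot hf) bot_le bot_le
      (by rw [hD.decomp.finrank_eq, hD.decomp.finrank_eq])
      (by rw [hD.decomp.finrank_eq, finrank_bot, zero_add])
    have hfix' : ∀ i, i ≠ b → i ≠ c → ∀ u ∈ D i, mv g u = u := fun i hib hic u hu =>
      hgfix u fun x hx => by
        obtain ⟨p, hp, q, hq, rfl⟩ := Submodule.mem_sup.1 hx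
        rw [hf.bilinear.add_right, f_block hf hD hib hu hp, f_block hf hD hic hu hq, add_zero]
    have hgc : ∀ u ∈ D c, mv g u ∈ D b := by
      intro u hu
      have hmem := mv_mem_of_fix_orth hf hX hg hgfix (Submodule.mem_sup_right hu : u ∈ X)
      obtain ⟨p, hp, q, hq, hpq⟩ := Submodule.mem_sup.1 hmem
      have hinj : Function.Injective (mvLin g) := fun x y h => mv_inj g (by simpa using h)
      have hmap : (D b).map (mvLin g) = D c := Submodule.eq_of_le_of_finrank_eq
        (by rintro _ ⟨w, hw, rfl⟩; simpa using hgb w hw)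
        (by rw [← LinearEquiv.finrank_eq (Submodule.equivMapOfInjective (mvLin g) hinj (D b)),
          hD.decomp.finrank_eq, hD.decomp.finrank_eq])
      have hq0 : q = 0 := (nondeg_iff hf).1 (hN c) q hq fun w hw => by
        rw [← hmap] at hw
        obtain ⟨w', hw', hw''⟩ := hw
        replace hw'' : mv g w' = w := by simpa using hw''
        have h1 := hg w' u
        change f (mv g w') (mv g u) = f w' u at h1
        rw [hw'', ← hpq, hf.bilinear.add_right, f_block hf hD hbc hw' hu] at h1
        have hwc : w ∈ D c := hw'' ▸ hgb w' hw'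
        rwa [f_block hf hD hbc.symm hwc hp, zero_add] at h1
      rw [← hpq, hq0, add_zero]
      exact hp
    have hgH : g ∈ M := hHM ⟨mem_decompositionStabilizer hf hD fun i => by
      by_cases hib : i = b
      · subst hib; exact ⟨c, hgb⟩
      by_cases hic : i = c
      · subst hic; exact ⟨b, hgc⟩
      exact ⟨i, fun u hu => by rwa [hfix' i hib hic u hu]⟩, hg⟩
    have := sCentres_mv hf hMS hgH (hP z hz fun i _ => hz0 i)
    rw [Finset.sum_pair hab, mv_add, hfix' a hab hac _ (hz a)] at this
    refine wit _ (fun i => if i = c then mv g (z b) else z i) ?_ ?_ ?_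
    · intro i
      split_ifs with h
      · subst h; exact hgb _ (hz b)
      · exact hz i
    · intro i _
      split_ifs with h
      · exact fun h0 => hz0 b (mv_inj g (h0.trans (mv_zero g).symm))
      · exact hz0 i
    · rw [Finset.sum_pair hac, if_neg hac, if_pos rfl]
      exact this
  obtain ⟨v, hv, hvD⟩ := hmix
  obtain ⟨x, hx, rfl⟩ := exists_sum_blocks hf hD v
  set S₀ := Finset.univ.filter fun i => x i ≠ 0
  have hS₀ : Pat S₀ := wit S₀ x hx (fun i hi => (Finset.mem_filter.1 hi).2)
    (by rwa [Finset.sum_filter_of_ne (fun i _ h => h)])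
  obtain ⟨a, ha, b, hb, hab⟩ : ∃ a ∈ S₀, ∃ b ∈ S₀, a ≠ b := by
    by_contra h
    push Not at h
    rcases S₀.eq_empty_or_nonempty with he | ⟨a, ha⟩
    · refine hvD a₀ ?_
      rw [Finset.sum_eq_zero fun i _ => ?_]
      · exact Submodule.zero_mem _
      · by_contra hi
        exact Finset.notMem_empty i (he ▸ Finset.mem_filter.2 ⟨Finset.mem_univ i, hi⟩)
    · refine hvD a ?_
      rw [Finset.sum_eq_single_of_mem a (Finset.mem_univ a) fun i _ hia => ?_]
      · exact hx a
      · by_contra hi
        exact hia (h a ha i (Finset.mem_filter.2 ⟨Finset.mem_univ i, hi⟩)).symm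
  have hab' := cancel S₀ hS₀ a ha b hb hab
  have step : ∀ c, c ≠ a → Pat {c, a} := fun c hc => by
    rw [Finset.pair_comm]; exact swapPair a b c hab hc.symm hab'
  have pairs : ∀ c d, c ≠ d → Pat {c, d} := by
    intro c d hcd
    by_cases hca : c = a
    · subst hca; rw [Finset.pair_comm]; exact step d hcd.symm
    · exact swapPair c a d hca hcd (step c hca)
  have all : ∀ n (S : Finset (Fin t)), S.card = n + 2 → Pat S := by
    intro n
    induction n with
    | zero =>
      intro S hS
      obtain ⟨c, d, hcd, rfl⟩ := Finset.card_eq_two.1 hS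
      exact pairs c d hcd
    | succ n ih =>
      intro S hS
      obtain ⟨b', hb'⟩ : S.Nonempty := Finset.card_pos.1 (by omega)
      obtain ⟨a', ha'⟩ : (S.erase b').Nonempty := Finset.card_pos.1 (by rw [Finset.card_erase_of_mem hb']; omega)
      have hT : Pat (S.erase b') := ih _ (by rw [Finset.card_erase_of_mem hb', hS]; omega)
      have hne : a' ≠ b' := Finset.ne_of_mem_erase ha'
      obtain ⟨d, hd, hzd⟩ := exists_partner hf (hN a') (hz a') (hz0 a')
      set y : Fin t → ι → F := fun i => if i = a' then d else z i with hydef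
      have hy : ∀ i, y i ∈ D i := by
        intro i; simp only [hydef]; split_ifs with h1
        · subst h1; exact hd
        · exact hz i
      have hd0 : d ≠ 0 := fun h => by rw [h, f_zero_right hf] at hzd; exact zero_ne_one hzd
      have h1 := hT z hz fun i _ => hz0 i
      have h2 := pairs a' b' hne y hy fun i _ => by simp only [hydef]; split_ifs; exacts [hd0, hz0 i]
      have h3 : f (∑ i ∈ S.erase b', z i) (∑ i ∈ ({a', b'} : Finset (Fin t)), y i) ≠ 0 := by
        rw [f_sum_left hf, Finset.sum_eq_single_of_mem a' ha']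
        · rw [f_sum_block hf hD hy (hz a'), if_pos (Finset.mem_insert_self _ _)]
          simp only [hydef, if_pos, hzd]; exact one_ne_zero
        · intro i hi hia
          rw [f_sum_block hf hD hy (hz i), if_neg]
          simp [hia, Finset.ne_of_mem_erase hi]
      have h4 := sCentres_add hf hMS h1 h2 h3
      refine wit S (fun i => if i = a' then z a' + d else z i) ?_ ?_ ?_
      · intro i; split_ifs with h
        · subst h; exact Submodule.add_mem _ (hz _) hd
        · exact hz i
      · intro i _; split_ifs with h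
        · intro h0
          rw [eq_neg_of_add_eq_zero_right h0, f_neg_right hf, hf.alternating, neg_zero] at hzd
          exact zero_ne_one hzd
        · exact hz0 i
      · convert h4 using 1
        rw [Finset.sum_pair hne]
        simp only [hydef, if_pos, if_neg hne.symm]
        have ha'' : a' ∈ S := Finset.mem_of_mem_erase ha'
        rw [← Finset.add_sum_erase S _ hb', ← Finset.add_sum_erase (S.erase b') _ ha',
          ← Finset.add_sum_erase (S.erase b') z ha', if_neg hne.symm, if_pos rfl,
          Finset.sum_congr rfl fun i hi => if_neg (Finset.ne_of_mem_erase hi)]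
        abel
  intro w
  obtain ⟨x', hx', rfl⟩ := exists_sum_blocks hf hD w
  set S := Finset.univ.filter fun i => x' i ≠ 0 with hSdef
  rw [← Finset.sum_filter_of_ne (p := fun i => x' i ≠ 0) (fun i _ h => h), ← hSdef]
  by_cases hS : 2 ≤ S.card
  · exact all (S.card - 2) S (by omega) x' hx' fun i hi => (Finset.mem_filter.1 hi).2
  · rcases S.eq_empty_or_nonempty with he | ⟨i, hi⟩
    · rw [he, Finset.sum_empty]; exact hC1 a₀ 0 (Submodule.zero_mem _)
    · rw [Finset.sum_eq_single_of_mem i hi fun j hj hji => ?_]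
      · exact hC1 i _ (hx' i)
      · exact absurd (Finset.card_le_one.1 (by omega) j hj i hi) hji

end Wreath

end Cfsg.Agent.Transvec
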