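/-
Orthogonal decompositions into planes over the field of two elements preserve a quadratic form.
-/
import Cfsg.Agent.Lib.Transvec.AltWreath
set_option autoImplicit false

namespace Cfsg.Agent.Transvec

open scoped Matrix
open Matrix

theorem card_two_cases {F : Type*} [Field F] [Fintype F] (h : Fintype.card F = 2) (c : F) : c = 0 ∨ c = 1 := by
  classical
  by_contra hc
  push Not at hc
  have h1 : ({0, 1, c} : Finset F).card = 3 := by
    rw [Finset.card_insert_of_notMem (by simp [Ne.symm hc.1, zero_ne_one]),
      Finset.card_insert_of_notMem (by simp [Ne.symm hc.2]), Finset.card_singleton]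
  have := Finset.card_le_univ ({0, 1, c} : Finset F)
  omega

theorem card_two_char {F : Type*} [Field F] [Fintype F] (h : Fintype.card F = 2) : (1 : F) + 1 = 0 := by
  rcases card_two_cases h (1 + 1 : F) with h' | h'
  · exact h'
  · exact absurd (add_eq_right.1 h') one_ne_zero

variable {ι : Type} [Fintype ι] [DecidableEq ι] {F : Type*} [Field F] [Fintype F]
variable {f : (ι → F) → (ι → F) → F} (hf : Geo.IsSymplecticForm f)
include hf

theorem plane_wreath_not_maximal {t : ℕ} {D : Fin t → Submodule F (ι → F)}
    (hD : Geo.IsNondegenerateMDecomposition f 2 D) (hq : Fintype.card F = 2) (ht : 3 ≤ t) :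
    ∃ K : Subgroup (GL ι F), Geo.decompositionStabilizer D ⊓ preserving (Units.coeHom (Matrix ι ι F)) f < K ∧
      K < preserving (Units.coeHom (Matrix ι ι F)) f := by
  classical
  have hN := fun i => nondeg_of_isNondegenerateOn hf (hD.nondegenerate i)
  have h11 := card_two_char hq
  -- the parts of a vector
  choose P hP hsum using exists_sum_blocks hf hD
  have uniq : ∀ v (x : Fin t → ι → F), (∀ i, x i ∈ D i) → v = ∑ i, x i → ∀ i, P v i = x i := fun v x hx hv i => by
    refine sub_eq_zero.1 ((nondeg_iff hf).1 (hN i) _ ((D i).sub_mem (hP v i) (hx i)) fun w hw => ?_)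
    have h1 := f_sum_block hf hD (hP v) hw Finset.univ
    have h2 := f_sum_block hf hD hx hw Finset.univ
    rw [if_pos (Finset.mem_univ i), ← hsum v] at h1
    rw [if_pos (Finset.mem_univ i), ← hv, h1] at h2
    rw [f_sub_right hf, h2, sub_self]
  set q : (ι → F) → F := fun w => if w = 0 then 0 else 1 with hqdef
  set Q : (ι → F) → F := fun v => ∑ i, q (P v i) with hQdef
  have Padd : ∀ u v i, P (u + v) i = P u i + P v i := fun u v i =>
    uniq _ (fun i => P u i + P v i) (fun i => (D i).add_mem (hP u i) (hP v i))
      (by rw [Finset.sum_add_distrib, ← hsum u, ← hsum v]) i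
  have Psingle : ∀ (i : Fin t) (w : ι → F), w ∈ D i → ∀ l, P w l = if l = i then w else 0 := fun i w hw l =>
    uniq w (fun l => if l = i then w else 0) (fun l => by split_ifs with h; exacts [h ▸ hw, (D l).zero_mem])
      (by simp) l
  have Qblock : ∀ (i : Fin t) (w : ι → F), w ∈ D i → Q w = q w := fun i w hw => by
    simp only [hQdef]
    rw [Finset.sum_eq_single_of_mem i (Finset.mem_univ i) fun l _ hl => ?_]
    · rw [Psingle i w hw, if_pos rfl]
    · rw [Psingle i w hw, if_neg hl]; simp [hqdef]
  have qadd : ∀ (i : Fin t) (x y : ι → F), x ∈ D i → y ∈ D i → q (x + y) = q x + q y + f x y := by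
    intro i x y hx hy
    by_cases hx0 : x = 0
    · simp [hqdef, hx0, f_zero_left hf]
    by_cases hy0 : y = 0
    · simp [hqdef, hy0, f_zero_right hf]
    by_cases hxy : y ∈ Submodule.span F {x}
    · obtain ⟨c, rfl⟩ := Submodule.mem_span_singleton.1 hxy
      rcases card_two_cases hq c with rfl | rfl
      · simp at hy0
      · have : x + x = 0 := by rw [← two_smul F x, show (2 : F) = 0 by linear_combination h11, zero_smul]
        simp [hqdef, hx0, this, hf.alternating, h11]
    · have hne : x + y ≠ 0 := fun h => hxy (by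
        rw [eq_neg_of_add_eq_zero_right h]
        exact Submodule.neg_mem _ (Submodule.mem_span_singleton_self x))
      have hfxy : f x y = 1 := by
        refine (card_two_cases hq _).resolve_left fun h => hx0 ?_
        have hspan : Submodule.span F ({x, y} : Set (ι → F)) = D i := by
          refine Submodule.eq_of_le_of_finrank_le (Submodule.span_le.2 (by rintro z (rfl | rfl) <;> assumption)) ?_
          rw [hD.decomp.finrank_eq]
          have hind : LinearIndependent F ![x, y] := by
            rw [LinearIndependent.pair_iff' hx0]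
            exact fun a ha => hxy (Submodule.mem_span_singleton.2 ⟨a, ha⟩)
          have := finrank_span_eq_card hind
          rw [Fintype.card_fin, Matrix.range_cons, Matrix.range_cons, Matrix.range_empty, Set.union_empty,
            Set.singleton_union] at this
          exact this.ge
        refine (nondeg_iff hf).1 (hN i) x hx fun w hw => ?_
        rw [← hspan, Submodule.mem_span_pair] at hw
        obtain ⟨a, b, rfl⟩ := hw
        rw [hf.bilinear.add_left, hf.bilinear.smul_left, hf.bilinear.smul_left, hf.alternating,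
          (f_eq_zero_comm hf).1 h, mul_zero, mul_zero, add_zero]
      simp only [hqdef, if_neg hne, if_neg hx0, if_neg hy0, hfxy, h11, zero_add]
  have Qadd : ∀ u v, Q (u + v) = Q u + Q v + f u v := fun u v => by
    have hfs : f u v = ∑ i, f (P u i) (P v i) := by
      conv_lhs => rw [hsum u, hsum v, f_sum_left hf]
      exact Finset.sum_congr rfl fun i _ => by rw [f_sum_block hf hD (hP v) (hP u i), if_pos (Finset.mem_univ i)]
    simp only [hQdef, hfs, ← Finset.sum_add_distrib]
    exact Finset.sum_congr rfl fun i _ => by rw [Padd, qadd i _ _ (hP u i) (hP v i)]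
  let K : Subgroup (GL ι F) :=
    { carrier := {g | g ∈ preserving (Units.coeHom (Matrix ι ι F)) f ∧ ∀ v, Q (mv g v) = Q v}
      one_mem' := ⟨one_mem _, fun v => by rw [mv_one]⟩
      mul_mem' := fun {a b} ha hb => ⟨Subgroup.mul_mem _ ha.1 hb.1, fun v => by rw [mv_mul, ha.2, hb.2]⟩
      inv_mem' := fun {a} ha => ⟨Subgroup.inv_mem _ ha.1, fun v => by rw [← ha.2, mv_mv_inv]⟩ }
  set a : Fin t := ⟨0, by omega⟩
  set b : Fin t := ⟨1, by omega⟩
  set c : Fin t := ⟨2, by omega⟩
  have hab : a ≠ b := fun h => by simp [a, b, Fin.ext_iff] at h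
  have hac : a ≠ c := fun h => by simp [a, c, Fin.ext_iff] at h
  have hbc : b ≠ c := fun h => by simp [b, c, Fin.ext_iff] at h
  choose z hz hz0 using exists_nonzero_block hf hD
  obtain ⟨d, hd, hzd⟩ := exists_partner hf (hN a) (hz a) (hz0 a)
  have hd0 : d ≠ 0 := fun h => by rw [h, f_zero_right hf] at hzd; exact zero_ne_one hzd
  have hdz : f d (z a) = 1 := by
    rw [hf.skew, hzd]; linear_combination -h11
  refine ⟨K, lt_of_le_of_ne (fun g hg => ⟨hg.2, fun v => ?_⟩) fun he => ?_,
    lt_of_le_of_ne (fun g hg => hg.1) fun he => ?_⟩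
  · obtain ⟨σ, hσ⟩ := hg.1
    have hmap : ∀ i, ∀ u ∈ D i, mv g u ∈ D (σ i) := fun i u hu => (hσ i).le ⟨u, hu, by simp [mv]⟩
    have hPg : ∀ i, P (mv g v) (σ i) = mv g (P v i) := fun i => by
      rw [uniq (mv g v) (fun j => mv g (P v (σ.symm j))) (fun j => by
        have := hmap (σ.symm j) _ (hP v (σ.symm j))
        rwa [σ.apply_symm_apply] at this)
        (by
          conv_lhs => rw [hsum v, mv_sum]
          exact (Equiv.sum_comp σ.symm fun i => mv g (P v i)).symm) (σ i), σ.symm_apply_apply]
    simp only [hQdef]
    rw [← Equiv.sum_comp σ]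
    refine Finset.sum_congr rfl fun i _ => ?_
    rw [hPg]
    by_cases h : P v i = 0
    · simp [hqdef, h]
    · have : mv g (P v i) ≠ 0 := fun h' => h (mv_inj g (h'.trans (mv_zero g).symm))
      simp [hqdef, h, this]
  · set v := z a + z b + z c with hv
    have hQv : Q v = 1 := by
      rw [hv, Qadd, Qadd, Qblock a _ (hz a), Qblock b _ (hz b), Qblock c _ (hz c), f_block hf hD hab (hz a) (hz b),
        hf.bilinear.add_left, f_block hf hD hac (hz a) (hz c), f_block hf hD hbc (hz b) (hz c)]
      simp [hqdef, hz0, h11]
    have hgK : stv hf v 1 ∈ K := ⟨stv_mem hf v 1, fun x => by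
      rw [mv_stv, one_mul]
      rcases card_two_cases hq (f x v) with h | h
      · rw [h, zero_smul, add_zero]
      · rw [h, one_smul, Qadd, hQv, h, add_assoc, h11, add_zero]⟩
    obtain ⟨σ, hσ⟩ := (he.ge hgK).1
    have hm : mv (stv hf v 1) d ∈ D (σ a) := (hσ a).le ⟨d, hd, by simp [mv]⟩
    rw [mv_stv, one_mul, hv, hf.bilinear.add_right, hf.bilinear.add_right, hdz, f_block hf hD hab hd (hz b),
      f_block hf hD hac hd (hz c), add_zero, add_zero, one_smul] at hm
    set x : Fin t → ι → F := fun i => if i = a then d + z a else if i = b then z b else if i = c then z c else 0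
      with hxdef
    have hx : ∀ i, x i ∈ D i := by
      intro i
      simp only [hxdef]
      split_ifs with h1 h2 h3
      · subst h1; exact (D _).add_mem hd (hz _)
      · subst h2; exact hz _
      · subst h3; exact hz _
      · exact (D i).zero_mem
    have hs : ∑ i ∈ ({a, b, c} : Finset (Fin t)), x i = d + (z a + z b + z c) := by
      rw [Finset.sum_insert (by simp [hab, hac]), Finset.sum_pair hbc]
      simp [hxdef, hab.symm, hac.symm, hbc.symm]
      abel
    rw [← hs] at hm
    by_cases hσb : σ a = b
    · exact sum_not_mem_block hf hD hx (i := c) (by simp) (by simp [hxdef, hac.symm, hbc.symm, hz0])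
        (by rw [hσb]; exact hbc.symm) hm
    · exact sum_not_mem_block hf hD hx (i := b) (by simp) (by simp [hxdef, hab.symm, hz0]) (Ne.symm hσb) hm
  · set v := z a + z b with hv
    have hQv : Q v = 0 := by
      rw [hv, Qadd, Qblock a _ (hz a), Qblock b _ (hz b), f_block hf hD hab (hz a) (hz b)]
      simp [hqdef, hz0, h11]
    have h1 := (he.ge (stv_mem hf v 1)).2 d
    rw [mv_stv, one_mul, hv, hf.bilinear.add_right, hdz, f_block hf hD hab hd (hz b), add_zero, one_smul, Qadd,
      ← hv, hQv, hv, hf.bilinear.add_right, hdz, f_block hf hD hab hd (hz b)] at h1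
    exact one_ne_zero (α := F) (by linear_combination h1)

end Cfsg.Agent.Transvec
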