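/-
Maximality of the subfield subgroups of the isometry group of an alternating form with values in a subfield of
prime index on the rational vectors.
-/
import Cfsg.Agent.Lib.Transvec.SubfieldSL
import Cfsg.Agent.Lib.Transvec.AltMaximal
set_option autoImplicit false

namespace Cfsg.Agent.Transvec

open scoped Matrix
open Matrix

variable {ι : Type} [Fintype ι] [DecidableEq ι] {F : Type*} [Field F] {F₀ : Subfield F}
variable {f : (ι → F) → (ι → F) → F}

theorem dual_ext_zero {φ : Module.Dual F (ι → F)} (h : ∀ i, φ (Pi.single i 1) = 0) : φ = 0 :=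
  LinearMap.ext fun x => by
    rw [pi_eq_sum_univ' x, map_sum]
    exact Finset.sum_eq_zero fun i _ => by rw [map_smul, h i, smul_zero]

/-- A rational vector over F₀, seen over F. -/
def up (x : ι → F₀) : ι → F := fun i => (x i : F)

theorem up_add (x y : ι → F₀) : up (x + y) = up x + up y := rfl

theorem up_smul (c : F₀) (x : ι → F₀) : up (c • x) = (c : F) • up x := rfl

theorem up_zero : up (0 : ι → F₀) = 0 := rfl

theorem up_single (i : ι) : up (Pi.single i (1 : F₀)) = (Pi.single i 1 : ι → F) := by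
  funext j
  by_cases h : j = i
  · subst h; simp [up]
  · simp [up, h]

theorem ratV_up (x : ι → F₀) : RatV F₀ (up x) := fun i => (x i).2

theorem exists_up {x : ι → F} (hx : RatV F₀ x) : ∃ x₀ : ι → F₀, x = up x₀ :=
  ⟨fun i => ⟨x i, hx i⟩, rfl⟩

theorem up_injective : Function.Injective (up (ι := ι) (F₀ := F₀)) :=
  fun _ _ h => funext fun i => Subtype.ext (congrFun h i)

theorem up_ne_zero {x : ι → F₀} (h : x ≠ 0) : up x ≠ 0 := fun h' => h (up_injective (h'.trans up_zero.symm))

section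

variable (hf : Geo.IsSymplecticForm f)
  (hG : ∀ u v : ι → F, RatV F₀ u → RatV F₀ v → f u v ∈ F₀)

/-- The form on the rational vectors. -/
def formDown : (ι → F₀) → (ι → F₀) → F₀ := fun x y => ⟨f (up x) (up y), hG _ _ (ratV_up x) (ratV_up y)⟩

theorem formDown_val (x y : ι → F₀) : (formDown hG x y : F) = f (up x) (up y) := rfl

include hf

theorem formDown_symplectic : Geo.IsSymplecticForm (formDown hG) where
  bilinear :=
    { add_left := fun x y v => Subtype.ext (hf.bilinear.add_left _ _ _)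
      smul_left := fun c x v => Subtype.ext (hf.bilinear.smul_left _ _ _)
      add_right := fun v x y => Subtype.ext (hf.bilinear.add_right _ _ _)
      smul_right := fun c v x => Subtype.ext (hf.bilinear.smul_right _ _ _) }
  skew v w := Subtype.ext (hf.skew _ _)
  alternating v := Subtype.ext (hf.alternating _)
  nondegenerate v hv := by
    obtain ⟨i, hi⟩ : ∃ i, f (Pi.single i 1) (up v) ≠ 0 := by
      by_contra h
      push Not at h
      obtain ⟨x, hx⟩ := (hf.nondegenerate (up v) (up_ne_zero hv)).1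
      exact hx (LinearMap.congr_fun (dual_ext_zero (φ := formR hf (up v)) h) x)
    refine ⟨⟨Pi.single i 1, fun h => hi ?_⟩, ⟨Pi.single i 1, fun h => hi ?_⟩⟩
    · have := congrArg Subtype.val h
      rwa [formDown_val, up_single] at this
    · have := congrArg Subtype.val h
      rw [formDown_val, up_single] at this
      exact (f_eq_zero_comm hf).1 this

theorem ratD_formR {v : ι → F} (hv : RatV F₀ v) (hG : ∀ u v : ι → F, RatV F₀ u → RatV F₀ v → f u v ∈ F₀) :
    RatD F₀ (formR hf v) :=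
  fun i => hG _ _ (ratV_single i F₀.one_mem) hv

include hG

/-- A rational functional is given by a rational vector. -/
theorem exists_rat_eq_f {φ : Module.Dual F (ι → F)} (hφ : RatD F₀ φ) :
    ∃ d : ι → F, RatV F₀ d ∧ ∀ y, φ y = f y d := by
  obtain ⟨d, hd⟩ := exists_eq_f (formDown_symplectic hf hG)
    (dotDual (F := F₀) fun i => ⟨φ (Pi.single i 1), hφ i⟩)
  refine ⟨up d, ratV_up d, fun y => ?_⟩
  show φ y = formR hf (up d) y
  refine LinearMap.congr_fun (sub_eq_zero.1 (dual_ext_zero fun i => ?_)) y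
  have := congrArg Subtype.val (hd (Pi.single i 1))
  rw [formDown_val, up_single, dotDual_single] at this
  rw [LinearMap.sub_apply, formR_apply, ← this, sub_self]

/-- A vector with rational products against all rational vectors is rational. -/
theorem ratV_of_f {x : ι → F} (h : ∀ w, RatV F₀ w → f x w ∈ F₀) : RatV F₀ x := fun i => by
  obtain ⟨d, hd, hd'⟩ := exists_rat_eq_f hf hG (φ := LinearMap.proj i)
    (fun j => ratV_single j F₀.one_mem i)
  have := h d hd
  rwa [← hd'] at this

theorem exists_rat_orth {u w : ι → F} (hn : 3 ≤ Fintype.card ι) (hu : RatV F₀ u) (hw : RatV F₀ w) :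
    ∃ v, v ≠ 0 ∧ RatV F₀ v ∧ f v u = 0 ∧ f v w = 0 :=
  exists_ratV_two hn (ratD_formR hf hu hG) (ratD_formR hf hw hG)

end

/-! ### The map from the isometries over F₀ -/

theorem mv_map (g : GL ι F₀) (x : ι → F₀) :
    mv (Matrix.GeneralLinearGroup.map (F₀.subtype : F₀ →+* F) g) (up x) = up (mv g x) := by
  funext i
  show _ = ((∑ j, (g : Matrix ι ι F₀) i j * x j : F₀) : F)
  rw [AddSubmonoidClass.coe_finsetSum]
  rfl

theorem map_stv (hf : Geo.IsSymplecticForm f) (hG : ∀ u v : ι → F, RatV F₀ u → RatV F₀ v → f u v ∈ F₀)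
    (v : ι → F₀) (c : F₀) :
    Matrix.GeneralLinearGroup.map (F₀.subtype : F₀ →+* F) (stv (formDown_symplectic hf hG) v c) =
      stv hf (up v) (c : F) := by
  refine Units.ext (Matrix.ext_of_mulVec_single fun i => ?_)
  show mv _ _ = mv _ _
  rw [← up_single (F₀ := F₀) i, mv_map, mv_stv, mv_stv, up_add, up_smul]
  rfl

/-! ### Root elements fixing a vector -/

/-- The element x ↦ x + f(x,u) y + f(x,y) u + a f(x,u) u, for y orthogonal to u. -/
noncomputable def qv (hf : Geo.IsSymplecticForm f) (u y : ι → F) (a : F) : GL ι F :=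
  stv hf (y + u) 1 * stv hf y (-1) * stv hf u (a - 1)

section

variable (hf : Geo.IsSymplecticForm f)
include hf

theorem mv_qv {u y : ι → F} (h : f y u = 0) (a : F) (x : ι → F) :
    mv (qv hf u y a) x = x + f x u • y + f x y • u + (a * f x u) • u := by
  have h' : f u y = 0 := (f_eq_zero_comm hf).1 h
  simp only [qv, mv_mul, mv_stv, hf.bilinear.add_right, hf.bilinear.add_left, hf.bilinear.smul_left,
    hf.alternating, h, h', mul_zero, add_zero]
  module

theorem qv_mul {u y y' : ι → F} (h : f y u = 0) (h' : f y' u = 0) (a a' : F) :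
    qv hf u y a * qv hf u y' a' = qv hf u (y + y') (a + a' + f y' y) := by
  refine ext_mv fun x => ?_
  have h2 : f (y + y') u = 0 := by rw [hf.bilinear.add_left, h, h', add_zero]
  have h3 : f u y = 0 := (f_eq_zero_comm hf).1 h
  rw [mv_mul, mv_qv hf h', mv_qv hf h, mv_qv hf h2]
  simp only [hf.bilinear.add_left, hf.bilinear.add_right, hf.bilinear.smul_left, hf.alternating, h', h3,
    mul_zero, add_zero]
  module

theorem qv_zero (u : ι → F) (a : F) : qv hf u 0 a = stv hf u a := by
  refine ext_mv fun x => ?_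
  rw [mv_qv hf (f_zero_left hf u), mv_stv, f_zero_right hf]
  simp

theorem qv_inv {u y : ι → F} (h : f y u = 0) (a : F) : (qv hf u y a)⁻¹ = qv hf u (-y) (-a) := by
  refine inv_eq_of_mul_eq_one_right ?_
  rw [qv_mul hf h (by rw [f_neg_left hf, h, neg_zero]), add_neg_cancel, f_neg_left hf, hf.alternating,
    add_neg_cancel, neg_zero, add_zero, qv_zero, stv_zero]

theorem qv_conj {u y : ι → F} (h : f y u = 0) (a : F) {g : GL ι F}
    (hg : ∀ x z, f (mv g x) (mv g z) = f x z) (hu : mv g u = u) :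
    g * qv hf u y a * g⁻¹ = qv hf u (mv g y) a := by
  have h' : f (mv g y) u = 0 := by rw [← hu, hg, h]
  refine ext_mv fun x => ?_
  obtain ⟨z, rfl⟩ : ∃ z, x = mv g z := ⟨mv g⁻¹ x, (mv_mv_inv g x).symm⟩
  have h1 : f (mv g z) u = f z u := by conv_lhs => rw [← hu, hg]
  rw [mv_mul, mv_mul, mv_inv_mv, mv_qv hf h, mv_qv hf h', h1, hg]
  simp only [mv_add, mv_smul, hu]

end

/-! ### Rational parameters -/

section

variable (hf : Geo.IsSymplecticForm f)
  (hG : ∀ u v : ι → F, RatV F₀ u → RatV F₀ v → f u v ∈ F₀)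
  {M : Subgroup (GL ι F)} (hMf : M ≤ preserving (Units.coeHom (Matrix ι ι F)) f)
  (hT : ∀ v : ι → F, RatV F₀ v → ∀ c ∈ F₀, stv hf v c ∈ M)
  (hn : 5 ≤ Fintype.card ι)

include hT in
theorem qv_rat_mem {u y : ι → F} (hu : RatV F₀ u) (hy : RatV F₀ y) {a : F} (ha : a ∈ F₀) :
    qv hf u y a ∈ M :=
  M.mul_mem (M.mul_mem (hT _ (ratV_add hy hu) _ F₀.one_mem) (hT _ hy _ (F₀.neg_mem F₀.one_mem)))
    (hT _ hu _ (F₀.sub_mem ha F₀.one_mem))

include hMf in
theorem preserve_of_mem {g : GL ι F} (hg : g ∈ M) (x y : ι → F) : f (mv g x) (mv g y) = f x y :=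
  hMf hg x y

include hMf in
theorem conj_stv_mem {g : GL ι F} (hg : g ∈ M) {v : ι → F} {c : F} (h : stv hf v c ∈ M) :
    stv hf (mv g v) c ∈ M := by
  have := stv_conj hf (g := g) one_ne_zero (fun x y => by rw [one_mul]; exact hMf hg x y) v c
  rw [div_one] at this
  rw [← this]
  exact M.mul_mem (M.mul_mem hg h) (M.inv_mem hg)

include hf hG hn in
/-- Rational z'' orthogonal to u and z, outside their span. -/
theorem exists_third {u z : ι → F₀} :
    ∃ t : ι → F₀, formDown hG u t = 0 ∧ formDown hG z t = 0 ∧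
      t ∉ Submodule.span F₀ ({u, z} : Set (ι → F₀)) := by
  have hf₀ := formDown_symplectic hf hG
  set L : (ι → F₀) →ₗ[F₀] F₀ × F₀ := (formR hf₀ u).prod (formR hf₀ z) with hL
  by_contra hcon
  push Not at hcon
  have hle : LinearMap.ker L ≤ Submodule.span F₀ ({u, z} : Set (ι → F₀)) := fun t ht => by
    have := LinearMap.mem_ker.1 ht
    exact hcon t ((f_eq_zero_comm hf₀).1 (congrArg Prod.fst this))
      ((f_eq_zero_comm hf₀).1 (congrArg Prod.snd this))
  have h1 := Submodule.finrank_mono hle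
  have h2 := LinearMap.finrank_range_add_finrank_ker L
  have h3 := Submodule.finrank_le (LinearMap.range L)
  have h4 : Module.finrank F₀ ↥(Submodule.span F₀ ({u, z} : Set (ι → F₀))) ≤ 2 := by
    classical
    exact (finrank_span_le_card _).trans (by rw [Set.toFinset_insert, Set.toFinset_singleton]; exact Finset.card_le_two)
  rw [Module.finrank_prod, Module.finrank_self] at h3
  rw [Module.finrank_pi] at h2
  omega

include hf hG in
/-- A rational vector with prescribed products with an independent rational triple. -/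
theorem exists_star {u z t : ι → F₀} (hz : z ∉ Submodule.span F₀ {u})
    (ht : t ∉ Submodule.span F₀ ({u, z} : Set (ι → F₀))) (α : F₀) :
    ∃ w : ι → F₀, formDown hG u w = 0 ∧ formDown hG z w = 1 ∧ formDown hG t w = α := by
  have hf₀ := formDown_symplectic hf hG
  obtain ⟨φ, hφ, hφz⟩ := exists_dual hz
  obtain ⟨ψ, hψ, hψt⟩ := exists_dual ht
  obtain ⟨w, hw⟩ := exists_eq_f hf₀ (φ + (α - φ t) • ψ)
  refine ⟨w, ?_, ?_, ?_⟩ <;> rw [← hw]
  · simp [hφ u (Submodule.mem_span_singleton_self u), hψ u (Submodule.subset_span (Set.mem_insert _ _))]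
  · simp [hφz, hψ z (Submodule.subset_span (Set.mem_insert_of_mem _ rfl))]
  · simp [hψt]

include hG hMf hT in
/-- Moving the family qv_u(b z, a) along z. -/
theorem qv_step {u z w : ι → F₀} {b a : F} (huz : formDown hG z u = 0) (huw : formDown hG w u = 0)
    (hzw : formDown hG z w = 1) (h : qv hf (up u) (b • up z) a ∈ M) :
    qv hf (up u) (b • up w) (-(b * b)) ∈ M := by
  have e1 : f (up z) (up u) = 0 := congrArg Subtype.val huz
  have e2 : f (up w) (up u) = 0 := congrArg Subtype.val huw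
  have e3 : f (up z) (up w) = 1 := congrArg Subtype.val hzw
  have hg : stv hf (up w) 1 ∈ M := hT _ (ratV_up w) _ F₀.one_mem
  have hbz : f (b • up z) (up u) = 0 := by rw [hf.bilinear.smul_left, e1, mul_zero]
  have hfix : mv (stv hf (up w) 1) (up u) = up u := stv_fix hf _ _ ((f_eq_zero_comm hf).1 e2)
  have h1 := M.mul_mem (M.mul_mem hg h) (M.inv_mem hg)
  rw [qv_conj hf hbz a (preserve_of_mem hMf hg) hfix, mv_stv, hf.bilinear.smul_left, e3, mul_one, one_mul] at h1
  have h2 := M.mul_mem h1 (M.inv_mem h)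
  rw [qv_inv hf hbz, qv_mul hf (by rw [hf.bilinear.add_left, hf.bilinear.smul_left, hf.bilinear.smul_left, e1, e2]; ring)
    (by rw [f_neg_left hf, hbz, neg_zero])] at h2
  rw [show b • up z + b • up w + -(b • up z) = b • up w by abel, add_neg_cancel, zero_add, f_neg_left hf,
    hf.bilinear.add_right, hf.alternating, hf.bilinear.smul_left, hf.bilinear.smul_right, e3, zero_add,
    mul_one] at h2
  exact h2

include hG hMf hT hn in
/-- The triangle argument: from qv_u(b z, ±b²) to stv(u, b²). -/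
theorem stv_of_qv {u z : ι → F₀} {b a : F} (huz : formDown hG z u = 0)
    (hz : z ∉ Submodule.span F₀ {u}) (h : qv hf (up u) (b • up z) a ∈ M) :
    stv hf (up u) (b * b) ∈ M := by
  have hf₀ := formDown_symplectic hf hG
  obtain ⟨t, htu, htz, ht⟩ := exists_third hf hG hn (u := u) (z := z)
  have htu' : formDown hG t u = 0 := (f_eq_zero_comm hf₀).1 htu
  have huz' : formDown hG u z = 0 := (f_eq_zero_comm hf₀).1 huz
  have htz' : formDown hG t z = 0 := (f_eq_zero_comm hf₀).1 htz
  have go : ∀ (q : ι → F₀) (a' : F), formDown hG q u = 0 → qv hf (up u) (b • up q) a' ∈ M →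
      ∀ p : ι → F₀, formDown hG p u = 0 → ∀ w : ι → F₀, formDown hG u w = 0 → formDown hG q w = 1 →
      formDown hG p w = -1 → qv hf (up u) (b • up p) (-(b * b)) ∈ M := by
    intro q a' hq hm p hp w hwu hqw hpw
    have hwu' := (f_eq_zero_comm hf₀).1 hwu
    exact qv_step hf hG hMf hT hwu' hp (by rw [hf₀.skew, hpw, neg_neg])
      (qv_step hf hG hMf hT hq hwu' hqw hm)
  obtain ⟨w₁, a1, a2, a3⟩ := exists_star hf hG hz ht (-1)
  obtain ⟨w₂, b1, b2, b3⟩ := exists_star hf hG hz ht (-1 - 1)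
  have hzt : formDown hG (z + t) u = 0 := by rw [hf₀.bilinear.add_left, huz, htu', add_zero]
  have P2 := go z a huz h t htu' w₁ a1 a2 a3
  have P1 := go t _ htu' P2 z huz (-w₁) (by rw [f_neg_right hf₀, a1, neg_zero])
    (by rw [f_neg_right hf₀, a3, neg_neg]) (by rw [f_neg_right hf₀, a2])
  have P3 := go z a huz h (z + t) hzt w₂ b1 b2 (by rw [hf₀.bilinear.add_left, b2, b3]; ring)
  have e1 : f (b • up z) (up u) = 0 := by
    rw [hf.bilinear.smul_left]; exact mul_eq_zero_of_right _ (congrArg Subtype.val huz)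
  have e2 : f (b • up t) (up u) = 0 := by
    rw [hf.bilinear.smul_left]; exact mul_eq_zero_of_right _ (congrArg Subtype.val htu')
  have e3 : f (b • up (z + t)) (up u) = 0 := by
    rw [hf.bilinear.smul_left]; exact mul_eq_zero_of_right _ (congrArg Subtype.val hzt)
  have h5 := M.inv_mem (M.mul_mem (M.mul_mem P1 P2) (M.inv_mem P3))
  rw [qv_inv hf e3, qv_mul hf e1 e2, qv_mul hf (by rw [hf.bilinear.add_left, e1, e2, add_zero])
      (by rw [f_neg_left hf, e3, neg_zero]),
    show b • up z + b • up t + -(b • up (z + t)) = 0 by rw [up_add]; module, qv_zero] at h5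
  have e4 : f (up t) (up z) = 0 := congrArg Subtype.val htz'
  have h6 : (-(b * b) + -(b * b) + f (b • up t) (b • up z) + -(-(b * b)) +
      f (-(b • up (z + t))) (b • up z + b • up t)) = -(b * b) := by
    rw [f_neg_left hf, ← smul_add, ← up_add]
    simp only [hf.bilinear.smul_left, hf.bilinear.smul_right, e4, hf.alternating]
    ring
  rw [h6] at h5
  refine (congrArg (· ∈ M) ?_).mp h5
  refine inv_eq_of_mul_eq_one_right ?_
  rw [stv_add, neg_add_cancel, stv_zero]

include hG hMf hT hn in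
theorem ratLine_centre_symp (hroot : (2 : F) = 0 → ∀ a : F, a * a ∈ F₀ → a ∈ F₀)
    (hP : ∀ v : ι → F, RatV F₀ v → v ≠ 0 → ∀ c, stv hf v c ∈ M → c ∈ F₀)
    {x : ι → F} (hm : stv hf x 1 ∈ M) {u : ι → F} (hu : RatV F₀ u) (hu0 : u ≠ 0) (hux : f u x = 0) :
    RatLine F₀ x := by
  -- products of x with rational vectors orthogonal to a rational orthogonal of x are proportional
  have step : ∀ u : ι → F, RatV F₀ u → u ≠ 0 → f u x = 0 → ∀ w w' : ι → F, RatV F₀ w → RatV F₀ w' →
      f w u = 0 → f w' u = 0 → f x w ≠ 0 → f x w' / f x w ∈ F₀ := by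
    intro u hu hu0 hux w w' hw hw' hwu hw'u hs
    have hxu : f x u = 0 := (f_eq_zero_comm hf).1 hux
    have hD : ∀ w : ι → F, RatV F₀ w → f w u = 0 →
        qv hf u (f x w • x) (f x w * f x w) ∈ M := by
      intro w hw hwu
      have hB : qv hf u w 0 ∈ M := qv_rat_mem hf hT hu hw F₀.zero_mem
      have h1 := M.mul_mem (conj_stv_mem hf hMf hB hm) (M.inv_mem hm)
      refine (congrArg (· ∈ M) ?_).mp h1
      rw [mul_inv_eq_iff_eq_mul, mv_qv hf hwu, hxu]
      refine ext_mv fun z => ?_
      rw [mv_mul, mv_stv, mv_qv hf (by rw [hf.bilinear.smul_left, hxu, mul_zero]), mv_stv]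
      simp only [zero_smul, mul_zero, add_zero, one_mul, hf.bilinear.add_left, hf.bilinear.add_right,
        hf.bilinear.smul_left, hf.bilinear.smul_right, hf.alternating, hxu, hux]
      module
    by_cases h2 : (2 : F) = 0
    · obtain ⟨u₀, rfl⟩ := exists_up hu
      have hb : ∀ y y' : ι → F, RatV F₀ y → RatV F₀ y' → f y (up u₀) = 0 → f y' (up u₀) = 0 →
          (f x y * f x y') * (f x y * f x y') ∈ F₀ := by
        intro y y' hy hy' hyu hy'u
        obtain ⟨z, rfl⟩ := exists_up hy'
        by_cases hz : z ∈ Submodule.span F₀ {u₀}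
        · obtain ⟨k, rfl⟩ := Submodule.mem_span_singleton.1 hz
          rw [up_smul, hf.bilinear.smul_right, hxu]
          simp
        set b := f x y * f x (up z) with hb
        have hg : stv hf (up z) 1 ∈ M := hT _ (ratV_up z) _ F₀.one_mem
        have h1 := hD y hy hyu
        have hsx : f (f x y • x) (up u₀) = 0 := by rw [hf.bilinear.smul_left, hxu, mul_zero]
        have h3 := M.mul_mem (M.mul_mem hg h1) (M.inv_mem hg)
        rw [qv_conj hf hsx _ (preserve_of_mem hMf hg) (stv_fix hf _ _ ((f_eq_zero_comm hf).1 hy'u)),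
          mv_stv, one_mul] at h3
        have h4 := M.mul_mem h3 h1
        rw [qv_mul hf (by
          simp only [hf.bilinear.add_left, hf.bilinear.smul_left, hxu, hy'u, mul_zero, add_zero]) hsx] at h4
        have two0 : ∀ v : ι → F, v + v = 0 := fun v => by rw [← two_smul F v, h2, zero_smul]
        rw [show f x y • x + f (f x y • x) (up z) • up z + f x y • x = b • up z by
          rw [hf.bilinear.smul_left, ← hb]
          linear_combination (norm := module) two0 (f x y • x)] at h4
        exact hP _ hu hu0 _ (stv_of_qv hf hG hMf hT hn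
          (Subtype.ext hy'u) hz h4)
      have := F₀.div_mem (hb w w' hw hw' hwu hw'u) (hb w w hw hw hwu hwu)
      refine hroot h2 _ ((congrArg (· ∈ F₀) ?_).mp this)
      field_simp
    · have hsq : ∀ y : ι → F, RatV F₀ y → f y u = 0 → 2 * (f x y * f x y) ∈ F₀ := by
        intro y hy hyu
        have h1 := hD y hy hyu
        have h3 := hD (-y) (fun i => F₀.neg_mem (hy i)) (by rw [f_neg_left hf, hyu, neg_zero])
        have hsx : ∀ s : F, f (s • x) u = 0 := fun s => by rw [hf.bilinear.smul_left, hxu, mul_zero]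
        have h4 := M.mul_mem h1 h3
        rw [qv_mul hf (hsx _) (hsx _), f_neg_right hf, ← add_smul, add_neg_cancel, zero_smul, qv_zero] at h4
        refine hP _ hu hu0 _ ((congrArg (fun c => stv hf u c ∈ M) ?_).mp h4)
        simp only [hf.bilinear.smul_left, hf.bilinear.smul_right, hf.alternating]
        ring
      have h1 := hsq w hw hwu
      have h3 := hsq w' hw' hw'u
      have h4 := hsq (w + w') (ratV_add hw hw') (by rw [hf.bilinear.add_left, hwu, hw'u, add_zero])
      rw [hf.bilinear.add_right] at h4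
      have h5 : (2 : F) ∈ F₀ := by rw [← one_add_one_eq_two]; exact F₀.add_mem F₀.one_mem F₀.one_mem
      have := F₀.div_mem (F₀.div_mem (F₀.sub_mem (F₀.sub_mem h4 h1) h3) h5) h1
      refine (congrArg (· ∈ F₀) ?_).mp this
      field_simp
      ring
  by_cases hx : ∃ k : F, x = k • u
  · obtain ⟨k, rfl⟩ := hx
    rcases eq_or_ne k 0 with rfl | hk
    · exact ⟨1, one_ne_zero, fun i => by simp⟩
    · exact ⟨k⁻¹, inv_ne_zero hk, by rwa [smul_smul, inv_mul_cancel₀ hk, one_smul]⟩
  push Not at hx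
  obtain ⟨χ, hχ, -, hχu, hχx⟩ := exists_rat_annihilator hu hu0 hx
  obtain ⟨w₀, hw₀, hχ'⟩ := exists_rat_eq_f hf hG hχ
  rw [hχ'] at hχu hχx
  have hw₀u : f w₀ u = 0 := (f_eq_zero_comm hf).1 hχu
  set k := f x w₀ with hk
  set x' := k⁻¹ • x with hx'
  refine ⟨k⁻¹, inv_ne_zero hχx, ratV_of_f hf hG fun w hw => ?_⟩
  obtain ⟨ρ, hρ⟩ : ∃ ρ : F →ₗ[F₀] F₀, ρ 1 = 1 := by
    obtain ⟨ρ, hρ⟩ := Module.Projective.exists_dual_ne_zero F₀ (one_ne_zero (α := F))
    exact ⟨(ρ 1)⁻¹ • ρ, by rw [LinearMap.smul_apply, smul_eq_mul, inv_mul_cancel₀ hρ]⟩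
  have hf₀ := formDown_symplectic hf hG
  obtain ⟨u₀, rfl⟩ := exists_up hu
  obtain ⟨w₁, rfl⟩ := exists_up hw₀
  obtain ⟨w₂, rfl⟩ := exists_up hw
  set L : (ι → F₀) →ₗ[F₀] F₀ × F₀ × F₀ × F₀ := (formR hf₀ u₀).prod ((formR hf₀ w₁).prod ((formR hf₀ w₂).prod
    (ρ.comp (((formR hf x').restrictScalars F₀).comp ((Algebra.linearMap F₀ F).compLeft ι))))) with hL
  obtain ⟨v, hv0, hv⟩ := exists_rat_zero L (by
    rw [Module.finrank_prod, Module.finrank_prod, Module.finrank_prod, Module.finrank_self]; omega)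
  have hv1 : f (up v) (up u₀) = 0 := congrArg (fun p : F₀ × F₀ × F₀ × F₀ => (p.1 : F)) hv
  have hv2 : f (up v) (up w₁) = 0 := congrArg (fun p : F₀ × F₀ × F₀ × F₀ => (p.2.1 : F)) hv
  have hv3 : f (up v) (up w₂) = 0 := congrArg (fun p : F₀ × F₀ × F₀ × F₀ => (p.2.2.1 : F)) hv
  have hv4 : ρ (f (up v) x') = 0 := congrArg (fun p : F₀ × F₀ × F₀ × F₀ => p.2.2.2) hv
  have hval : f (up v) x' ∈ F₀ := by
    have := F₀.neg_mem (step _ hu hu0 hux (up w₁) (up v) hw₀ (ratV_up v) hw₀u hv1 hχx)
    refine (congrArg (· ∈ F₀) ?_).mp this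
    rw [hx', hf.bilinear.smul_right, hf.skew (up v) x, div_eq_inv_mul, mul_neg]
  have hvx : f (up v) x = 0 := by
    have h0 : f (up v) x' = 0 := by
      have h1 : f (up v) x' = (⟨_, hval⟩ : F₀) • (1 : F) := (mul_one _).symm
      rw [h1, map_smul, hρ, smul_eq_mul, mul_one] at hv4
      exact congrArg Subtype.val hv4
    rw [hx', hf.bilinear.smul_right] at h0
    exact (mul_eq_zero.1 h0).resolve_left (inv_ne_zero hχx)
  rw [hf.bilinear.smul_left, ← div_eq_inv_mul]
  exact step _ (ratV_up v) (up_ne_zero hv0) hvx (up w₁) (up w₂) hw₀ hw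
    ((f_eq_zero_comm hf).1 hv2) ((f_eq_zero_comm hf).1 hv3) hχx


include hG hMf hT hn in
theorem ratLine_image_symp (hL : ∀ {x : ι → F}, stv hf x 1 ∈ M → ∀ {u : ι → F}, RatV F₀ u → u ≠ 0 →
      f u x = 0 → RatLine F₀ x)
    {g : GL ι F} (hg : g ∈ M) {v : ι → F} (hv : RatV F₀ v) {u : ι → F} (hu : RatV F₀ u) (hu0 : u ≠ 0)
    (h : f (mv g⁻¹ u) v = 0) : RatLine F₀ (mv g v) := by
  refine hL (conj_stv_mem hf hMf hg (hT v hv _ F₀.one_mem)) hu hu0 ?_
  have := preserve_of_mem hMf hg (mv g⁻¹ u) v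
  rwa [mv_mv_inv, h] at this

include hG hMf hT hn in
/-- Either all parameters are rational or M is the whole isometry group. -/
theorem all_stv_mem [Fintype F] {r : ℕ} (hr : r.Prime) (hcard : Fintype.card F = Nat.card F₀ ^ r)
    {v₀ : ι → F} (hv₀ : RatV F₀ v₀) (hv₀0 : v₀ ≠ 0) {c₀ : F} (hm : stv hf v₀ c₀ ∈ M) (hc₀ : c₀ ∉ F₀) :
    M = preserving (Units.coeHom (Matrix ι ι F)) f := by
  have hf₀ := formDown_symplectic hf hG
  -- transitivity on rational vectors
  have trans : ∀ u v : ι → F₀, u ≠ 0 → v ≠ 0 → ∃ g ∈ M, mv g (up u) = up v := by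
    intro u v hu hv
    obtain ⟨g, hg, hgu, -⟩ := exists_move_nondeg hf₀ (nondeg_top hf₀)
      (K := M.comap (Matrix.GeneralLinearGroup.map (F₀.subtype : F₀ →+* F)))
      (fun w _ c => by
        rw [Subgroup.mem_comap, map_stv hf hG]
        exact hT _ (ratV_up w) _ c.2)
      (Submodule.mem_top (x := u)) (Submodule.mem_top (x := v)) hu hv
    exact ⟨_, hg, by rw [mv_map, hgu]⟩
  set A : Set F := {c | ∀ u : ι → F₀, stv hf (up u) c ∈ M} with hA
  have ofOne : ∀ {u : ι → F₀} {c : F}, u ≠ 0 → stv hf (up u) c ∈ M → c ∈ A := by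
    intro u c hu h v
    rcases eq_or_ne v 0 with rfl | hv
    · rw [show stv hf (up (0 : ι → F₀)) c = 1 from ext_mv fun x => by
        rw [mv_stv, mv_one, up_zero, smul_zero, add_zero]]
      exact M.one_mem
    obtain ⟨g, hg, hgu⟩ := trans u v hu hv
    exact hgu ▸ conj_stv_mem hf hMf hg h
  have hneg : ∀ {c : F}, c ∈ A → -c ∈ A := by
    intro c hc u
    have := M.inv_mem (hc u)
    rwa [inv_eq_of_mul_eq_one_right (by rw [stv_add, add_neg_cancel, stv_zero] :
      stv hf (up u) c * stv hf (up u) (-c) = 1)] at this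
  have hadd : ∀ {c d : F}, c ∈ A → d ∈ A → c + d ∈ A := fun hc hd u => by
    rw [← stv_add]; exact M.mul_mem (hc u) (hd u)
  have hrat : ∀ {c : F}, c ∈ F₀ → c ∈ A := fun hc u => hT _ (ratV_up u) _ hc
  set B : Set F := {b | ∀ u w : ι → F₀, w ∉ Submodule.span F₀ {u} → formDown hG w u = 0 →
    qv hf (up u) (b • up w) 0 ∈ M} with hB
  have hAB : ∀ {c : F}, c ∈ A → c ∈ B := by
    intro c hc u w _ hwu
    have e : f (c • up w) (up u) = 0 := by
      rw [hf.bilinear.smul_left]; exact mul_eq_zero_of_right _ (congrArg Subtype.val hwu)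
    have h1 := M.mul_mem (M.mul_mem (hc (w + u)) (hneg hc w)) (hneg hc u)
    refine (congrArg (· ∈ M) (ext_mv fun x => ?_)).mp h1
    have e' : f (up w) (up u) = 0 := congrArg Subtype.val hwu
    have e'' : f (up u) (up w) = 0 := (f_eq_zero_comm hf).1 e'
    simp only [mv_mul, mv_stv, mv_qv hf e, up_add, hf.bilinear.add_right, hf.bilinear.add_left,
      hf.bilinear.smul_left, hf.bilinear.smul_right, hf.alternating, e', e'']
    module
  -- the products
  have hstep : ∀ {b d : F}, b ∈ B → d ∈ A → ∀ u w : ι → F₀, w ∉ Submodule.span F₀ {u} →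
      formDown hG w u = 0 → qv hf (up u) ((b * d) • up w) (-(b * b * d)) ∈ M := by
    intro b d hb hd u w hw hwu
    obtain ⟨t, ht1, ht2, ht⟩ := exists_third hf hG hn (u := u) (z := w)
    obtain ⟨z, a1, a2, -⟩ := exists_star hf hG hw ht 0
    have hzu : formDown hG (-z) u = 0 := by
      rw [f_neg_left hf₀, (f_eq_zero_comm hf₀).1 a1, neg_zero]
    have hzspan : -z ∉ Submodule.span F₀ {u} := fun hm => by
      obtain ⟨k, hk⟩ := Submodule.mem_span_singleton.1 hm
      have h1 : formDown hG w (-z) = 0 := by rw [← hk, hf₀.bilinear.smul_right, hwu, mul_zero]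
      rw [f_neg_right hf₀, a2, neg_eq_zero] at h1
      exact one_ne_zero h1
    have h := hb u (-z) hzspan hzu
    have e1 : f (up (-z)) (up u) = 0 := congrArg Subtype.val hzu
    have e2 : f (up w) (up u) = 0 := congrArg Subtype.val hwu
    have e3 : f (up (-z)) (up w) = 1 := congrArg Subtype.val (show formDown hG (-z) w = 1 by
      rw [f_neg_left hf₀, hf₀.skew, a2, neg_neg])
    have hg : stv hf (up w) d ∈ M := hd w
    have hbz : f (b • up (-z)) (up u) = 0 := by rw [hf.bilinear.smul_left, e1, mul_zero]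
    have h1 := M.mul_mem (M.mul_mem hg h) (M.inv_mem hg)
    rw [qv_conj hf hbz _ (preserve_of_mem hMf hg) (stv_fix hf _ _ ((f_eq_zero_comm hf).1 e2)), mv_stv,
      hf.bilinear.smul_left, e3, mul_one] at h1
    have h2 := M.mul_mem h1 (M.inv_mem h)
    rw [qv_inv hf hbz, qv_mul hf (by rw [hf.bilinear.add_left, hf.bilinear.smul_left,
        hf.bilinear.smul_left, e1, e2]; ring) (by rw [f_neg_left hf, hbz, neg_zero])] at h2
    rw [show b • up (-z) + (d * b) • up w + -(b • up (-z)) = (b * d) • up w by module, neg_zero, zero_add,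
      zero_add, f_neg_left hf, hf.bilinear.add_right, hf.alternating, hf.bilinear.smul_left,
      hf.bilinear.smul_right, e3, zero_add, mul_one] at h2
    rwa [show -(b * (d * b)) = -(b * b * d) by ring] at h2
  have hsq : ∀ {b d : F}, b ∈ B → d ∈ A → b * b * d ∈ A := by
    intro b d hb hd
    obtain ⟨u, hu⟩ : ∃ u : ι → F₀, u ≠ 0 := by
      obtain ⟨v, hv⟩ := exists_up hv₀
      exact ⟨v, fun h => hv₀0 (by rw [hv, h, up_zero])⟩
    obtain ⟨w, w1, -, hw'⟩ := exists_third hf hG hn (u := u) (z := u)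
    obtain ⟨t, t1, t2, ht⟩ := exists_third hf hG hn (u := u) (z := w)
    have hw : w ∉ Submodule.span F₀ {u} := by simpa using hw'
    have htu : t ∉ Submodule.span F₀ {u} := fun h => ht (Submodule.span_mono (by simp) h)
    have hwt : w + t ∉ Submodule.span F₀ {u} := fun h => ht (by
      have := Submodule.sub_mem _ (Submodule.span_mono (s := {u}) (t := {u, w}) (by simp) h)
        (Submodule.subset_span (s := {u, w}) (Set.mem_insert_of_mem _ rfl))
      simpa using this)
    have wu := (f_eq_zero_comm hf₀).1 w1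
    have tu := (f_eq_zero_comm hf₀).1 t1
    have wtu : formDown hG (w + t) u = 0 := by rw [hf₀.bilinear.add_left, wu, tu, add_zero]
    have P1 := hstep hb hd u w hw wu
    have P2 := hstep hb hd u t htu tu
    have P3 := hstep hb hd u (w + t) hwt wtu
    have e : ∀ y, formDown hG y u = 0 → f ((b * d) • up y) (up u) = 0 := fun y hy => by
      rw [hf.bilinear.smul_left]; exact mul_eq_zero_of_right _ (congrArg Subtype.val hy)
    have h5 := M.mul_mem (M.mul_mem P1 P2) (M.inv_mem P3)
    rw [qv_inv hf (e _ wtu), qv_mul hf (e _ wu) (e _ tu), qv_mul hf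
        (by rw [hf.bilinear.add_left, e _ wu, e _ tu, add_zero]) (by rw [f_neg_left hf, e _ wtu, neg_zero]),
      show (b * d) • up w + (b * d) • up t + -((b * d) • up (w + t)) = 0 by rw [up_add]; module,
      qv_zero] at h5
    have e4 : f (up t) (up w) = 0 := (f_eq_zero_comm hf).1 (congrArg Subtype.val t2)
    have h6 : -(b * b * d) + -(b * b * d) + f ((b * d) • up t) ((b * d) • up w) + -(-(b * b * d)) +
        f (-((b * d) • up (w + t))) ((b * d) • up w + (b * d) • up t) = -(b * b * d) := by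
      rw [f_neg_left hf, ← smul_add, ← up_add]
      simp only [hf.bilinear.smul_left, hf.bilinear.smul_right, e4, hf.alternating]
      ring
    rw [h6] at h5
    simpa using hneg (ofOne hu h5)
  have hmul : ∀ {b d : F}, b ∈ B → d ∈ A → b * d ∈ B := by
    intro b d hb hd u w hw hwu
    have h1 := M.mul_mem (hstep hb hd u w hw hwu) (hsq hb hd u)
    rw [← qv_zero hf (up u), qv_mul hf (by
      rw [hf.bilinear.smul_left]; exact mul_eq_zero_of_right _ (congrArg Subtype.val hwu))
      (f_zero_left hf _), add_zero, f_zero_left hf, add_zero, neg_add_cancel] at h1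
    exact h1
  have hBadd : ∀ a ∈ B, ∀ b ∈ B, a + b ∈ B := by
    intro a ha b hb u w hw hwu
    have e : ∀ c : F, f (c • up w) (up u) = 0 := fun c => by
      rw [hf.bilinear.smul_left]; exact mul_eq_zero_of_right _ (congrArg Subtype.val hwu)
    have h1 := M.mul_mem (ha u w hw hwu) (hb u w hw hwu)
    rw [qv_mul hf (e a) (e b), ← add_smul, hf.bilinear.smul_left, hf.bilinear.smul_right, hf.alternating,
      mul_zero, mul_zero, add_zero, add_zero] at h1
    exact h1
  have hc₀A : c₀ ∈ A := by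
    obtain ⟨v, hv⟩ := exists_up hv₀
    exact ofOne (fun h => hv₀0 (by rw [hv, h, up_zero])) (hv ▸ hm)
  have hBall : ∀ c : F, c ∈ B := fun c => by
    simpa using mul_closed hr hcard hBadd (fun a ha b hb => mul_comm b a ▸ hmul hb (hrat ha)) hc₀
      (fun b hb => mul_comm b c₀ ▸ hmul hb hc₀A) c 1 (hAB (hrat F₀.one_mem))
  have hsquare : ∀ b : F, b * b ∈ A := fun b => by simpa using hsq (hBall b) (hrat F₀.one_mem)
  have hAall : ∀ c : F, c ∈ A := by
    intro c
    by_cases h2 : (2 : F) = 0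
    · obtain ⟨b, rfl⟩ := FiniteField.isSquare_of_char_two (ringChar.eq_iff.2 (CharTwo.of_one_ne_zero_of_two_eq_zero one_ne_zero h2)) c
      exact hsquare b
    · rw [show c = (c + 1) / 2 * ((c + 1) / 2) + -((c - 1) / 2 * ((c - 1) / 2)) by field_simp; ring]
      exact hadd (hsquare _) (hneg (hsquare _))
  -- all vectors are centres
  refine sCentres_eq_univ hf hMf fun x => ?_
  rw [pi_eq_sum_univ' x]
  induction (Finset.univ : Finset ι) using Finset.induction_on with
  | empty =>
    intro c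
    rw [Finset.sum_empty, show stv hf 0 c = 1 from ext_mv fun x => by
      rw [mv_stv, mv_one, smul_zero, add_zero]]
    exact M.one_mem
  | insert i s hi ih =>
    rw [Finset.sum_insert hi, add_comm]
    set v := ∑ j ∈ s, x j • (Pi.single j 1 : ι → F) with hv
    set e₀ : ι → F₀ := Pi.single i 1 with he₀
    have hei : up e₀ = (Pi.single i 1 : ι → F) := up_single i
    rw [← hei]
    have heC : up e₀ ∈ sCentres hf M := fun c => hAall c e₀
    by_cases hfe : f v (up e₀) = 0
    swap
    · rcases eq_or_ne (x i) 0 with hx | hx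
      · rwa [hx, zero_smul, add_zero]
      · exact sCentres_add hf hMf ih (sCentres_smul hf heC _)
          (by rw [hf.bilinear.smul_right]; exact mul_ne_zero hx hfe)
    have he0 : up e₀ ≠ 0 := fun h => one_ne_zero (α := F) (by simpa [hei] using congrFun h i)
    by_cases hve : ∃ k : F, v = k • up e₀
    · obtain ⟨k, hk⟩ := hve
      rw [hk, ← add_smul]
      exact sCentres_smul hf heC _
    push Not at hve
    obtain ⟨χ, hχ, -, hχe, hχv⟩ := exists_rat_annihilator (ratV_up e₀) he0 hve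
    obtain ⟨u, hu, hχ'⟩ := exists_rat_eq_f hf hG hχ
    rw [hχ'] at hχe hχv
    obtain ⟨u₀, rfl⟩ := exists_up hu
    have hue : e₀ ∉ Submodule.span F₀ {u₀} := fun hm => by
      obtain ⟨k, hk⟩ := Submodule.mem_span_singleton.1 hm
      rw [← hk, up_smul, hf.bilinear.smul_right] at hfe
      rcases mul_eq_zero.1 hfe with h | h
      · exact he0 (by rw [← hk, up_smul, h, zero_smul])
      · exact hχv h
    have hq := hBall (x i / f v (up u₀)) u₀ e₀ hue (Subtype.ext hχe)
    have := sCentres_mv hf hMf hq ih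
    rw [mv_qv hf (by rw [hf.bilinear.smul_left, hχe, mul_zero]), hf.bilinear.smul_right, hfe, smul_smul,
      mul_div_cancel₀ _ hχv] at this
    simpa using this

end

/-! ### Rational involutions -/

section

variable (hf : Geo.IsSymplecticForm f)
include hf

theorem ratM_stv (hG : ∀ u v : ι → F, RatV F₀ u → RatV F₀ v → f u v ∈ F₀) {v : ι → F} (hv : RatV F₀ v)
    {c : F} (hc : c ∈ F₀) : RatM F₀ (stv hf v c : Matrix ι ι F) :=
  ratM_tv _ hv fun i => F₀.mul_mem hc (hG _ _ (ratV_single i F₀.one_mem) hv)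

/-- The product of transvections acting as -1 on a hyperbolic pair. -/
noncomputable def negPair (p q : ι → F) : GL ι F :=
  stv hf p 1 * stv hf q 1 * stv hf p 1 * (stv hf p 1 * stv hf q 1 * stv hf p 1)

theorem mv_negPair {p q : ι → F} (h : f p q = 1) (x : ι → F) :
    mv (negPair hf p q) x = x + (-2 * f x q) • p + (2 * f x p) • q := by
  have h' : f q p = -1 := by rw [hf.skew, h]
  simp only [negPair, mv_mul, mv_stv, hf.bilinear.add_left, hf.bilinear.smul_left, hf.alternating, h, h']
  module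

theorem negPair_mem {M : Subgroup (GL ι F)} {p q : ι → F} (hp : stv hf p 1 ∈ M) (hq : stv hf q 1 ∈ M) :
    negPair hf p q ∈ M :=
  M.mul_mem (M.mul_mem (M.mul_mem hp hq) hp) (M.mul_mem (M.mul_mem hp hq) hp)

theorem negPair_sq {p q : ι → F} (h : f p q = 1) : negPair hf p q * negPair hf p q = 1 := by
  have h' : f q p = -1 := by rw [hf.skew, h]
  refine ext_mv fun x => ?_
  rw [mv_mul, mv_negPair hf h, mv_negPair hf h, mv_one]
  simp only [hf.bilinear.add_left, hf.bilinear.smul_left, hf.alternating, h, h']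
  module

theorem rank_sub_le_two {g : GL ι F} {p q : ι → F} (h : ∀ x, ∃ a b : F, mv g x = x + a • p + b • q) :
    ((g : Matrix ι ι F) - 1).rank ≤ 2 := by
  classical
  refine le_trans (Submodule.finrank_mono (t := Submodule.span F ({p, q} : Set (ι → F))) ?_)
    ((finrank_span_le_card _).trans (by
      rw [Set.toFinset_insert, Set.toFinset_singleton]; exact Finset.card_le_two))
  rintro _ ⟨x, rfl⟩
  obtain ⟨a, b, hab⟩ := h x
  rw [Matrix.mulVecLin_apply, Matrix.sub_mulVec, Matrix.one_mulVec]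
  show mv g x - x ∈ _
  rw [hab, show x + a • p + b • q - x = a • p + b • q by abel]
  exact Submodule.mem_span_pair.2 ⟨a, b, rfl⟩

theorem sp_subfield_maximal [Fintype F] {r : ℕ} (hr : r.Prime) (hcard : Fintype.card F = Nat.card F₀ ^ r)
    (hn : 6 ≤ Fintype.card ι) (hG : ∀ u v : ι → F, RatV F₀ u → RatV F₀ v → f u v ∈ F₀) :
    Geo.IsMaximalIn (preserving (Units.coeHom (Matrix ι ι F)) f)
      (((Matrix.GeneralLinearGroup.map (F₀.subtype : F₀ →+* F)).range ⊔ Geo.scalars ι F) ⊓
        preserving (Units.coeHom (Matrix ι ι F)) f) := by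
  have hn5 : 5 ≤ Fintype.card ι := by omega
  have h3 : 3 ≤ Fintype.card ι := by omega
  have hne : Nonempty ι := Fintype.card_pos_iff.1 (by omega)
  have hf₀ := formDown_symplectic hf hG
  obtain ⟨c, hc⟩ : ∃ c : F, c ∉ F₀ := by
    by_contra hall
    push Not at hall
    have : Nat.card F₀ = Fintype.card F := by
      rw [← Nat.card_eq_fintype_card]
      exact Nat.card_congr ⟨fun x => x.1, fun x => ⟨x, hall x⟩, fun x => rfl, fun x => rfl⟩
    rw [← this] at hcard
    have h4 : Nat.card F₀ ^ 1 < Nat.card F₀ ^ r := Nat.pow_lt_pow_right Finite.one_lt_card hr.one_lt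
    rw [pow_one, ← hcard] at h4
    exact lt_irrefl _ h4
  obtain ⟨i₀⟩ := hne
  have hne' : Nonempty ι := ⟨i₀⟩
  set p₁ : ι → F₀ := Pi.single i₀ 1 with hp₁
  have hp₁0 : p₁ ≠ 0 := fun h => one_ne_zero (α := F₀) (by simpa [hp₁] using congrFun h i₀)
  obtain ⟨q₁, -, hpq⟩ := exists_partner hf₀ (nondeg_top hf₀) (e := p₁) Submodule.mem_top hp₁0
  have e₁ : f (up p₁) (up q₁) = 1 := congrArg Subtype.val hpq
  refine ⟨lt_of_le_of_ne inf_le_right fun heq => hc ?_, fun M hHM hMS => ?_⟩
  · obtain ⟨a, ha, hA⟩ := (mem_subfield_one_iff _).1 (heq.ge (stv_mem hf (up p₁) c)).1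
    have hA' : RatV F₀ (a • mv (stv hf (up p₁) c) (up p₁)) ∧ RatV F₀ (a • mv (stv hf (up p₁) c) (up q₁)) := by
      constructor <;>
      · rw [← Matrix.smul_mulVec]
        exact ratV_mulVec hA (ratV_up _)
    obtain ⟨h1, h2⟩ := hA'
    rw [stv_fix hf _ _ (hf.alternating _)] at h1
    rw [mv_stv, hf.skew (up q₁), e₁] at h2
    have ha' : a ∈ F₀ := by simpa [hp₁, up] using h1 i₀
    have := F₀.sub_mem (F₀.mul_mem ha' (q₁ i₀).2) (h2 i₀)
    have h5 : a * c ∈ F₀ := by
      refine (congrArg (· ∈ F₀) ?_).mp this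
      simp [hp₁, up]
      ring
    have := F₀.div_mem h5 ha'
    rwa [mul_div_cancel_left₀ _ ha] at this
  have hT : ∀ v : ι → F, RatV F₀ v → ∀ c ∈ F₀, stv hf v c ∈ M := fun v hv d hd =>
    hHM ⟨(mem_subfield_one_iff _).2 (srat_of_ratM (ratM_stv hf hG hv hd)), stv_mem hf v d⟩
  by_cases hP : ∀ v : ι → F, RatV F₀ v → v ≠ 0 → ∀ d, stv hf v d ∈ M → d ∈ F₀
  swap
  · push Not at hP
    obtain ⟨v, hv, hv0, d, hd, hd'⟩ := hP
    exact Or.inr (all_stv_mem hf hG hMS hT hn5 hr hcard hv hv0 hd hd')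
  refine Or.inl (le_antisymm (fun g hg => ⟨(mem_subfield_one_iff g).2 ?_, hMS hg⟩) hHM)
  have hroot₂ : (2 : F) = 0 → ∀ a : F, a * a ∈ F₀ → a ∈ F₀ := by
    intro h2 a ha
    have h2' : (2 : F₀) = 0 := Subtype.ext h2
    obtain ⟨b, hb⟩ := FiniteField.isSquare_of_char_two
      (ringChar.eq_iff.2 (CharTwo.of_one_ne_zero_of_two_eq_zero one_ne_zero h2')) (⟨a * a, ha⟩ : F₀)
    have hb' : a * a = (b : F) * b := congrArg Subtype.val hb
    rcases mul_self_eq_mul_self_iff.1 hb' with h | h
    · exact h ▸ b.2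
    · exact h ▸ F₀.neg_mem b.2
  have hL : ∀ {x : ι → F}, stv hf x 1 ∈ M → ∀ {u : ι → F}, RatV F₀ u → u ≠ 0 → f u x = 0 → RatLine F₀ x :=
    fun {_} hm {_} hu hu0 hux => ratLine_centre_symp hf hG hMS hT hn5 hroot₂ hP hm hu hu0 hux
  by_cases hrn : r < Fintype.card ι
  · refine srat_of_lines fun v hv hv0 => ?_
    set L : (ι → F₀) →ₗ[F₀] F :=
      (((formR hf v).comp (mvLin g⁻¹)).restrictScalars F₀).comp ((Algebra.linearMap F₀ F).compLeft ι)
    obtain ⟨u, hu0, hu⟩ := exists_rat_zero L (by rw [finrank_eq_of_card hcard]; exact hrn)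
    exact ratLine_image_symp hf hG hMS hT hn5 hL hg hv (ratV_coe u) (coe_ne_zero hu0) hu
  have hr2 : r ≠ 2 := by omega
  have hK : ∀ g ∈ M, ∀ D : Matrix ι ι F, RatM F₀ D → D ≠ 0 → D.det = 0 → ∀ y : ι → F,
      RatV F₀ (mv g (D *ᵥ y)) → mv g (D *ᵥ y) ≠ 0 → SRat F₀ g := by
    intro g hg D hD _ hdet y hu hu0
    obtain ⟨e, he0, he, heD⟩ := exists_rat_left_ker hD hdet
    obtain ⟨v₀, hv₀, hv₀'⟩ := exists_rat_eq_f hf hG (ratD_dotDual he)
    have hv₀0 : v₀ ≠ 0 := fun h => dotDual_ne_zero he0 (LinearMap.ext fun x => by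
      rw [hv₀' x, h, f_zero_right hf]; rfl)
    obtain ⟨a, ha, hav⟩ := ratLine_image_symp hf hG hMS hT hn5 hL hg hv₀ hu hu0
      (by rw [mv_inv_mv, ← hv₀']; exact heD y)
    have step : ∀ v₁ : ι → F, RatV F₀ v₁ → f v₀ v₁ = 0 → RatLine F₀ (mv g v₁) := fun v₁ hv₁ h01 =>
      ratLine_image_symp hf hG hMS hT hn5 hL hg hv₁ hav
        (smul_ne_zero ha fun h => hv₀0 (mv_inj g (h.trans (mv_zero g).symm)))
        (by rw [mv_smul, mv_inv_mv, hf.bilinear.smul_left, h01, mul_zero])
    refine srat_of_lines fun w hw hw0 => ?_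
    obtain ⟨v₁, hv₁0, hv₁, h10, h1w⟩ := exists_rat_orth hf hG h3 hv₀ hw
    obtain ⟨b, hb, hbv⟩ := step v₁ hv₁ ((f_eq_zero_comm hf).1 h10)
    exact ratLine_image_symp hf hG hMS hT hn5 hL hg hw hbv
      (smul_ne_zero hb fun h => hv₁0 (mv_inj g (h.trans (mv_zero g).symm)))
      (by rw [mv_smul, mv_inv_mv, hf.bilinear.smul_left, h1w, mul_zero])
  have hroot := sq_mem_imp hr hr2 hcard
  -- two orthogonal rational hyperbolic pairs
  have hq₁ : q₁ ∉ Submodule.span F₀ {p₁} := fun hm => by
    obtain ⟨k, hk⟩ := Submodule.mem_span_singleton.1 hm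
    rw [← hk, hf₀.bilinear.smul_right, hf₀.alternating, mul_zero] at hpq
    exact zero_ne_one hpq
  obtain ⟨p₂, k1, k2, hp₂⟩ := exists_third hf hG hn5 (u := p₁) (z := q₁)
  have hp₂' : p₂ ∉ Submodule.span F₀ {p₁} := fun h => hp₂ (Submodule.span_mono (by simp) h)
  obtain ⟨q₂, l1, l2, l3⟩ := exists_star hf hG hp₂' (t := q₁) (fun hm => by
    obtain ⟨a, b, hab⟩ := Submodule.mem_span_pair.1 hm
    rw [← hab, hf₀.bilinear.add_right, hf₀.bilinear.smul_right, hf₀.bilinear.smul_right, hf₀.alternating,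
      k1, mul_zero, mul_zero, add_zero] at hpq
    exact zero_ne_one hpq) 0
  have e₂ : f (up p₂) (up q₂) = 1 := congrArg Subtype.val l2
  have a1 : f (up p₁) (up p₂) = 0 := congrArg Subtype.val k1
  have a2 : f (up q₁) (up p₂) = 0 := congrArg Subtype.val k2
  have a3 : f (up p₁) (up q₂) = 0 := congrArg Subtype.val l1
  have a4 : f (up q₁) (up q₂) = 0 := congrArg Subtype.val l3
  have a5 : f (up p₂) (up p₁) = 0 := (f_eq_zero_comm hf).1 a1
  have a6 : f (up p₂) (up q₁) = 0 := (f_eq_zero_comm hf).1 a2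
  have a7 : f (up q₂) (up p₁) = 0 := (f_eq_zero_comm hf).1 a3
  have a8 : f (up q₂) (up q₁) = 0 := (f_eq_zero_comm hf).1 a4
  have e₁' : f (up q₁) (up p₁) = -1 := by rw [hf.skew, e₁]
  have e₂' : f (up q₂) (up p₂) = -1 := by rw [hf.skew, e₂]
  have hmem : ∀ x : ι → F₀, stv hf (up x) 1 ∈ M := fun x => hT _ (ratV_up x) _ F₀.one_mem
  have hrat : ∀ x : ι → F₀, RatM F₀ (stv hf (up x) 1 : Matrix ι ι F) := fun x =>
    ratM_stv hf hG (ratV_up x) F₀.one_mem
  have hrneg : ∀ p q : ι → F₀, RatM F₀ (negPair hf (up p) (up q) : Matrix ι ι F) := fun p q => by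
    simp only [negPair, Units.val_mul]
    exact ratM_mul (ratM_mul (ratM_mul (hrat _) (hrat _)) (hrat _))
      (ratM_mul (ratM_mul (hrat _) (hrat _)) (hrat _))
  by_cases h2 : (2 : F) = 0
  · have hneg : (-1 : F) = 1 := by linear_combination -h2
    have hn1 : (-1 : Matrix ι ι F) = 1 := by
      rw [← neg_one_smul F (1 : Matrix ι ι F), hneg, one_smul]
    set A := stv hf (up p₁) 1 with hA
    set B := stv hf (up p₂) 1 with hB
    have hzv : ∀ x, mv (A * B) x = x + f x (up p₂) • up p₂ + f x (up p₁) • up p₁ := fun x => by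
      rw [mv_mul, hA, hB, mv_stv, mv_stv, one_mul, one_mul, hf.bilinear.add_left, hf.bilinear.smul_left,
        a5, mul_zero, add_zero]
    have two0 : ∀ v : ι → F, v + v = 0 := fun v => by rw [← two_smul F v, h2, zero_smul]
    have hA2 : A * A = 1 := by
      rw [hA, stv_add, one_add_one_eq_two, h2, stv_zero]
    have hz2 : A * B * (A * B) = 1 := ext_mv fun x => by
      rw [mv_mul, hzv, hzv, mv_one]
      simp only [hf.bilinear.add_left, hf.bilinear.smul_left, hf.alternating, a1, a5, mul_zero, add_zero]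
      linear_combination (norm := module) two0 (f x (up p₂) • up p₂) + two0 (f x (up p₁) • up p₁)
    have hsA : ((A : Matrix ι ι F) - 1).rank ≤ 1 := by
      refine le_trans (Submodule.finrank_mono (t := Submodule.span F {up p₁}) ?_)
        ((finrank_span_le_card _).trans (by simp))
      rintro _ ⟨x, rfl⟩
      rw [Matrix.mulVecLin_apply, Matrix.sub_mulVec, Matrix.one_mulVec]
      show mv A x - x ∈ _
      rw [hA, mv_stv, add_sub_cancel_left]
      exact Submodule.smul_mem _ _ (Submodule.mem_span_singleton_self _)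
    have hsz : 2 ≤ (((A * B : GL ι F) : Matrix ι ι F) - 1).rank := by
      have hind : LinearIndependent F ![up p₂, up p₁] := by
        rw [LinearIndependent.pair_iff]
        intro s t hst
        constructor
        · simpa [hf.bilinear.add_left, hf.bilinear.smul_left, f_zero_left hf, a3, e₂] using
            congrArg (fun v => f v (up q₂)) hst
        · simpa [hf.bilinear.add_left, hf.bilinear.smul_left, f_zero_left hf, a6, e₁] using
            congrArg (fun v => f v (up q₁)) hst
      have := finrank_span_eq_card hind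
      rw [Fintype.card_fin] at this
      refine this.symm.le.trans (Submodule.finrank_mono (Submodule.span_le.2 ?_))
      rintro _ ⟨k, rfl⟩
      fin_cases k
      · refine ⟨-up q₂, ?_⟩
        rw [Matrix.mulVecLin_apply, Matrix.sub_mulVec, Matrix.one_mulVec]
        show mv (A * B) _ - _ = _
        rw [hzv]; simp [f_neg_left hf, e₂', a7]
      · refine ⟨-up q₁, ?_⟩
        rw [Matrix.mulVecLin_apply, Matrix.sub_mulVec, Matrix.one_mulVec]
        show mv (A * B) _ - _ = _
        rw [hzv]; simp [f_neg_left hf, e₁', a2]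
    have hA1 : A ≠ 1 := fun h => by
      have h0 := congrArg (fun g => f (mv g (up q₁) - up q₁) (up q₁)) h
      simp [hA, mv_stv, mv_one, e₁', e₁, f_neg_left hf, hf.bilinear.smul_left, f_zero_left hf] at h0
    have hz1 : A * B ≠ 1 := fun h => by
      have h0 := congrArg (fun g => f (mv g (up q₁) - up q₁) (up q₁)) h
      simp [hzv, mv_one, e₁', e₁, a2, f_neg_left hf, hf.bilinear.smul_left, f_zero_left hf] at h0
    exact srat_of_involutions (s := A) (z := A * B) hroot hK (hmem _) (M.mul_mem (hmem _) (hmem _)) hA2 hz2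
      (hrat _) (by rw [Units.val_mul]; exact ratM_mul (hrat _) (hrat _)) hA1
      (fun h => hA1 (Units.ext ((h.trans hn1).trans Units.val_one.symm))) hz1
      (fun h => hz1 (Units.ext ((h.trans hn1).trans Units.val_one.symm))) (by omega) (Or.inl hneg) g hg
  · -- an involution is self-adjoint, so it maps a rational vector to a vector orthogonal to it
    have hinv : ∀ t ∈ M, t * t = 1 → RatM F₀ (t : Matrix ι ι F) := by
      intro t ht ht2
      have hti : t⁻¹ = t := inv_eq_of_mul_eq_one_right ht2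
      have hperp : f (mv t⁻¹ (up p₁)) (up p₁) = 0 := by
        have h := hMS ht (mv t (up p₁)) (up p₁)
        change f (mv t (mv t (up p₁))) (mv t (up p₁)) = f (mv t (up p₁)) (up p₁) at h
        rw [← mv_mul, ht2, mv_one, hf.skew] at h
        rw [hti]
        exact (mul_eq_zero.1 (show (2 : F) * f (mv t (up p₁)) (up p₁) = 0 by linear_combination -h)).resolve_left h2
      obtain ⟨a, ha, hav⟩ := ratLine_image_symp hf hG hMS hT hn5 hL ht (ratV_up p₁) (ratV_up p₁)
        (up_ne_zero hp₁0) hperp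
      have hne0 : ∀ {w : ι → F}, w ≠ 0 → mv t w ≠ 0 := fun hw h =>
        hw (mv_inj t (h.trans (mv_zero t).symm))
      refine ratM_of_srat_sq hroot (srat_of_lines fun w hw hw0 => ?_) ht2
      obtain ⟨v₁, hv₁0, hv₁, h10, h1w⟩ := exists_rat_orth hf hG h3 (ratV_up p₁) hw
      obtain ⟨b, hb, hbv⟩ := ratLine_image_symp hf hG hMS hT hn5 hL ht hv₁ hav
        (smul_ne_zero ha (hne0 (up_ne_zero hp₁0))) (by
          rw [mv_smul, mv_inv_mv, hf.bilinear.smul_left, (f_eq_zero_comm hf).1 h10, mul_zero])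
      exact ratLine_image_symp hf hG hMS hT hn5 hL ht hw hbv (smul_ne_zero hb (hne0 hv₁0)) (by
        rw [mv_smul, mv_inv_mv, hf.bilinear.smul_left, h1w, mul_zero])
    set R := negPair hf (up p₁) (up q₁) with hR
    have hRM : R ∈ M := negPair_mem hf (hmem _) (hmem _)
    have hR2 : R * R = 1 := negPair_sq hf e₁
    have hR1 : R ≠ 1 := fun h => by
      have h0 : mv R (up p₁) = up p₁ := by rw [h, mv_one]
      rw [hR, mv_negPair hf e₁, e₁, hf.alternating] at h0
      have h0' : (-2 : F) • up p₁ = 0 := by simpa using h0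
      exact up_ne_zero hp₁0 ((smul_eq_zero.1 h0').resolve_left (neg_ne_zero.2 h2))
    have hRn : (R : Matrix ι ι F) ≠ -1 := fun h => by
      have h0 : mv R (up p₂) = -up p₂ := by
        show (R : Matrix ι ι F) *ᵥ up p₂ = _
        rw [h, Matrix.neg_mulVec, Matrix.one_mulVec]
      rw [hR, mv_negPair hf e₁, a5, a6] at h0
      have h0' : (2 : F) • up p₂ = 0 := by
        simp only [mul_zero, zero_smul, add_zero] at h0
        linear_combination (norm := module) h0
      exact up_ne_zero (fun h' => hp₂ (by rw [h']; exact Submodule.zero_mem _)) ((smul_eq_zero.1 h0').resolve_left h2)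
    obtain ⟨t, ht⟩ : ∃ t, t = g * R * g⁻¹ := ⟨_, rfl⟩
    have htM : t ∈ M := ht ▸ M.mul_mem (M.mul_mem hg hRM) (M.inv_mem hg)
    have ht2 : t * t = 1 := by
      rw [ht, show g * R * g⁻¹ * (g * R * g⁻¹) = g * (R * R) * g⁻¹ by group, hR2]; group
    have htR := hinv t htM ht2
    have hD0' : (t : Matrix ι ι F) - 1 ≠ 0 := fun h => hR1 (by
      have h' : g * R * g⁻¹ = 1 := ht ▸ Units.ext (sub_eq_zero.1 h)
      rw [mul_inv_eq_one] at h'
      exact mul_eq_left.1 h')
    obtain ⟨j, hj⟩ : ∃ j, ((t : Matrix ι ι F) - 1) *ᵥ Pi.single j 1 ≠ 0 := by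
      by_contra hcon
      push Not at hcon
      exact hD0' (Matrix.ext_of_mulVec_single fun j => by rw [hcon j, Matrix.zero_mulVec])
    have hy : mv g (((R : Matrix ι ι F) - 1) *ᵥ mv g⁻¹ (Pi.single j 1)) =
        ((t : Matrix ι ι F) - 1) *ᵥ Pi.single j 1 := by
      rw [Matrix.sub_mulVec, Matrix.sub_mulVec, Matrix.one_mulVec, Matrix.one_mulVec, mv_sub, mv_mv_inv]
      congr 1
      show mv g (mv R (mv g⁻¹ _)) = mv t _
      rw [ht, mv_mul, mv_mul]
    exact hK g hg _ (ratM_sub (hrneg _ _) ratM_one) (fun h => hR1 (Units.ext (sub_eq_zero.1 h)))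
      (invol_det_sub_one hR2 hRn) _
      (by rw [hy]; exact ratV_mulVec (ratM_sub htR ratM_one) (ratV_single j F₀.one_mem)) (by rwa [hy])

end

end Cfsg.Agent.Transvec
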