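/-
Maximality in the special unitary group of the symplectic groups over the fixed field.
-/
import Cfsg.Agent.Lib.Transvec.HermStab
import Cfsg.Agent.Lib.Transvec.SubfieldSymp
set_option autoImplicit false

namespace Cfsg.Agent.Transvec.Herm

open scoped Matrix
open Matrix Cfsg.Agent.Transvec

section

variable {F : Type*} [Field F] {F₀ : Subfield F} {σ : F ≃+* F}

/-- Coordinates over the fixed field. -/
theorem exists_coord (hne : σ ≠ RingEquiv.refl F) (hinv : ∀ a : F, σ (σ a) = a)
    (hF₀ : ∀ a, a ∈ F₀ ↔ σ a = a) {θ : F} (hθ : θ ∉ F₀) (x : F) :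
    ∃ a ∈ F₀, ∃ b ∈ F₀, x = a + θ * b := by
  have hd : θ - σ θ ≠ 0 := sub_ne_zero.2 fun h => hθ ((hF₀ θ).2 h.symm)
  set b := (x - σ x) / (θ - σ θ) with hb
  have hσb : σ b = b := by
    rw [hb, map_div₀, map_sub, map_sub, hinv, hinv, ← neg_sub x, ← neg_sub θ, neg_div_neg_eq]
  have hbd : b * (θ - σ θ) = x - σ x := div_mul_cancel₀ _ hd
  refine ⟨x - θ * b, (hF₀ _).2 ?_, b, (hF₀ _).2 hσb, by ring⟩
  rw [map_sub, map_mul, hσb]
  linear_combination hbd

variable [Fintype F]

/-- A subfield of square-root size is the fixed field. -/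
theorem fixed_of_card (hne : σ ≠ RingEquiv.refl F) (hinv : ∀ a : F, σ (σ a) = a)
    (hcard : Fintype.card F = Nat.card F₀ ^ 2) (a : F) : a ∈ F₀ ↔ σ a = a := by
  have hq : Nat.card F₀ = Nat.card (fixedField σ) := by
    have h := card_eq_sq hne hinv
    rw [Nat.card_eq_fintype_card (α := F), hcard] at h
    exact Nat.pow_left_injective (by norm_num) h
  have hle : ∀ x : F₀, (x : F) ∈ fixedField σ := fun x => by
    have : Fintype F₀ := Fintype.ofFinite _
    have h := congrArg Subtype.val (FiniteField.pow_card x)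
    rw [← Nat.card_eq_fintype_card, hq] at h
    show σ (x : F) = x
    rw [apply_eq_pow hne hinv]
    exact h
  refine ⟨fun h => hle ⟨a, h⟩, fun h => ?_⟩
  have hbij : Function.Bijective fun x : F₀ => (⟨(x : F), hle x⟩ : fixedField σ) := by
    have hinj : Function.Injective fun x : F₀ => (⟨(x : F), hle x⟩ : fixedField σ) := fun x y hxy =>
      Subtype.ext (congrArg (fun z : fixedField σ => (z : F)) hxy)
    exact ⟨hinj, (hinj.bijective_of_nat_card_le hq.ge).2⟩
  obtain ⟨x, hx⟩ := hbij.2 ⟨a, h⟩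
  have hxa : (x : F) = a := congrArg (fun z : fixedField σ => (z : F)) hx
  exact hxa ▸ x.2

end

variable {ι : Type} [Fintype ι] [DecidableEq ι] {F : Type*} [Field F] {F₀ : Subfield F}
variable {σ : F ≃+* F} {f : (ι → F) → (ι → F) → F} (hf : Geo.IsUnitaryForm σ f)
include hf

/-- The rational vectors carry an alternating form. -/
theorem isSymplectic_rat (hF₀ : ∀ a : F, a ∈ F₀ ↔ σ a = a) {ζ : F} (hζ0 : ζ ≠ 0) (hζ : σ ζ = -ζ)
    (hG : ∀ u v : ι → F, RatV F₀ u → RatV F₀ v → ζ * f u v ∈ F₀)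
    (halt : ∀ u : ι → F, RatV F₀ u → f u u = 0) :
    Geo.IsSymplecticForm (fun u v : ι → F₀ => (⟨ζ * f (up u) (up v), hG _ _ (ratV_up u) (ratV_up v)⟩ : F₀)) := by
  have hskew : ∀ u v : ι → F₀, ζ * f (up u) (up v) = -(ζ * f (up v) (up u)) := by
    intro u v
    have h := (hF₀ _).1 (hG _ _ (ratV_up u) (ratV_up v))
    rw [map_mul, hζ, ← hf.herm] at h
    linear_combination -h
  exact
    { bilinear :=
        { add_left := fun x y v => Subtype.ext (by
            show ζ * f (up (x + y)) (up v) = _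
            rw [up_add, hf.add_left, mul_add]; rfl)
          smul_left := fun c x v => Subtype.ext (by
            show ζ * f (up (c • x)) (up v) = _
            rw [up_smul, hf.smul_left, mul_left_comm]; rfl)
          add_right := fun v x y => Subtype.ext (by
            show ζ * f (up v) (up (x + y)) = _
            rw [up_add, add_right hf, mul_add]; rfl)
          smul_right := fun c v x => Subtype.ext (by
            show ζ * f (up v) (up (c • x)) = _
            rw [up_smul, smul_right hf, (hF₀ _).1 c.2, mul_left_comm]; rfl) }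
      skew := fun v w => Subtype.ext (hskew v w)
      alternating := fun v => Subtype.ext (by
        show ζ * f (up v) (up v) = _
        rw [halt _ (ratV_up v), mul_zero]; rfl)
      nondegenerate := fun v hv => by
        obtain ⟨i, hi⟩ : ∃ i, f (Pi.single i 1) (up v) ≠ 0 := by
          by_contra h
          push Not at h
          obtain ⟨x, hx⟩ := (hf.nondegenerate (up v) (up_ne_zero hv)).1
          exact hx (LinearMap.congr_fun (dual_ext_zero (φ := formH hf (up v)) h) x)
        refine ⟨⟨Pi.single i 1, fun h => hi ?_⟩, ⟨Pi.single i 1, fun h => hi ?_⟩⟩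
        · have h' : ζ * f (up (Pi.single i (1 : F₀))) (up v) = 0 := congrArg Subtype.val h
          rw [up_single] at h'
          exact (mul_eq_zero.1 h').resolve_left hζ0
        · have h' : ζ * f (up v) (up (Pi.single i (1 : F₀))) = 0 := congrArg Subtype.val h
          rw [up_single] at h'
          exact (f_eq_zero_comm hf).1 ((mul_eq_zero.1 h').resolve_left hζ0) }

/-- Rational symplectic transvections are unitary transvections. -/
theorem map_stv_eq_htv {ζ : F} (hG : ∀ u v : ι → F, RatV F₀ u → RatV F₀ v → ζ * f u v ∈ F₀)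
    (halt : ∀ u : ι → F, RatV F₀ u → f u u = 0)
    (hf₀ : Geo.IsSymplecticForm (fun u v : ι → F₀ => (⟨ζ * f (up u) (up v), hG _ _ (ratV_up u) (ratV_up v)⟩ : F₀)))
    (v : ι → F₀) (a : F₀) : Matrix.GeneralLinearGroup.map (F₀.subtype : F₀ →+* F) (stv hf₀ v a) =
      htv hf (up v) (halt _ (ratV_up v)) ((a : F) * ζ) := by
  refine Units.ext (Matrix.ext_of_mulVec_single fun i => ?_)
  show mv _ _ = mv _ _
  rw [← up_single (F₀ := F₀) i, mv_map, mv_stv, mv_htv, up_add, up_smul]
  congr 2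
  show (a : F) * (ζ * _) = _
  ring

/-- An overgroup of the rational transvections is rational or everything. -/
theorem sp_in_su_overgroup [Fintype F] (hn : 6 ≤ Fintype.card ι)
    (hcard : Fintype.card F = Nat.card F₀ ^ 2) {ζ : F} (hζ0 : ζ ≠ 0) (hζ : σ ζ = -ζ)
    (hG : ∀ u v : ι → F, RatV F₀ u → RatV F₀ v → ζ * f u v ∈ F₀)
    (halt : ∀ u : ι → F, RatV F₀ u → f u u = 0) {M : Subgroup (GL ι F)}
    (hMS : M ≤ preserving (Units.coeHom (Matrix ι ι F)) f ⊓ Geo.specialLinear ι F)
    (hstv : ∀ (v : ι → F) (hv : RatV F₀ v) (c : F), σ c = -c → htv hf v (halt v hv) c ∈ M) :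
    (∀ g ∈ M, SRat F₀ g) ∨ M = preserving (Units.coeHom (Matrix ι ι F)) f ⊓ Geo.specialLinear ι F := by
  have hF₀ := fixed_of_card hf.ne_refl hf.involutive hcard
  obtain ⟨θ, hθ⟩ : ∃ θ : F, θ ∉ F₀ := by
    obtain ⟨a, ha⟩ : ∃ a, σ a ≠ a := by
      by_contra h
      push Not at h
      exact hf.ne_refl (RingEquiv.ext h)
    exact ⟨a, fun h => ha ((hF₀ a).1 h)⟩
  -- the alternating form on rational vectors
  set f₀ : (ι → F₀) → (ι → F₀) → F₀ := fun u v => ⟨ζ * f (up u) (up v), hG _ _ (ratV_up u) (ratV_up v)⟩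
    with hf₀def
  have hskew : ∀ u v : ι → F₀, ζ * f (up u) (up v) = -(ζ * f (up v) (up u)) := by
    intro u v
    have h := (hF₀ _).1 (hG _ _ (ratV_up u) (ratV_up v))
    rw [map_mul, hζ, ← hf.herm] at h
    linear_combination -h
  have hf₀ : Geo.IsSymplecticForm f₀ := isSymplectic_rat hf hF₀ hζ0 hζ hG halt
  have hfzero : ∀ {u v : ι → F₀}, f₀ u v = 0 → f (up u) (up v) = 0 := fun {u v} h => by
    have h' : ζ * f (up u) (up v) = 0 := congrArg Subtype.val h
    exact (mul_eq_zero.1 h').resolve_left hζ0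
  have hsplit : ∀ x : ι → F, ∃ p q : ι → F₀, x = up p + θ • up q := by
    intro x
    choose a ha b hb hab using fun i => exists_coord hf.ne_refl hf.involutive hF₀ hθ (x i)
    exact ⟨fun i => ⟨a i, ha i⟩, fun i => ⟨b i, hb i⟩, funext fun i => hab i⟩
  have hline : ∀ {p q : ι → F₀}, ¬ LinearIndependent F₀ ![p, q] → RatLine F₀ (up p + θ • up q) := by
    intro p q h
    rw [LinearIndependent.pair_iff] at h
    push Not at h
    obtain ⟨s, t, hst, hne⟩ := h
    by_cases hs : s = 0
    · have ht : t ≠ 0 := hne hs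
      rw [hs, zero_smul, zero_add, smul_eq_zero] at hst
      refine ⟨1, one_ne_zero, ?_⟩
      rw [one_smul, hst.resolve_left ht, up_zero, smul_zero, add_zero]
      exact ratV_up p
    · have hp : up p = ((-(s⁻¹ * t) : F₀) : F) • up q := by
        rw [← up_smul, neg_smul, mul_smul, eq_neg_of_add_eq_zero_right hst, smul_neg, smul_smul,
          inv_mul_cancel₀ hs, one_smul, neg_neg]
      have hne' : ((-(s⁻¹ * t) : F₀) : F) + θ ≠ 0 := fun h0 => hθ (by
        rw [← neg_eq_of_add_eq_zero_right h0]; exact F₀.neg_mem (-(s⁻¹ * t) : F₀).2)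
      refine ⟨(((-(s⁻¹ * t) : F₀) : F) + θ)⁻¹, inv_ne_zero hne', ?_⟩
      rw [hp, ← add_smul, smul_smul, inv_mul_cancel₀ hne', one_smul]
      exact ratV_up q
  -- isotropic vectors correspond to orthogonal pairs
  have hiso : ∀ p q : ι → F₀, f (up p + θ • up q) (up p + θ • up q) = 0 ↔ f₀ p q = 0 := by
    intro p q
    have e : ζ * f (up p + θ • up q) (up p + θ • up q) = (σ θ - θ) * (ζ * f (up p) (up q)) := by
      simp only [hf.add_left, add_right hf, hf.smul_left, smul_right hf, halt _ (ratV_up p),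
        halt _ (ratV_up q), mul_zero, zero_add, add_zero]
      linear_combination θ * hskew q p
    have hd : σ θ - θ ≠ 0 := sub_ne_zero.2 fun h => hθ ((hF₀ θ).2 h)
    refine ⟨fun h => Subtype.ext ?_, fun h => ?_⟩
    · rw [h, mul_zero] at e
      exact (mul_eq_zero.1 e.symm).resolve_left hd
    · rw [show ζ * f (up p) (up q) = 0 from congrArg Subtype.val h, mul_zero] at e
      exact (mul_eq_zero.1 e).resolve_left hζ0
  set S := preserving (Units.coeHom (Matrix ι ι F)) f ⊓ Geo.specialLinear ι F with hS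
  set H₁ := (Matrix.GeneralLinearGroup.map (F₀.subtype : F₀ →+* F)).range ⊔ Geo.scalars ι F with hH₁
  have hζanti : ∀ a : F₀, σ ((a : F) * ζ) = -((a : F) * ζ) := fun a => by
    rw [map_mul, (hF₀ _).1 a.2, hζ]; ring
  have hmap : ∀ (v : ι → F₀) (a : F₀), Matrix.GeneralLinearGroup.map (F₀.subtype : F₀ →+* F) (stv hf₀ v a) =
      htv hf (up v) (halt _ (ratV_up v)) ((a : F) * ζ) := fun v a => map_stv_eq_htv hf hG halt hf₀ v a
  have hstvM : ∀ (v : ι → F₀) (a : F₀), Matrix.GeneralLinearGroup.map (F₀.subtype : F₀ →+* F) (stv hf₀ v a) ∈ M :=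
    fun v a => by rw [hmap]; exact hstv _ (ratV_up v) _ (hζanti a)
  have hMf : M ≤ preserving (Units.coeHom (Matrix ι ι F)) f := fun g hg => (hMS hg).1
  set C := hCentres hf M
  have hratC : ∀ v : ι → F₀, up v ∈ C := fun v => ⟨halt _ (ratV_up v), fun c hc => by
    have hcz : c / ζ ∈ F₀ := (hF₀ _).2 (by rw [map_div₀, hc, hζ, neg_div_neg_eq])
    have := hstvM v ⟨c / ζ, hcz⟩
    rw [hmap] at this
    simpa [div_mul_cancel₀ _ hζ0] using this⟩
  by_cases hlines : ∀ g ∈ M, ∀ v : ι → F₀, RatLine F₀ (mv g (up v))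
  · refine Or.inl fun g hg => ?_
    have : Nonempty ι := Fintype.card_pos_iff.1 (by omega)
    exact srat_of_lines fun v hv _ => by
      obtain ⟨v₀, rfl⟩ := exists_up hv
      exact hlines g hg v₀
  push Not at hlines
  obtain ⟨g, hg, v, hv⟩ := hlines
  refine Or.inr (eq_su hf (by omega) hMS fun y hyy => ?_)
  have hx := hCentres_mv hf hMf hg (hratC v)
  obtain ⟨p, q, hpq⟩ := hsplit (mv g (up v))
  rw [hpq] at hv hx
  have hind : LinearIndependent F₀ ![p, q] := by
    by_contra h
    exact hv (hline h)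
  have hpq0 := (hiso p q).1 hx.1
  obtain ⟨p', q', rfl⟩ := hsplit y
  by_cases hind' : LinearIndependent F₀ ![p', q']
  swap
  · obtain ⟨a, ha, hr⟩ := hline hind'
    obtain ⟨z, hz⟩ := exists_up hr
    have := hCentres_smul hf (hratC z) a⁻¹
    rwa [← hz, smul_smul, inv_mul_cancel₀ ha, one_smul] at this
  have hpq0' := (hiso p' q').1 hyy
  have ne_of_ind : ∀ {a b : ι → F₀}, LinearIndependent F₀ ![a, b] → a ≠ 0 ∧ b ∉ Submodule.span F₀ {a} := by
    intro a b h
    refine ⟨by simpa using h.ne_zero 0, fun hm => ?_⟩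
    obtain ⟨k, hk⟩ := Submodule.mem_span_singleton.1 hm
    rw [LinearIndependent.pair_iff] at h
    exact neg_ne_zero.2 one_ne_zero (h k (-1) (by rw [hk, neg_smul, one_smul, add_neg_cancel])).2
  obtain ⟨hp0, hqp⟩ := ne_of_ind hind
  obtain ⟨hp'0, hqp'⟩ := ne_of_ind hind'
  set K := M.comap (Matrix.GeneralLinearGroup.map (F₀.subtype : F₀ →+* F)) ⊓
    preserving (Units.coeHom (Matrix ι ι F₀)) f₀ with hKdef
  have hK : ∀ (u : ι → F₀) (a : F₀), stv hf₀ u a ∈ K := fun u a => ⟨hstvM u a, stv_mem hf₀ u a⟩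
  obtain ⟨g₁, hg₁, hg₁p, -⟩ := exists_move_nondeg hf₀ (Cfsg.Agent.Transvec.nondeg_top hf₀) (K := K)
    (fun u _ a => hK u a) (Submodule.mem_top (x := p)) (Submodule.mem_top (x := p')) hp0 hp'0
  set q₁ := mv g₁ q with hq₁
  have hq₁0 : f₀ p' q₁ = 0 := by
    have := hg₁.2 p q
    change f₀ (mv g₁ p) (mv g₁ q) = f₀ p q at this
    rwa [hg₁p, hpq0] at this
  have hq₁p' : q₁ ∉ Submodule.span F₀ {p'} := fun hm => by
    obtain ⟨k, hk⟩ := Submodule.mem_span_singleton.1 hm
    apply hqp
    refine Submodule.mem_span_singleton.2 ⟨k, mv_inj g₁ ?_⟩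
    rw [mv_smul, hg₁p, hk]
  obtain ⟨z, hz, hz1, hz2⟩ := exists_perp_two hf₀ hq₁p' hqp'
  have morth : ∀ {x : ι → F₀}, f₀ p' x = 0 → x ∈ Cfsg.Agent.Transvec.orth hf₀ (Submodule.span F₀ {p'}) :=
    fun {x} h u hu => by
      obtain ⟨k, rfl⟩ := Submodule.mem_span_singleton.1 hu
      rw [hf₀.bilinear.smul_left, h, mul_zero]
  obtain ⟨g₂, hg₂, hg₂q, hg₂f⟩ := Cfsg.Agent.Transvec.exists_move hf₀
    (X := Cfsg.Agent.Transvec.orth hf₀ (Submodule.span F₀ {p'})) (K := K) (fun u _ a => hK u a)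
    (morth hq₁0) (morth hpq0') (Or.inr ⟨z, morth hz, hz1, hz2⟩)
  have := hCentres_mv hf hMf (M.mul_mem hg₂.1 hg₁.1) hx
  rw [mv_mul, mv_add, mv_smul, mv_map, mv_map, hg₁p, mv_add, mv_smul, mv_map, mv_map,
    hg₂f p' (fun x hx => hx p' (Submodule.mem_span_singleton_self p')), ← hq₁, hg₂q] at this
  exact this

theorem sp_in_su_maximal [Fintype F] (hn : 6 ≤ Fintype.card ι)
    (hcard : Fintype.card F = Nat.card F₀ ^ 2) {ζ : F} (hζ0 : ζ ≠ 0) (hζ : σ ζ = -ζ)
    (hG : ∀ u v : ι → F, RatV F₀ u → RatV F₀ v → ζ * f u v ∈ F₀)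
    (halt : ∀ u : ι → F, RatV F₀ u → f u u = 0) :
    Geo.IsMaximalIn (preserving (Units.coeHom (Matrix ι ι F)) f ⊓ Geo.specialLinear ι F)
      (((Matrix.GeneralLinearGroup.map (F₀.subtype : F₀ →+* F)).range ⊔ Geo.scalars ι F) ⊓
        (preserving (Units.coeHom (Matrix ι ι F)) f ⊓ Geo.specialLinear ι F)) := by
  have hF₀ := fixed_of_card hf.ne_refl hf.involutive hcard
  obtain ⟨θ, hθ⟩ : ∃ θ : F, θ ∉ F₀ := by
    obtain ⟨a, ha⟩ : ∃ a, σ a ≠ a := by
      by_contra h
      push Not at h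
      exact hf.ne_refl (RingEquiv.ext h)
    exact ⟨a, fun h => ha ((hF₀ a).1 h)⟩
  -- the alternating form on rational vectors
  set f₀ : (ι → F₀) → (ι → F₀) → F₀ := fun u v => ⟨ζ * f (up u) (up v), hG _ _ (ratV_up u) (ratV_up v)⟩
    with hf₀def
  have hskew : ∀ u v : ι → F₀, ζ * f (up u) (up v) = -(ζ * f (up v) (up u)) := by
    intro u v
    have h := (hF₀ _).1 (hG _ _ (ratV_up u) (ratV_up v))
    rw [map_mul, hζ, ← hf.herm] at h
    linear_combination -h
  have hf₀ : Geo.IsSymplecticForm f₀ := isSymplectic_rat hf hF₀ hζ0 hζ hG halt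
  have hfzero : ∀ {u v : ι → F₀}, f₀ u v = 0 → f (up u) (up v) = 0 := fun {u v} h => by
    have h' : ζ * f (up u) (up v) = 0 := congrArg Subtype.val h
    exact (mul_eq_zero.1 h').resolve_left hζ0
  have hsplit : ∀ x : ι → F, ∃ p q : ι → F₀, x = up p + θ • up q := by
    intro x
    choose a ha b hb hab using fun i => exists_coord hf.ne_refl hf.involutive hF₀ hθ (x i)
    exact ⟨fun i => ⟨a i, ha i⟩, fun i => ⟨b i, hb i⟩, funext fun i => hab i⟩
  have hline : ∀ {p q : ι → F₀}, ¬ LinearIndependent F₀ ![p, q] → RatLine F₀ (up p + θ • up q) := by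
    intro p q h
    rw [LinearIndependent.pair_iff] at h
    push Not at h
    obtain ⟨s, t, hst, hne⟩ := h
    by_cases hs : s = 0
    · have ht : t ≠ 0 := hne hs
      rw [hs, zero_smul, zero_add, smul_eq_zero] at hst
      refine ⟨1, one_ne_zero, ?_⟩
      rw [one_smul, hst.resolve_left ht, up_zero, smul_zero, add_zero]
      exact ratV_up p
    · have hp : up p = ((-(s⁻¹ * t) : F₀) : F) • up q := by
        rw [← up_smul, neg_smul, mul_smul, eq_neg_of_add_eq_zero_right hst, smul_neg, smul_smul,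
          inv_mul_cancel₀ hs, one_smul, neg_neg]
      have hne' : ((-(s⁻¹ * t) : F₀) : F) + θ ≠ 0 := fun h0 => hθ (by
        rw [← neg_eq_of_add_eq_zero_right h0]; exact F₀.neg_mem (-(s⁻¹ * t) : F₀).2)
      refine ⟨(((-(s⁻¹ * t) : F₀) : F) + θ)⁻¹, inv_ne_zero hne', ?_⟩
      rw [hp, ← add_smul, smul_smul, inv_mul_cancel₀ hne', one_smul]
      exact ratV_up q
  -- isotropic vectors correspond to orthogonal pairs
  have hiso : ∀ p q : ι → F₀, f (up p + θ • up q) (up p + θ • up q) = 0 ↔ f₀ p q = 0 := by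
    intro p q
    have e : ζ * f (up p + θ • up q) (up p + θ • up q) = (σ θ - θ) * (ζ * f (up p) (up q)) := by
      simp only [hf.add_left, add_right hf, hf.smul_left, smul_right hf, halt _ (ratV_up p),
        halt _ (ratV_up q), mul_zero, zero_add, add_zero]
      linear_combination θ * hskew q p
    have hd : σ θ - θ ≠ 0 := sub_ne_zero.2 fun h => hθ ((hF₀ θ).2 h)
    refine ⟨fun h => Subtype.ext ?_, fun h => ?_⟩
    · rw [h, mul_zero] at e
      exact (mul_eq_zero.1 e.symm).resolve_left hd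
    · rw [show ζ * f (up p) (up q) = 0 from congrArg Subtype.val h, mul_zero] at e
      exact (mul_eq_zero.1 e).resolve_left hζ0
  set S := preserving (Units.coeHom (Matrix ι ι F)) f ⊓ Geo.specialLinear ι F with hS
  set H₁ := (Matrix.GeneralLinearGroup.map (F₀.subtype : F₀ →+* F)).range ⊔ Geo.scalars ι F with hH₁
  have hζanti : ∀ a : F₀, σ ((a : F) * ζ) = -((a : F) * ζ) := fun a => by
    rw [map_mul, (hF₀ _).1 a.2, hζ]; ring
  have hmap : ∀ (v : ι → F₀) (a : F₀), Matrix.GeneralLinearGroup.map (F₀.subtype : F₀ →+* F) (stv hf₀ v a) =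
      htv hf (up v) (halt _ (ratV_up v)) ((a : F) * ζ) := fun v a => map_stv_eq_htv hf hG halt hf₀ v a
  refine ⟨?_, fun M hHM hMS => ?_⟩
  · -- a transvection with non-rational centre
    obtain ⟨i⟩ : Nonempty ι := Fintype.card_pos_iff.1 (by omega)
    set p : ι → F₀ := Pi.single i 1
    have hp0 : p ≠ 0 := fun h => one_ne_zero (α := F₀) (by simpa [p] using congrFun h i)
    have hn₀ : Module.finrank F₀ (ι → F₀) = Fintype.card ι := Module.finrank_pi F₀
    obtain ⟨q, hq, hqp⟩ : ∃ q, f₀ p q = 0 ∧ q ∉ Submodule.span F₀ {p} := by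
      by_contra h
      push Not at h
      have h1 : LinearMap.ker (formR hf₀ p) ≤ Submodule.span F₀ {p} := fun y hy =>
        h y ((Cfsg.Agent.Transvec.f_eq_zero_comm hf₀).1 (LinearMap.mem_ker.1 hy))
      have h2 := Submodule.finrank_mono h1
      have h3 := LinearMap.finrank_range_add_finrank_ker (formR hf₀ p)
      have h4 := Submodule.finrank_le (LinearMap.range (formR hf₀ p))
      rw [Module.finrank_self] at h4
      rw [finrank_span_singleton hp0] at h2
      omega
    set x := up p + θ • up q with hx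
    have hxx := (hiso p q).2 hq
    refine lt_of_le_of_ne inf_le_right fun heq => hqp ?_
    obtain ⟨a, ha, hA⟩ := (mem_subfield_one_iff _).1
      (heq.ge ⟨htv_mem hf x hxx hζ, htv_mem_specialLinear hf x hxx ζ⟩).1
    have hA' : ∀ z : ι → F₀, RatV F₀ (a • mv (htv hf x hxx ζ) (up z)) := fun z => by
      rw [← Matrix.smul_mulVec]; exact ratV_mulVec hA (ratV_up z)
    have haF : a ∈ F₀ := by
      have h1 := hA' p i
      rw [htv_fix hf x hxx ζ (x := up p) (by
        rw [hx, add_right hf, smul_right hf, hfzero (hf₀.alternating p), hfzero hq]; ring)] at h1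
      simpa [p, up] using h1
    obtain ⟨j, hj⟩ : ∃ j, f (Pi.single j 1) x ≠ 0 := by
      by_contra h
      push Not at h
      have hx0 : x ≠ 0 := fun h0 => hqp (by
        have e : ∀ k, (p k : F) + θ * (q k : F) = 0 := fun k => congrFun h0 k
        by_cases hq0 : q = 0
        · rw [hq0]; exact Submodule.zero_mem _
        · obtain ⟨k, hk⟩ := Function.ne_iff.1 hq0
          exfalso
          apply hθ
          have hk' : (q k : F) ≠ 0 := fun h => hk (Subtype.ext h)
          rw [show θ = -(p k : F) / (q k : F) by field_simp; linear_combination e k]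
          exact F₀.div_mem (F₀.neg_mem (p k).2) (q k).2)
      obtain ⟨y, hy⟩ := (hf.nondegenerate x hx0).1
      exact hy (LinearMap.congr_fun (dual_ext_zero (φ := formH hf x) h) y)
    have h1 := hA' (Pi.single j 1)
    rw [up_single, mv_htv, smul_add] at h1
    have h2 : RatV F₀ ((a * (ζ * f (Pi.single j 1) x)) • x) := by
      rw [← smul_smul]
      exact fun k => by simpa using F₀.sub_mem (h1 k) ((ratV_smul haF (ratV_single j F₀.one_mem)) k)
    set l := a * (ζ * f (Pi.single j 1) x) with hl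
    have hl0 : l ≠ 0 := mul_ne_zero ha (mul_ne_zero hζ0 hj)
    -- the coordinate of p gives l ∈ F₀ + ..., so q is a multiple of p
    obtain ⟨w, hw⟩ := exists_up h2
    have hwk : ∀ k, l * ((p k : F) + θ * (q k : F)) = (w k : F) := fun k => congrFun hw k
    have hpi := hwk i
    simp only [p, Pi.single_eq_same] at hpi
    have hne' : ((1 : F₀) : F) + θ * (q i : F) ≠ 0 := fun h0 => by
      by_cases hqi : (q i : F) = 0
      · simp [hqi] at h0
      · exact hθ (by
          rw [show θ = -1 / (q i : F) by field_simp; simpa using (eq_neg_of_add_eq_zero_right h0)]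
          exact F₀.div_mem (F₀.neg_mem F₀.one_mem) (q i).2)
    have hqk : ∀ k, k ≠ i → q k = 0 := fun k hk => by
      have hk' := hwk k
      simp only [p, Pi.single_eq_of_ne hk, ZeroMemClass.coe_zero, zero_add] at hk'
      by_contra hqk
      have hqk' : (q k : F) ≠ 0 := fun h => hqk (Subtype.ext h)
      have hwk0 : (w k : F) ≠ 0 := by
        rw [← hk']
        exact mul_ne_zero hl0 (mul_ne_zero (fun h => hθ (h ▸ F₀.zero_mem)) hqk')
      have hwi0 : (w i : F) ≠ 0 := hpi ▸ mul_ne_zero hl0 hne'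
      -- θ is a ratio of rational numbers
      apply hθ
      have e : θ * ((q k : F) * w i - (q i : F) * w k) = (w k : F) := by
        simp only [OneMemClass.coe_one] at hpi
        linear_combination (1 + θ * (q i : F)) * hk' - θ * (q k : F) * hpi
      have hd : (q k : F) * w i - (q i : F) * w k ≠ 0 := fun h => hwk0 (by rw [← e, h, mul_zero])
      rw [show θ = (w k : F) / ((q k : F) * w i - (q i : F) * w k) by rw [eq_div_iff hd]; exact e]
      exact F₀.div_mem (w k).2 (F₀.sub_mem (F₀.mul_mem (q k).2 (w i).2) (F₀.mul_mem (q i).2 (w k).2))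
    refine Submodule.mem_span_singleton.2 ⟨q i, funext fun k => ?_⟩
    by_cases hk : k = i
    · subst hk; simp [p]
    · rw [hqk k hk]; simp [p, hk]
  rcases sp_in_su_overgroup hf hn hcard hζ0 hζ hG halt hMS (fun v hv c hc => by
    obtain ⟨v₀, rfl⟩ := exists_up hv
    have hcz : c / ζ ∈ F₀ := (hF₀ _).2 (by rw [map_div₀, hc, hζ, neg_div_neg_eq])
    have := hmap v₀ ⟨c / ζ, hcz⟩
    refine hHM ⟨Subgroup.mem_sup_left ⟨stv hf₀ v₀ ⟨c / ζ, hcz⟩, ?_⟩,
      htv_mem hf _ _ hc, htv_mem_specialLinear hf _ _ _⟩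
    simpa [div_mul_cancel₀ _ hζ0] using this) with h | h
  · exact Or.inl (le_antisymm (fun g hg => ⟨(mem_subfield_one_iff g).2 (h g hg), hMS hg⟩) hHM)
  · exact Or.inr h

end Cfsg.Agent.Transvec.Herm
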