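/-
Maximality in the special unitary group of the orthogonal groups over the fixed field in odd characteristic.
-/
import Cfsg.Agent.Lib.Transvec.HermSymp
set_option autoImplicit false
set_option maxHeartbeats 1000000

namespace Cfsg.Agent.Transvec.Herm

open scoped Matrix
open Matrix Cfsg.Agent.Transvec

variable {ι : Type} [Fintype ι] [DecidableEq ι] {F : Type*} [Field F] {F₀ : Subfield F}
/-- The map z ↦ z + f(z,u) y + (l f(z,u) − f(z,y)) u. -/
def IsEich (f : (ι → F) → (ι → F) → F) (g : GL ι F) (u y : ι → F) (l : F) : Prop :=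
  ∀ z, mv g z = z + f z u • y + (l * f z u - f z y) • u

variable {σ : F ≃+* F} {f : (ι → F) → (ι → F) → F} (hf : Geo.IsUnitaryForm σ f)
include hf

theorem isEich_unique {g g' : GL ι F} {u y : ι → F} {l : F} (h : IsEich f g u y l) (h' : IsEich f g' u y l) :
    g = g' :=
  ext_mv fun z => by rw [h z, h' z]

theorem isEich_conj {g e : GL ι F} (hg : ∀ x z, f (mv g x) (mv g z) = f x z) {u y : ι → F} {l : F}
    (he : IsEich f e u y l) : IsEich f (g * e * g⁻¹) (mv g u) (mv g y) l := by
  intro z
  obtain ⟨w, rfl⟩ : ∃ w, z = mv g w := ⟨mv g⁻¹ z, (mv_mv_inv g z).symm⟩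
  rw [mv_mul, mv_mul, mv_inv_mv, he w, hg, hg, mv_add, mv_add, mv_smul, mv_smul]

theorem isEich_mul {g g' : GL ι F} {u y y' : ι → F} {l l' : F} (hu : f u u = 0) (hy : f y u = 0)
    (hy' : f y' u = 0) (h : IsEich f g u y l) (h' : IsEich f g' u y' l') :
    IsEich f (g * g') u (y + y') (l + l' - f y' y) := by
  intro z
  rw [mv_mul, h' z, h]
  simp only [hf.add_left, add_right hf, hf.smul_left, hu, hy', (f_eq_zero_comm hf).1 hy, mul_zero, add_zero]
  module

theorem isEich_inv {g : GL ι F} {u y : ι → F} {l : F} (hu : f u u = 0) (hy : f y u = 0)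
    (h : IsEich f g u y l) : IsEich f g⁻¹ u (-y) (-l - f y y) := by
  intro z
  refine (mv_inj g ?_)
  rw [mv_mv_inv, h]
  simp only [hf.add_left, add_right hf, neg_right hf, hf.smul_left, neg_left hf, hu, hy, (f_eq_zero_comm hf).1 hy,
    mul_zero, add_zero, mv_add, mv_smul]
  module

theorem isEich_htv {u : ι → F} (hu : f u u = 0) (c : F) : IsEich f (htv hf u hu c) u 0 c := by
  intro z
  rw [mv_htv, zero_right hf, smul_zero, add_zero, sub_zero]

theorem isEich_comm {g g' : GL ι F} {u y y' : ι → F} {l l' : F} (hu : f u u = 0) (hy : f y u = 0)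
    (hy' : f y' u = 0) (h : IsEich f g u y l) (h' : IsEich f g' u y' l') :
    g * g' * (g' * g)⁻¹ = htv hf u hu (f y y' - f y' y) := by
  have h5 := isEich_mul hf hu (zero_left hf _) (by rw [hf.add_left, hy', hy, add_zero])
    (isEich_htv hf hu (f y y' - f y' y)) (isEich_mul hf hu hy' hy h' h)
  rw [zero_add, zero_right hf, sub_zero, add_comm y' y] at h5
  have : g * g' = htv hf u hu (f y y' - f y' y) * (g' * g) := by
    refine isEich_unique hf (isEich_mul hf hu hy hy' h h') ?_
    convert h5 using 1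
    ring
  rw [this, mul_inv_cancel_right]

theorem exists_isEich {u y : ι → F} {l : F} (hu : f u u = 0) (hyu : f y u = 0) (hl : l + σ l + f y y = 0) :
    ∃ g ∈ preserving (Units.coeHom (Matrix ι ι F)) f ⊓ Geo.specialLinear ι F, IsEich f g u y l :=
  exists_eichler hf hu hyu hl

theorem ratM_isEich (hG : ∀ u v : ι → F, RatV F₀ u → RatV F₀ v → f u v ∈ F₀) {g : GL ι F} {u y : ι → F} {l : F}
    (hu : RatV F₀ u) (hy : RatV F₀ y) (hl : l ∈ F₀) (h : IsEich f g u y l) :
    RatM F₀ (g : Matrix ι ι F) := by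
  intro i j
  have hj := ratV_single (F₀ := F₀) (ι := ι) j F₀.one_mem
  rw [show (g : Matrix ι ι F) i j = mv g (Pi.single j 1) i by simp [mv], h]
  exact F₀.add_mem (F₀.add_mem (hj i) (F₀.mul_mem (hG _ _ hj hu) (hy i)))
    (F₀.mul_mem (F₀.sub_mem (F₀.mul_mem hl (hG _ _ hj hu)) (hG _ _ hj hy)) (hu i))

section NoTransvections

variable (hfix' : ∀ a : F, a ∈ F₀ → σ a = a) (hG : ∀ u v : ι → F, RatV F₀ u → RatV F₀ v → f u v ∈ F₀)
include hfix' hG

/-- A totally singular kernel of few rational functionals contains their representatives. -/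
theorem tot_singular_ker {T : (ι → F₀) →ₗ[F₀] Module.Dual F₀ (ι → F₀)} (hTinj : Function.Injective T)
    (hT : ∀ v w, (T w v : F) = f (up v) (up w)) (h2 : (2 : F) ≠ 0) {k : ℕ} (r : Fin k → ι → F₀)
    (hk : 2 * k ≤ Fintype.card ι)
    (h : ∀ v : ι → F₀, (∀ j, f (up v) (up (r j)) = 0) → f (up v) (up v) = 0) :
    2 * k = Fintype.card ι ∧ ∀ i j, f (up (r i)) (up (r j)) = 0 := by
  classical
  set L := LinearMap.pi fun j => T (r j) with hL
  set K := LinearMap.ker L with hKdef
  have memK : ∀ v, v ∈ K ↔ ∀ j, f (up v) (up (r j)) = 0 := fun v => by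
    rw [hKdef, LinearMap.mem_ker, funext_iff]
    exact forall_congr' fun j => ⟨fun h => (hT v (r j)).symm.trans (congrArg Subtype.val h),
      fun h => Subtype.ext ((hT v (r j)).trans h)⟩
  have hsym : ∀ v w : ι → F₀, f (up v) (up w) = f (up w) (up v) → v ∈ K → w ∈ K → f (up v) (up w) = 0 := by
    intro v w hs hv hw
    have h1 := h (v + w) ((memK _).1 (K.add_mem hv hw))
    rw [up_add, hf.add_left, add_right hf, add_right hf, h v ((memK v).1 hv), h w ((memK w).1 hw), ← hs] at h1
    exact (mul_eq_zero.1 (show (2 : F) * f (up v) (up w) = 0 by linear_combination h1)).resolve_left h2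
  have hdim : Fintype.card ι ≤ Module.finrank F₀ K + k := by
    have h1 := LinearMap.finrank_range_add_finrank_ker L
    have h3 := Submodule.finrank_le (LinearMap.range L)
    rw [Module.finrank_pi, Fintype.card_fin] at h3
    rw [Module.finrank_pi] at h1
    rw [hKdef]; omega
  have hle : K.map T ≤ K.dualAnnihilator := by
    rintro _ ⟨w, hw, rfl⟩
    refine (Submodule.mem_dualAnnihilator _).2 fun v hv => Subtype.ext ?_
    rw [hT]
    refine hsym v w ?_ hv hw
    rw [hf.herm (up v) (up w)]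
    exact (hfix' _ (hG _ _ (ratV_up w) (ratV_up v))).trans rfl
  have hann : Module.finrank F₀ K + Module.finrank F₀ K.dualAnnihilator = Fintype.card ι := by
    have := Subspace.finrank_add_finrank_dualAnnihilator_eq K
    rwa [Module.finrank_pi] at this
  have hmap : Module.finrank F₀ (K.map T) = Module.finrank F₀ K :=
    (LinearEquiv.finrank_eq (Submodule.equivMapOfInjective T hTinj K)).symm
  have hmono := Submodule.finrank_mono hle
  refine ⟨by omega, fun i j => ?_⟩
  have heq : K.map T = K.dualAnnihilator := Submodule.eq_of_le_of_finrank_eq hle (by omega)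
  obtain ⟨w, hw, hwi⟩ : T (r i) ∈ K.map T := heq ▸ (Submodule.mem_dualAnnihilator _).2 fun v hv =>
    Subtype.ext ((hT v (r i)).trans ((memK v).1 hv i))
  exact (memK _).1 (hTinj hwi ▸ hw) j

include hfix' in
/-- Without transvections at rational singular centres, singular rational lines go to rational lines. -/
theorem ratLine_no_htv [Fintype F] {M : Subgroup (GL ι F)}
    (hMS : M ≤ preserving (Units.coeHom (Matrix ι ι F)) f ⊓ Geo.specialLinear ι F) (hn : 6 ≤ Fintype.card ι)
    {T : (ι → F₀) →ₗ[F₀] Module.Dual F₀ (ι → F₀)} (hTinj : Function.Injective T)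
    (hT : ∀ v w, (T w v : F) = f (up v) (up w))
    (rep : ∀ φ : Module.Dual F₀ (ι → F₀), ∃ d : ι → F₀, ∀ z, f (up z) (up d) = (φ z : F))
    (ratV_of : ∀ y : ι → F, (∀ w : ι → F₀, f y (up w) ∈ F₀) → RatV F₀ y)
    (singular : ∀ {k : ℕ} (c : Fin k → Module.Dual F₀ (ι → F₀)), k + 3 ≤ Fintype.card ι →
      ∃ v : ι → F₀, v ≠ 0 ∧ (∀ j, c j v = 0) ∧ f (up v) (up v) = 0)
    (h2 : (2 : F) ≠ 0) (hcard : Fintype.card F = Nat.card F₀ ^ 2)
    (eM : ∀ u y : ι → F₀, f (up u) (up u) = 0 → f (up y) (up u) = 0 → ∃ e ∈ M,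
      IsEich f e (up u) (up y) (-f (up y) (up y) / 2))
    (htrans : ∀ u : ι → F₀, u ≠ 0 → ∀ hu : f (up u) (up u) = 0, ∀ c : F, σ c = -c →
      htv hf (up u) hu c ∈ M → c = 0)
    {g : GL ι F} (hg : g ∈ M) {u₁ : ι → F₀} (hu₁0 : u₁ ≠ 0) (hu₁ : f (up u₁) (up u₁) = 0) :
    RatLine F₀ (mv g (up u₁)) := by
  classical
  have hF₀ := fixed_of_card hf.ne_refl hf.involutive hcard
  obtain ⟨t, ht0, ht⟩ := exists_anti hf.ne_refl hf.involutive
  have htF : t ∉ F₀ := fun h => by
    have h' := (hF₀ t).1 h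
    rw [ht] at h'
    exact ht0 ((mul_eq_zero.1 (show 2 * t = 0 by linear_combination -h')).resolve_left h2)
  have symm : ∀ u v : ι → F₀, f (up u) (up v) = f (up v) (up u) := fun u v => by
    rw [hf.herm (up u) (up v), (hF₀ _).1 (hG _ _ (ratV_up v) (ratV_up u))]
  have hpres : ∀ {g}, g ∈ M → ∀ x z, f (mv g x) (mv g z) = f x z := fun hg x z => (hMS hg).1 x z
  set x := mv g (up u₁) with hx
  have hxx : f x x = 0 := (hpres hg _ _).trans hu₁
  by_contra hnot
  set P : Set (ι → F) := {y | f y x = 0 ∧ ∃ e ∈ M, ∃ l, IsEich f e x y l} with hP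
  have Padd : ∀ a ∈ P, ∀ b ∈ P, a + b ∈ P := by
    rintro a ⟨ha, e, he, l, hel⟩ b ⟨hb, e', he', l', hel'⟩
    exact ⟨by rw [hf.add_left, ha, hb, add_zero], _, M.mul_mem he he', _, isEich_mul hf hxx ha hb hel hel'⟩
  have Pneg : ∀ a ∈ P, -a ∈ P := by
    rintro a ⟨ha, e, he, l, hel⟩
    exact ⟨by rw [neg_left hf, ha, neg_zero], _, M.inv_mem he, _, isEich_inv hf hxx ha hel⟩
  have Px : ∀ k : F, k • x ∈ P := fun k => ⟨by rw [hf.smul_left, hxx, mul_zero], 1, M.one_mem, σ k - k, fun z => by
    rw [mv_one, smul_right hf]; module⟩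
  have Pconj : ∀ h ∈ M, mv h x = x → ∀ a ∈ P, mv h a ∈ P := by
    rintro h hh hhx a ⟨ha, e, he, l, hel⟩
    refine ⟨by rw [← hhx, hpres hh]; exact ha, _, M.mul_mem (M.mul_mem hh he) (M.inv_mem hh), l, ?_⟩
    exact hhx ▸ isEich_conj hf (hpres hh) hel
  have Pimg : ∀ y : ι → F₀, f (up y) (up u₁) = 0 → mv g (up y) ∈ P := by
    intro y hy
    obtain ⟨e, he, he'⟩ := eM u₁ y hu₁ hy
    exact ⟨(hpres hg _ _).trans hy, _, M.mul_mem (M.mul_mem hg he) (M.inv_mem hg), _, isEich_conj hf (hpres hg) he'⟩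
  have pair : ∀ a ∈ P, ∀ b ∈ P, f a b ∈ F₀ := by
    rintro a ⟨ha, e, he, l, hel⟩ b ⟨hb, e', he', l', hel'⟩
    have hcm := M.mul_mem (M.mul_mem he he') (M.inv_mem (M.mul_mem he' he))
    rw [isEich_comm hf hxx ha hb hel hel'] at hcm
    have hgi : ∀ p q, f (mv g⁻¹ p) (mv g⁻¹ q) = f p q := hpres (M.inv_mem hg)
    have h1 := M.mul_mem (M.mul_mem (M.inv_mem hg) hcm) (M.inv_mem (M.inv_mem hg))
    rw [htv_conj hf hgi] at h1
    simp only [hx, mv_inv_mv] at h1
    have h0 := htrans u₁ hu₁0 hu₁ _ (by rw [map_sub, ← hf.herm, ← hf.herm]; ring) h1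
    exact (hF₀ _).2 (by rw [← hf.herm]; linear_combination -h0)
  -- the functional of x
  obtain ⟨p, q, hpq⟩ : ∃ p q : ι → F₀, x = up p + t • up q := by
    choose a ha b hb hab using fun i => exists_coord hf.ne_refl hf.involutive hF₀ htF (x i)
    exact ⟨fun i => ⟨a i, ha i⟩, fun i => ⟨b i, hb i⟩, funext fun i => hab i⟩
  have hline : ∀ (r : ι → F₀) (c : F), x = c • up r → False := by
    intro r c hc
    have hc0 : c ≠ 0 := fun h => hu₁0 (up_injective (by
      rw [up_zero]; exact mv_inj g ((hx.symm.trans (hc.trans (by rw [h, zero_smul]))).trans (mv_zero g).symm)))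
    exact hnot ⟨c⁻¹, inv_ne_zero hc0, by rw [hc, smul_smul, inv_mul_cancel₀ hc0, one_smul]; exact ratV_up r⟩
  have hq0 : q ≠ 0 := fun h => hline p 1 (by rw [hpq, h, up_zero, smul_zero, add_zero, one_smul])
  have hpnq : p ∉ Submodule.span F₀ {q} := fun h => by
    obtain ⟨k, hk⟩ := Submodule.mem_span_singleton.1 h
    exact hline q ((k : F) + t) (by rw [hpq, ← hk, up_smul, add_smul])
  have hp0 : p ≠ 0 := fun h => hpnq (h ▸ Submodule.zero_mem _)
  have hqnp : q ∉ Submodule.span F₀ {p} := fun h => by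
    obtain ⟨k, hk⟩ := Submodule.mem_span_singleton.1 h
    have hk0 : k ≠ 0 := fun h => hq0 (by rw [← hk, h, zero_smul])
    exact hpnq (Submodule.mem_span_singleton.2 ⟨k⁻¹, by rw [← hk, smul_smul, inv_mul_cancel₀ hk0, one_smul]⟩)
  have hfx : ∀ z, f x z = f (up p) z + t * f (up q) z := fun z => by rw [hpq, hf.add_left, hf.smul_left]
  -- the main consequence of a singular vector orthogonal to x
  have key : ∀ u : ι → F₀, u ≠ 0 → f (up u) (up u) = 0 → f (up u) (up p) = 0 → f (up u) (up q) = 0 →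
      ∀ w : ι → F₀, f (up w) (up p) = 0 → f (up w) (up q) = 0 → f (up w) (up u) = 0 → f (up w) (up w) ≠ 0 →
      (∃ y ∈ P, f y (up u) ≠ 0) ∧
      ∀ y ∈ P, ∀ w' : ι → F₀, f (up w') (up u) = 0 → f x (up w') * f (up u) y ∈ F₀ := by
    intro u hu0 huu hup huq w hwp hwq hwu hww
    have hxu : f x (up u) = 0 := by rw [hfx, ← symm, hup, ← symm u q, huq, mul_zero, add_zero]
    have hxw : f x (up w) = 0 := by rw [hfx, ← symm, hwp, ← symm w q, hwq, mul_zero, add_zero]
    obtain ⟨y₁, hy₁, hy₁a⟩ : ∃ y ∈ P, f y (up u) ≠ 0 := by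
      by_contra hno
      push Not at hno
      obtain ⟨φ, -, hφ⟩ := exists_dual (W := (⊥ : Submodule F₀ (ι → F₀))) (u := u₁) (by simpa using hu₁0)
      obtain ⟨d, hd⟩ := rep φ
      have hdu : f (up d) (up u₁) = 1 := by rw [← symm, hd, hφ]; rfl
      set v := mv g⁻¹ (up u) with hv
      have hgv : ∀ z, f z v = f (mv g z) (up u) := fun z => by rw [← hpres hg z v, hv, mv_mv_inv]
      set k := f (up d) v with hk
      have hall : ∀ z : ι → F, f z v = k * f z (up u₁) := by
        intro z
        have hzero := dual_ext_zero (φ := formH hf v - k • formH hf (up u₁)) fun i => by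
          rw [LinearMap.sub_apply, LinearMap.smul_apply, formH_apply, formH_apply, smul_eq_mul, ← up_single (F₀ := F₀)]
          set z₀ : ι → F₀ := Pi.single i 1
          set c : F₀ := ⟨f (up z₀) (up u₁), hG _ _ (ratV_up z₀) (ratV_up u₁)⟩
          have h0 : f (up (z₀ - c • d)) (up u₁) = 0 := by
            rw [show up (z₀ - c • d) = up z₀ - (c : F) • up d from rfl, sub_left hf, hf.smul_left, hdu, mul_one]
            exact sub_self _
          have := hno _ (Pimg _ h0)
          rw [← hgv, show up (z₀ - c • d) = up z₀ - (c : F) • up d from rfl, sub_left hf, hf.smul_left, ← hk] at this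
          rw [show (c : F) = f (up z₀) (up u₁) from rfl] at this
          linear_combination this
        have := LinearMap.congr_fun hzero z
        simpa [sub_eq_zero, formH_apply] using this
      have hvline : up u = σ k • x := by
        have he : v = σ k • up u₁ := by
          by_contra hne
          obtain ⟨z, hz⟩ := (hf.nondegenerate _ (sub_ne_zero.2 hne)).1
          rw [sub_right hf, smul_right hf, hf.involutive, hall, sub_self] at hz
          exact hz rfl
        rw [← mv_mv_inv g (up u), ← hv, he, mv_smul]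
      have hk0 : σ k ≠ 0 := fun h => up_ne_zero hu0 (by rw [hvline, h, zero_smul])
      exact hline u (σ k)⁻¹ (by rw [hvline, smul_smul, inv_mul_cancel₀ hk0, one_smul])
    -- shifting by u
    have shift : ∀ y ∈ P, (f (up w) (up w) * f y (up u)) • up u ∈ P := by
      intro y hy
      obtain ⟨h, hh, hh'⟩ := eM u w huu hwu
      obtain ⟨h', hh2, hh2'⟩ := eM u (w + w) huu (by rw [up_add, hf.add_left, hwu, add_zero])
      have fx : ∀ {e : GL ι F} {w₀ : ι → F} {l : F}, IsEich f e (up u) w₀ l → f x w₀ = 0 → mv e x = x :=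
        fun he h0 => by rw [he, hxu, h0, mul_zero, zero_smul, sub_zero, zero_smul, add_zero, add_zero]
      have d1 := Padd _ (Pconj h hh (fx hh' hxw) y hy) _ (Pneg y hy)
      have d2 := Padd _ (Pconj h' hh2 (fx hh2' (by rw [up_add, add_right hf, hxw, add_zero])) y hy) _ (Pneg y hy)
      convert Padd _ (Padd _ d1 _ d1) _ (Pneg _ d2) using 1
      rw [hh', hh2', up_add]
      simp only [hf.add_left, add_right hf]
      match_scalars <;> field_simp <;> ring
    have hreal : ∀ y ∈ P, ∀ y' ∈ P, f y (up u) * f (up u) y' ∈ F₀ := by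
      intro y hy y' hy'
      have h1 := F₀.div_mem (pair _ (shift y hy) y' hy') (hG _ _ (ratV_up w) (ratV_up w))
      rwa [hf.smul_left, show f (up w) (up w) * f y (up u) * f (up u) y' / f (up w) (up w) =
        f y (up u) * f (up u) y' by field_simp] at h1
    refine ⟨⟨y₁, hy₁, hy₁a⟩, fun y hy w' hw' => ?_⟩
    -- an anisotropic vector of P orthogonal to u
    obtain ⟨y₀, hy₀u, hy₀a, hy₀⟩ : ∃ y₀ : ι → F₀, f (up y₀) (up u₁) = 0 ∧ f (mv g (up y₀)) (up u) = 0 ∧
        f (up y₀) (up y₀) ≠ 0 := by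
      set γ := f (up u) y₁ with hγ
      have hγ0 : γ ≠ 0 := fun h => hy₁a ((f_eq_zero_comm hf).1 h)
      let c : Module.Dual F₀ (ι → F₀) :=
        { toFun := fun z => ⟨f (mv g (up z)) (up u) * γ + σ (f (mv g (up z)) (up u) * γ),
            (hF₀ _).2 (by rw [map_add, hf.involutive]; ring)⟩
          map_add' := fun a b => Subtype.ext (by
            show f (mv g (up (a + b))) (up u) * γ + σ (f (mv g (up (a + b))) (up u) * γ) = _ + _
            rw [up_add, mv_add, hf.add_left]; simp only [map_add, map_mul, add_mul]; ring)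
          map_smul' := fun k a => Subtype.ext (by
            show f (mv g (up (k • a))) (up u) * γ + σ (f (mv g (up (k • a))) (up u) * γ) = (k : F) * _
            rw [up_smul, mv_smul, hf.smul_left]; simp only [map_mul, (hF₀ _).1 k.2]; ring) }
      obtain ⟨dc, hdc⟩ := rep c
      by_contra hcon
      push Not at hcon
      obtain ⟨h4, -⟩ := tot_singular_ker hf hfix' hG hTinj hT h2 (k := 2) ![u₁, dc] (by omega) fun v hv => by
        have e1 : f (up v) (up u₁) = 0 := hv 0
        have e2 : f (mv g (up v)) (up u) * γ + σ (f (mv g (up v)) (up u) * γ) = 0 := (hdc v).symm.trans (hv 1)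
        refine hcon v e1 ?_
        have hr := (hF₀ _).1 (hreal _ (Pimg v e1) y₁ hy₁)
        rw [hr] at e2
        exact (mul_eq_zero.1 ((mul_eq_zero.1 (show 2 * (f (mv g (up v)) (up u) * γ) = 0 by
          linear_combination e2)).resolve_left h2)).resolve_right hγ0
      omega
    obtain ⟨hy₀x, e, he, l, hel⟩ := Pimg y₀ hy₀u
    set Y := mv g (up y₀) with hY
    have hYY : f Y Y = f (up y₀) (up y₀) := hpres hg _ _
    obtain ⟨h, hh, hh'⟩ := eM u w' huu hw'
    set δ := -f x (up w') with hδ
    have hhx : mv h x = x + δ • up u := by rw [hh', hxu, zero_smul, add_zero, mul_zero, zero_sub]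
    set y' := mv h Y with hy'
    have hy'eq : y' = Y + (-f Y (up w')) • up u := by
      rw [hy', hh', hy₀a, zero_smul, add_zero, mul_zero, zero_sub]
    have hE := isEich_conj hf (hpres hh) hel
    rw [hhx, ← hy'] at hE
    have hEM := M.mul_mem (M.mul_mem hh he) (M.inv_mem hh)
    have hux : f (up u) x = 0 := (f_eq_zero_comm hf).1 hxu
    have hxY : f x Y = 0 := (f_eq_zero_comm hf).1 hy₀x
    have hEx : mv (h * e * h⁻¹) x = x := by
      rw [hE, hy'eq]
      simp only [add_right hf, smul_right hf, hxx, hxu, hxY, mul_zero, add_zero, sub_zero, zero_smul]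
    have hEY : mv (h * e * h⁻¹) Y = Y + (-f Y Y) • (x + δ • up u) := by
      rw [hE, hy'eq]
      simp only [add_right hf, smul_right hf, hy₀x, hy₀a, mul_zero, add_zero, zero_smul, zero_sub]
    have hY' := Pimg y₀ hy₀u
    have d := Padd _ (Padd _ (Pconj _ hEM hEx Y hY') _ (Pneg Y hY')) _ (Px (f Y Y))
    have h1 : (-(f Y Y * δ)) • up u ∈ P := by
      convert d using 1
      rw [hEY]
      module
    have h3 := pair _ h1 y hy
    rw [hf.smul_left, hδ] at h3
    have h4 := F₀.div_mem h3 (by rw [hYY]; exact hG _ _ (ratV_up y₀) (ratV_up y₀) : f Y Y ∈ F₀)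
    rwa [show -(f Y Y * -f x (up w')) * f (up u) y / f Y Y = f x (up w') * f (up u) y by
      have : f Y Y ≠ 0 := hYY ▸ hy₀
      field_simp] at h4
  by_cases hgram : f (up p) (up p) = 0 ∧ f (up q) (up q) = 0 ∧ f (up p) (up q) = 0
  · -- a totally singular plane
    obtain ⟨hpp, hqq, hpq0⟩ := hgram
    have hqp0 : f (up q) (up p) = 0 := by rw [← symm]; exact hpq0
    obtain ⟨φ₁, hφ₁, hφ₁p⟩ := exists_dual hpnq
    obtain ⟨dp, hdp⟩ := rep φ₁
    obtain ⟨φ₂, hφ₂, hφ₂q⟩ := exists_dual hqnp
    obtain ⟨dq, hdq⟩ := rep φ₂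
    have e11 : f (up p) (up dp) = 1 := by rw [hdp, hφ₁p]; rfl
    have e21 : f (up q) (up dp) = 0 := by rw [hdp, hφ₁ q (Submodule.mem_span_singleton_self q)]; rfl
    have e12 : f (up p) (up dq) = 0 := by rw [hdq, hφ₂ p (Submodule.mem_span_singleton_self p)]; rfl
    have e22 : f (up q) (up dq) = 1 := by rw [hdq, hφ₂q]; rfl
    obtain ⟨w, hwp, hwq, hww⟩ : ∃ w : ι → F₀, f (up w) (up p) = 0 ∧ f (up w) (up q) = 0 ∧ f (up w) (up w) ≠ 0 := by
      by_contra hcon
      push Not at hcon
      obtain ⟨h4, -⟩ := tot_singular_ker hf hfix' hG hTinj hT h2 (k := 2) ![p, q] (by omega) fun v hv =>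
        hcon v (hv 0) (hv 1)
      omega
    obtain ⟨⟨y₁, hy₁, hy₁a⟩, kq⟩ := key q hq0 hqq hqp0 hqq w hwp hwq hwq hww
    have hpq' : p + q ≠ 0 := fun h => hpnq (Submodule.mem_span_singleton.2 ⟨-1, by
      rw [neg_one_smul, ← eq_neg_of_add_eq_zero_left h]⟩)
    obtain ⟨-, ks⟩ := key (p + q) hpq' (by
        rw [up_add, hf.add_left, add_right hf, add_right hf, hpp, hqq, hpq0, hqp0, add_zero, add_zero])
      (by rw [up_add, hf.add_left, hpp, hqp0, add_zero]) (by rw [up_add, hf.add_left, hpq0, hqq, add_zero])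
      w hwp hwq (by rw [up_add, add_right hf, hwp, hwq, add_zero]) hww
    have r1 := kq y₁ hy₁ dp (by rw [← symm, e21])
    rw [hfx, e11, e21, mul_zero, add_zero, one_mul] at r1
    set r := f (up q) y₁ with hr
    have hp' : f (up p) y₁ = -(t * r) := by
      have h := (f_eq_zero_comm hf).1 hy₁.1
      rw [hfx, ← hr] at h
      linear_combination h
    have r2 := ks y₁ hy₁ (dp - dq) (by
      rw [show up (dp - dq) = up dp - up dq from rfl, up_add, sub_left hf, add_right hf, add_right hf,
        ← symm p dp, ← symm q dp, ← symm p dq, ← symm q dq, e11, e21, e12, e22]; ring)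
    rw [show up (dp - dq) = up dp - up dq from rfl, hfx, sub_right hf, sub_right hf, e11, e12, e21, e22,
      up_add, hf.add_left, hp', ← hr] at r2
    have h3 := (hF₀ _).1 r2
    simp only [map_mul, map_add, map_sub, map_neg, map_one, map_zero, ht, (hF₀ _).1 r1] at h3
    have hr0 : r = 0 := by
      have : (2 * 2) * (t * r) = 0 := by linear_combination h3
      exact ((mul_eq_zero.1 ((mul_eq_zero.1 this).resolve_left (mul_ne_zero h2 h2))).resolve_left ht0)
    exact hy₁a ((f_eq_zero_comm hf).1 hr0)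
  -- otherwise some singular vector orthogonal to x is outside the radical
  obtain ⟨d₀, hd₀⟩ : ∃ d₀ : ι → F₀, ∀ a b : F₀, f (up (a • p + b • q)) (up p) = 0 →
      f (up (a • p + b • q)) (up q) = 0 → f (up (a • p + b • q)) (up d₀) = 0 → a • p + b • q = 0 := by
    have ex : ∀ {p q : ι → F₀}, q ∉ Submodule.span F₀ {p} → f (up p) (up p) ≠ 0 → ∃ d₀ : ι → F₀, ∀ a b : F₀,
        f (up (a • p + b • q)) (up p) = 0 → f (up (a • p + b • q)) (up d₀) = 0 → a • p + b • q = 0 := by
      intro p q hqp hpp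
      obtain ⟨φ, hφ, hφq⟩ := exists_dual hqp
      obtain ⟨d₀, hd⟩ := rep φ
      refine ⟨d₀, fun a b h1 h3 => ?_⟩
      rw [hd] at h3
      have hb : b = 0 := Subtype.ext (by simpa [hφ p (Submodule.mem_span_singleton_self p), hφq] using h3)
      subst hb
      rw [zero_smul, add_zero, up_smul, hf.smul_left] at h1
      have ha : a = 0 := Subtype.ext ((mul_eq_zero.1 h1).resolve_right hpp)
      rw [ha, zero_smul, zero_smul, add_zero]
    by_cases hpp : f (up p) (up p) = 0
    swap
    · obtain ⟨d₀, hd⟩ := ex hqnp hpp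
      exact ⟨d₀, fun a b h1 _ h3 => hd a b h1 h3⟩
    by_cases hqq : f (up q) (up q) = 0
    swap
    · obtain ⟨d₀, hd⟩ := ex hpnq hqq
      exact ⟨d₀, fun a b _ h1 h3 => by rw [add_comm] at h1 h3 ⊢; exact hd b a h1 h3⟩
    have hpq0 : f (up p) (up q) ≠ 0 := fun h => hgram ⟨hpp, hqq, h⟩
    refine ⟨0, fun a b h1 h3 _ => ?_⟩
    rw [up_add, up_smul, up_smul, hf.add_left, hf.smul_left, hf.smul_left] at h1 h3
    rw [hpp, ← symm p q, mul_zero, zero_add] at h1
    rw [hqq, mul_zero, add_zero] at h3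
    have ha : a = 0 := Subtype.ext ((mul_eq_zero.1 h3).resolve_right hpq0)
    have hb : b = 0 := Subtype.ext ((mul_eq_zero.1 h1).resolve_right hpq0)
    rw [ha, hb, zero_smul, zero_smul, add_zero]
  obtain ⟨u, hu0, hc, huu⟩ := singular (k := 3) ![T p, T q, T d₀] (by omega)
  have hup : f (up u) (up p) = 0 := (hT u p).symm.trans (congrArg Subtype.val (hc 0))
  have huq : f (up u) (up q) = 0 := (hT u q).symm.trans (congrArg Subtype.val (hc 1))
  have hud₀ : f (up u) (up d₀) = 0 := (hT u d₀).symm.trans (congrArg Subtype.val (hc 2))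
  obtain ⟨d, hdp, hdq, hdu⟩ : ∃ d : ι → F₀, f (up d) (up p) = 0 ∧ f (up d) (up q) = 0 ∧ f (up d) (up u) ≠ 0 := by
    by_contra hcon
    push Not at hcon
    have hmem : T u ∈ Submodule.span F₀ (Set.range ![T p, T q]) := mem_span_of_iInf_ker_le_ker fun v hv => by
      rw [Submodule.mem_iInf] at hv
      exact LinearMap.mem_ker.2 (Subtype.ext ((hT v u).trans (hcon v
        ((hT v p).symm.trans (congrArg Subtype.val (LinearMap.mem_ker.1 (hv 0))))
        ((hT v q).symm.trans (congrArg Subtype.val (LinearMap.mem_ker.1 (hv 1)))))))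
    rw [Matrix.range_cons_cons_empty] at hmem
    obtain ⟨a, b, hab⟩ := Submodule.mem_span_pair.1 hmem
    have he : a • p + b • q = u := hTinj (by rw [map_add, map_smul, map_smul, hab])
    rw [← he] at hup huq hud₀ hu0
    exact hu0 (hd₀ a b hup huq hud₀)
  obtain ⟨w, hwp, hwq, hwu, hww⟩ : ∃ w : ι → F₀, f (up w) (up p) = 0 ∧ f (up w) (up q) = 0 ∧
      f (up w) (up u) = 0 ∧ f (up w) (up w) ≠ 0 := by
    by_contra hcon
    push Not at hcon
    obtain ⟨-, hgr⟩ := tot_singular_ker hf hfix' hG hTinj hT h2 (k := 3) ![p, q, u] (by omega) fun v hv =>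
      hcon v (hv 0) (hv 1) (hv 2)
    exact hgram ⟨hgr 0 0, hgr 1 1, hgr 0 1⟩
  obtain ⟨⟨y₁, hy₁, hy₁a⟩, ku⟩ := key u hu0 huu hup huq w hwp hwq hwu hww
  have hxd : f x (up d) = 0 := by rw [hfx, ← symm, hdp, ← symm d q, hdq, mul_zero, add_zero]
  have hall : ∀ z : ι → F₀, f (f (up u) y₁ • x) (up z) ∈ F₀ := by
    intro z
    set k : F₀ := ⟨f (up z) (up u) / f (up d) (up u),
      F₀.div_mem (hG _ _ (ratV_up z) (ratV_up u)) (hG _ _ (ratV_up d) (ratV_up u))⟩
    have e1 : up (z - k • d) = up z - (k : F) • up d := rfl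
    have := ku y₁ hy₁ (z - k • d) (by
      rw [e1, sub_left hf, hf.smul_left]
      simp only [k]
      field_simp
      ring)
    rw [e1, sub_right hf, smul_right hf, hxd, mul_zero, sub_zero] at this
    rwa [hf.smul_left, mul_comm]
  exact hnot ⟨f (up u) y₁, fun h => hy₁a ((f_eq_zero_comm hf).1 h), ratV_of _ hall⟩

end NoTransvections

theorem orth_in_su_maximal [Fintype F] (hn : 6 ≤ Fintype.card ι)
    (hcard : Fintype.card F = Nat.card F₀ ^ 2) (h2 : (2 : F) ≠ 0)
    (hG : ∀ u v : ι → F, RatV F₀ u → RatV F₀ v → f u v ∈ F₀) :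
    Geo.IsMaximalIn (preserving (Units.coeHom (Matrix ι ι F)) f ⊓ Geo.specialLinear ι F)
      (((Matrix.GeneralLinearGroup.map (F₀.subtype : F₀ →+* F)).range ⊔ Geo.scalars ι F) ⊓
        (preserving (Units.coeHom (Matrix ι ι F)) f ⊓ Geo.specialLinear ι F)) := by
  have : Nonempty ι := Fintype.card_pos_iff.1 (by omega)
  have hF₀ := fixed_of_card hf.ne_refl hf.involutive hcard
  have hfr : Module.finrank F₀ F = 2 := finrank_eq_of_card hcard
  have h20 : (2 : F₀) ≠ 0 := fun h => h2 (congrArg Subtype.val h)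
  have h2mem : (2 : F) ∈ F₀ := by rw [← one_add_one_eq_two]; exact F₀.add_mem F₀.one_mem F₀.one_mem
  obtain ⟨t, ht0, ht⟩ := exists_anti hf.ne_refl hf.involutive
  have htF : t ∉ F₀ := fun h => by
    have h' := (hF₀ t).1 h
    rw [ht] at h'
    have : 2 * t = 0 := by linear_combination -h'
    exact ht0 ((mul_eq_zero.1 this).resolve_left h2)
  have symm : ∀ u v : ι → F₀, f (up u) (up v) = f (up v) (up u) := fun u v => by
    rw [hf.herm (up u) (up v), (hF₀ _).1 (hG _ _ (ratV_up v) (ratV_up u))]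
  -- functionals over F₀
  set T : (ι → F₀) →ₗ[F₀] Module.Dual F₀ (ι → F₀) :=
    { toFun := fun d =>
        { toFun := fun z => ⟨f (up z) (up d), hG _ _ (ratV_up z) (ratV_up d)⟩
          map_add' := fun a b => Subtype.ext (by
            show f (up (a + b)) (up d) = _
            rw [up_add, hf.add_left]; rfl)
          map_smul' := fun c a => Subtype.ext (by
            show f (up (c • a)) (up d) = _
            rw [up_smul, hf.smul_left]; rfl) }
      map_add' := fun a b => LinearMap.ext fun z => Subtype.ext (by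
        show f (up z) (up (a + b)) = _
        rw [up_add, add_right hf]; rfl)
      map_smul' := fun c a => LinearMap.ext fun z => Subtype.ext (by
        show f (up z) (up (c • a)) = _
        rw [up_smul, smul_right hf, (hF₀ _).1 c.2]; rfl) } with hT
  have hTinj : Function.Injective T := by
    rw [← LinearMap.ker_eq_bot, LinearMap.ker_eq_bot']
    intro d hd
    by_contra hd0
    obtain ⟨x, hx⟩ := (hf.nondegenerate (up d) (up_ne_zero hd0)).1
    refine hx (LinearMap.congr_fun (dual_ext_zero (φ := formH hf (up d)) fun i => ?_) x)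
    have := congrArg Subtype.val (LinearMap.congr_fun hd (Pi.single i 1))
    rw [formH_apply, ← up_single (F₀ := F₀)]
    exact this
  have rep : ∀ φ : Module.Dual F₀ (ι → F₀), ∃ d : ι → F₀, ∀ z, f (up z) (up d) = (φ z : F) := by
    intro φ
    obtain ⟨d, hd⟩ := (LinearMap.injective_iff_surjective_of_finrank_eq_finrank
      (Subspace.dual_finrank_eq).symm).1 hTinj φ
    exact ⟨d, fun z => congrArg Subtype.val (LinearMap.congr_fun hd z)⟩
  have ratV_of : ∀ y : ι → F, (∀ w : ι → F₀, f y (up w) ∈ F₀) → RatV F₀ y := by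
    intro y h i
    obtain ⟨d, hd⟩ := rep (LinearMap.proj i)
    have e : f y (up d) = y i := by
      have he := sub_eq_zero.1 (dual_ext_zero (φ := formH hf (up d) - LinearMap.proj i) fun j => by
        rw [LinearMap.sub_apply, formH_apply, ← up_single (F₀ := F₀), hd]
        simp [up])
      exact LinearMap.congr_fun he y
    exact e ▸ h d
  -- coordinates
  have hsplit : ∀ x : ι → F, ∃ p q : ι → F₀, x = up p + t • up q := by
    intro x
    choose a ha b hb hab using fun i => exists_coord hf.ne_refl hf.involutive hF₀ htF (x i)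
    exact ⟨fun i => ⟨a i, ha i⟩, fun i => ⟨b i, hb i⟩, funext fun i => hab i⟩
  -- singular rational vectors in subspaces of codimension n - 3
  have singular : ∀ {k : ℕ} (c : Fin k → Module.Dual F₀ (ι → F₀)), k + 3 ≤ Fintype.card ι →
      ∃ v : ι → F₀, v ≠ 0 ∧ (∀ j, c j v = 0) ∧ f (up v) (up v) = 0 := by
    intro k c hk
    set L := LinearMap.pi c
    have hker : 3 ≤ Module.finrank F₀ (LinearMap.ker L) := by
      have h1 := LinearMap.finrank_range_add_finrank_ker L
      have h3 := Submodule.finrank_le (LinearMap.range L)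
      rw [Module.finrank_pi, Fintype.card_fin] at h3
      rw [Module.finrank_pi] at h1
      omega
    by_contra hcon
    push Not at hcon
    have aniso : ∀ v ∈ LinearMap.ker L, v ≠ 0 → f (up v) (up v) ≠ 0 := fun v hv hv0 =>
      hcon v hv0 fun j => congrFun (LinearMap.mem_ker.1 hv) j
    have next' : ∀ {j : ℕ} (a : Fin j → ι → F₀), j < 3 →
        ∃ v ∈ LinearMap.ker L, v ≠ 0 ∧ ∀ i, f (up v) (up (a i)) = 0 := by
      intro j a hj
      set L' : LinearMap.ker L →ₗ[F₀] Fin j → F₀ := LinearMap.pi fun i => (T (a i)).comp (LinearMap.ker L).subtype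
      obtain ⟨v, hv, hv0⟩ := (LinearMap.ker L').ne_bot_iff.1 (LinearMap.ker_ne_bot_of_finrank_lt (by
        rw [Module.finrank_pi, Fintype.card_fin]; omega))
      exact ⟨v, v.2, fun h => hv0 (Subtype.ext h), fun i =>
        congrArg Subtype.val (congrFun (LinearMap.mem_ker.1 hv) i)⟩
    obtain ⟨v₁, m₁, n₁, -⟩ := next' ![] (by norm_num)
    obtain ⟨v₂, m₂, n₂, o₂⟩ := next' ![v₁] (by norm_num)
    obtain ⟨v₃, m₃, n₃, o₃⟩ := next' ![v₁, v₂] (by norm_num)
    set a : F₀ := ⟨_, hG _ _ (ratV_up v₁) (ratV_up v₁)⟩ with ha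
    set b : F₀ := ⟨_, hG _ _ (ratV_up v₂) (ratV_up v₂)⟩ with hb
    set c' : F₀ := ⟨_, hG _ _ (ratV_up v₃) (ratV_up v₃)⟩ with hc
    have ha0 : a ≠ 0 := fun h => aniso v₁ m₁ n₁ (congrArg Subtype.val h)
    have hb0 : b ≠ 0 := fun h => aniso v₂ m₂ n₂ (congrArg Subtype.val h)
    have : Fintype F₀ := Fintype.ofFinite _
    obtain ⟨x, y, hxy⟩ := FiniteField.exists_root_sum_quadratic
      (f := Polynomial.C a * Polynomial.X ^ 2 + Polynomial.C c') (g := Polynomial.C b * Polynomial.X ^ 2)
      (by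
        rw [Polynomial.degree_add_eq_left_of_degree_lt] <;> rw [Polynomial.degree_C_mul_X_pow 2 ha0]
        · rfl
        · exact lt_of_le_of_lt Polynomial.degree_C_le (by norm_num))
      (Polynomial.degree_C_mul_X_pow 2 hb0)
      (Nat.odd_iff.1 (Nat.odd_iff.2 (FiniteField.odd_card_of_char_ne_two fun h => h20 (by
        have : CharP F₀ 2 := ringChar.eq_iff.1 h
        exact CharP.cast_eq_zero F₀ 2))))
    have hxy' : (a : F) * (x : F) ^ 2 + c' + b * (y : F) ^ 2 = 0 := by
      have h := congrArg Subtype.val hxy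
      simpa using h
    have o21 : f (up v₂) (up v₁) = 0 := o₂ 0
    have o31 : f (up v₃) (up v₁) = 0 := o₃ 0
    have o32 : f (up v₃) (up v₂) = 0 := o₃ 1
    set w := x • v₁ + y • v₂ + v₃ with hw
    have e : up w = (x : F) • up v₁ + (y : F) • up v₂ + up v₃ := rfl
    have hw0 : w ≠ 0 := fun h => by
      have h1 : f (up w) (up v₃) = 0 := by rw [h, up_zero, zero_left hf]
      rw [e, hf.add_left, hf.add_left, hf.smul_left, hf.smul_left, (f_eq_zero_comm hf).1 o31,
        (f_eq_zero_comm hf).1 o32] at h1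
      exact aniso v₃ m₃ n₃ (by simpa using h1)
    refine hcon w hw0 (fun j => congrFun (LinearMap.mem_ker.1
      ((LinearMap.ker L).add_mem ((LinearMap.ker L).add_mem ((LinearMap.ker L).smul_mem x m₁)
        ((LinearMap.ker L).smul_mem y m₂)) m₃)) j) ?_
    rw [e]
    simp only [hf.add_left, add_right hf, hf.smul_left, smul_right hf, o21, o31, o32,
      (f_eq_zero_comm hf).1 o21, (f_eq_zero_comm hf).1 o31, (f_eq_zero_comm hf).1 o32, (hF₀ _).1 x.2,
      (hF₀ _).1 y.2, mul_zero, add_zero, zero_add]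
    simp only [ha, hb, hc] at hxy'
    linear_combination hxy'
  -- the functional f(·, d)
  have hTd : ∀ {v d : ι → F₀}, T d v = 0 → f (up v) (up d) = 0 := fun h => congrArg Subtype.val h
  set S := preserving (Units.coeHom (Matrix ι ι F)) f ⊓ Geo.specialLinear ι F with hS
  set H₁ := (Matrix.GeneralLinearGroup.map (F₀.subtype : F₀ →+* F)).range ⊔ Geo.scalars ι F with hH₁
  refine ⟨?_, fun M hHM hMS => ?_⟩
  · obtain ⟨u, hu0, -, huu⟩ := singular (k := 0) ![] (by omega)
    refine lt_of_le_of_ne inf_le_right fun heq => htF ?_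
    obtain ⟨a, ha, hA⟩ := (mem_subfield_one_iff _).1
      (heq.ge ⟨htv_mem hf _ huu ht, htv_mem_specialLinear hf _ huu t⟩).1
    obtain ⟨φ, -, hφ⟩ := exists_dual (W := (⊥ : Submodule F₀ (ι → F₀))) (u := u) (by simpa using hu0)
    obtain ⟨d, hd⟩ := rep φ
    have hdu : f (up d) (up u) = 1 := by rw [← symm, hd, hφ]; rfl
    have h1 : RatV F₀ (a • mv (htv hf _ huu t) (up u)) := by
      rw [← Matrix.smul_mulVec]; exact ratV_mulVec hA (ratV_up u)
    rw [htv_fix hf _ _ _ huu] at h1
    have h3 : RatV F₀ (a • mv (htv hf _ huu t) (up d)) := by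
      rw [← Matrix.smul_mulVec]; exact ratV_mulVec hA (ratV_up d)
    rw [mv_htv, hdu, mul_one, smul_add, smul_smul] at h3
    obtain ⟨i, hi⟩ := Function.ne_iff.1 (up_ne_zero hu0)
    simp only [Pi.zero_apply] at hi
    have haF : a ∈ F₀ := by
      have := F₀.div_mem (h1 i) (u i).2
      rwa [Pi.smul_apply, smul_eq_mul, show (u i : F) = up u i from rfl, mul_div_cancel_right₀ _ hi] at this
    have h4 : a * t * up u i ∈ F₀ := by
      have := F₀.sub_mem (h3 i) (F₀.mul_mem haF (d i).2)
      simpa [up] using this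
    have := F₀.div_mem h4 (F₀.mul_mem haF (u i).2)
    rwa [show (u i : F) = up u i from rfl, show a * t * up u i / (a * up u i) = t by field_simp] at this
  have hMf : M ≤ preserving (Units.coeHom (Matrix ι ι F)) f := fun g hg => (hMS hg).1
  have hpres : ∀ {g}, g ∈ M → ∀ x z, f (mv g x) (mv g z) = f x z := fun hg x z => hMf hg x z
  -- rational Eichler elements
  have eM : ∀ u y : ι → F₀, f (up u) (up u) = 0 → f (up y) (up u) = 0 → ∃ e ∈ M,
      IsEich f e (up u) (up y) (-f (up y) (up y) / 2) := by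
    intro u y hu hy
    have hl : -f (up y) (up y) / 2 + σ (-f (up y) (up y) / 2) + f (up y) (up y) = 0 := by
      rw [map_div₀, map_neg, self_fixed hf, show σ (2 : F) = 2 by rw [← one_add_one_eq_two, map_add, map_one]]
      field_simp
      ring
    obtain ⟨e, he, he'⟩ := exists_isEich hf hu hy hl
    exact ⟨e, hHM ⟨(mem_subfield_one_iff _).2 (srat_of_ratM (ratM_isEich hf hG (ratV_up u) (ratV_up y)
      (F₀.div_mem (F₀.neg_mem (hG _ _ (ratV_up y) (ratV_up y))) h2mem) he')), he⟩, he'⟩
  by_cases htrans : ∃ u : ι → F₀, u ≠ 0 ∧ ∃ hu : f (up u) (up u) = 0, ∃ c : F, c ≠ 0 ∧ σ c = -c ∧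
      htv hf (up u) hu c ∈ M
  · -- all transvections
    obtain ⟨u₁, hu₁0, hu₁, c, hc0, hc, hcM⟩ := htrans
    refine Or.inr (eq_su hf (by omega) hMS ?_)
    set C := hCentres hf M
    have hu₁C : up u₁ ∈ C := by
      obtain ⟨φ, -, hφ⟩ := exists_dual (W := (⊥ : Submodule F₀ (ι → F₀))) (u := u₁) (by simpa using hu₁0)
      obtain ⟨d, hd⟩ := rep φ
      set s : F₀ := ⟨-f (up d) (up d) / 2, F₀.div_mem (F₀.neg_mem (hG _ _ (ratV_up d) (ratV_up d))) h2mem⟩
      set w := d + s • u₁ with hw
      have hud : f (up u₁) (up d) = 1 := by rw [hd, hφ]; rfl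
      have hdu : f (up d) (up u₁) = 1 := by rw [← symm]; exact hud
      have hew : f (up u₁) (up w) = 1 := by
        rw [hw, up_add, up_smul, add_right hf, smul_right hf, hu₁, hud, mul_zero, add_zero]
      have hww : f (up w) (up w) = 0 := by
        rw [hw, up_add, up_smul]
        simp only [hf.add_left, add_right hf, hf.smul_left, smul_right hf, hu₁, hud, hdu, (hF₀ _).1 s.2]
        simp only [s]
        field_simp
        ring
      have hwe : f (up w) (up u₁) = 1 := by rw [← symm]; exact hew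
      -- squares
      have sq : ∀ k : F, k ∈ F₀ → k ≠ 0 → htv hf (up u₁) hu₁ (k * k * c) ∈ M := by
        intro k hk hk0
        set A := tvMat (up u₁) ((k - 1) • formH hf (up w)) * tvMat (up w) ((k⁻¹ - 1) • formH hf (up u₁))
          with hA
        have hdet : A.det = 1 := by
          rw [hA, Matrix.det_mul, det_tvMat, det_tvMat, LinearMap.smul_apply, LinearMap.smul_apply,
            formH_apply, formH_apply, hew, hwe, smul_eq_mul, smul_eq_mul, mul_one, mul_one]
          field_simp
          ring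
        have hmv : ∀ z, A *ᵥ z = z + ((k - 1) * f z (up w)) • up u₁ + ((k⁻¹ - 1) * f z (up u₁)) • up w := by
          intro z
          rw [hA, ← Matrix.mulVec_mulVec, tvMat_mulVec, tvMat_mulVec]
          simp only [LinearMap.smul_apply, formH_apply, smul_eq_mul, hf.add_left, hf.smul_left, hww]
          module
        set g := Matrix.GeneralLinearGroup.mkOfDetNeZero A (hdet ▸ one_ne_zero) with hg
        have hgR : RatM F₀ (g : Matrix ι ι F) := by
          intro i j
          have hj := ratV_single (F₀ := F₀) (ι := ι) j F₀.one_mem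
          rw [show (g : Matrix ι ι F) i j = (A *ᵥ Pi.single j 1) i by simp [hg], hmv]
          exact F₀.add_mem (F₀.add_mem (hj i) (F₀.mul_mem (F₀.mul_mem (F₀.sub_mem hk F₀.one_mem)
            (hG _ _ hj (ratV_up w))) (u₁ i).2)) (F₀.mul_mem (F₀.mul_mem
            (F₀.sub_mem (F₀.inv_mem hk) F₀.one_mem) (hG _ _ hj (ratV_up u₁))) (w i).2)
        have hgS : g ∈ S := by
          refine ⟨fun z z' => ?_, MonoidHom.mem_ker.2 (Units.ext ?_)⟩
          · change f (A *ᵥ z) (A *ᵥ z') = f z z'
            rw [hmv, hmv]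
            simp only [hf.add_left, add_right hf, hf.smul_left, smul_right hf, hew, hwe, hu₁, hww,
              map_mul, map_sub, map_one, map_inv₀, (hF₀ k).1 hk]
            rw [hf.herm (up u₁) z', hf.herm (up w) z']
            field_simp
            ring
          · rw [Matrix.GeneralLinearGroup.val_det_apply]; exact hdet
        have hgM : g ∈ M := hHM ⟨(mem_subfield_one_iff _).2 (srat_of_ratM hgR), hgS⟩
        have hgu : mv g (up u₁) = k • up u₁ := by
          show A *ᵥ _ = _
          rw [hmv, hew, hu₁]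
          module
        have h1 := M.mul_mem (M.mul_mem hgM hcM) (M.inv_mem hgM)
        rw [htv_conj hf (hpres hgM) _ hu₁ c] at h1
        refine (congrArg (· ∈ M) (ext_mv fun z => ?_)).mp h1
        rw [mv_htv, mv_htv, hgu, smul_right hf, (hF₀ k).1 hk, smul_smul]
        congr 2
        ring
      refine ⟨hu₁, fun c' hc' => ?_⟩
      have ha : c' / c ∈ F₀ := (hF₀ _).2 (by rw [map_div₀, hc, hc', neg_div_neg_eq])
      have sq' : ∀ k : F, k ∈ F₀ → htv hf (up u₁) hu₁ (k * k * c) ∈ M := fun k hk => by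
        rcases eq_or_ne k 0 with rfl | hk0
        · simp only [mul_zero, zero_mul, htv_zero]; exact M.one_mem
        · exact sq k hk hk0
      have p1 := sq' ((c' / c + 1) / 2) (F₀.div_mem (F₀.add_mem ha F₀.one_mem) h2mem)
      have p2 := M.inv_mem (sq' ((c' / c - 1) / 2) (F₀.div_mem (F₀.sub_mem ha F₀.one_mem) h2mem))
      have := M.mul_mem p1 p2
      rw [show (htv hf (up u₁) hu₁ ((c' / c - 1) / 2 * ((c' / c - 1) / 2) * c))⁻¹ =
        htv hf (up u₁) hu₁ (-((c' / c - 1) / 2 * ((c' / c - 1) / 2) * c)) from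
        inv_eq_of_mul_eq_one_right (by rw [htv_add, add_neg_cancel, htv_zero]), htv_add] at this
      refine (congrArg (fun x => htv hf (up u₁) hu₁ x ∈ M) ?_).mp this
      field_simp
      ring
    -- moving rational singular centres
    have move : ∀ a b z : ι → F₀, f (up z) (up z) = 0 → f (up b) (up b) = 0 → f (up a) (up z) ≠ 0 →
        f (up b) (up z) ≠ 0 → up a ∈ C → up b ∈ C := by
      intro a b z hz hb haz hbz haC
      set s : F₀ := ⟨_, F₀.div_mem (hG _ _ (ratV_up b) (ratV_up z)) (hG _ _ (ratV_up a) (ratV_up z))⟩ with hs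
      set v := s • a with hv
      have hvC : up v ∈ C := by rw [hv, up_smul]; exact hCentres_smul hf haC _
      have hvz : f (up v) (up z) = f (up b) (up z) := by
        rw [hv, up_smul, hf.smul_left, hs, div_mul_cancel₀ _ haz]
      set r : F₀ := ⟨_, F₀.inv_mem (hG _ _ (ratV_up b) (ratV_up z))⟩ with hr
      set y := r • (b - v) with hy
      have eyv : up y = (r : F) • (up b - up v) := rfl
      have hyz : f (up y) (up z) = 0 := by rw [eyv, hf.smul_left, sub_left hf, hvz, sub_self, mul_zero]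
      obtain ⟨e, he, he'⟩ := eM z y hz hyz
      have := hCentres_mv hf hMf he hvC
      have hev : mv e (up v) = up b := by
        rw [he', hvz, eyv]
        simp only [smul_right hf, hf.smul_left, sub_left hf, sub_right hf, hb, hvC.1, (hF₀ _).1 r.2, symm b v]
        rw [smul_smul, hr]
        show _ + (f (up b) (up z) * (f (up b) (up z))⁻¹) • _ + _ = _
        rw [mul_inv_cancel₀ hbz, one_smul, add_sub_cancel]
        convert add_zero (up b) using 2
        rw [show (_ : F) • up z = (0 : F) • up z from congrArg (· • up z) (by field_simp; ring), zero_smul]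
      rwa [hev] at this
    have moveOrth : ∀ a b : ι → F₀, a ≠ 0 → f (up b) (up b) = 0 → f (up a) (up b) = 0 → up a ∈ C → up b ∈ C := by
      intro a b ha0 hb hab haC
      by_cases hk : b ∈ Submodule.span F₀ {a}
      · obtain ⟨k, rfl⟩ := Submodule.mem_span_singleton.1 hk
        rw [up_smul]; exact hCentres_smul hf haC _
      obtain ⟨φ, hφa, hφb⟩ := exists_dual hk
      obtain ⟨ψ, -, hψ⟩ := exists_dual (W := (⊥ : Submodule F₀ (ι → F₀))) (u := a) (by simpa using ha0)
      obtain ⟨d, hd⟩ := rep (ψ + (1 - ψ b) • φ)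
      have hφa' : φ a = 0 := hφa a (Submodule.mem_span_singleton_self a)
      have had : f (up a) (up d) = 1 := by rw [hd]; simp [hψ, hφa']
      have hbd : f (up b) (up d) = 1 := by rw [hd]; simp [hφb]
      set s : F₀ := ⟨-f (up d) (up d) / 2, F₀.div_mem (F₀.neg_mem (hG _ _ (ratV_up d) (ratV_up d))) h2mem⟩
      have haa : f (up a) (up a) = 0 := haC.1
      have hda : f (up d) (up a) = 1 := by rw [← symm]; exact had
      refine move a b (d + s • a) ?_ hb ?_ ?_ haC
      · rw [up_add, up_smul]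
        simp only [hf.add_left, add_right hf, hf.smul_left, smul_right hf, haa, had, hda, (hF₀ _).1 s.2]
        simp only [s]
        field_simp
        ring
      · rw [up_add, up_smul, add_right hf, smul_right hf, haa, had, mul_zero, add_zero]; exact one_ne_zero
      · rw [up_add, up_smul, add_right hf, smul_right hf, (f_eq_zero_comm hf).1 hab, hbd, mul_zero, add_zero]
        exact one_ne_zero
    have ratC : ∀ b : ι → F₀, f (up b) (up b) = 0 → up b ∈ C := by
      intro b hb
      obtain ⟨v, hv0, hv, hvv⟩ := singular (k := 2) ![T u₁, T b] (by omega)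
      have h1 : f (up v) (up u₁) = 0 := hTd (hv 0)
      have h2' : f (up v) (up b) = 0 := hTd (hv 1)
      exact moveOrth v b hv0 hb h2' (moveOrth u₁ v hu₁0 hvv ((f_eq_zero_comm hf).1 h1) hu₁C)
    -- every rational vector is a combination of singular ones, inside a given orthogonal
    have combo : ∀ u q : ι → F₀, f (up q) (up u) = 0 → f (up u) (up u) = 0 →
        ∃ (a₁ a₂ : ι → F₀) (k₁ k₂ : F₀), f (up a₁) (up a₁) = 0 ∧ f (up a₂) (up a₂) = 0 ∧
          f (up a₁) (up u) = 0 ∧ f (up a₂) (up u) = 0 ∧ q = k₁ • a₁ + k₂ • a₂ := by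
      intro u q hqu huu
      by_cases hqq : f (up q) (up q) = 0
      · exact ⟨q, q, 1, 0, hqq, hqq, hqu, hqu, by simp⟩
      obtain ⟨a₀, ha₀0, ha₀, ha₀a₀⟩ : ∃ a₀ : ι → F₀, a₀ ≠ 0 ∧ (f (up a₀) (up u) = 0 ∧ f (up a₀) (up q) = 0 ∧
          a₀ ∉ Submodule.span F₀ ({u, q} : Set (ι → F₀))) ∧ f (up a₀) (up a₀) = 0 := by
        by_cases hu : u = 0
        · obtain ⟨v, hv0, hv, hvv⟩ := singular (k := 1) ![T q] (by omega)
          have h1 : f (up v) (up q) = 0 := hTd (hv 0)
          refine ⟨v, hv0, ⟨by rw [hu, up_zero, zero_right hf], h1, fun hm => ?_⟩, hvv⟩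
          obtain ⟨a, b, rfl⟩ := Submodule.mem_span_pair.1 hm
          rw [up_add, up_smul, up_smul, hu, up_zero, smul_zero, zero_add, hf.smul_left] at h1
          have hb : b = 0 := Subtype.ext ((mul_eq_zero.1 h1).resolve_right hqq)
          exact hv0 (by rw [hu, hb]; simp)
        · obtain ⟨φ, -, hφ⟩ := exists_dual (W := (⊥ : Submodule F₀ (ι → F₀))) (u := u) (by simpa using hu)
          obtain ⟨d, hd⟩ := rep φ
          obtain ⟨v, hv0, hv, hvv⟩ := singular (k := 3) ![T q, T u, T d] (by omega)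
          have h1 : f (up v) (up q) = 0 := hTd (hv 0)
          refine ⟨v, hv0, ⟨hTd (hv 1), h1, fun hm => ?_⟩, hvv⟩
          have h3 : f (up v) (up d) = 0 := hTd (hv 2)
          obtain ⟨a, b, rfl⟩ := Submodule.mem_span_pair.1 hm
          rw [up_add, up_smul, up_smul, hf.add_left, hf.smul_left, hf.smul_left,
            (f_eq_zero_comm hf).1 hqu, mul_zero, zero_add] at h1
          have hb : b = 0 := Subtype.ext ((mul_eq_zero.1 h1).resolve_right hqq)
          rw [up_add, up_smul, up_smul, hb, ZeroMemClass.coe_zero, zero_smul, add_zero, hf.smul_left, hd, hφ]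
            at h3
          have ha : a = 0 := Subtype.ext (by simpa using h3)
          exact hv0 (by rw [ha, hb]; simp)
      obtain ⟨hau, haq, hnot⟩ := ha₀
      obtain ⟨ψ, hψ, hψa⟩ := exists_dual hnot
      obtain ⟨φ, hφ, hφq⟩ := exists_dual (W := Submodule.span F₀ ({u} : Set (ι → F₀))) (u := q) fun hm => by
        obtain ⟨k, rfl⟩ := Submodule.mem_span_singleton.1 hm
        rw [up_smul, hf.smul_left, smul_right hf, huu, mul_zero, mul_zero] at hqq
        exact hqq rfl
      obtain ⟨d, hd⟩ := rep (φ + (1 - φ a₀) • ψ)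
      have hdu : f (up u) (up d) = 0 := by
        rw [hd]; simp [hφ u (Submodule.mem_span_singleton_self u), hψ u (Submodule.subset_span (Set.mem_insert _ _))]
      have hdq : f (up q) (up d) = 1 := by
        rw [hd]; simp [hφq, hψ q (Submodule.subset_span (Set.mem_insert_of_mem _ rfl))]
      have hda : f (up a₀) (up d) = 1 := by rw [hd]; simp [hψa]
      set s : F₀ := ⟨-f (up d) (up d) / 2, F₀.div_mem (F₀.neg_mem (hG _ _ (ratV_up d) (ratV_up d))) h2mem⟩
      set a := d + s • a₀ with ha
      have hdd' : f (up d) (up a₀) = 1 := by rw [← symm]; exact hda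
      have haa : f (up a) (up a) = 0 := by
        rw [ha, up_add, up_smul]
        simp only [hf.add_left, add_right hf, hf.smul_left, smul_right hf, ha₀a₀, hda, hdd', (hF₀ _).1 s.2]
        simp only [s]
        field_simp
        ring
      have haq' : f (up a) (up q) = 1 := by
        rw [ha, up_add, up_smul, hf.add_left, hf.smul_left, haq, ← symm, hdq, mul_zero, add_zero]
      have hau' : f (up a) (up u) = 0 := by
        rw [ha, up_add, up_smul, hf.add_left, hf.smul_left, hau, ← symm, hdu, mul_zero, add_zero]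
      set m : F₀ := ⟨f (up q) (up q) / 2, F₀.div_mem (hG _ _ (ratV_up q) (ratV_up q)) h2mem⟩
      refine ⟨q - m • a, a, 1, m, ?_, haa, ?_, hau', by rw [one_smul, sub_add_cancel]⟩
      · rw [show up (q - m • a) = up q - (m : F) • up a from rfl]
        simp only [sub_left hf, sub_right hf, hf.smul_left, smul_right hf, haa, haq', (hF₀ _).1 m.2,
          show f (up q) (up a) = 1 by rw [← symm]; exact haq']
        simp only [m]
        field_simp
        ring
      · rw [show up (q - m • a) = up q - (m : F) • up a from rfl, sub_left hf, hf.smul_left, hqu, hau',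
          mul_zero, sub_zero]
    intro x hxx
    rcases eq_or_ne x 0 with rfl | hx0
    · simpa [up_zero] using ratC 0 (by rw [up_zero, zero_left hf])
    -- a rational singular vector not orthogonal to x
    obtain ⟨u, huu, hxu⟩ : ∃ u : ι → F₀, f (up u) (up u) = 0 ∧ f x (up u) ≠ 0 := by
      by_contra h
      push Not at h
      obtain ⟨y, hy⟩ := (hf.nondegenerate x hx0).1
      refine hy (LinearMap.congr_fun (dual_ext_zero (φ := formH hf x) fun i => ?_) y)
      rw [formH_apply, ← up_single (F₀ := F₀)]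
      obtain ⟨a₁, a₂, k₁, k₂, h1, h2', -, -, he⟩ := combo 0 (Pi.single i 1)
        (by rw [up_zero, zero_right hf]) (by rw [up_zero, zero_left hf])
      rw [f_eq_zero_comm hf, he, up_add, up_smul, up_smul, add_right hf, smul_right hf, smul_right hf,
        h a₁ h1, h a₂ h2', mul_zero, mul_zero, add_zero]
    have hu0 : u ≠ 0 := fun h => hxu (by rw [h, up_zero, zero_right hf])
    obtain ⟨φ, -, hφ⟩ := exists_dual (W := (⊥ : Submodule F₀ (ι → F₀))) (u := u) (by simpa using hu0)
    obtain ⟨d, hd⟩ := rep φ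
    set s : F₀ := ⟨-f (up d) (up d) / 2, F₀.div_mem (F₀.neg_mem (hG _ _ (ratV_up d) (ratV_up d))) h2mem⟩
    set w := d + s • u with hw
    have hud : f (up u) (up d) = 1 := by rw [hd, hφ]; rfl
    have hdu : f (up d) (up u) = 1 := by rw [← symm]; exact hud
    have hwu : f (up w) (up u) = 1 := by
      rw [hw, up_add, up_smul, hf.add_left, hf.smul_left, huu, hdu, mul_zero, add_zero]
    have hww : f (up w) (up w) = 0 := by
      rw [hw, up_add, up_smul]
      simp only [hf.add_left, add_right hf, hf.smul_left, smul_right hf, huu, hud, hdu, (hF₀ _).1 s.2]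
      simp only [s]
      field_simp
      ring
    -- all Eichler elements at u
    set P : Set (ι → F) := {y | f y (up u) = 0 ∧ ∃ e ∈ M, ∃ l, IsEich f e (up u) y l} with hP
    have huC := ratC u huu
    have Padd : ∀ a ∈ P, ∀ b ∈ P, a + b ∈ P := by
      rintro a ⟨ha, e, he, l, hel⟩ b ⟨hb, e', he', l', hel'⟩
      exact ⟨by rw [hf.add_left, ha, hb, add_zero], _, M.mul_mem he he', _, isEich_mul hf huu ha hb hel hel'⟩
    have Prat : ∀ q : ι → F₀, f (up q) (up u) = 0 → up q ∈ P := fun q hq =>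
      let ⟨e, he, he'⟩ := eM u q huu hq
      ⟨hq, e, he, _, he'⟩
    have Panti : ∀ a : ι → F₀, f (up a) (up a) = 0 → f (up a) (up u) = 0 → ∀ k : F, σ k = -k → k • up a ∈ P := by
      intro a ha hau k hk
      by_cases hmem : a ∈ Submodule.span F₀ {u}
      · obtain ⟨m, rfl⟩ := Submodule.mem_span_singleton.1 hmem
        refine ⟨by rw [hf.smul_left, hau, mul_zero], 1, M.one_mem, 2 * (σ k * m), fun z => ?_⟩
        simp only [mv_one, up_smul, smul_right hf, (hF₀ _).1 m.2, hk]
        module
      obtain ⟨φ, hφ, hφa⟩ := exists_dual hmem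
      obtain ⟨b, hb⟩ := rep φ
      have hab : f (up a) (up b) = 1 := by rw [hb, hφa]; rfl
      have hbu : f (up b) (up u) = 0 := by
        rw [← symm, hb, hφ u (Submodule.mem_span_singleton_self u)]; rfl
      obtain ⟨-, e, he, l, hel⟩ := Prat b hbu
      have hba : f (up b) (up a) = 1 := by rw [← symm]; exact hab
      have hg := (ratC a ha).2 k hk
      have hfix : mv (htv hf (up a) (ratC a ha).1 k) (up u) = up u :=
        htv_fix hf _ _ _ ((f_eq_zero_comm hf).1 hau)
      have h1 := isEich_conj hf (hpres hg) hel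
      rw [hfix, mv_htv, hba, mul_one] at h1
      have := Padd _ (show up b + k • up a ∈ P from
        ⟨by rw [hf.add_left, hf.smul_left, hbu, hau, mul_zero, add_zero], _,
          M.mul_mem (M.mul_mem hg he) (M.inv_mem hg), l, h1⟩) _
        (Prat (-b) (by rw [show up (-b) = -up b from funext fun i => by simp [up], neg_left hf, hbu, neg_zero]))
      rwa [show up b + k • up a + up (-b) = k • up a by
        rw [show up (-b) = -up b from funext fun i => by simp [up]]; abel] at this
    have Pall : ∀ y, f y (up u) = 0 → y ∈ P := by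
      intro y hy
      obtain ⟨p, q, rfl⟩ := hsplit y
      rw [hf.add_left, hf.smul_left] at hy
      have hA := hG _ _ (ratV_up p) (ratV_up u)
      have hB := hG _ _ (ratV_up q) (ratV_up u)
      have hq : f (up q) (up u) = 0 := by
        by_contra h
        apply htF
        rw [show t = -f (up p) (up u) / f (up q) (up u) by field_simp; linear_combination hy]
        exact F₀.div_mem (F₀.neg_mem hA) hB
      rw [hq, mul_zero, add_zero] at hy
      obtain ⟨a₁, a₂, k₁, k₂, h1, h2', h3, h4, rfl⟩ := combo u q hq huu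
      refine Padd _ (Prat p hy) _ ?_
      rw [up_add, up_smul, up_smul, smul_add, smul_smul, smul_smul]
      exact Padd _ (Panti a₁ h1 h3 _ (by rw [map_mul, ht, (hF₀ _).1 k₁.2]; ring)) _
        (Panti a₂ h2' h4 _ (by rw [map_mul, ht, (hF₀ _).1 k₂.2]; ring))
    set α := f x (up u) with hα
    set v := α • up w with hv
    have hvC : v ∈ C := hCentres_smul hf (ratC w hww) _
    have hvu : f v (up u) = α := by rw [hv, hf.smul_left, hwu, mul_one]
    set y := α⁻¹ • (x - v) with hy
    have hyu : f y (up u) = 0 := by rw [hy, hf.smul_left, sub_left hf, hvu, sub_self, mul_zero]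
    obtain ⟨-, e, he, l, hel⟩ := Pall y hyu
    have hl : l + σ l + f y y = 0 := by
      have h := hpres he (up w) (up w)
      rw [hel, hww, hwu] at h
      simp only [hf.add_left, add_right hf, hf.smul_left, smul_right hf, hww, huu, hwu,
        (hf.herm (up u) (up w)).trans (by rw [hwu, map_one] : σ (f (up w) (up u)) = 1), hyu,
        (f_eq_zero_comm hf).1 hyu, map_sub, map_mul, map_one] at h
      rw [hf.herm y (up w)] at h
      linear_combination h
    set m := f v x / (α * σ α) with hm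
    have hm' : m + σ m + f y y = 0 := by
      have hσα : σ α ≠ 0 := fun h => hxu ((map_eq_zero_iff σ σ.injective).1 h)
      rw [hy, hf.smul_left, smul_right hf, sub_left hf, sub_right hf, sub_right hf, hxx, hvC.1, hm, map_div₀,
        map_mul, hf.involutive, map_inv₀, hf.herm x v]
      field_simp
      ring
    have hc : σ (m - l) = -(m - l) := by rw [map_sub]; linear_combination hm' - hl
    have hgM := M.mul_mem (huC.2 _ hc) he
    have := hCentres_mv hf hMf hgM hvC
    have hgv : mv (htv hf (up u) huC.1 (m - l) * e) v = x := by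
      have e1 : f (α • y) (up u) = 0 := by rw [hf.smul_left, hyu, mul_zero]
      have e2 : ∀ c : F, f (c • up u) (up u) = 0 := fun c => by rw [hf.smul_left, huu, mul_zero]
      rw [mv_mul, hel, hvu, mv_htv, hf.add_left, hf.add_left, hvu, e1, e2]
      have hσα : σ α ≠ 0 := fun h => hxu ((map_eq_zero_iff σ σ.injective).1 h)
      have hvy : f v y = (σ α)⁻¹ * f v x := by rw [hy, smul_right hf, sub_right hf, hvC.1, sub_zero, map_inv₀]
      have hy' : α • y = x - v := by rw [hy, smul_smul, mul_inv_cancel₀ hxu, one_smul]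
      rw [hvy, hy', hm]
      simp only [mul_zero, add_zero]
      rw [show v + (x - v) = x by abel, add_assoc, ← add_smul,
        show l * α - (σ α)⁻¹ * f v x + (f v x / (α * σ α) - l) * α = 0 by field_simp; ring, zero_smul, add_zero]
    rwa [hgv] at this
  -- no transvection with rational singular centre: M is rational up to scalars
  refine Or.inl (le_antisymm (fun g hg => ⟨(mem_subfield_one_iff g).2 ?_, hMS hg⟩) hHM)
  push Not at htrans
  have htrans' : ∀ u : ι → F₀, u ≠ 0 → ∀ hu : f (up u) (up u) = 0, ∀ c : F, σ c = -c →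
      htv hf (up u) hu c ∈ M → c = 0 := fun u hu0 hu c hc hcM => by
    by_contra hc0
    exact htrans u hu0 hu c hc0 hc hcM
  have lines : ∀ u : ι → F₀, u ≠ 0 → f (up u) (up u) = 0 → RatLine F₀ (mv g (up u)) := fun u hu0 hu =>
    ratLine_no_htv hf (fun a ha => (hF₀ a).1 ha) hG hMS hn hTinj (fun v w => rfl) rep ratV_of singular h2 hcard eM
      htrans' hg hu0 hu
  obtain ⟨e₀, he₀0, -, he₀⟩ := singular (k := 0) ![] (by omega)
  obtain ⟨φ, -, hφ⟩ := exists_dual (W := (⊥ : Submodule F₀ (ι → F₀))) (u := e₀) (by simpa using he₀0)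
  obtain ⟨d, hd⟩ := rep φ
  obtain ⟨lam, hlam0, hlam⟩ := lines e₀ he₀0 he₀
  -- singular vectors non-orthogonal to e₀ have the same scalar
  have same : ∀ u : ι → F₀, f (up u) (up u) = 0 → f (up e₀) (up u) = 1 → RatV F₀ (lam • mv g (up u)) := by
    intro u hu heu
    have hu0 : u ≠ 0 := fun h => by rw [h, up_zero, zero_right hf] at heu; exact zero_ne_one heu
    obtain ⟨b, hb0, hb⟩ := lines u hu0 hu
    have h1 := hG _ _ hlam hb
    rw [hf.smul_left, smul_right hf, hpres hg, heu, mul_one] at h1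
    have h3 : lam * σ lam ∈ F₀ := (hF₀ _).2 (by rw [map_mul, hf.involutive, mul_comm])
    have hσl : σ lam ≠ 0 := fun h => hlam0 ((map_eq_zero_iff σ σ.injective).1 h)
    have h4 : b / lam ∈ F₀ := by
      have h5 := F₀.div_mem h1 h3
      have h6 := (hF₀ _).1 h5
      rw [show lam * σ b / (lam * σ lam) = σ (b / lam) by rw [map_div₀]; field_simp, hf.involutive] at h6
      exact (hF₀ _).2 h6.symm
    intro i
    have h7 := F₀.div_mem (hb i) h4
    rwa [Pi.smul_apply, smul_eq_mul, show b * mv g (up u) i / (b / lam) = lam * mv g (up u) i by field_simp] at h7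
  set s : F₀ := ⟨-f (up d) (up d) / 2, F₀.div_mem (F₀.neg_mem (hG _ _ (ratV_up d) (ratV_up d))) h2mem⟩
  set d₁ := d + s • e₀ with hd₁
  have hed : f (up e₀) (up d) = 1 := by rw [hd, hφ]; rfl
  have hde : f (up d) (up e₀) = 1 := by rw [← symm]; exact hed
  have hed₁ : f (up e₀) (up d₁) = 1 := by
    rw [hd₁, up_add, up_smul, add_right hf, smul_right hf, he₀, hed, mul_zero, add_zero]
  have hde₁ : f (up d₁) (up e₀) = 1 := by rw [← symm]; exact hed₁
  have hd₁d₁ : f (up d₁) (up d₁) = 0 := by
    rw [hd₁, up_add, up_smul]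
    simp only [hf.add_left, add_right hf, hf.smul_left, smul_right hf, he₀, hed, hde, (hF₀ _).1 s.2]
    simp only [s]
    field_simp
    ring
  have hrd := same d₁ hd₁d₁ hed₁
  refine srat_of_lines fun vv hvv hvv0 => ⟨lam, hlam0, ?_⟩
  obtain ⟨v, rfl⟩ := exists_up hvv
  set a : F₀ := ⟨_, hG _ _ (ratV_up v) (ratV_up d₁)⟩
  set b : F₀ := ⟨_, hG _ _ (ratV_up v) (ratV_up e₀)⟩
  set z := v - a • e₀ - b • d₁ with hz
  have ez : up z = up v - (a : F) • up e₀ - (b : F) • up d₁ := rfl
  have hze : f (up z) (up e₀) = 0 := by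
    rw [ez, sub_left hf, sub_left hf, hf.smul_left, hf.smul_left, he₀, hde₁]; simp only [b]; ring
  have hzd : f (up z) (up d₁) = 0 := by
    rw [ez, sub_left hf, sub_left hf, hf.smul_left, hf.smul_left, hd₁d₁, hed₁]; simp only [a]; ring
  set m : F₀ := ⟨f (up z) (up z) / 2, F₀.div_mem (hG _ _ (ratV_up z) (ratV_up z)) h2mem⟩
  set u := d₁ + z - m • e₀ with hu
  have eu : up u = up d₁ + up z - (m : F) • up e₀ := rfl
  have huu : f (up u) (up u) = 0 := by
    rw [eu]
    simp only [sub_left hf, sub_right hf, hf.add_left, add_right hf, hf.smul_left, smul_right hf, he₀, hd₁d₁,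
      hde₁, hed₁, hze, hzd, (f_eq_zero_comm hf).1 hze, (f_eq_zero_comm hf).1 hzd, (hF₀ _).1 m.2]
    simp only [m]
    field_simp
    ring
  have hru := same u huu (by
    rw [eu, sub_right hf, add_right hf, smul_right hf, hed₁, (f_eq_zero_comm hf).1 hze, he₀]; ring)
  have hv : lam • mv g (up v) = lam • mv g (up u) + ((a : F) + m) • (lam • mv g (up e₀)) +
      ((b : F) - 1) • (lam • mv g (up d₁)) := by
    rw [eu, ez]
    simp only [mv_add, mv_sub, mv_smul]
    module
  rw [hv]
  exact ratV_add (ratV_add hru (ratV_smul (F₀.add_mem a.2 m.2) hlam)) (ratV_smul (F₀.sub_mem b.2 F₀.one_mem) hrd)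

end Cfsg.Agent.Transvec.Herm
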