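/-
Subfield subgroups of the orthogonal group: rational Siegel elements and the two alternatives for an overgroup.
-/
import Cfsg.Agent.Lib.Transvec.OrthNondeg
import Cfsg.Agent.Lib.Transvec.OrthParity
import Cfsg.Agent.Lib.Transvec.SubfieldSymp
set_option autoImplicit false

namespace Cfsg.Agent.Transvec.Orth

open scoped Matrix
open Matrix Cfsg.Agent.Transvec

variable {ι : Type} [Fintype ι] [DecidableEq ι] {F : Type*} [Field F] {F₀ : Subfield F} {Q : (ι → F) → F}

/-- The quadratic form on the rational vectors. -/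
def qDown (hV : ∀ x : ι → F, RatV F₀ x → Q x ∈ F₀) : (ι → F₀) → F₀ := fun x => ⟨Q (up x), hV _ (ratV_up x)⟩

theorem qDown_val (hV : ∀ x : ι → F, RatV F₀ x → Q x ∈ F₀) (x : ι → F₀) : ((qDown hV x : F₀) : F) = Q (up x) := rfl

theorem qDown_pol (hV : ∀ x : ι → F, RatV F₀ x → Q x ∈ F₀) (x y : ι → F₀) :
    ((pol (qDown hV) x y : F₀) : F) = pol Q (up x) (up y) := by
  simp [pol, QuadraticMap.polar, qDown, up_add]

theorem ext_up {g h : GL ι F} (H : ∀ x : ι → F₀, mv g (up x) = mv h (up x)) : g = h :=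
  Units.ext (Matrix.ext_of_mulVec_single fun i => by rw [← up_single (F₀ := F₀) i]; exact H _)

theorem ratM_map (e : GL ι F₀) :
    RatM F₀ (Matrix.GeneralLinearGroup.map (F₀.subtype : F₀ →+* F) e : Matrix ι ι F) :=
  fun i j => ((e : Matrix ι ι F₀) i j).2

/-- The rank of a rational matrix does not drop over the larger field. -/
theorem finrank_range_le_rank₀ (D₀ : Matrix ι ι F₀) :
    Module.finrank F₀ (LinearMap.range D₀.mulVecLin) ≤ (D₀.map (Subtype.val : F₀ → F)).rank := by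
  set R := LinearMap.range D₀.mulVecLin
  set b := Module.finBasis F₀ R
  have hi : LinearIndependent F₀ (fun i => (b i : ι → F₀)) := b.linearIndependent.map' R.subtype R.ker_subtype
  have hi' : LinearIndependent F (fun i => up (b i : ι → F₀)) :=
    (linearIndependent_algebraMap_comp_iff (R := F₀) (S := F)).2 hi
  have h := finrank_span_eq_card hi'
  rw [Fintype.card_fin] at h
  refine h.symm.le.trans (Submodule.finrank_mono (Submodule.span_le.2 ?_))
  rintro _ ⟨i, rfl⟩
  obtain ⟨y, hy⟩ := (b i).2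
  refine ⟨up y, ?_⟩
  funext j
  show ((D₀.map (F₀.subtype : F₀ → F)) *ᵥ (F₀.subtype ∘ y)) j = up (b i : ι → F₀) j
  rw [← RingHom.map_mulVec, ← hy]
  rfl

variable (hQ : Geo.IsNondegenerateQuadraticForm Q) (hV : ∀ x : ι → F, RatV F₀ x → Q x ∈ F₀)
include hQ hV

theorem pol_mem {x y : ι → F} (hx : RatV F₀ x) (hy : RatV F₀ y) : pol Q x y ∈ F₀ :=
  F₀.sub_mem (F₀.sub_mem (hV _ (ratV_add hx hy)) (hV _ hx)) (hV _ hy)

theorem qDown_nondegenerate : Geo.IsNondegenerateQuadraticForm (qDown hV) where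
  smul c v := Subtype.ext (by
    show Q (up (c • v)) = _
    rw [up_smul, q_smul hQ]; rfl)
  polar_bilinear :=
    { add_left := fun x y v => Subtype.ext (by
        show ((pol (qDown hV) (x + y) v : F₀) : F) = ((pol (qDown hV) x v : F₀) : F) + ((pol (qDown hV) y v : F₀) : F)
        rw [qDown_pol, qDown_pol, qDown_pol, up_add, pol_add_left hQ])
      smul_left := fun c x v => Subtype.ext (by
        show ((pol (qDown hV) (c • x) v : F₀) : F) = (c : F) * ((pol (qDown hV) x v : F₀) : F)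
        rw [qDown_pol, qDown_pol, up_smul, pol_smul_left hQ])
      add_right := fun v x y => Subtype.ext (by
        show ((pol (qDown hV) v (x + y) : F₀) : F) = ((pol (qDown hV) v x : F₀) : F) + ((pol (qDown hV) v y : F₀) : F)
        rw [qDown_pol, qDown_pol, qDown_pol, up_add, pol_add_right hQ])
      smul_right := fun c v x => Subtype.ext (by
        show ((pol (qDown hV) v (c • x) : F₀) : F) = (c : F) * ((pol (qDown hV) v x : F₀) : F)
        rw [qDown_pol, qDown_pol, up_smul, pol_smul_right hQ]) }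
  nondegenerate v hv := by
    obtain ⟨i, hi⟩ : ∃ i, pol Q (Pi.single i 1) (up v) ≠ 0 := by
      by_contra h
      push Not at h
      obtain ⟨x, hx⟩ := (hQ.nondegenerate (up v) (up_ne_zero hv)).1
      exact hx (LinearMap.congr_fun (dual_ext_zero (φ := formQ hQ (up v)) h) x)
    refine ⟨⟨Pi.single i 1, fun h => hi ?_⟩, ⟨Pi.single i 1, fun h => hi ?_⟩⟩
    · have := congrArg Subtype.val h
      change ((pol (qDown hV) (Pi.single i 1) v : F₀) : F) = 0 at this
      rwa [qDown_pol, up_single] at this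
    · have := congrArg Subtype.val h
      change ((pol (qDown hV) v (Pi.single i 1) : F₀) : F) = 0 at this
      rwa [qDown_pol, up_single, pol_comm] at this

omit hQ in
theorem up_pol_zero {x y : ι → F₀} (h : pol (qDown hV) x y = 0) : pol Q (up x) (up y) = 0 := by
  rw [← qDown_pol hV, h]; rfl

/-- A rational functional is given by a rational vector. -/
theorem exists_rat_eq_pol {φ : Module.Dual F (ι → F)} (hφ : RatD F₀ φ) :
    ∃ d : ι → F₀, ∀ y, φ y = pol Q y (up d) := by
  obtain ⟨d, hd⟩ := exists_eq_pol (qDown_nondegenerate hQ hV)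
    (dotDual (F := F₀) fun i => ⟨φ (Pi.single i 1), hφ i⟩)
  refine ⟨d, fun y => ?_⟩
  show φ y = formQ hQ (up d) y
  refine LinearMap.congr_fun (sub_eq_zero.1 (dual_ext_zero fun i => ?_)) y
  have := congrArg Subtype.val (hd (Pi.single i 1))
  rw [qDown_pol, up_single, dotDual_single] at this
  rw [LinearMap.sub_apply, formQ_apply, ← this, sub_self]

/-- A vector with rational products against all rational vectors is rational. -/
theorem ratV_of_pol {x : ι → F} (h : ∀ w : ι → F₀, pol Q x (up w) ∈ F₀) : RatV F₀ x := fun i => by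
  obtain ⟨d, hd⟩ := exists_rat_eq_pol hQ hV (φ := LinearMap.proj i) (fun j => ratV_single j F₀.one_mem i)
  have := h d
  rwa [← hd] at this

/-- The image of a Siegel element over the subfield. -/
theorem isSiegel_up {e : GL ι F₀} {u y : ι → F₀} (hu : Q (up u) = 0) (hy : pol Q (up u) (up y) = 0)
    (h : IsSiegel (qDown hV) e u y) :
    IsSiegel Q (Matrix.GeneralLinearGroup.map (F₀.subtype : F₀ →+* F) e) (up u) (up y) := by
  obtain ⟨g, -, hg⟩ := exists_siegel hQ hu hy
  rwa [show Matrix.GeneralLinearGroup.map (F₀.subtype : F₀ →+* F) e = g from ext_up fun x => by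
    rw [mv_map, h, hg, ← qDown_pol hV, ← qDown_pol hV, ← qDown_val hV]
    rfl]

/-- Vectors orthogonal to u, written through rational ones. -/
theorem sum_orth {u w : ι → F₀} (hwu : pol Q (up w) (up u) = 1) {y : ι → F} (hy : pol Q y (up u) = 0) :
    ∃ q : ι → ι → F₀, (∀ i, pol Q (up (q i)) (up u) = 0) ∧ y = ∑ i, y i • up (q i) := by
  refine ⟨fun i => Pi.single i (1 : F₀) - pol (qDown hV) (Pi.single i 1) u • w, fun i => ?_, ?_⟩
  · rw [show up (Pi.single i (1 : F₀) - pol (qDown hV) (Pi.single i 1) u • w) =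
      up (Pi.single i (1 : F₀)) - ((pol (qDown hV) (Pi.single i 1) u : F₀) : F) • up w from rfl, pol_sub_left hQ,
      pol_smul_left hQ, hwu, qDown_pol, mul_one, sub_self]
  · have hq : ∀ i, up (Pi.single i (1 : F₀) - pol (qDown hV) (Pi.single i 1) u • w) =
        (Pi.single i 1 : ι → F) - pol Q (Pi.single i 1) (up u) • up w := fun i => by
      rw [show up (Pi.single i (1 : F₀) - pol (qDown hV) (Pi.single i 1) u • w) =
        up (Pi.single i (1 : F₀)) - ((pol (qDown hV) (Pi.single i 1) u : F₀) : F) • up w from rfl, qDown_pol, up_single]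
    have h1 : pol Q y (up u) = ∑ i, y i * pol Q (Pi.single i 1) (up u) := by
      conv_lhs => rw [show pol Q y (up u) = formQ hQ (up u) y from rfl, pi_eq_sum_univ' y, map_sum]
      simp [formQ_apply, pol_smul_left hQ]
    simp only [hq, smul_sub, smul_smul, Finset.sum_sub_distrib, ← Finset.sum_smul, ← h1, hy, zero_smul, sub_zero]
    exact pi_eq_sum_univ' y

variable {M : Subgroup (GL ι F)} [Finite F] (hn : 7 ≤ Fintype.card ι)
  (hMS : M ≤ Geo.omegaGL Q)
  (hH : ∀ g ∈ Geo.omegaGL Q, RatM F₀ (g : Matrix ι ι F) → g ∈ M)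

include hn hH in
theorem siegel_rat {u y : ι → F₀} (hu : qDown hV u = 0) (hy : pol (qDown hV) u y = 0) :
    ∃ e : GL ι F₀, IsSiegel (qDown hV) e u y ∧
      Matrix.GeneralLinearGroup.map (F₀.subtype : F₀ →+* F) e ∈ M := by
  obtain ⟨e, -, he⟩ := exists_siegel (qDown_nondegenerate hQ hV) hu hy
  have hu' : Q (up u) = 0 := congrArg Subtype.val hu
  have hy' := up_pol_zero hV hy
  exact ⟨e, he, hH _ (siegel_mem_omega hQ (by omega) hu' hy' (isSiegel_up hQ hV hu' hy' he)) (ratM_map e)⟩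

include hn hH in
theorem siegel_rat_mem {u y : ι → F₀} (hu : Q (up u) = 0) (hy : pol Q (up u) (up y) = 0) :
    ∃ g ∈ M, IsSiegel Q g (up u) (up y) := by
  obtain ⟨e, he, hm⟩ := siegel_rat hQ hV hn hH (u := u) (y := y) (Subtype.ext hu)
    (Subtype.ext ((qDown_pol hV u y).trans hy))
  exact ⟨_, hm, isSiegel_up hQ hV hu hy he⟩

include hn hH in
/-- Transitivity on rational singular vectors. -/
theorem move_rat {X : Submodule F₀ (ι → F₀)} (hX : Nondeg (qDown hV) X) (h9 : 5 ≤ Module.finrank F₀ X)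
    {u w : ι → F₀} (hu : u ∈ X) (hw : w ∈ X) (hu0 : u ≠ 0) (hw0 : w ≠ 0) (h : qDown hV u = qDown hV w) :
    ∃ g ∈ M, mv g (up u) = up w ∧ ∀ z : ι → F₀, (∀ x ∈ X, pol (qDown hV) z x = 0) → mv g (up z) = up z := by
  obtain ⟨g, hg, hgu, hgf⟩ := exists_move (qDown_nondegenerate hQ hV) hX h9
    (K := M.comap (Matrix.GeneralLinearGroup.map (F₀.subtype : F₀ →+* F)))
    (fun a _ b _ ha hb => by
      obtain ⟨e, he, hm⟩ := siegel_rat hQ hV hn hH ha hb
      exact ⟨e, hm, he⟩) hu hw hu0 hw0 h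
  exact ⟨_, hg, by rw [mv_map, hgu], fun z hz => by rw [mv_map, hgf z hz]⟩

/-- No Siegel element with rational centre has an irrational axis. -/
def NoMix (F₀ : Subfield F) (Q : (ι → F) → F) (M : Subgroup (GL ι F)) : Prop :=
  ∀ u p : ι → F₀, Q (up u) = 0 → u ≠ 0 → Q (up p) = 0 → pol Q (up u) (up p) = 0 →
    p ∉ Submodule.span F₀ {u} → ∀ b : F, (∃ g ∈ M, IsSiegel Q g (up u) (b • up p)) → b ∈ F₀

omit hV in
include hn in
theorem split_singular {X : Submodule F (ι → F)} (hX : Nondeg Q X) (h3 : 3 ≤ Module.finrank F X) {q : ι → F}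
    (hq : q ∈ X) : ∃ a ∈ X, ∃ b ∈ X, Q a = 0 ∧ Q b = 0 ∧ q = a + b := by
  rcases eq_or_ne q 0 with rfl | hq0
  · exact ⟨0, X.zero_mem, 0, X.zero_mem, q_zero hQ, q_zero hQ, (add_zero _).symm⟩
  obtain ⟨e, he, hee, hqe⟩ := exists_singular_not_orth hQ hX h3 hq hq0
  set k := Q q / pol Q q e
  exact ⟨q - k • e, X.sub_mem hq (X.smul_mem _ he), k • e, X.smul_mem _ he,
    by rw [q_sub hQ, q_smul hQ, hee, pol_smul_right hQ, div_mul_cancel₀ _ hqe]; ring,
    by rw [q_smul hQ, hee, mul_zero], (sub_add_cancel _ _).symm⟩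

include hn hMS hH in
/-- Without mixing, a Siegel element at a rational vector has rational products. -/
theorem pol_rat_of_siegel (hB : NoMix F₀ Q M) {u : ι → F₀} (hu0 : u ≠ 0) (hu : Q (up u) = 0) {y : ι → F}
    (hy : pol Q (up u) y = 0) (h : ∃ g ∈ M, IsSiegel Q g (up u) y) {p : ι → F₀}
    (hp : pol Q (up u) (up p) = 0) : pol Q y (up p) ∈ F₀ := by
  have h₀ := qDown_nondegenerate hQ hV
  have hMO : M ≤ isometryGroup F Q := hMS.trans (omega_le_isometry hQ)
  have hu' : qDown hV u = 0 := Subtype.ext hu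
  obtain ⟨d, -, hdd, hud⟩ := exists_partner h₀ (nondeg_top h₀) (Submodule.mem_top (x := u)) hu0 hu'
  obtain ⟨hPn, hP2⟩ := nondeg_pair h₀ hu' hdd hud
  obtain ⟨hXn, hXd⟩ := orth_nondeg h₀ hPn
  rw [hP2] at hXd
  set X := orth h₀ (Submodule.span F₀ ({u, d} : Set (ι → F₀)))
  have hXu : ∀ q ∈ X, pol Q (up u) (up q) = 0 := fun q hq =>
    up_pol_zero hV (hq u (Submodule.subset_span (Set.mem_insert _ _)))
  have diff : ∀ {a b : ι → F}, pol Q (up u) a = 0 → pol Q (up u) b = 0 → (∃ g ∈ M, IsSiegel Q g (up u) a) →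
      (∃ g ∈ M, IsSiegel Q g (up u) b) → ∃ g ∈ M, IsSiegel Q g (up u) (a - b) := by
    rintro a b ha hb ⟨g, hg, hgs⟩ ⟨g', hg', hgs'⟩
    have hnb : pol Q (up u) (-b) = 0 := by rw [pol_neg_right hQ, hb, neg_zero]
    obtain ⟨k, -, hk⟩ := exists_siegel hQ hu hnb
    have hm := isSiegel_mul hQ hu hnb hb hk hgs'
    rw [neg_add_cancel] at hm
    have hkM : k ∈ M := by
      rw [eq_inv_of_mul_eq_one_left (isSiegel_unique hm (isSiegel_zero hQ _))]; exact M.inv_mem hg'
    exact ⟨g * k, M.mul_mem hg hkM, sub_eq_add_neg a b ▸ isSiegel_mul hQ hu ha hnb hgs hk⟩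
  have step : ∀ {a : ι → F} {e f : ι → F₀}, pol Q (up u) a = 0 → (∃ g ∈ M, IsSiegel Q g (up u) a) → e ∈ X →
      f ∈ X → Q (up e) = 0 → pol Q (up e) (up f) = 0 →
      pol Q (up u) (pol Q a (up e) • up f - (pol Q a (up f) + Q (up f) * pol Q a (up e)) • up e) = 0 ∧
        ∃ g ∈ M, IsSiegel Q g (up u)
          (pol Q a (up e) • up f - (pol Q a (up f) + Q (up f) * pol Q a (up e)) • up e) := by
    intro a e f ha hga he hf hee hef
    obtain ⟨k, hk, hks⟩ := siegel_rat_mem hQ hV hn hH hee hef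
    obtain ⟨g, hg, hgs⟩ := hga
    have hku : mv k (up u) = up u := isSiegel_fix hQ hks (hXu e he) (hXu f hf)
    have hc := isSiegel_conj hQ (hMO hk) hgs
    rw [hku] at hc
    have hka : pol Q (up u) (mv k a) = 0 := by rw [← hku, pol_mv hQ (hMO hk), ha]
    have := diff hka ha ⟨_, M.mul_mem (M.mul_mem hk hg) (M.inv_mem hk), hc⟩ ⟨g, hg, hgs⟩
    rw [hks, show ∀ p q r : ι → F, p + q - r - p = q - r from fun p q r => by abel] at this
    exact ⟨by rw [pol_sub_right hQ, pol_smul_right hQ, pol_smul_right hQ, hXu f hf, hXu e he]; ring, this⟩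
  have sing : ∀ p ∈ X, qDown hV p = 0 → pol Q y (up p) ∈ F₀ := by
    intro p hp hpp
    rcases eq_or_ne p 0 with rfl | hp0
    · rw [up_zero, pol_zero_right hQ]; exact F₀.zero_mem
    obtain ⟨q, hq, hqq, hpq⟩ := exists_partner h₀ hXn hp hp0 hpp
    obtain ⟨hAn, hA2⟩ := nondeg_pair h₀ hpp hqq hpq
    have hAX : Submodule.span F₀ ({p, q} : Set (ι → F₀)) ≤ X :=
      Submodule.span_le.2 (by rintro x (rfl | rfl) <;> assumption)
    have hX2n := nondeg_inf_orth h₀ hAn hXn hAX
    have hX2d := finrank_inf_orth_add h₀ hAn hAX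
    rw [hA2] at hX2d
    obtain ⟨p₂, hp₂, hp₂0, hp₂p⟩ := exists_singular h₀
      (X := X ⊓ orth h₀ (Submodule.span F₀ ({p, q} : Set (ι → F₀)))) (by omega)
    obtain ⟨q₂, hq₂, hq₂q, hpq₂⟩ := exists_partner h₀ hX2n hp₂ hp₂0 hp₂p
    obtain ⟨hCn, hC2⟩ := nondeg_pair h₀ hp₂p hq₂q hpq₂
    have hCX : Submodule.span F₀ ({p₂, q₂} : Set (ι → F₀)) ≤
        X ⊓ orth h₀ (Submodule.span F₀ ({p, q} : Set (ι → F₀))) :=
      Submodule.span_le.2 (by rintro x (rfl | rfl) <;> assumption)
    have hX3d := finrank_inf_orth_add h₀ hCn hCX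
    rw [hC2] at hX3d
    obtain ⟨z, hz, hzz⟩ := exists_anisotropic h₀ (nondeg_inf_orth h₀ hCn hX2n hCX) fun h => by
      rw [h, finrank_bot] at hX3d; omega
    have pu : ∀ {a b : ι → F₀}, pol (qDown hV) a b = 0 → pol Q (up a) (up b) = 0 := fun h => up_pol_zero hV h
    have e1 : pol Q (up p) (up p₂) = 0 := pu (hp₂.2 p (Submodule.subset_span (Set.mem_insert _ _)))
    obtain ⟨o1, g1⟩ := step hy h hp hp₂.1 (congrArg Subtype.val hpp) e1
    have e2 : pol Q (up q₂) (up z) = 0 := pu (hz.2 q₂ (Submodule.subset_span (Set.mem_insert_of_mem _ rfl)))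
    obtain ⟨o2, g2⟩ := step o1 g1 hq₂.1 hz.1.1 (congrArg Subtype.val hq₂q) e2
    obtain ⟨-, g3⟩ := step o2 g2 hp hp₂.1 (congrArg Subtype.val hpp) e1
    have f1 : pol Q (up p₂) (up q₂) = 1 := by rw [← qDown_pol hV, hpq₂]; rfl
    have f1' : pol Q (up q₂) (up p₂) = 1 := (pol_comm _ _).trans f1
    have f2 : pol Q (up p) (up q₂) = 0 := pu (hq₂.2 p (Submodule.subset_span (Set.mem_insert _ _)))
    have f2' : pol Q (up q₂) (up p) = 0 := (pol_comm _ _).trans f2
    have f3 : pol Q (up p) (up z) = 0 := pu (hz.1.2 p (Submodule.subset_span (Set.mem_insert _ _)))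
    have f3' : pol Q (up z) (up p) = 0 := (pol_comm _ _).trans f3
    have f4 : pol Q (up p₂) (up z) = 0 := pu (hz.2 p₂ (Submodule.subset_span (Set.mem_insert _ _)))
    have f4' : pol Q (up z) (up p₂) = 0 := (pol_comm _ _).trans f4
    have f5 : Q (up p₂) = 0 := congrArg Subtype.val hp₂p
    simp only [pol_sub_left hQ, pol_smul_left hQ, f1, f1', f2, f2', f3, f3', f4, f4', f5, mul_zero, zero_mul,
      mul_one, sub_zero, zero_smul, zero_sub, add_zero, zero_add, neg_smul, sub_neg_eq_add] at g3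
    have hb := hB u p hu hu0 (congrArg Subtype.val hpp) (hXu _ hp) (fun hm => ?_) _ g3
    · have hzne : Q (up z) ≠ 0 := fun h0 => hzz (Subtype.ext h0)
      refine (congrArg (· ∈ F₀) ?_).mp (F₀.div_mem hb (hV _ (ratV_up z)))
      field_simp
    obtain ⟨c, hc⟩ := Submodule.mem_span_singleton.1 hm
    have h1 : pol (qDown hV) d p = 0 := hp d (Submodule.subset_span (Set.mem_insert_of_mem _ rfl))
    rw [← hc, pol_smul_right h₀, pol_comm d u, hud, mul_one] at h1
    rw [h1, zero_smul] at hc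
    exact hp0 hc.symm
  set k := pol (qDown hV) p d
  have hp' : p - k • u ∈ X := (mem_orth_span h₀).2 (by
    have e : pol (qDown hV) u p = 0 := Subtype.ext ((qDown_pol hV u p).trans hp)
    rintro w (rfl | rfl)
    · rw [pol_sub_right h₀, pol_smul_right h₀, e, pol_self h₀, hu']; ring
    · rw [pol_sub_right h₀, pol_smul_right h₀, pol_comm w u, hud, pol_comm w p]; ring)
  obtain ⟨a, ha, b, hb, haa, hbb, hab⟩ := split_singular h₀ hn hXn (by omega) hp'
  rw [show p = a + b + k • u by rw [← hab, sub_add_cancel], up_add, up_add, up_smul, pol_add_right hQ,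
    pol_add_right hQ, pol_smul_right hQ, pol_comm y (up u), hy, mul_zero, add_zero]
  exact F₀.add_mem (sing a ha haa) (sing b hb hbb)

include hn hMS hH in
/-- An irrational parameter gives the whole group. -/
theorem all_of_mix [Fintype F] {r : ℕ} (hr : r.Prime) (hcard : Fintype.card F = Nat.card F₀ ^ r) {u₀ p₀ : ι → F₀}
    (hu₀ : Q (up u₀) = 0) (hu₀0 : u₀ ≠ 0) (hp₀ : Q (up p₀) = 0) (hup : pol Q (up u₀) (up p₀) = 0)
    (hind : p₀ ∉ Submodule.span F₀ {u₀}) {c : F} (hc : c ∉ F₀)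
    (hcM : ∃ g ∈ M, IsSiegel Q g (up u₀) (c • up p₀)) : M = Geo.omegaGL Q := by
  have h₀ := qDown_nondegenerate hQ hV
  have hMO : M ≤ isometryGroup F Q := hMS.trans (omega_le_isometry hQ)
  set B : Set F := {b | ∀ u q : ι → F₀, Q (up u) = 0 → Q (up q) = 0 → pol Q (up u) (up q) = 0 →
    ∃ g ∈ M, IsSiegel Q g (up u) (b • up q)}
  have ident : ∀ (u : ι → F) (k : F), Q u = 0 → IsSiegel Q 1 u (k • u) := fun u k hu => by
    have := isSiegel_add_self hQ hu (pol_zero_right hQ u) k (isSiegel_zero hQ u)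
    rwa [zero_add] at this
  have ident0 : ∀ y : ι → F, IsSiegel Q 1 0 y := fun y z => by simp [mv_one, pol_zero_right hQ]
  have hframe : ∀ {u : ι → F₀}, Q (up u) = 0 → u ≠ 0 → ∃ d, qDown hV d = 0 ∧ pol (qDown hV) u d = 1 ∧
      Nondeg (qDown hV) (orth h₀ (Submodule.span F₀ ({u, d} : Set (ι → F₀)))) ∧
      2 + Module.finrank F₀ ↥(orth h₀ (Submodule.span F₀ ({u, d} : Set (ι → F₀)))) = Fintype.card ι := by
    intro u hu hu0
    obtain ⟨d, -, hdd, hud⟩ := exists_partner h₀ (nondeg_top h₀) (Submodule.mem_top (x := u)) hu0 (Subtype.ext hu)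
    obtain ⟨hPn, hP2⟩ := nondeg_pair h₀ (Subtype.ext hu) hdd hud
    obtain ⟨hXn, hXd⟩ := orth_nondeg h₀ hPn
    rw [hP2] at hXd
    exact ⟨d, hdd, hud, hXn, hXd⟩
  have hsplit : ∀ {u d q : ι → F₀}, Q (up u) = 0 → pol (qDown hV) u d = 1 → pol Q (up u) (up q) = 0 →
      q - pol (qDown hV) q d • u ∈ orth h₀ (Submodule.span F₀ ({u, d} : Set (ι → F₀))) := by
    intro u d q hu hud hq
    refine (mem_orth_span h₀).2 ?_
    have e : pol (qDown hV) u q = 0 := Subtype.ext ((qDown_pol hV u q).trans hq)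
    rintro w (rfl | rfl)
    · rw [pol_sub_right h₀, pol_smul_right h₀, e, pol_self h₀, show qDown hV w = 0 from Subtype.ext hu]; ring
    · rw [pol_sub_right h₀, pol_smul_right h₀, pol_comm w u, hud, pol_comm w q]; ring
  have hcB : c ∈ B := by
    intro u q hu hq huq
    rcases eq_or_ne u 0 with rfl | hu0
    · exact ⟨1, M.one_mem, by rw [up_zero]; exact ident0 _⟩
    by_cases hqu : q ∈ Submodule.span F₀ {u}
    · obtain ⟨k, rfl⟩ := Submodule.mem_span_singleton.1 hqu
      exact ⟨1, M.one_mem, by rw [up_smul, smul_smul]; exact ident _ _ hu⟩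
    obtain ⟨g, hg, hgs⟩ := hcM
    obtain ⟨d, hdd, hud, hXn, hXd⟩ := hframe hu hu0
    obtain ⟨e₁, he₁, he₁u, -⟩ := exists_move h₀ (nondeg_top h₀) (X := ⊤)
      (by rw [finrank_top, Module.finrank_pi]; omega)
      (K := M.comap (Matrix.GeneralLinearGroup.map (F₀.subtype : F₀ →+* F)) ⊓ isometryGroup F₀ (qDown hV))
      (fun a _ b _ ha hb => by
        obtain ⟨e, he, hm⟩ := siegel_rat hQ hV hn hH ha hb
        exact ⟨e, ⟨hm, isSiegel_mem_isometry h₀ ha hb he⟩, he⟩)
      Submodule.mem_top (Submodule.mem_top (x := u)) hu₀0 hu0 (Subtype.ext (hu₀.trans hu.symm))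
    have hE := isSiegel_conj hQ (hMO he₁.1) hgs
    rw [mv_map, he₁u, mv_smul, mv_map] at hE
    set p₁ := mv e₁ p₀
    have hp₁ : Q (up p₁) = 0 := by rw [← qDown_val hV, mem_isometry.1 he₁.2]; exact hp₀
    have hup₁ : pol Q (up u) (up p₁) = 0 := by
      rw [← qDown_pol hV, ← he₁u, pol_mv h₀ he₁.2, qDown_pol]; exact hup
    have nz : ∀ {a : ι → F₀}, a ∉ Submodule.span F₀ {u} → a - pol (qDown hV) a d • u ≠ 0 := fun ha h =>
      ha (Submodule.mem_span_singleton.2 ⟨_, (sub_eq_zero.1 h).symm⟩)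
    have hp₁u : p₁ ∉ Submodule.span F₀ {u} := fun h => hind (by
      obtain ⟨k, hk⟩ := Submodule.mem_span_singleton.1 h
      exact Submodule.mem_span_singleton.2 ⟨k, mv_inj e₁ (by rw [mv_smul, he₁u, hk])⟩)
    have qz : ∀ {a : ι → F₀}, Q (up a) = 0 → pol Q (up u) (up a) = 0 →
        qDown hV (a - pol (qDown hV) a d • u) = 0 := fun {a} ha hua => by
      rw [q_sub h₀, q_smul h₀, show qDown hV a = 0 from Subtype.ext ha, show qDown hV u = 0 from Subtype.ext hu,
        pol_smul_right h₀, pol_comm a u, show pol (qDown hV) u a = 0 from Subtype.ext ((qDown_pol hV u a).trans hua)]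
      ring
    obtain ⟨g₂, hg₂, hg₂p, hg₂f⟩ := move_rat hQ hV hn hH hXn (by omega) (hsplit hu hud hup₁)
      (hsplit hu hud huq) (nz hp₁u) (nz hqu) ((qz hp₁ hup₁).trans (qz hq huq).symm)
    have hg₂u := hg₂f u fun x hx => hx u (Submodule.subset_span (Set.mem_insert _ _))
    have hF := isSiegel_conj hQ (hMO hg₂) hE
    rw [hg₂u, mv_smul, show p₁ = p₁ - pol (qDown hV) p₁ d • u + pol (qDown hV) p₁ d • u by abel, up_add, up_smul,
      mv_add, mv_smul, hg₂p, hg₂u] at hF
    have hb : pol Q (up u) (c • (up (q - pol (qDown hV) q d • u) + ((pol (qDown hV) p₁ d : F₀) : F) • up u)) = 0 := by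
      rw [pol_smul_right hQ, pol_add_right hQ, pol_smul_right hQ, pol_self hQ, hu, up_pol_zero hV
        ((hsplit hu hud huq) u (Submodule.subset_span (Set.mem_insert _ _)))]
      ring
    have := isSiegel_add_self hQ hu hb (c * (((pol (qDown hV) q d : F₀) : F) - ((pol (qDown hV) p₁ d : F₀) : F))) hF
    refine ⟨_, M.mul_mem (M.mul_mem hg₂ (M.mul_mem (M.mul_mem he₁.1 hg) (M.inv_mem he₁.1))) (M.inv_mem hg₂), ?_⟩
    convert this using 1
    rw [show up (q - pol (qDown hV) q d • u) = up q - ((pol (qDown hV) q d : F₀) : F) • up u from rfl]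
    module
  have hBadd : ∀ a ∈ B, ∀ b ∈ B, a + b ∈ B := by
    intro a ha b hb u q hu hq huq
    obtain ⟨g, hg, hgs⟩ := ha u q hu hq huq
    obtain ⟨g', hg', hgs'⟩ := hb u q hu hq huq
    exact ⟨_, M.mul_mem hg hg', add_smul a b (up q) ▸ isSiegel_mul hQ hu (by rw [pol_smul_right hQ, huq, mul_zero])
      (by rw [pol_smul_right hQ, huq, mul_zero]) hgs hgs'⟩
  have hB₀ : ∀ a ∈ F₀, ∀ b ∈ B, a * b ∈ B := by
    intro a ha b hb u q hu hq huq
    obtain ⟨g, hg, hgs⟩ := hb u ((⟨a, ha⟩ : F₀) • q) hu (by rw [up_smul, q_smul hQ, hq, mul_zero])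
      (by rw [up_smul, pol_smul_right hQ, huq, mul_zero])
    exact ⟨g, hg, by rwa [up_smul, smul_smul, mul_comm] at hgs⟩
  have hBc : ∀ b ∈ B, c * b ∈ B := by
    intro b hb u q hu hq huq
    rcases eq_or_ne u 0 with rfl | hu0
    · exact ⟨1, M.one_mem, by rw [up_zero]; exact ident0 _⟩
    obtain ⟨d, hdd, hud, hXn, hXd⟩ := hframe hu hu0
    set X := orth h₀ (Submodule.span F₀ ({u, d} : Set (ι → F₀)))
    set k := pol (qDown hV) q d
    set t := q - k • u
    have ht : t ∈ X := hsplit hu hud huq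
    have htt : qDown hV t = 0 := by
      rw [q_sub h₀, q_smul h₀, show qDown hV q = 0 from Subtype.ext hq, show qDown hV u = 0 from Subtype.ext hu,
        pol_smul_right h₀, pol_comm q u, show pol (qDown hV) u q = 0 from Subtype.ext ((qDown_pol hV u q).trans huq)]
      ring
    suffices hT : ∃ g ∈ M, IsSiegel Q g (up u) ((c * b) • up t) by
      obtain ⟨g, hg, hgs⟩ := hT
      have hbt : pol Q (up u) ((c * b) • up t) = 0 := by
        rw [pol_smul_right hQ, up_pol_zero hV (ht u (Submodule.subset_span (Set.mem_insert _ _))), mul_zero]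
      refine ⟨g, hg, ?_⟩
      have := isSiegel_add_self hQ hu hbt (c * b * (k : F)) hgs
      convert this using 1
      rw [show up t = up q - (k : F) • up u from rfl]
      module
    rcases eq_or_ne t 0 with h0 | ht0
    · exact ⟨1, M.one_mem, by rw [h0, up_zero, smul_zero]; exact isSiegel_zero hQ _⟩
    obtain ⟨t', ht', ht't', htt'⟩ := exists_partner h₀ hXn ht ht0 htt
    obtain ⟨hAn, hA2⟩ := nondeg_pair h₀ htt ht't' htt'
    have hAX : Submodule.span F₀ ({t, t'} : Set (ι → F₀)) ≤ X :=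
      Submodule.span_le.2 (by rintro x (rfl | rfl) <;> assumption)
    have hX2d := finrank_inf_orth_add h₀ hAn hAX
    rw [hA2] at hX2d
    obtain ⟨e, he, he0, hee⟩ := exists_singular h₀
      (X := X ⊓ orth h₀ (Submodule.span F₀ ({t, t'} : Set (ι → F₀)))) (by omega)
    obtain ⟨e', he', he'e', hee'⟩ := exists_partner h₀ (nondeg_inf_orth h₀ hAn hXn hAX) he he0 hee
    have mu := fun {x : ι → F₀} (hx : x ∈ X) => up_pol_zero hV (hx u (Submodule.subset_span (Set.mem_insert _ _)))
    have et : pol Q (up e) (up t) = 0 := by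
      rw [pol_comm]; exact up_pol_zero hV (he.2 t (Submodule.subset_span (Set.mem_insert _ _)))
    have e't : pol Q (up e') (up t) = 0 := by
      rw [pol_comm]; exact up_pol_zero hV (he'.2 t (Submodule.subset_span (Set.mem_insert _ _)))
    have ee' : pol Q (up e) (up e') = 1 := by rw [← qDown_pol hV, hee']; rfl
    obtain ⟨g, hg, hgs⟩ := hb u e hu (congrArg Subtype.val hee) (mu he.1)
    obtain ⟨k', hk', hk's⟩ := hcB e' t (congrArg Subtype.val he'e') (congrArg Subtype.val htt) e't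
    have hfix : mv k' (up u) = up u :=
      isSiegel_fix hQ hk's (mu he'.1) (by rw [pol_smul_right hQ, mu ht, mul_zero])
    have hke : mv k' (up e) = up e + c • up t := by
      rw [hk's, ee', pol_smul_right hQ, q_smul hQ, et, show Q (up t) = 0 from congrArg Subtype.val htt]
      module
    have h1 := isSiegel_conj hQ (hMO hk') hgs
    rw [hfix, mv_smul, hke] at h1
    have hue : pol Q (up u) (b • up e) = 0 := by rw [pol_smul_right hQ, mu he.1, mul_zero]
    have hnue : pol Q (up u) (-(b • up e)) = 0 := by rw [pol_neg_right hQ, hue, neg_zero]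
    obtain ⟨n, -, hns⟩ := exists_siegel hQ hu hnue
    have hnM : n ∈ M := by
      have h2 := isSiegel_mul hQ hu hnue hue hns hgs
      rw [neg_add_cancel] at h2
      rw [eq_inv_of_mul_eq_one_left (isSiegel_unique h2 (isSiegel_zero hQ _))]
      exact M.inv_mem hg
    have h3 := isSiegel_mul hQ hu (by
      rw [pol_smul_right hQ, pol_add_right hQ, pol_smul_right hQ, mu he.1, mu ht]; ring) hnue h1 hns
    rw [show b • (up e + c • up t) + -(b • up e) = (c * b) • up t by module] at h3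
    exact ⟨_, M.mul_mem (M.mul_mem (M.mul_mem hk' hg) (M.inv_mem hk')) hnM, h3⟩
  have hone : (1 : F) ∈ B := fun u q hu _ huq => by
    rw [one_smul]; exact siegel_rat_mem hQ hV hn hH hu huq
  have hBall : ∀ b : F, b ∈ B := fun b => by
    simpa using mul_closed hr hcard hBadd hB₀ hc hBc b 1 hone
  have full : ∀ u w : ι → F₀, Q (up u) = 0 → pol Q (up w) (up u) = 1 → up u ∈ qFull Q M := by
    intro u w hu hwu
    have hu0 : u ≠ 0 := fun h => by rw [h, up_zero, pol_zero_right hQ] at hwu; exact zero_ne_one hwu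
    obtain ⟨d, hdd, hud, hXn, hXd⟩ := hframe hu hu0
    refine ⟨hu, fun y hy => ?_⟩
    obtain ⟨q, hq, hyq⟩ := sum_orth hQ hV hwu (y := y) (by rw [pol_comm]; exact hy)
    rw [hyq]
    suffices H : pol Q (up u) (∑ i, y i • up (q i)) = 0 ∧ ∃ g ∈ M, IsSiegel Q g (up u) (∑ i, y i • up (q i)) from H.2
    refine Finset.sum_induction _ (fun v => pol Q (up u) v = 0 ∧ ∃ g ∈ M, IsSiegel Q g (up u) v)
      (fun a b ⟨ha, g, hg, hgs⟩ ⟨hb, g', hg', hgs'⟩ => ⟨by rw [pol_add_right hQ, ha, hb, add_zero],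
        g * g', M.mul_mem hg hg', isSiegel_mul hQ hu ha hb hgs hgs'⟩)
      ⟨pol_zero_right hQ _, 1, M.one_mem, isSiegel_zero hQ _⟩ fun i _ => ?_
    have huq : pol Q (up u) (up (q i)) = 0 := by rw [pol_comm]; exact hq i
    refine ⟨by rw [pol_smul_right hQ, huq, mul_zero], ?_⟩
    set k := pol (qDown hV) (q i) d
    have hqk : pol Q (up u) (up (q i - k • u)) = 0 :=
      up_pol_zero hV (hsplit hu hud huq u (Submodule.subset_span (Set.mem_insert _ _)))
    obtain ⟨a, ha, b, hb, haa, hbb, hab⟩ := split_singular h₀ hn hXn (by omega) (hsplit hu hud huq)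
    have mu := fun {x : ι → F₀} (hx : x ∈ orth h₀ (Submodule.span F₀ ({u, d} : Set (ι → F₀)))) =>
      up_pol_zero hV (hx u (Submodule.subset_span (Set.mem_insert _ _)))
    obtain ⟨g₁, hg₁, hg₁s⟩ := hBall (y i) u a hu (congrArg Subtype.val haa) (mu ha)
    obtain ⟨g₂, hg₂, hg₂s⟩ := hBall (y i) u b hu (congrArg Subtype.val hbb) (mu hb)
    have h3 := isSiegel_mul hQ hu (by rw [pol_smul_right hQ, mu ha, mul_zero])
      (by rw [pol_smul_right hQ, mu hb, mul_zero]) hg₁s hg₂s
    have h4 := isSiegel_add_self hQ hu (by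
      rw [pol_add_right hQ, pol_smul_right hQ, pol_smul_right hQ, mu ha, mu hb]; ring) (y i * (k : F)) h3
    refine ⟨_, M.mul_mem hg₁ hg₂, ?_⟩
    convert h4 using 1
    rw [show up (q i) = up (q i - k • u) + (k : F) • up u from
      (sub_add_cancel (up (q i)) ((k : F) • up u)).symm, hab, up_add]
    module
  obtain ⟨d, hdd, hud, -, -⟩ := hframe hu₀ hu₀0
  have hud' : pol Q (up u₀) (up d) = 1 := by rw [← qDown_pol hV, hud]; rfl
  exact eq_omega_of_pair hQ (by omega) hMS (full u₀ d hu₀ (by rw [pol_comm]; exact hud'))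
    (full d u₀ (congrArg Subtype.val hdd) hud') hud'

include hn hMS hH in
/-- A root element fixing a rational singular vector has a rational centre line. -/
theorem ratLine_centre_orth (hB : NoMix F₀ Q M) (hroot : (2 : F) = 0 → ∀ a : F, a ^ 2 ∈ F₀ → a ∈ F₀)
    {T : GL ι F} (hT : T ∈ M) {x z : ι → F} (hx : Q x = 0) (hxz : pol Q x z = 0) (hTs : IsSiegel Q T x z)
    (hz : Q z ∈ F₀) (hz0 : Q z ≠ 0) {u : ι → F₀} (hu0 : u ≠ 0) (hu : Q (up u) = 0)
    (hux : pol Q (up u) x = 0) (huz : pol Q (up u) z = 0) : RatLine F₀ x := by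
  have h₀ := qDown_nondegenerate hQ hV
  have hMO : M ≤ isometryGroup F Q := hMS.trans (omega_le_isometry hQ)
  have sq : ∀ v : ι → F₀, v ≠ 0 → Q (up v) = 0 → pol Q (up v) x = 0 → pol Q (up v) z = 0 →
      ∀ w : ι → F₀, pol Q (up v) (up w) = 0 → pol Q (up w) x ^ 2 ∈ F₀ := by
    intro v hv0 hv hvx hvz w hvw
    obtain ⟨h, hh, hhs⟩ := siegel_rat_mem hQ hV hn hH hv hvw
    have hfix : mv T (up v) = up v := isSiegel_fix hQ hTs hvx hvz
    have hc := isSiegel_conj hQ (hMO hT) hhs
    rw [hfix] at hc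
    have hy : pol Q (up v) (mv T (up w)) = 0 := by rw [← hfix, pol_mv hQ (hMO hT), hvw]
    have h1 := pol_rat_of_siegel hQ hV hn hMS hH hB hv0 hv hy
      ⟨_, M.mul_mem (M.mul_mem hT hh) (M.inv_mem hT), hc⟩ hvw
    have h2 := F₀.div_mem (F₀.sub_mem h1 (pol_mem hQ hV (ratV_up w) (ratV_up w))) (F₀.neg_mem hz)
    refine (congrArg (· ∈ F₀) ?_).mp h2
    rw [hTs, pol_sub_left hQ, pol_add_left hQ, pol_smul_left hQ, pol_smul_left hQ, pol_comm x (up w),
      pol_comm z (up w), div_eq_iff (neg_ne_zero.2 hz0)]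
    ring
  have prod : ∀ a b : F, a ^ 2 ∈ F₀ → b ^ 2 ∈ F₀ → (a + b) ^ 2 ∈ F₀ → a * b ∈ F₀ := by
    intro a b ha hb hab
    by_cases h2 : (2 : F) = 0
    · exact F₀.mul_mem (hroot h2 a ha) (hroot h2 b hb)
    · have h := F₀.div_mem (F₀.sub_mem (F₀.sub_mem hab ha) hb)
        (show (2 : F) ∈ F₀ by rw [← one_add_one_eq_two]; exact F₀.add_mem F₀.one_mem F₀.one_mem)
      refine (congrArg (· ∈ F₀) ?_).mp h
      field_simp
      ring
  obtain ⟨d, -, hdd, hud⟩ := exists_partner h₀ (nondeg_top h₀) (Submodule.mem_top (x := u)) hu0 (Subtype.ext hu)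
  have hud' : pol Q (up u) (up d) = 1 := by rw [← qDown_pol hV, hud]; rfl
  have hdec : ∀ w : ι → F₀, pol Q (up u) (up (w - pol (qDown hV) u w • d)) = 0 := fun w => by
    rw [show up (w - pol (qDown hV) u w • d) = up w - ((pol (qDown hV) u w : F₀) : F) • up d from rfl, pol_sub_right hQ,
      pol_smul_right hQ, hud', qDown_pol, mul_one, sub_self]
  have huu : pol Q (up u) (up u) = 0 := by rw [pol_self hQ, hu, mul_zero]
  by_cases hall : ∀ w : ι → F₀, pol Q (up u) (up w) = 0 → pol Q (up w) x = 0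
  · -- x is a multiple of u
    obtain ⟨c, hc⟩ : ∃ c : F, x = c • up u := by
      refine ⟨pol Q (up d) x, ?_⟩
      have hR : RatV F₀ (x - pol Q (up d) x • up u) := ratV_of_pol hQ hV fun w => by
        have h1 := hall _ (hdec w)
        rw [show up (w - pol (qDown hV) u w • d) = up w - ((pol (qDown hV) u w : F₀) : F) • up d from rfl,
          pol_sub_left hQ, pol_smul_left hQ, qDown_pol] at h1
        rw [pol_sub_left hQ, pol_smul_left hQ, pol_comm x (up w)]
        refine (congrArg (· ∈ F₀) ?_).mp F₀.zero_mem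
        linear_combination -h1
      obtain ⟨q, hq⟩ := exists_up hR
      have hq0 : q = 0 := nondeg_top h₀ q Submodule.mem_top fun w _ => Subtype.ext (by
        have h1 := hall _ (hdec w)
        rw [show up (w - pol (qDown hV) u w • d) = up w - ((pol (qDown hV) u w : F₀) : F) • up d from rfl,
          pol_sub_left hQ, pol_smul_left hQ, qDown_pol] at h1
        rw [qDown_pol, ← hq, pol_sub_right hQ, pol_smul_right hQ, pol_comm (up w) (up u), ZeroMemClass.coe_zero]
        linear_combination h1)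
      rw [hq0, up_zero, sub_eq_zero] at hq
      exact hq
    rcases eq_or_ne c 0 with rfl | hc0
    · exact ⟨1, one_ne_zero, fun i => by rw [hc]; simp⟩
    · exact ⟨c⁻¹, inv_ne_zero hc0, by rw [hc, smul_smul, inv_mul_cancel₀ hc0, one_smul]; exact ratV_up u⟩
  push Not at hall
  obtain ⟨w₁, hw₁, ha0⟩ := hall
  obtain ⟨a, ha⟩ : ∃ a, a = pol Q (up w₁) x := ⟨_, rfl⟩
  rw [← ha] at ha0
  have hsq := sq u hu0 hu hux huz
  have ha2 := hsq w₁ hw₁
  rw [← ha] at ha2
  set c := a⁻¹ * pol Q (up d) x with hcdef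
  obtain ⟨q, hq⟩ : ∃ q, a⁻¹ • x - c • up u = up q := exists_up (ratV_of_pol hQ hV fun w => by
    have h1 := prod a (pol Q (up (w - pol (qDown hV) u w • d)) x) ha2 (hsq _ (hdec w)) (by
      rw [ha, ← pol_add_left hQ, ← up_add]
      exact hsq _ (by rw [up_add, pol_add_right hQ, hw₁, hdec w, add_zero]))
    rw [show up (w - pol (qDown hV) u w • d) = up w - ((pol (qDown hV) u w : F₀) : F) • up d from rfl, pol_sub_left hQ,
      pol_smul_left hQ, qDown_pol] at h1
    rw [pol_sub_left hQ, pol_smul_left hQ, pol_smul_left hQ, pol_comm x (up w)]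
    refine (congrArg (· ∈ F₀) ?_).mp (F₀.div_mem h1 ha2)
    rw [hcdef]
    field_simp
    skip)
  have hqs : Q (up q) = 0 := by
    rw [← hq, q_sub hQ, q_smul hQ, q_smul hQ, pol_smul_left hQ, pol_smul_right hQ, hx, hu, pol_comm x, hux]; ring
  have hqu : pol Q (up u) (up q) = 0 := by
    rw [← hq, pol_sub_right hQ, pol_smul_right hQ, pol_smul_right hQ, hux, huu]; ring
  have hqx : pol Q (up q) x = 0 := by
    rw [← hq, pol_sub_left hQ, pol_smul_left hQ, pol_smul_left hQ, pol_self hQ, hx, hux]; ring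
  have hqz : pol Q (up q) z = 0 := by
    rw [← hq, pol_sub_left hQ, pol_smul_left hQ, pol_smul_left hQ, hxz, huz]; ring
  have hw₁q : pol Q (up w₁) (up q) = 1 := by
    rw [← hq, pol_sub_right hQ, pol_smul_right hQ, pol_smul_right hQ, pol_comm (up w₁) (up u), hw₁, ← ha,
      inv_mul_cancel₀ ha0]
    ring
  have hind : q ∉ Submodule.span F₀ {u} := fun h => by
    obtain ⟨k, hk⟩ := Submodule.mem_span_singleton.1 h
    rw [← hk, up_smul, pol_smul_right hQ, pol_comm (up w₁), hw₁, mul_zero] at hw₁q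
    exact zero_ne_one hw₁q
  -- rational vectors dual to u and q
  obtain ⟨φ, hφ, hφq⟩ := exists_dual hind
  obtain ⟨ψ, -, hψ⟩ := exists_dual (W := (⊥ : Submodule F₀ (ι → F₀))) (u := u) (by simpa using hu0)
  obtain ⟨e, he⟩ := exists_eq_pol h₀ φ
  obtain ⟨d', hd'⟩ := exists_eq_pol h₀ (ψ - ψ q • φ)
  have hue : pol Q (up u) (up e) = 0 := by
    rw [← qDown_pol hV, ← he, hφ u (Submodule.mem_span_singleton_self u)]; rfl
  have hqe : pol Q (up q) (up e) = 1 := by rw [← qDown_pol hV, ← he, hφq]; rfl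
  have hud₂ : pol Q (up u) (up d') = 1 := by
    rw [← qDown_pol hV, ← hd']; simp [hψ, hφ u (Submodule.mem_span_singleton_self u)]
  have hqd₂ : pol Q (up q) (up d') = 0 := by rw [← qDown_pol hV, ← hd']; simp [hφq]
  have hxu : x = a • up q + (a * c) • up u := by
    rw [← hq, smul_sub, smul_smul, mul_inv_cancel₀ ha0, one_smul, smul_smul]; abel
  have hq0 : q ≠ 0 := fun h => hind (h ▸ Submodule.zero_mem _)
  have h1 := sq q hq0 hqs hqx hqz d' hqd₂
  have huq0 : u + q ≠ 0 := fun h => hind (by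
    rw [add_eq_zero_iff_neg_eq.1 h |>.symm]
    exact Submodule.neg_mem _ (Submodule.mem_span_singleton_self u))
  have h2 := sq (u + q) huq0 (by rw [up_add, q_add hQ, hu, hqs, hqu]; ring)
    (by rw [up_add, pol_add_left hQ, hux, hqx, add_zero])
    (by rw [up_add, pol_add_left hQ, huz, hqz, add_zero]) (d' - e) (by
      rw [show up (d' - e) = up d' - up e from rfl, up_add, pol_add_left hQ, pol_sub_right hQ, pol_sub_right hQ,
        hud₂, hue, hqd₂, hqe]
      ring)
  have p1 : pol Q (up d') x = a * c := by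
    rw [hxu, pol_add_right hQ, pol_smul_right hQ, pol_smul_right hQ, pol_comm (up d') (up q), hqd₂,
      pol_comm (up d') (up u), hud₂]
    ring
  have p2 : pol Q (up (d' - e)) x = a * c - a := by
    rw [show up (d' - e) = up d' - up e from rfl, pol_sub_left hQ, p1, hxu, pol_add_right hQ, pol_smul_right hQ,
      pol_smul_right hQ, pol_comm (up e) (up q), hqe, pol_comm (up e) (up u), hue]
    ring
  rw [p1] at h1
  rw [p2] at h2
  have hc' : c ∈ F₀ := by
    have h3 := F₀.div_mem h1 ha2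
    rw [mul_pow, mul_div_cancel_left₀ _ (pow_ne_zero 2 ha0)] at h3
    by_cases h2z : (2 : F) = 0
    · exact hroot h2z c h3
    · have h4 := F₀.div_mem h2 ha2
      have h5 := F₀.div_mem (F₀.sub_mem (F₀.add_mem h3 F₀.one_mem) h4)
        (show (2 : F) ∈ F₀ by rw [← one_add_one_eq_two]; exact F₀.add_mem F₀.one_mem F₀.one_mem)
      refine (congrArg (· ∈ F₀) ?_).mp h5
      field_simp
      ring
  refine ⟨a⁻¹, inv_ne_zero ha0, ?_⟩
  rw [show a⁻¹ • x = up q + c • up u by rw [← hq, sub_add_cancel]]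
  exact ratV_add (ratV_up q) (ratV_smul hc' (ratV_up u))

include hn hMS in
/-- A map carrying every rational singular line to a rational line is rational up to a scalar. -/
theorem srat_of_singular_lines {g : GL ι F} (hg : g ∈ M)
    (sing : ∀ v : ι → F₀, qDown hV v = 0 → RatLine F₀ (mv g (up v))) : SRat F₀ g := by
  have h₀ := qDown_nondegenerate hQ hV
  have hgI := hMS.trans (omega_le_isometry hQ) hg
  have : Nonempty ι := Fintype.card_pos_iff.1 (by omega)
  refine srat_of_lines fun y hy hy0 => ?_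
  obtain ⟨a, rfl⟩ := exists_up hy
  by_cases haa : qDown hV a = 0
  · exact sing a haa
  have ha0 : a ≠ 0 := fun h => hy0 (by rw [h, up_zero])
  obtain ⟨e, -, hee, hae⟩ := exists_singular_not_orth h₀ (nondeg_top h₀)
    (by rw [finrank_top, Module.finrank_pi]; omega) (Submodule.mem_top (x := a)) ha0
  set k := qDown hV a / pol (qDown hV) a e
  set e' := a - k • e
  have he'q : qDown hV e' = 0 := by
    rw [q_sub h₀, q_smul h₀, hee, pol_smul_right h₀, div_mul_cancel₀ _ hae]; ring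
  have hb : pol (qDown hV) e e' ≠ 0 := by
    rwa [pol_sub_right h₀, pol_smul_right h₀, pol_self h₀, hee, mul_zero, mul_zero, sub_zero, pol_comm]
  set b := pol (qDown hV) e e'
  set d := b⁻¹ • e'
  have hed : pol (qDown hV) e d = 1 := by rw [pol_smul_right h₀]; exact inv_mul_cancel₀ hb
  obtain ⟨hPn, hP2⟩ := nondeg_pair h₀ hee (show qDown hV d = 0 by rw [q_smul h₀, he'q, mul_zero]) hed
  obtain ⟨hXn, hXd⟩ := orth_nondeg h₀ hPn
  rw [hP2] at hXd
  obtain ⟨x, hx, hxq⟩ := exists_value_nondeg h₀ hXn (by omega) (-b)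
  have hex : pol (qDown hV) e x = 0 := hx e (Submodule.subset_span (Set.mem_insert _ _))
  have he'x : pol (qDown hV) e' x = 0 := by
    have h1 := hx d (Submodule.subset_span (Set.mem_insert_of_mem _ rfl))
    rw [pol_smul_left h₀] at h1
    exact (mul_eq_zero.1 h1).resolve_left (inv_ne_zero hb)
  set f := e + e' + x
  have hff : qDown hV f = 0 := by
    rw [q_add h₀, q_add h₀, hee, he'q, hxq, pol_add_left h₀, hex, he'x]; ring
  have hfe : pol (qDown hV) e f = b := by
    rw [pol_add_right h₀, pol_add_right h₀, pol_self h₀, hee, hex]; ring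
  have hfe' : pol (qDown hV) e' f = b := by
    rw [pol_add_right h₀, pol_add_right h₀, pol_self h₀, he'q, he'x, pol_comm e' e]; ring
  obtain ⟨α, hα, hαr⟩ := sing e' he'q
  obtain ⟨β, hβ, hβr⟩ := sing e hee
  obtain ⟨γ, hγ, hγr⟩ := sing f hff
  have h1 := pol_mem hQ hV hαr hγr
  have h2 := pol_mem hQ hV hβr hγr
  rw [pol_smul_left hQ, pol_smul_right hQ, pol_mv hQ hgI, ← qDown_pol hV, hfe'] at h1
  rw [pol_smul_left hQ, pol_smul_right hQ, pol_mv hQ hgI, ← qDown_pol hV, hfe] at h2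
  have hb' : (b : F) ≠ 0 := fun h => hb (Subtype.ext h)
  have hratio : α / β ∈ F₀ := by
    refine (congrArg (· ∈ F₀) ?_).mp (F₀.div_mem h1 h2)
    field_simp
  refine ⟨α, hα, ?_⟩
  rw [show up a = up e' + (k : F) • up e from (sub_add_cancel (up a) ((k : F) • up e)).symm, mv_add, mv_smul,
    smul_add]
  refine ratV_add hαr ?_
  rw [show α • (k : F) • mv g (up e) = ((k : F) * (α / β)) • β • mv g (up e) by
    rw [smul_smul, smul_smul]; congr 1; field_simp]
  exact ratV_smul (F₀.mul_mem k.2 hratio) hβr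

include hn hMS hH in
/-- One rational singular line mapped to a rational line is enough. -/
theorem srat_of_one_line_orth (hB : NoMix F₀ Q M) (hroot : (2 : F) = 0 → ∀ a : F, a ^ 2 ∈ F₀ → a ∈ F₀)
    {g : GL ι F} (hg : g ∈ M) {v₀ : ι → F₀} (hv₀0 : v₀ ≠ 0) (hv₀ : Q (up v₀) = 0)
    (hline : RatLine F₀ (mv g (up v₀))) : SRat F₀ g := by
  have h₀ := qDown_nondegenerate hQ hV
  have hgI := hMS.trans (omega_le_isometry hQ) hg
  have hpair : ∀ (u v : ι → F₀), Fintype.card ι < 2 * Module.finrank F₀ ↥(orth h₀ (Submodule.span F₀ ({u, v} : Set (ι → F₀)))) := by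
    intro u v
    have h1 := le_finrank_orth h₀ (Submodule.span F₀ ({u, v} : Set (ι → F₀)))
    have h2 : Module.finrank F₀ ↥(Submodule.span F₀ ({u, v} : Set (ι → F₀))) ≤ 2 := by
      classical
      exact (finrank_span_le_card _).trans
        (by rw [Set.toFinset_insert, Set.toFinset_singleton]; exact Finset.card_le_two)
    omega
  have move : ∀ u v : ι → F₀, u ≠ 0 → qDown hV u = 0 → qDown hV v = 0 → pol (qDown hV) u v = 0 →
      RatLine F₀ (mv g (up u)) → RatLine F₀ (mv g (up v)) := by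
    intro u v hu0 hu hv huv ⟨α, hα, hαr⟩
    obtain ⟨y, hy, hyq⟩ := exists_anisotropic_big h₀ (hpair u v)
    have hvy := up_pol_zero hV (hy v (Submodule.subset_span (Set.mem_insert_of_mem _ rfl)))
    have huy := up_pol_zero hV (hy u (Submodule.subset_span (Set.mem_insert _ _)))
    obtain ⟨h, hh, hhs⟩ := siegel_rat_mem hQ hV hn hH (congrArg Subtype.val hv) hvy
    obtain ⟨p, hp⟩ := exists_up hαr
    refine ratLine_centre_orth hQ hV hn hMS hH hB hroot (M.mul_mem (M.mul_mem hg hh) (M.inv_mem hg))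
      (by rw [mem_isometry.1 hgI]; exact congrArg Subtype.val hv) (by rw [pol_mv hQ hgI]; exact hvy)
      (isSiegel_conj hQ hgI hhs) (by rw [mem_isometry.1 hgI]; exact (qDown hV y).2)
      (by rw [mem_isometry.1 hgI]; exact fun h0 => hyq (Subtype.ext h0)) (u := p)
      (fun h0 => up_ne_zero (F := F) hu0 (by
        rw [h0, up_zero] at hp
        exact mv_inj g (((smul_eq_zero.1 hp).resolve_left hα).trans (mv_zero g).symm)))
      (by rw [← hp, q_smul hQ, mem_isometry.1 hgI, show Q (up u) = 0 from congrArg Subtype.val hu, mul_zero])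
      (by rw [← hp, pol_smul_left hQ, pol_mv hQ hgI, up_pol_zero hV huv, mul_zero])
      (by rw [← hp, pol_smul_left hQ, pol_mv hQ hgI, huy, mul_zero])
  have sing : ∀ v : ι → F₀, qDown hV v = 0 → RatLine F₀ (mv g (up v)) := by
    intro v hv
    obtain ⟨w, hw, hw0, hww⟩ := exists_singular h₀ (X := orth h₀ (Submodule.span F₀ ({v₀, v} : Set (ι → F₀))))
      (by have := hpair v₀ v; omega)
    exact move w v hw0 hww hv (by rw [pol_comm]; exact hw v (Submodule.subset_span (Set.mem_insert_of_mem _ rfl)))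
      (move v₀ w hv₀0 (Subtype.ext hv₀) hww (hw v₀ (Submodule.subset_span (Set.mem_insert _ _))) hline)
  exact srat_of_singular_lines hQ hV hn hMS hg sing

end Cfsg.Agent.Transvec.Orth
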