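/-
Orthogonal decompositions into small blocks with a distinguished orthogonal frame in each block.
-/
import Cfsg.Agent.Lib.Transvec.OrthWreathTools
set_option autoImplicit false

namespace Cfsg.Agent.Transvec.Orth

open scoped Matrix
open Matrix Cfsg.Agent.Transvec

variable {ι : Type} [Fintype ι] [DecidableEq ι] {F : Type*} [Field F] [Fintype F] {Q : (ι → F) → F}
variable (hQ : Geo.IsNondegenerateQuadraticForm Q)
include hQ
variable {t k : ℕ} {D : Fin t → Submodule F (ι → F)} (hD : Geo.IsOrthogonalMDecomposition Q k D)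
include hD

/-- If the vectors of a given value in each block are orthogonal or opposite, then the decomposition stabiliser is
not maximal. -/
theorem frame_not_maximal (hn : 7 ≤ Fintype.card ι) (h2 : (2 : F) ≠ 0) (hk : 2 ≤ k) (ht : 4 ≤ t) {κ : F}
    (hκ : κ ≠ 0) (hex : ∀ i, ∃ x ∈ D i, Q x = κ)
    (hpr : ∀ i, ∀ x ∈ D i, ∀ y ∈ D i, Q x = κ → Q y = κ → y = x ∨ y = -x ∨ pol Q x y = 0) :
    ∃ K : Subgroup (GL ι F), Geo.decompositionStabilizer D ⊓ Geo.omegaGL Q < K ∧ K < Geo.omegaGL Q := by
  classical
  obtain ⟨S, hS⟩ : ∃ S : Set (ι → F), S = {v | Q v = κ ∧ ∃ i, v ∈ D i} := ⟨_, rfl⟩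
  have hSt : ∀ {g : GL ι F}, g ∈ isometryGroup F Q → (∀ v ∈ S, mv g v ∈ S) →
      g ∈ stabilizing (glToMat ι F) S := by
    intro g hg hgS v
    refine ⟨hgS v, fun hv => ?_⟩
    have himg : mv g '' S = S := Set.eq_of_subset_of_ncard_le (Set.image_subset_iff.2 hgS)
      (le_of_eq (Set.ncard_image_of_injective S fun a b hab => mv_inj g hab).symm)
    obtain ⟨w, hw, hwv⟩ := himg.ge hv
    rwa [← mv_inj g hwv]
  choose x hx hxκ using hex
  set a : Fin t := ⟨0, by omega⟩
  set b : Fin t := ⟨1, by omega⟩
  set c : Fin t := ⟨2, by omega⟩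
  set d : Fin t := ⟨3, by omega⟩
  have hab : a ≠ b := fun h => by simp [a, b, Fin.ext_iff] at h
  have hac : a ≠ c := fun h => by simp [a, c, Fin.ext_iff] at h
  have had : a ≠ d := fun h => by simp [a, d, Fin.ext_iff] at h
  have hbc : b ≠ c := fun h => by simp [b, c, Fin.ext_iff] at h
  have hbd : b ≠ d := fun h => by simp [b, d, Fin.ext_iff] at h
  have hcd : c ≠ d := fun h => by simp [c, d, Fin.ext_iff] at h
  refine ⟨stabilizing (glToMat ι F) S ⊓ Geo.omegaGL Q, lt_of_le_of_ne (fun g hg => ⟨?_, hg.2⟩) fun he => ?_,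
    lt_of_le_of_ne inf_le_right fun he => ?_⟩
  · have hI := omega_le_isometry hQ hg.2
    obtain ⟨σ, hσ⟩ := hg.1
    refine hSt hI fun v hv => ?_
    rw [hS] at hv ⊢
    obtain ⟨hv, i, hi⟩ := hv
    exact ⟨by rw [mem_isometry.1 hI, hv], σ i, (hσ i).le ⟨v, hi, by simp [mv]⟩⟩
  · have val : ∀ {p q : Fin t}, p ≠ q → Q (x p - x q) = 2 * κ := fun h => by
      rw [q_sub hQ, hxκ, hxκ, block_orth hD h (hx _) (hx _)]; ring
    have h2κ : (2 : F) * κ ≠ 0 := mul_ne_zero h2 hκ
    obtain ⟨r, hr, hr'⟩ := exists_refl hQ (a := x a - x b) (by rw [val hab]; exact h2κ)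
    obtain ⟨s, hs, hs'⟩ := exists_refl hQ (a := x c - x d) (by rw [val hcd]; exact h2κ)
    have hgO : r * s ∈ Geo.omegaGL Q := refl_pair_mem hQ hn hr hr' hs' (by rw [val hab, val hcd])
    -- one swapping reflection preserves S
    have swap : ∀ {p q : Fin t} {r : GL ι F}, p ≠ q → IsRefl Q r (x p - x q) → ∀ v ∈ S, mv r v ∈ S := by
      intro p q r hpq hr v hv
      rw [hS] at hv ⊢
      obtain ⟨hv, i, hi⟩ := hv
      have hrv : ∀ w, mv r w = w - ((pol Q w (x p) - pol Q w (x q)) / (2 * κ)) • (x p - x q) := fun w => by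
        rw [hr.2, val hpq, pol_sub_right hQ]
      have hneg : mv r (-v) = -mv r v := by rw [← neg_one_smul F v, mv_smul, neg_one_smul]
      have key : ∀ {p q : Fin t}, p ≠ q → v ∈ D p → v ≠ x p → v ≠ -x p → pol Q v (x p) = 0 ∧ pol Q v (x q) = 0 :=
        fun {p q} hpq hv' h1 h2' => ⟨by
          rw [pol_comm]
          exact ((hpr p (x p) (hx p) v hv' (hxκ p) hv).resolve_left h1).resolve_left h2',
          block_orth hD hpq hv' (hx q)⟩
      have hp2 : mv r (x p) = x q := by
        rw [hrv, pol_self hQ, hxκ, block_orth hD hpq (hx p) (hx q), sub_zero, div_self h2κ, one_smul,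
          sub_sub_cancel]
      have hq2 : mv r (x q) = x p := by
        rw [hrv, pol_self hQ, hxκ, block_orth hD hpq.symm (hx q) (hx p), zero_sub, neg_div, div_self h2κ]
        module
      by_cases h1 : i = p
      · subst h1
        by_cases e1 : v = x i
        · rw [e1, hp2]; exact ⟨hxκ q, q, hx q⟩
        by_cases e2 : v = -x i
        · rw [e2, ← neg_one_smul F (x i), mv_smul, hp2, neg_one_smul]
          exact ⟨by rw [q_neg hQ, hxκ], q, (D q).neg_mem (hx q)⟩
        obtain ⟨k1, k2⟩ := key hpq hi e1 e2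
        rw [hrv, k1, k2, sub_zero, zero_div, zero_smul, sub_zero]
        exact ⟨hv, i, hi⟩
      by_cases h2' : i = q
      · subst h2'
        by_cases e1 : v = x i
        · rw [e1, hq2]; exact ⟨hxκ p, p, hx p⟩
        by_cases e2 : v = -x i
        · rw [e2, ← neg_one_smul F (x i), mv_smul, hq2, neg_one_smul]
          exact ⟨by rw [q_neg hQ, hxκ], p, (D p).neg_mem (hx p)⟩
        obtain ⟨k1, k2⟩ := key hpq.symm hi e1 e2
        rw [hrv, k1, k2, sub_zero, zero_div, zero_smul, sub_zero]
        exact ⟨hv, i, hi⟩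
      rw [hrv, block_orth hD h1 hi (hx p), block_orth hD h2' hi (hx q), sub_zero, zero_div, zero_smul, sub_zero]
      exact ⟨hv, i, hi⟩
    obtain ⟨σ, hσ⟩ := (he.ge ⟨hSt (omega_le_isometry hQ hgO) fun v hv => by
      rw [mv_mul]; exact swap hab hr' _ (swap hcd hs' v hv), hgO⟩).1
    obtain ⟨hP, hPd⟩ := nondeg_perp hQ h2 (block_nondeg hD a) (hx a) (hxκ a ▸ hκ)
    rw [hD.decomp.decomp.finrank_eq] at hPd
    obtain ⟨z, hz, hzz⟩ := exists_anisotropic hQ hP fun h => by rw [h, finrank_bot] at hPd; omega
    have hgz : mv (r * s) z = z := by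
      rw [mv_mul, isRefl_fix hs' (by rw [pol_sub_right hQ, block_orth hD hac hz.1 (hx c),
        block_orth hD had hz.1 (hx d), sub_zero]), isRefl_fix hr' (by
        rw [pol_sub_right hQ, pol_comm z (x a), hz.2 (x a) (Submodule.mem_span_singleton_self _),
          block_orth hD hab hz.1 (hx b), sub_zero])]
    have hga : mv (r * s) (x a) = x b := by
      rw [mv_mul, isRefl_fix hs' (by rw [pol_sub_right hQ, block_orth hD hac (hx a) (hx c),
        block_orth hD had (hx a) (hx d), sub_zero]),
        isRefl_move hQ (by rw [hxκ, hxκ]) hr']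
    have hzm : mv (r * s) z ∈ D (σ a) := (hσ a).le ⟨z, hz.1, by simp [mv]⟩
    have hxm : mv (r * s) (x a) ∈ D (σ a) := (hσ a).le ⟨x a, hx a, by simp [mv]⟩
    rw [hgz] at hzm
    rw [hga] at hxm
    by_cases h : σ a = a
    · rw [h] at hxm
      have := block_orth hD hab hxm (hx b)
      rw [pol_self hQ, hxκ] at this
      exact h2κ this
    · have := block_orth hD (Ne.symm h) hz.1 hzm
      rw [pol_self hQ] at this
      exact mul_ne_zero h2 hzz this
  · obtain ⟨β, γ, hβ0, hβγ⟩ : ∃ β γ : F, β ≠ 0 ∧ β ^ 2 + γ ^ 2 = -1 := by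
      obtain ⟨β, γ, h⟩ := exists_two_squares hQ h2 (-1 : F)
      by_cases hβ : β = 0
      · refine ⟨γ, β, fun hγ => ?_, by linear_combination h⟩
        rw [hβ, hγ] at h
        exact one_ne_zero (α := F) (by linear_combination h)
      · exact ⟨β, γ, hβ, h⟩
    set u := x a + β • x b + γ • x c with hu
    have hud : pol Q u (x d) = 0 := by
      rw [hu, pol_add_left hQ, pol_add_left hQ, pol_smul_left hQ, pol_smul_left hQ, block_orth hD had (hx a) (hx d),
        block_orth hD hbd (hx b) (hx d), block_orth hD hcd (hx c) (hx d)]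
      ring
    have huu : Q u = 0 := by
      rw [hu, q_add hQ, q_add hQ, q_smul hQ, q_smul hQ, pol_add_left hQ, pol_smul_left hQ, pol_smul_right hQ,
        pol_smul_right hQ, pol_smul_right hQ, hxκ, hxκ, hxκ, block_orth hD hab (hx a) (hx b),
        block_orth hD hac (hx a) (hx c), block_orth hD hbc (hx b) (hx c)]
      linear_combination κ * hβγ
    obtain ⟨g, -, hg⟩ := exists_siegel hQ huu hud
    have hau : pol Q (x a) u = 2 * κ := by
      rw [hu, pol_add_right hQ, pol_add_right hQ, pol_smul_right hQ, pol_smul_right hQ, pol_self hQ, hxκ,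
        block_orth hD hab (hx a) (hx b), block_orth hD hac (hx a) (hx c)]
      ring
    have hgx : mv g (x a) = x a + (2 * κ) • x d - (2 * κ * κ) • u := by
      rw [hg, hau, block_orth hD had (hx a) (hx d), hxκ]; module
    have hmem := ((he.ge (siegel_mem_omega hQ hn huu hud hg)).1 (x a)).1 (hS ▸ ⟨hxκ a, a, hx a⟩)
    rw [hS] at hmem
    obtain ⟨-, i, hi⟩ := hmem
    change mv g (x a) ∈ D i at hi
    rw [hgx] at hi
    by_cases hib : i = b
    · have h1 := block_orth hD (Ne.symm (hib ▸ hbd : i ≠ d)) (hx d) hi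
      rw [pol_sub_right hQ, pol_add_right hQ, pol_smul_right hQ, pol_smul_right hQ, block_orth hD had.symm (hx d)
        (hx a), pol_self hQ, hxκ, pol_comm (x d) u, hud] at h1
      exact mul_ne_zero (mul_ne_zero h2 hκ) (mul_ne_zero h2 hκ) (by linear_combination h1)
    · have h1 := block_orth hD (Ne.symm hib) (hx b) hi
      rw [hu, pol_sub_right hQ, pol_add_right hQ, pol_smul_right hQ, pol_smul_right hQ, pol_add_right hQ,
        pol_add_right hQ, pol_smul_right hQ, pol_smul_right hQ, block_orth hD hab.symm (hx b) (hx a),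
        block_orth hD hbd (hx b) (hx d), pol_self hQ, hxκ, block_orth hD hbc (hx b) (hx c)] at h1
      exact mul_ne_zero (mul_ne_zero (mul_ne_zero h2 hκ) (mul_ne_zero hβ0 h2)) (mul_ne_zero hκ hκ)
        (by linear_combination -h1)

omit hD in
theorem three_cases (hq : Fintype.card F = 3) {c : F} (hc : c ≠ 0) : c ^ 2 = 1 := by
  have := FiniteField.pow_card_sub_one_eq_one c hc
  rwa [hq] at this

omit hQ hD in
theorem card_le_three_cases (hq : Fintype.card F = 3) {c : F} (hc : c ≠ 0) : c = 1 ∨ c = -1 := by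
  have := FiniteField.pow_card_sub_one_eq_one c hc
  rw [hq] at this
  exact sq_eq_one_iff.1 this

/-- Over three elements the blocks of dimension two and three carry frames. -/
theorem frame_three (hn : 13 ≤ Fintype.card ι) (hq : Fintype.card F = 3) (hk : k = 2 ∨ k = 3) :
    ∃ K : Subgroup (GL ι F), Geo.decompositionStabilizer D ⊓ Geo.omegaGL Q < K ∧ K < Geo.omegaGL Q := by
  classical
  have h2 : (2 : F) ≠ 0 := two_ne_zero_of_odd_card (by rw [hq]; decide)
  have hI : DirectSum.IsInternal D :=
    DirectSum.isInternal_submodule_of_iSupIndep_of_iSup_eq_top hD.decomp.decomp.indep hD.decomp.decomp.iSup_eq_top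
  let B : ∀ i, Module.Basis (Fin k) F (D i) := fun i =>
    Module.finBasisOfFinrankEq F (D i) (hD.decomp.decomp.finrank_eq i)
  have hcard := Module.finrank_eq_card_basis (hI.collectedBasis B)
  rw [Module.finrank_pi, Fintype.card_sigma] at hcard
  simp only [Fintype.card_fin, Finset.sum_const, Finset.card_univ, smul_eq_mul] at hcard
  have ht : 4 ≤ t := by
    rcases hk with rfl | rfl <;> omega
  have hpos : 0 < t := by omega
  set o : Fin t := ⟨0, hpos⟩
  have hXo := block_nondeg hD o
  have hfr := hD.decomp.decomp.finrank_eq o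
  -- a frame in one block
  obtain ⟨κ, hκ, ⟨x, hx, hxκ⟩, hpr⟩ : ∃ κ : F, κ ≠ 0 ∧ (∃ x ∈ D o, Q x = κ) ∧
      ∀ x ∈ D o, ∀ y ∈ D o, Q x = κ → Q y = κ → y = x ∨ y = -x ∨ pol Q x y = 0 := by
    rcases hk with hk2 | hk3
    · refine ⟨1, one_ne_zero, exists_value_plane hQ h2 hXo (by omega) 1, fun x hx y hy hxx hyy => ?_⟩
      obtain ⟨hP, hPd⟩ := nondeg_perp hQ h2 hXo hx (by rw [hxx]; exact one_ne_zero)
      set P := D o ⊓ orth hQ (Submodule.span F {x}) with hPdef
      set α := pol Q y x / 2 with hα
      set p := y - α • x with hp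
      have hpP : p ∈ P := ⟨(D o).sub_mem hy ((D o).smul_mem _ hx), (mem_orth_span hQ).2 (by
        rintro w rfl
        rw [hp, pol_sub_right hQ, pol_smul_right hQ, pol_self hQ, hxx, hα, pol_comm w y]
        field_simp
        ring)⟩
      by_cases hα0 : α = 0
      · refine Or.inr (Or.inr ?_)
        rw [pol_comm]
        rw [hα, div_eq_zero_iff, or_iff_left h2] at hα0
        exact hα0
      have hxp : pol Q x p = 0 := hpP.2 x (Submodule.mem_span_singleton_self x)
      have hQp : Q p = 0 := by
        have h := q_add hQ p (α • x)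
        rw [show p + α • x = y by rw [hp]; abel, q_smul hQ, pol_smul_right hQ, pol_comm p x, hxp, hxx, hyy,
          three_cases hQ hq hα0] at h
        linear_combination -h
      obtain ⟨z, hz, hzz⟩ := exists_anisotropic hQ hP fun h => by rw [h, finrank_bot] at hPd; omega
      have hz0 : z ≠ 0 := fun h => hzz (by rw [h, q_zero hQ])
      have hspan : Submodule.span F {z} = P :=
        Submodule.eq_of_le_of_finrank_le ((Submodule.span_singleton_le_iff_mem _ _).2 hz)
          (by rw [finrank_span_singleton hz0]; omega)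
      obtain ⟨c, hc⟩ := Submodule.mem_span_singleton.1 (hspan.ge hpP)
      rw [← hc, q_smul hQ, mul_eq_zero, or_iff_left hzz, pow_eq_zero_iff (two_ne_zero)] at hQp
      rw [hQp, zero_smul] at hc
      have hy' : y = α • x := sub_eq_zero.1 hc.symm
      rcases card_le_three_cases hq hα0 with h | h <;> rw [h] at hy'
      · exact Or.inl (by rw [hy', one_smul])
      · exact Or.inr (Or.inl (by rw [hy', neg_one_smul]))
    · obtain ⟨e, he, he0, hee⟩ := exists_singular hQ (X := D o) (by omega)
      obtain ⟨f, hf, hff, hef⟩ := exists_partner hQ hXo he he0 hee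
      obtain ⟨hPn, hP2⟩ := nondeg_pair hQ hee hff hef
      have hle : Submodule.span F ({e, f} : Set (ι → F)) ≤ D o := Submodule.span_le.2 (by
        rintro z (rfl | rfl) <;> assumption)
      have hd := finrank_inf_orth_add hQ hPn hle
      obtain ⟨z, hz, hzz⟩ := exists_anisotropic hQ (nondeg_inf_orth hQ hPn hXo hle) fun h => by
        rw [h, finrank_bot, hP2] at hd; omega
      have hez : pol Q e z = 0 := hz.2 e (Submodule.subset_span (Set.mem_insert _ _))
      have hfz : pol Q f z = 0 := hz.2 f (Submodule.subset_span (Set.mem_insert_of_mem _ rfl))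
      have hze : pol Q z e = 0 := (pol_comm _ _).trans hez
      have hzf : pol Q z f = 0 := (pol_comm _ _).trans hfz
      have hfe : pol Q f e = 1 := (pol_comm _ _).trans hef
      set c := Q z with hc
      set w := e + c • f with hw
      set f₁ := e - c • f with hf₁
      set f₂ := z + w with hf₂
      set f₃ := z - w with hf₃
      have h3 : (3 : F) = 0 := by
        have h := FiniteField.cast_card_eq_zero F
        rw [hq] at h
        exact_mod_cast h
      have hev : ∀ x₁ x₂ x₃ : F, Q (x₁ • f₁ + x₂ • f₂ + x₃ • f₃) = -c * (x₁ ^ 2 + x₂ ^ 2 + x₃ ^ 2) := by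
        intro x₁ x₂ x₃
        rw [show x₁ • f₁ + x₂ • f₂ + x₃ • f₃ = (x₁ + x₂ - x₃) • e + (c * (-x₁ + x₂ - x₃)) • f + (x₂ + x₃) • z by
          rw [hf₁, hf₂, hf₃, hw]; module]
        rw [q_add hQ, q_add hQ, q_smul hQ, q_smul hQ, q_smul hQ, pol_add_left hQ, pol_smul_left hQ, pol_smul_left hQ,
          pol_smul_left hQ, pol_smul_right hQ, pol_smul_right hQ, pol_smul_right hQ, hee, hff, hef, hez, hfz]
        linear_combination c * (x₂ ^ 2 + x₃ ^ 2) * h3
      have hmem : f₁ ∈ D o ∧ f₂ ∈ D o ∧ f₃ ∈ D o := by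
        have hwm : w ∈ D o := (D o).add_mem he ((D o).smul_mem _ hf)
        exact ⟨(D o).sub_mem he ((D o).smul_mem _ hf), (D o).add_mem hz.1 hwm, (D o).sub_mem hz.1 hwm⟩
      let T : (Fin 3 → F) →ₗ[F] (ι → F) :=
        { toFun := fun v => v 0 • f₁ + v 1 • f₂ + v 2 • f₃
          map_add' := fun u v => by simp only [Pi.add_apply]; module
          map_smul' := fun r v => by simp only [Pi.smul_apply, RingHom.id_apply, smul_eq_mul]; module }
      have hrange : ∀ y ∈ D o, ∃ v, T v = y := by
        have hinj : Function.Injective T := by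
          rw [← LinearMap.ker_eq_bot, LinearMap.ker_eq_bot']
          intro v hv
          change v 0 • f₁ + v 1 • f₂ + v 2 • f₃ = 0 at hv
          have h1 := congrArg (fun w => pol Q w e) hv
          have h2' := congrArg (fun w => pol Q w f) hv
          have h3' := congrArg (fun w => pol Q w z) hv
          simp only [hf₁, hf₂, hf₃, hw, pol_add_left hQ, pol_sub_left hQ, pol_smul_left hQ, pol_zero_left hQ,
            pol_self hQ, hee, hff, hef, hfe, hez, hfz, hze, hzf, ← hc, mul_zero, mul_one, add_zero, zero_add,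
            sub_zero, zero_sub] at h1 h2' h3'
          have k1 : v 0 + v 1 - v 2 = 0 := by linear_combination h2'
          have k2 : -v 0 + v 1 - v 2 = 0 := (mul_eq_zero.1 (show c * (-v 0 + v 1 - v 2) = 0 by
            linear_combination h1)).resolve_left hzz
          have k3 : v 1 + v 2 = 0 := (mul_eq_zero.1 (show (2 * c) * (v 1 + v 2) = 0 by
            linear_combination h3')).resolve_left (mul_ne_zero h2 hzz)
          have e0 : v 0 = 0 := (mul_eq_zero.1 (show (2 : F) * v 0 = 0 by linear_combination k1 - k2)).resolve_left h2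
          have e1 : v 1 = 0 := (mul_eq_zero.1 (show (2 : F) * v 1 = 0 by
            linear_combination k1 + k3 - e0)).resolve_left h2
          have e2 : v 2 = 0 := by linear_combination k3 - e1
          ext i; fin_cases i <;> assumption
        intro y hy
        have := Submodule.eq_of_le_of_finrank_le (S₁ := LinearMap.range T) (S₂ := D o)
          (by
            rintro _ ⟨v, rfl⟩
            exact (D o).add_mem ((D o).add_mem ((D o).smul_mem _ hmem.1) ((D o).smul_mem _ hmem.2.1))
              ((D o).smul_mem _ hmem.2.2))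
          (by rw [LinearMap.finrank_range_of_inj hinj, Module.finrank_fin_fun]; omega)
        exact this.ge hy
      refine ⟨-c, neg_ne_zero.2 hzz, ⟨f₁, hmem.1, by simpa using hev 1 0 0⟩, fun x hx y hy hxx hyy => ?_⟩
      -- coordinates of a vector of value -c
      have coord : ∀ y ∈ D o, Q y = -c → ∃ v : Fin 3 → F, T v = y ∧
          ∃ i, v i ≠ 0 ∧ ∀ j, j ≠ i → v j = 0 := by
        intro y hy hyy
        obtain ⟨v, rfl⟩ := hrange y hy
        refine ⟨v, rfl, ?_⟩
        have h1 : Q (T v) = -c * (v 0 ^ 2 + v 1 ^ 2 + v 2 ^ 2) := hev _ _ _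
        rw [hyy] at h1
        have hs : v 0 ^ 2 + v 1 ^ 2 + v 2 ^ 2 = 1 := by
          apply mul_left_cancel₀ (neg_ne_zero.2 hzz)
          linear_combination -h1
        have sq : ∀ i, v i = 0 ∨ v i ^ 2 = 1 := fun i => (em _).imp_right (three_cases hQ hq)
        have h2one : (1 : F) + 1 ≠ 1 := fun h => one_ne_zero (α := F) (by linear_combination h)
        by_cases a0 : v 0 = 0
        · by_cases a1 : v 1 = 0
          · refine ⟨2, fun h => one_ne_zero (α := F) ?_, fun j hj => ?_⟩
            · rw [a0, a1, h] at hs; linear_combination -hs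
            · fin_cases j <;> simp_all
          · refine ⟨1, a1, fun j hj => ?_⟩
            have : v 2 = 0 := (sq 2).resolve_right fun h => h2one (by
              rw [a0, three_cases hQ hq a1, h] at hs; linear_combination hs)
            fin_cases j <;> simp_all
        · refine ⟨0, a0, fun j hj => ?_⟩
          have a : v 1 = 0 ∧ v 2 = 0 := by
            rcases sq 1 with a1 | a1 <;> rcases sq 2 with a2 | a2
            · exact ⟨a1, a2⟩
            · exact absurd (by rw [a1, three_cases hQ hq a0, a2] at hs; linear_combination hs) h2one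
            · exact absurd (by rw [a2, three_cases hQ hq a0, a1] at hs; linear_combination hs) h2one
            · rw [three_cases hQ hq a0, a1, a2] at hs
              exact absurd (show (2 : F) = 0 by linear_combination hs) h2
          fin_cases j <;> simp_all
      obtain ⟨v, hv, i, hvi, hvo⟩ := coord x hx hxx
      obtain ⟨v', hv', i', hvi', hvo'⟩ := coord y hy hyy
      by_cases hii : i = i'
      · subst hii
        have hvv : v' = (v' i / v i) • v := funext fun j => by
          rcases eq_or_ne j i with rfl | hj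
          · simp [div_mul_cancel₀ _ hvi]
          · simp [hvo j hj, hvo' j hj]
        have hyx : y = (v' i / v i) • x := by rw [← hv, ← hv', ← map_smul, ← hvv]
        rcases card_le_three_cases hq (div_ne_zero hvi' hvi) with h | h <;> rw [h] at hyx
        · exact Or.inl (by rw [hyx, one_smul])
        · exact Or.inr (Or.inl (by rw [hyx, neg_one_smul]))
      · refine Or.inr (Or.inr ?_)
        have h1 : Q (T v + T v') = Q (T v) + Q (T v') + pol Q (T v) (T v') := q_add hQ _ _
        rw [← map_add] at h1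
        have e : ∀ w, Q (T w) = -c * (w 0 ^ 2 + w 1 ^ 2 + w 2 ^ 2) := fun w => hev _ _ _
        rw [e, e, e, hv, hv'] at h1
        have hprod : ∀ j, v j * v' j = 0 := fun j => by
          rcases eq_or_ne j i with rfl | hj
          · rw [hvo' j hii, mul_zero]
          · rw [hvo j hj, zero_mul]
        simp only [Pi.add_apply] at h1
        linear_combination -h1 - 2 * c * hprod 0 - 2 * c * hprod 1 - 2 * c * hprod 2
  -- transport
  refine frame_not_maximal hQ hD (by omega) h2 (by omega) ht hκ (fun i => ?_) fun i p hp q hq' hpp hqq => ?_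
  · obtain ⟨e, he⟩ := hD.isometric o i
    exact ⟨e ⟨x, hx⟩, (e ⟨x, hx⟩).2, by rw [he]; exact hxκ⟩
  obtain ⟨e, he⟩ := hD.isometric i o
  rcases hpr _ (e ⟨p, hp⟩).2 _ (e ⟨q, hq'⟩).2 (by rw [he]; exact hpp) (by rw [he]; exact hqq) with h | h | h
  · exact Or.inl (congrArg Subtype.val (e.injective (Subtype.ext h)))
  · refine Or.inr (Or.inl ?_)
    have : e ⟨q, hq'⟩ = e (-⟨p, hp⟩) := Subtype.ext (by rw [map_neg]; exact h)
    exact congrArg Subtype.val (e.injective this)
  · refine Or.inr (Or.inr ?_)
    have h1 := he (⟨p, hp⟩ + ⟨q, hq'⟩)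
    rw [map_add, Submodule.coe_add, Submodule.coe_add, q_add hQ, q_add hQ, h, he, he] at h1
    linear_combination -h1

end Cfsg.Agent.Transvec.Orth
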