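/-
Orthogonal decompositions into hyperbolic blocks of small dimension over fields with two and four elements.
-/
import Cfsg.Agent.Lib.Transvec.OrthFrame
set_option autoImplicit false

namespace Cfsg.Agent.Transvec.Orth

open scoped Matrix
open Matrix Cfsg.Agent.Transvec

variable {ι : Type} [Fintype ι] [DecidableEq ι] {F : Type*} [Field F] [Fintype F] {Q : (ι → F) → F}
variable (hQ : Geo.IsNondegenerateQuadraticForm Q)
include hQ

omit hQ in
/-- An injective map carrying a set into itself stabilises it. -/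
theorem mem_stabilizing_of_maps {g : GL ι F} {S : Set (ι → F)} (hgS : ∀ v ∈ S, mv g v ∈ S) :
    g ∈ stabilizing (glToMat ι F) S := by
  intro v
  refine ⟨hgS v, fun hv => ?_⟩
  have himg : mv g '' S = S := Set.eq_of_subset_of_ncard_le (Set.image_subset_iff.2 hgS)
    (le_of_eq (Set.ncard_image_of_injective S fun a b hab => mv_inj g hab).symm)
  obtain ⟨w, hw, hwv⟩ := himg.ge hv
  rwa [← mv_inj g hwv]

variable {t k : ℕ} {D : Fin t → Submodule F (ι → F)} (hD : Geo.IsOrthogonalMDecomposition Q k D)
include hD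

/-- Decompositions whose vectors of value one have products in a group of zeros and ones. -/
theorem closure_not_maximal (hn : 7 ≤ Fintype.card ι) (h2 : (2 : F) = 0) (ht : 4 ≤ t) (P : AddSubgroup F)
    (hP : ∀ c ∈ P, c = 0 ∨ c = 1) {γ : F} (hγ : γ ∉ P) (v e : Fin t → ι → F) (hv : ∀ i, v i ∈ D i)
    (he : ∀ i, e i ∈ D i) (hvq : ∀ i, Q (v i) = 1) (hee : ∀ i, Q (e i) = 0) (hev : ∀ i, pol Q (e i) (v i) = 1)
    (hpr : ∀ i, ∀ x ∈ D i, ∀ y ∈ D i, Q x = 1 → Q y = 1 → pol Q x y ∈ P) :
    ∃ K : Subgroup (GL ι F), Geo.decompositionStabilizer D ⊓ Geo.omegaGL Q < K ∧ K < Geo.omegaGL Q := by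
  classical
  obtain ⟨S, hS⟩ : ∃ S : Set (ι → F), S = {z | Q z = 1 ∧ ∃ i, z ∈ D i} := ⟨_, rfl⟩
  have hvS : ∀ i, v i ∈ AddSubgroup.closure S :=
    fun i => AddSubgroup.subset_closure (by rw [hS]; exact ⟨hvq i, i, hv i⟩)
  have hA : ∀ x ∈ AddSubgroup.closure S, ∀ y ∈ AddSubgroup.closure S, pol Q x y ∈ P := by
    have h1 : ∀ x ∈ AddSubgroup.closure S, ∀ y ∈ S, pol Q x y ∈ P := by
      intro x hx y hy
      induction hx using AddSubgroup.closure_induction with
      | mem x hx =>
        rw [hS] at hx hy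
        obtain ⟨hx, i, hi⟩ := hx
        obtain ⟨hy, j, hj⟩ := hy
        rcases eq_or_ne i j with rfl | hij
        · exact hpr i x hi y hj hx hy
        · rw [block_orth hD hij hi hj]; exact P.zero_mem
      | zero => rw [pol_zero_left hQ]; exact P.zero_mem
      | add a b _ _ ha hb => rw [pol_add_left hQ]; exact P.add_mem ha hb
      | neg a _ ha => rw [pol_neg_left hQ]; exact P.neg_mem ha
    intro x hx y hy
    induction hy using AddSubgroup.closure_induction with
    | mem y hy => exact h1 x hx y hy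
    | zero => rw [pol_zero_right hQ]; exact P.zero_mem
    | add a b _ _ ha hb => rw [pol_add_right hQ]; exact P.add_mem ha hb
    | neg a _ ha => rw [pol_neg_right hQ]; exact P.neg_mem ha
  set a : Fin t := ⟨0, by omega⟩
  set b : Fin t := ⟨1, by omega⟩
  set c : Fin t := ⟨2, by omega⟩
  set d : Fin t := ⟨3, by omega⟩
  have hab : a ≠ b := fun h => by simp [a, b, Fin.ext_iff] at h
  have hac : a ≠ c := fun h => by simp [a, c, Fin.ext_iff] at h
  have had : a ≠ d := fun h => by simp [a, d, Fin.ext_iff] at h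
  have hbc : b ≠ c := fun h => by simp [b, c, Fin.ext_iff] at h
  refine ⟨stabilizing (glToMat ι F) (AddSubgroup.closure S : Set (ι → F)) ⊓ Geo.omegaGL Q,
    lt_of_le_of_ne (fun g hg => ⟨?_, hg.2⟩) fun h => ?_, lt_of_le_of_ne inf_le_right fun h => ?_⟩
  · have hI := omega_le_isometry hQ hg.2
    obtain ⟨σ, hσ⟩ := hg.1
    refine mem_stabilizing_of_maps fun z hz => ?_
    change z ∈ AddSubgroup.closure S at hz
    change mv g z ∈ AddSubgroup.closure S
    induction hz using AddSubgroup.closure_induction with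
    | mem z hz =>
      refine AddSubgroup.subset_closure ?_
      rw [hS] at hz ⊢
      obtain ⟨hz, i, hi⟩ := hz
      exact ⟨by rw [mem_isometry.1 hI, hz], σ i, (hσ i).le ⟨z, hi, by simp [mv]⟩⟩
    | zero => rw [mv_zero]; exact zero_mem _
    | add x y _ _ hx hy => rw [mv_add]; exact add_mem hx hy
    | neg x _ hx => rw [← neg_one_smul F x, mv_smul, neg_one_smul]; exact neg_mem hx
  · set w := v a + v b + v c with hw
    have hwA : w ∈ AddSubgroup.closure S := add_mem (add_mem (hvS a) (hvS b)) (hvS c)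
    have hwq : Q w = 1 := by
      rw [hw, q_add hQ, q_add hQ, pol_add_left hQ, hvq, hvq, hvq, block_orth hD hab (hv a) (hv b),
        block_orth hD hac (hv a) (hv c), block_orth hD hbc (hv b) (hv c)]
      linear_combination h2
    obtain ⟨r, hr, hr'⟩ := exists_refl hQ (a := w) (by rw [hwq]; exact one_ne_zero)
    obtain ⟨s, hs, hs'⟩ := exists_refl hQ (a := v d) (by rw [hvq]; exact one_ne_zero)
    have keep : ∀ {r : GL ι F} {w : ι → F}, w ∈ AddSubgroup.closure S → Q w = 1 → IsRefl Q r w →
        ∀ z ∈ AddSubgroup.closure S, mv r z ∈ AddSubgroup.closure S := by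
      intro r w hw hq hr z hz
      rw [hr.2, hq, div_one]
      rcases hP _ (hA z hz w hw) with h | h <;> rw [h]
      · rw [zero_smul, sub_zero]; exact hz
      · rw [one_smul]; exact sub_mem hz hw
    have hgO : r * s ∈ Geo.omegaGL Q := refl_pair_mem hQ hn hr hr' hs' (by rw [hwq, hvq])
    obtain ⟨σ, hσ⟩ := (h.ge ⟨mem_stabilizing_of_maps fun z hz => by
      rw [mv_mul]; exact keep hwA hwq hr' _ (keep (hvS d) (hvq d) hs' z hz), hgO⟩).1
    have hew : pol Q (e a) w = 1 := by
      rw [hw, pol_add_right hQ, pol_add_right hQ, hev, block_orth hD hab (he a) (hv b),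
        block_orth hD hac (he a) (hv c), add_zero, add_zero]
    have hgm : mv (r * s) (e a) = e a - w := by
      rw [mv_mul, isRefl_fix hs' (block_orth hD had (he a) (hv d)), hr'.2, hew, hwq, div_one, one_smul]
    have hm : mv (r * s) (e a) ∈ D (σ a) := (hσ a).le ⟨e a, he a, by simp [mv]⟩
    rw [hgm] at hm
    have key : ∀ i, i ≠ a → σ a ≠ i → pol Q w (e i) = 0 := fun i hi hσi => by
      have h1 := block_orth hD hσi hm (he i)
      rw [pol_sub_left hQ, block_orth hD (Ne.symm hi) (he a) (he i)] at h1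
      linear_combination -h1
    by_cases hb : σ a = b
    · have h1 := key c hac.symm (by rw [hb]; exact hbc)
      rw [hw, pol_add_left hQ, pol_add_left hQ, block_orth hD hac (hv a) (he c), block_orth hD hbc (hv b) (he c),
        zero_add, zero_add, pol_comm, hev] at h1
      exact one_ne_zero h1
    · have h1 := key b hab.symm hb
      rw [hw, pol_add_left hQ, pol_add_left hQ, block_orth hD hab (hv a) (he b),
        block_orth hD hbc.symm (hv c) (he b), zero_add, add_zero, pol_comm, hev] at h1
      exact one_ne_zero h1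
  · have hu : pol Q (e c) (γ • e b) = 0 := by
      rw [pol_smul_right hQ, block_orth hD hbc.symm (he c) (he b), mul_zero]
    obtain ⟨g, -, hg⟩ := exists_siegel hQ (hee c) hu
    have hmem : mv g (v c) ∈ AddSubgroup.closure S :=
      ((h.ge (siegel_mem_omega hQ hn (hee c) hu hg)).1 (v c)).1 (hvS c)
    have h1 := hA _ hmem _ (hvS b)
    rw [hg, pol_comm (v c) (e c), hev, pol_smul_right hQ, block_orth hD hbc.symm (hv c) (he b), mul_zero,
      q_smul hQ, hee, mul_zero, zero_mul, add_zero, zero_smul, sub_zero, one_smul, pol_add_left hQ,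
      block_orth hD hbc.symm (hv c) (hv b), pol_smul_left hQ, hev, mul_one, zero_add] at h1
    exact hγ h1

omit hD in
/-- Coordinates in a hyperbolic plane. -/
theorem plane_pair {X : Submodule F (ι → F)} (hX : Nondeg Q X) (h : Module.finrank F X = 2)
    (hp : Geo.IsPlusTypeOn Q X) : ∃ e ∈ X, ∃ f ∈ X, Q e = 0 ∧ Q f = 0 ∧ pol Q e f = 1 ∧
      ∀ x ∈ X, ∃ a b : F, x = a • e + b • f ∧ Q x = a * b := by
  obtain ⟨U, hU, hUs, hUd⟩ := hp
  obtain ⟨e, he, he0⟩ := U.ne_bot_iff.1 fun hb => by rw [hb, finrank_bot] at hUd; omega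
  obtain ⟨f, hf, hff, hef⟩ := exists_partner hQ hX (hU he) he0 (hUs e he)
  obtain ⟨-, hd⟩ := nondeg_pair hQ (hUs e he) hff hef
  have hspan := Submodule.eq_of_le_of_finrank_le (Submodule.span_le.2 (by
    rintro z (rfl | rfl)
    · exact hU he
    · exact hf) : Submodule.span F ({e, f} : Set (ι → F)) ≤ X) (by omega)
  refine ⟨e, hU he, f, hf, hUs e he, hff, hef, fun x hx => ?_⟩
  rw [← hspan] at hx
  obtain ⟨a, b, rfl⟩ := Submodule.mem_span_pair.1 hx
  refine ⟨a, b, rfl, ?_⟩
  rw [q_add hQ, q_smul hQ, q_smul hQ, hUs e he, hff, pol_smul_left hQ, pol_smul_right hQ, hef]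
  ring

/-- Hyperbolic planes over two or four elements. -/
theorem plus_planes_not_maximal (hn : 7 ≤ Fintype.card ι) (ht : 4 ≤ t) (hk : k = 2)
    (hp : ∀ i, Geo.IsPlusTypeOn Q (D i)) (hq : Fintype.card F = 2 ∨ Fintype.card F = 4) :
    ∃ K : Subgroup (GL ι F), Geo.decompositionStabilizer D ⊓ Geo.omegaGL Q < K ∧ K < Geo.omegaGL Q := by
  classical
  choose e he f hf hee hff hef hco using fun i =>
    plane_pair hQ (block_nondeg hD i) ((hD.decomp.decomp.finrank_eq i).trans hk) (hp i)
  have hcast := FiniteField.cast_card_eq_zero F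
  have h2 : (2 : F) = 0 := by
    rcases hq with hq | hq <;> rw [hq] at hcast
    · exact_mod_cast hcast
    · have h4 : (4 : F) = 0 := by exact_mod_cast hcast
      exact pow_eq_zero_iff (two_ne_zero (α := ℕ)) |>.1 (show (2 : F) ^ 2 = 0 by linear_combination h4)
  have hpolv : ∀ i, ∀ x ∈ D i, ∀ y ∈ D i, Q x = 1 → Q y = 1 →
      ∃ r : F, r ≠ 0 ∧ pol Q x y * r = r ^ 2 + 1 := by
    intro i x hx y hy hxx hyy
    obtain ⟨a, b, rfl, hxv⟩ := hco i x hx
    obtain ⟨c, d, rfl, hyv⟩ := hco i y hy
    rw [hxx] at hxv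
    rw [hyy] at hyv
    refine ⟨a * d, mul_ne_zero (left_ne_zero_of_mul (hxv ▸ one_ne_zero)) (right_ne_zero_of_mul (hyv ▸ one_ne_zero)), ?_⟩
    simp only [pol_add_left hQ, pol_add_right hQ, pol_smul_left hQ, pol_smul_right hQ, hef, pol_self hQ, hee, hff,
      pol_comm (f i) (e i)]
    linear_combination -(c * d) * hxv - hyv
  rcases hq with hq | hq
  · refine closure_not_maximal hQ hD hn h2 ht ⊥ (fun c hc => Or.inl (by simpa using hc)) (γ := 1) (by simp)
      (fun i => e i + f i) e (fun i => (D i).add_mem (he i) (hf i)) he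
      (fun i => by simp only [q_add hQ, hee, hff, hef, zero_add]) hee
      (fun i => by simp only [pol_add_right hQ, pol_self hQ, hee, hef, mul_zero, zero_add])
      fun i x hx y hy hxx hyy => ?_
    obtain ⟨r, hr, h⟩ := hpolv i x hx y hy hxx hyy
    have := FiniteField.pow_card_sub_one_eq_one r hr
    rw [hq, pow_one] at this
    rw [AddSubgroup.mem_bot]
    rw [this] at h
    linear_combination h + h2
  · let P : AddSubgroup F :=
      { carrier := {c | c = 0 ∨ c = 1}
        zero_mem' := Or.inl rfl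
        add_mem' := by
          rintro _ _ (rfl | rfl) (rfl | rfl)
          · exact Or.inl (add_zero _)
          · exact Or.inr (zero_add _)
          · exact Or.inr (add_zero _)
          · exact Or.inl (by linear_combination h2)
        neg_mem' := by
          rintro _ (rfl | rfl)
          · exact Or.inl neg_zero
          · exact Or.inr (by linear_combination -h2) }
    obtain ⟨γ, -, hγ⟩ := Finset.exists_mem_notMem_of_card_lt_card (s := ({0, 1} : Finset F))
      (t := Finset.univ) (lt_of_le_of_lt Finset.card_le_two (by rw [Finset.card_univ, hq]; norm_num))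
    refine closure_not_maximal hQ hD hn h2 ht P (fun c hc => hc) (γ := γ) (fun h => hγ (by
        rcases h with rfl | rfl <;> simp))
      (fun i => e i + f i) e (fun i => (D i).add_mem (he i) (hf i)) he
      (fun i => by simp only [q_add hQ, hee, hff, hef, zero_add]) hee
      (fun i => by simp only [pol_add_right hQ, pol_self hQ, hee, hef, mul_zero, zero_add])
      fun i x hx y hy hxx hyy => ?_
    obtain ⟨r, hr, h⟩ := hpolv i x hx y hy hxx hyy
    have h3 := FiniteField.pow_card_sub_one_eq_one r hr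
    rw [hq] at h3
    norm_num at h3
    rcases mul_eq_zero.1 (show (r - 1) * (r ^ 2 + r + 1) = 0 by linear_combination h3) with h4 | h4
    · refine Or.inl ?_
      rw [sub_eq_zero.1 h4] at h
      linear_combination h + h2
    · refine Or.inr (mul_right_cancel₀ hr ?_)
      linear_combination h + h4 - r * h2

/-- Hyperbolic blocks of dimension four over two elements refine into anisotropic planes. -/
theorem plus_fours_not_maximal (hn : 7 ≤ Fintype.card ι) (ht : 4 ≤ t) (hk : k = 4)
    (hp : ∀ i, Geo.IsPlusTypeOn Q (D i)) (hq : Fintype.card F = 2) :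
    ∃ K : Subgroup (GL ι F), Geo.decompositionStabilizer D ⊓ Geo.omegaGL Q < K ∧ K < Geo.omegaGL Q := by
  classical
  have h2 : (2 : F) = 0 := by
    have hcast := FiniteField.cast_card_eq_zero F
    rw [hq] at hcast
    exact_mod_cast hcast
  have h01 : ∀ c : F, c = 0 ∨ c = 1 := fun c => (em _).imp_right fun hc => by
    have := FiniteField.pow_card_sub_one_eq_one c hc
    rwa [hq, pow_one] at this
  have hself : ∀ z, pol Q z z = 0 := fun z => by rw [pol_self hQ, h2, zero_mul]
  have hex : ∀ i, ∃ x ∈ D i, ∃ y ∈ D i, ∃ z ∈ D i, Q x = 1 ∧ Q y = 1 ∧ Q z = 1 ∧ pol Q x y = 1 ∧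
      pol Q z x = 0 ∧ pol Q z y = 0 := by
    intro i
    obtain ⟨U, hU, hUs, hUd⟩ := hp i
    have hd := hD.decomp.decomp.finrank_eq i
    obtain ⟨e, he, he0⟩ := U.ne_bot_iff.1 fun hb => by rw [hb, finrank_bot] at hUd; omega
    obtain ⟨f, hf, hff, hef⟩ := exists_partner hQ (block_nondeg hD i) (hU he) he0 (hUs e he)
    obtain ⟨hn', hd2⟩ := nondeg_pair hQ (hUs e he) hff hef
    have hle : Submodule.span F ({e, f} : Set (ι → F)) ≤ D i := Submodule.span_le.2 (by
      rintro z (rfl | rfl)
      · exact hU he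
      · exact hf)
    have hsum := finrank_inf_orth_add hQ hn' hle
    obtain ⟨z, hz, hzz⟩ := exists_anisotropic hQ (nondeg_inf_orth hQ hn' (block_nondeg hD i) hle)
      fun hb => by rw [hb, finrank_bot] at hsum; omega
    have hez : pol Q e z = 0 := hz.2 e (Submodule.subset_span (Set.mem_insert _ _))
    have hfz : pol Q f z = 0 := hz.2 f (Submodule.subset_span (Set.mem_insert_of_mem _ rfl))
    have hz1 := (h01 _).resolve_left hzz
    refine ⟨e + f, (D i).add_mem (hU he) hf, e + z, (D i).add_mem (hU he) hz.1, z, hz.1, ?_, ?_, hz1, ?_, ?_, ?_⟩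
    · rw [q_add hQ, hUs e he, hff, hef, zero_add, zero_add]
    · rw [q_add hQ, hUs e he, hz1, hez, zero_add, add_zero]
    · rw [pol_add_left hQ, pol_add_right hQ, pol_add_right hQ, hself, hez, hfz, pol_comm f e, hef]; simp
    · rw [pol_add_right hQ, pol_comm z e, hez, pol_comm z f, hfz, add_zero]
    · rw [pol_add_right hQ, pol_comm z e, hez, hself, add_zero]
  -- two planes in each block
  have key : ∀ i, ∀ x ∈ D i, ∀ y ∈ D i, ∀ v ∈ D i, Q x = 1 → Q y = 1 → pol Q x y = 1 → Q v = 1 →
      (v = x ∨ v = y ∨ v = x + y) ∨ pol Q v x = 0 ∧ pol Q v y = 0 := by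
    intro i x hx y hy v hv hxx hyy hxy hvv
    have hyx : pol Q y x = 1 := (pol_comm y x).trans hxy
    have hmix : ∀ a b : F, Q (a • x + b • y) = 0 → a = 0 ∧ b = 0 := fun a b h => by
      rw [q_add hQ, q_smul hQ, q_smul hQ, hxx, hyy, pol_smul_left hQ, pol_smul_right hQ, hxy] at h
      rcases h01 a with rfl | rfl <;> rcases h01 b with rfl | rfl
      · exact ⟨rfl, rfl⟩
      · exact absurd (by linear_combination h) (one_ne_zero (α := F))
      · exact absurd (by linear_combination h) (one_ne_zero (α := F))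
      · exact absurd (by linear_combination h - h2) (one_ne_zero (α := F))
    have hdec : ∀ w, pol Q (w - pol Q w y • x - pol Q w x • y) x = 0 ∧
        pol Q (w - pol Q w y • x - pol Q w x • y) y = 0 := fun w => by
      simp only [pol_sub_left hQ, pol_smul_left hQ, hself, hxy, hyx, mul_zero, mul_one, sub_zero, sub_self, and_self]
    obtain ⟨U, hU, hUs, hUd⟩ := hp i
    have hd := hD.decomp.decomp.finrank_eq i
    -- singular vectors orthogonal to x and y lie in U
    have sing : ∀ p ∈ D i, p ≠ 0 → Q p = 0 → pol Q p x = 0 → pol Q p y = 0 → p ∈ U := by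
      intro p hp' hp0 hpp hpx hpy
      let T : (U × (Fin 3 → F)) →ₗ[F] (ι → F) :=
        { toFun := fun z => (z.1 : ι → F) + (z.2 0 • x + z.2 1 • y + z.2 2 • p)
          map_add' := fun a b => by simp only [Prod.fst_add, Prod.snd_add, Submodule.coe_add, Pi.add_apply]; module
          map_smul' := fun r a => by
            simp only [Prod.smul_fst, Prod.smul_snd, Submodule.coe_smul, Pi.smul_apply, RingHom.id_apply, smul_eq_mul]
            module }
      have hT : ¬ Function.Injective T := fun hinj => by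
        have h := Submodule.finrank_mono (s := LinearMap.range T) (t := D i) (by
          rintro _ ⟨z, rfl⟩
          exact (D i).add_mem (hU z.1.2) ((D i).add_mem ((D i).add_mem ((D i).smul_mem _ hx) ((D i).smul_mem _ hy))
            ((D i).smul_mem _ hp')))
        rw [LinearMap.finrank_range_of_inj hinj, Module.finrank_prod, Module.finrank_fin_fun] at h
        omega
      rw [← LinearMap.ker_eq_bot, LinearMap.ker_eq_bot'] at hT
      push Not at hT
      obtain ⟨⟨u, c⟩, hz, hne⟩ := hT
      change (u : ι → F) + (c 0 • x + c 1 • y + c 2 • p) = 0 at hz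
      have hu' : c 0 • x + c 1 • y + c 2 • p = -(u : ι → F) := eq_neg_of_add_eq_zero_right hz
      have hq0 : Q (c 0 • x + c 1 • y) = 0 := by
        have h := congrArg Q hu'
        rw [q_neg hQ, hUs u u.2, q_add hQ, q_smul hQ (c 2), hpp, pol_smul_right hQ, pol_add_left hQ,
          pol_smul_left hQ, pol_smul_left hQ, pol_comm x p, hpx, pol_comm y p, hpy] at h
        linear_combination h
      obtain ⟨ha, hb⟩ := hmix _ _ hq0
      rw [ha, hb, zero_smul, zero_smul, zero_add, zero_add] at hu'
      rcases h01 (c 2) with hc | hc <;> rw [hc] at hu'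
      · rw [zero_smul] at hu'
        refine absurd ?_ hne
        refine Prod.ext (Subtype.ext (neg_eq_zero.1 hu'.symm)) (funext fun j => ?_)
        fin_cases j <;> assumption
      · rw [one_smul] at hu'
        rw [hu']
        exact U.neg_mem u.2
    by_cases h00 : pol Q v x = 0 ∧ pol Q v y = 0
    · exact Or.inr h00
    left
    obtain ⟨hpx, hpy⟩ := hdec v
    set p := v - pol Q v y • x - pol Q v x • y with hpdef
    have hp' : p ∈ D i := (D i).sub_mem ((D i).sub_mem hv ((D i).smul_mem _ hx)) ((D i).smul_mem _ hy)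
    have hve : v = p + (pol Q v y • x + pol Q v x • y) := by rw [hpdef]; abel
    have hm1 : Q (pol Q v y • x + pol Q v x • y) = 1 :=
      (h01 _).resolve_left fun h => h00 ⟨(hmix _ _ h).2, (hmix _ _ h).1⟩
    have hpp : Q p = 0 := by
      have h := congrArg Q hve
      rw [hvv, q_add hQ, hm1, pol_add_right hQ, pol_smul_right hQ, pol_smul_right hQ, hpx, hpy] at h
      linear_combination -h
    have hp0 : p = 0 := by
      by_contra hp0
      obtain ⟨f₀, hf₀, -, hpf⟩ := exists_partner hQ (block_nondeg hD i) hp' hp0 hpp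
      obtain ⟨hfx, hfy⟩ := hdec f₀
      set f₁ := f₀ - pol Q f₀ y • x - pol Q f₀ x • y with hf₁
      have hpf1 : pol Q p f₁ = 1 := by
        rw [hf₁, pol_sub_right hQ, pol_sub_right hQ, pol_smul_right hQ, pol_smul_right hQ, hpf, hpx, hpy]
        ring
      have hf₂ : f₁ - Q f₁ • p ∈ D i :=
        (D i).sub_mem ((D i).sub_mem ((D i).sub_mem hf₀ ((D i).smul_mem _ hx)) ((D i).smul_mem _ hy))
          ((D i).smul_mem _ hp')
      have hpf2 : pol Q p (f₁ - Q f₁ • p) = 1 := by
        rw [pol_sub_right hQ, pol_smul_right hQ, hself, hpf1, mul_zero, sub_zero]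
      have hf2q : Q (f₁ - Q f₁ • p) = 0 := by
        rw [q_sub hQ, q_smul hQ, hpp, pol_smul_right hQ, pol_comm f₁ p, hpf1]; ring
      have hf2U := sing _ hf₂ (fun h => by rw [h, pol_zero_right hQ] at hpf2; exact zero_ne_one hpf2) hf2q
        (by rw [pol_sub_left hQ, pol_smul_left hQ, hfx, hpx]; ring)
        (by rw [pol_sub_left hQ, pol_smul_left hQ, hfy, hpy]; ring)
      have hpU := sing p hp' hp0 hpp hpx hpy
      have h := q_add hQ p (f₁ - Q f₁ • p)
      rw [hUs _ (U.add_mem hpU hf2U), hpp, hf2q, hpf2] at h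
      exact one_ne_zero (α := F) (by linear_combination -h)
    rw [hp0, zero_add] at hve
    rcases h01 (pol Q v y) with ha | ha <;> rcases h01 (pol Q v x) with hb | hb <;> rw [ha, hb] at hve
    · exact absurd ⟨hb, ha⟩ h00
    · exact Or.inr (Or.inl (by simpa using hve))
    · exact Or.inl (by simpa using hve)
    · exact Or.inr (Or.inr (by simpa using hve))
  choose x hx y hy z hz hxx hyy hzz hxy hzx hzy using hex
  obtain ⟨S, hS⟩ : ∃ S : Set (ι → F), S = {v | Q v = 1 ∧ ∃ i, v ∈ D i} := ⟨_, rfl⟩
  set a : Fin t := ⟨0, by omega⟩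
  set b : Fin t := ⟨1, by omega⟩
  set c : Fin t := ⟨2, by omega⟩
  have hab : a ≠ b := fun h => by simp [a, b, Fin.ext_iff] at h
  have hac : a ≠ c := fun h => by simp [a, c, Fin.ext_iff] at h
  have hbc : b ≠ c := fun h => by simp [b, c, Fin.ext_iff] at h
  have hdbl : ∀ w : ι → F, w + w = 0 := fun w => by rw [← two_smul F, h2, zero_smul]
  refine ⟨stabilizing (glToMat ι F) S ⊓ Geo.omegaGL Q, lt_of_le_of_ne (fun g hg => ⟨?_, hg.2⟩) fun h => ?_,
    lt_of_le_of_ne inf_le_right fun h => ?_⟩
  · have hI := omega_le_isometry hQ hg.2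
    obtain ⟨σ, hσ⟩ := hg.1
    refine mem_stabilizing_of_maps fun v hv => ?_
    rw [hS] at hv ⊢
    obtain ⟨hv, i, hi⟩ := hv
    exact ⟨by rw [mem_isometry.1 hI, hv], σ i, (hσ i).le ⟨v, hi, by simp [mv]⟩⟩
  · have hyx : ∀ i, pol Q (y i) (x i) = 1 := fun i => (pol_comm _ _).trans (hxy i)
    set u := x a + x b with hu
    set w := y a + y b with hw
    have huu : Q u = 0 := by
      rw [hu, q_add hQ, hxx, hxx, block_orth hD hab (hx a) (hx b)]; linear_combination h2
    have hww : Q w = 0 := by
      rw [hw, q_add hQ, hyy, hyy, block_orth hD hab (hy a) (hy b)]; linear_combination h2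
    have huw : pol Q u w = 0 := by
      rw [hu, hw, pol_add_left hQ, pol_add_right hQ, pol_add_right hQ, hxy, hxy, block_orth hD hab (hx a) (hy b),
        block_orth hD hab.symm (hx b) (hy a)]
      linear_combination h2
    obtain ⟨g, hgI, hg⟩ := exists_siegel hQ huu huw
    have hgv : ∀ v, mv g v = v + pol Q v u • w - pol Q v w • u := fun v => by rw [hg, hww, zero_mul, add_zero]
    have swap : ∀ {p q : Fin t}, p ≠ q → u = x p + x q → w = y p + y q → ∀ v ∈ D p, Q v = 1 → mv g v ∈ S := by
      intro p q hpq hup hwp v hv hvv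
      have ex : mv g (x p) = -x q := by
        rw [hgv, hup, hwp, pol_add_right hQ, pol_add_right hQ, hself, hxy, block_orth hD hpq (hx p) (hx q),
          block_orth hD hpq (hx p) (hy q), add_zero, add_zero, zero_smul, add_zero, one_smul]
        abel
      have ey : mv g (y p) = y q := by
        rw [hgv, hup, hwp, pol_add_right hQ, pol_add_right hQ, hyx, hself, block_orth hD hpq (hy p) (hx q),
          block_orth hD hpq (hy p) (hy q), add_zero, add_zero, zero_smul, sub_zero, one_smul, ← add_assoc, hdbl,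
          zero_add]
      rw [hS]
      rcases key p (x p) (hx p) (y p) (hy p) v hv (hxx p) (hyy p) (hxy p) hvv with (rfl | rfl | rfl) | ⟨h1, h2'⟩
      · rw [ex]; exact ⟨by rw [q_neg hQ, hxx], q, (D q).neg_mem (hx q)⟩
      · rw [ey]; exact ⟨hyy q, q, hy q⟩
      · exact ⟨by rw [mem_isometry.1 hgI, hvv], q, by
          rw [mv_add, ex, ey]; exact (D q).add_mem ((D q).neg_mem (hx q)) (hy q)⟩
      · rw [hgv, hup, hwp, pol_add_right hQ, pol_add_right hQ, h1, h2', block_orth hD hpq hv (hx q),
          block_orth hD hpq hv (hy q), add_zero, zero_smul, zero_smul, add_zero, sub_zero]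
        exact ⟨hvv, p, hv⟩
    obtain ⟨σ, hσ⟩ := (h.ge ⟨mem_stabilizing_of_maps fun v hv => by
      obtain ⟨hv1, i, hi⟩ := hS.le hv
      by_cases hia : i = a
      · exact swap hab rfl rfl v (hia ▸ hi) hv1
      by_cases hib : i = b
      · exact swap hab.symm (by rw [hu, add_comm]) (by rw [hw, add_comm]) v (hib ▸ hi) hv1
      rw [hgv, hu, hw, pol_add_right hQ, pol_add_right hQ, block_orth hD hia hi (hx a), block_orth hD hib hi (hx b),
        block_orth hD hia hi (hy a), block_orth hD hib hi (hy b), add_zero, zero_smul, zero_smul, add_zero, sub_zero]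
      exact hv, siegel_mem_omega hQ hn huu huw hg⟩).1
    have hgz : mv g (z a) = z a := by
      rw [hgv, hu, hw, pol_add_right hQ, pol_add_right hQ, hzx, hzy, block_orth hD hab (hz a) (hx b),
        block_orth hD hab (hz a) (hy b), add_zero, zero_smul, zero_smul, add_zero, sub_zero]
    have hgx : mv g (x a) = -x b := by
      rw [hgv, hu, hw, pol_add_right hQ, pol_add_right hQ, hself, hxy, block_orth hD hab (hx a) (hx b),
        block_orth hD hab (hx a) (hy b), add_zero, add_zero, zero_smul, add_zero, one_smul]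
      abel
    have hzm : mv g (z a) ∈ D (σ a) := (hσ a).le ⟨z a, hz a, by simp [mv]⟩
    have hxm : mv g (x a) ∈ D (σ a) := (hσ a).le ⟨x a, hx a, by simp [mv]⟩
    rw [hgz] at hzm
    rw [hgx] at hxm
    have disj : ∀ {i j : Fin t} {v : ι → F}, i ≠ j → v ∈ D i → v ∈ D j → Q v ≠ 1 := fun hij hi hj hv => by
      rw [block_nondeg hD _ _ hi fun w hw => block_orth hD hij hw hj, q_zero hQ] at hv
      exact zero_ne_one hv
    by_cases hs : σ a = a
    · rw [hs] at hxm
      exact disj hab hxm ((D b).neg_mem (hx b)) (by rw [q_neg hQ, hxx])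
    · exact disj hs hzm (hz a) (hzz a)
  · set u := y a + y b with hu
    have huu : Q u = 0 := by
      rw [hu, q_add hQ, hyy, hyy, block_orth hD hab (hy a) (hy b)]; linear_combination h2
    have huw : pol Q u (x c) = 0 := by
      rw [hu, pol_add_left hQ, block_orth hD hac (hy a) (hx c), block_orth hD hbc (hy b) (hx c), add_zero]
    obtain ⟨g, -, hg⟩ := exists_siegel hQ huu huw
    have hxu : pol Q (x a) u = 1 := by
      rw [hu, pol_add_right hQ, hxy, block_orth hD hab (hx a) (hy b), add_zero]
    have hgx : mv g (x a) = x a + x c - u := by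
      rw [hg, hxu, block_orth hD hac (hx a) (hx c), hxx, zero_add, one_mul, one_smul, one_smul]
    obtain ⟨-, i, hi⟩ := hS.le (((h.ge (siegel_mem_omega hQ hn huu huw hg)).1 (x a)).1
      (hS.ge ⟨hxx a, a, hx a⟩))
    change mv g (x a) ∈ D i at hi
    rw [hgx] at hi
    by_cases hib : i = b
    · have h1 := block_orth hD (hib ▸ hbc : i ≠ c) hi (hy c)
      rw [hu, pol_sub_left hQ, pol_add_left hQ, pol_add_left hQ, block_orth hD hac (hx a) (hy c), hxy,
        block_orth hD hac (hy a) (hy c), block_orth hD hbc (hy b) (hy c)] at h1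
      exact one_ne_zero (α := F) (by linear_combination h1)
    · have h1 := block_orth hD hib hi (hx b)
      rw [hu, pol_sub_left hQ, pol_add_left hQ, pol_add_left hQ, block_orth hD hab (hx a) (hx b),
        block_orth hD hbc.symm (hx c) (hx b), block_orth hD hab (hy a) (hx b), pol_comm (y b), hxy] at h1
      exact one_ne_zero (α := F) (by linear_combination -h1)

end Cfsg.Agent.Transvec.Orth

namespace Cfsg.Agent.Transvec.Orth

open Matrix Cfsg.Agent.Transvec

variable {ι : Type} [Fintype ι] [DecidableEq ι] {F : Type*} [Field F] [Fintype F] {Q : (ι → F) → F}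
variable (hQ : Geo.IsNondegenerateQuadraticForm Q)
variable {t k : ℕ} {D : Fin t → Submodule F (ι → F)} (hD : Geo.IsOrthogonalMDecomposition Q k D)
include hQ hD

/-- Hyperbolic planes over five elements carry frames of vectors of value one. -/
theorem plus_planes_five (hn : 7 ≤ Fintype.card ι) (ht : 4 ≤ t) (hk : k = 2)
    (hp : ∀ i, Geo.IsPlusTypeOn Q (D i)) (hq : Fintype.card F = 5) :
    ∃ K : Subgroup (GL ι F), Geo.decompositionStabilizer D ⊓ Geo.omegaGL Q < K ∧ K < Geo.omegaGL Q := by
  classical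
  have h2 : (2 : F) ≠ 0 := two_ne_zero_of_odd_card (by rw [hq]; decide)
  choose e he f hf hee hff hef hco using fun i =>
    plane_pair hQ (block_nondeg hD i) ((hD.decomp.decomp.finrank_eq i).trans hk) (hp i)
  refine frame_not_maximal hQ hD hn h2 (by omega) ht one_ne_zero
    (fun i => ⟨e i + f i, (D i).add_mem (he i) (hf i), by
      rw [q_add hQ, hee, hff, hef, zero_add, zero_add]⟩) fun i x hx y hy hxx hyy => ?_
  obtain ⟨a, b, rfl, hxv⟩ := hco i x hx
  obtain ⟨c, d, rfl, hyv⟩ := hco i y hy
  rw [hxx] at hxv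
  rw [hyy] at hyv
  have hr : c * b ≠ 0 :=
    mul_ne_zero (left_ne_zero_of_mul (hyv ▸ one_ne_zero)) (right_ne_zero_of_mul (hxv ▸ one_ne_zero))
  have hr4 := FiniteField.pow_card_sub_one_eq_one (c * b) hr
  rw [hq] at hr4
  norm_num at hr4
  have hsplit : ((c * b) ^ 2 - 1) * ((c * b) ^ 2 + 1) = 0 := by linear_combination hr4
  rcases mul_eq_zero.1 hsplit with h | h
  · rcases sq_eq_one_iff.1 (sub_eq_zero.1 h) with h1 | h1
    · refine Or.inl ?_
      rw [show c = a by linear_combination a * h1 + c * hxv,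
        show d = b by linear_combination -d * h1 - b * hyv]
    · refine Or.inr (Or.inl ?_)
      rw [show c = -a by linear_combination a * h1 + c * hxv,
        show d = -b by linear_combination d * h1 + b * hyv]
      module
  · refine Or.inr (Or.inr ?_)
    have he0 : pol Q (a • e i + b • f i) (c • e i + d • f i) = a * d + b * c := by
      simp only [pol_add_left hQ, pol_add_right hQ, pol_smul_left hQ, pol_smul_right hQ, hef, pol_self hQ, hee, hff,
        pol_comm (f i) (e i)]
      ring
    rw [he0]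
    refine (mul_eq_zero.1 (?_ : (a * d + b * c) * (c * b) = 0)).resolve_right hr
    linear_combination h - (c * d) * hxv - hyv

end Cfsg.Agent.Transvec.Orth
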