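/-
Maximality of the similarity group of a hermitian form in the special linear group.
-/
import Cfsg.Agent.Lib.Transvec.HermGen
import Cfsg.Agent.Lib.Transvec.SubfieldSL
set_option autoImplicit false

namespace Cfsg.Agent.Transvec.Herm

open scoped Matrix
open Matrix Cfsg.Agent.Transvec

variable {ι : Type} [Fintype ι] [DecidableEq ι] {F : Type*} [Field F]
variable {σ : F ≃+* F} {f : (ι → F) → (ι → F) → F} (hf : Geo.IsUnitaryForm σ f)
include hf

theorem htv_mem_similarity (v : ι → F) (hv : f v v = 0) {c : F} (hc : σ c = -c) :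
    htv hf v hv c ∈ Geo.similarityGroup f ⊓ Geo.specialLinear ι F :=
  ⟨⟨1, fun x y => by rw [Units.val_one, one_mul]; exact htv_mem hf v hv hc x y⟩,
    htv_mem_specialLinear hf v hv c⟩

variable [Finite F]

/-- One transvection with isotropic centre and an axis that is not its polar gives the special linear group. -/
theorem specialLinear_le_of_tv (hn : 6 ≤ Fintype.card ι) {M : Subgroup (GL ι F)}
    (hT : ∀ (v : ι → F) (hv : f v v = 0) (c : F), σ c = -c → htv hf v hv c ∈ M)
    {x z : ι → F} (hxx : f x x = 0) (hxz : f x z = 0) (hz : ∀ k : F, z ≠ k • x) (hx0 : x ≠ 0)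
    (hm : tv x (formH hf z) hxz ∈ M) : Geo.specialLinear ι F ≤ M := by
  have hnt : Module.finrank F (⊤ : Submodule F (ι → F)) = Fintype.card ι := by
    rw [finrank_top, Module.finrank_pi]
  set Z : Set (ι → F) := {z | ∃ h : f x z = 0, tv x (formH hf z) h ∈ M} with hZ
  have hZadd : ∀ a ∈ Z, ∀ b ∈ Z, a + b ∈ Z := by
    rintro a ⟨ha, ham⟩ b ⟨hb, hbm⟩
    refine ⟨by rw [add_right hf, ha, hb, add_zero], ?_⟩
    have := M.mul_mem ham hbm
    rw [tv_mul_tv (v := x) (φ := formH hf a) (ψ := formH hf b) ha hb] at this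
    refine (congrArg (· ∈ M) (tv_congr _ _ fun y => ?_)).mp this
    show (f y a + f y b) • x = f y (a + b) • x
    rw [add_right hf]
  have hZsub : ∀ a ∈ Z, ∀ b ∈ Z, a - b ∈ Z := by
    rintro a ha b ⟨hb, hbm⟩
    rw [sub_eq_add_neg]
    refine hZadd a ha _ ⟨by rw [neg_right hf, hb, neg_zero], ?_⟩
    have := M.inv_mem hbm
    rw [tv_inv (v := x) (φ := formH hf b) hb] at this
    refine (congrArg (· ∈ M) (tv_congr _ _ fun y => ?_)).mp this
    show (-f y b) • x = f y (-b) • x
    rw [neg_right hf]
  set K := M ⊓ preserving (Units.coeHom (Matrix ι ι F)) f with hK'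
  have hK : ∀ (v : ι → F) (hv : f v v = 0) (c : F), σ c = -c → htv hf v hv c ∈ K := fun v hv c hc =>
    ⟨hT v hv c hc, htv_mem hf v hv hc⟩
  have hZinv : ∀ g ∈ K, mv g x = x → ∀ a ∈ Z, mv g a ∈ Z := by
    rintro g hg hgx a ⟨ha, ham⟩
    have h' : f x (mv g a) = 0 := by
      have := hg.2 x a
      change f (mv g x) (mv g a) = f x a at this
      rw [hgx, ha] at this
      exact this
    refine ⟨h', ?_⟩
    rw [← tv_conj (v := x) (φ := formH hf a) ha g h' hgx.symm fun y => hg.2 y a]
    exact M.mul_mem (M.mul_mem hg.1 ham) (M.inv_mem hg.1)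
  obtain ⟨d, -, hxd, hdd⟩ := exists_partner hf (nondeg_top hf) (Submodule.mem_top (x := x)) hx0 hxx
  have hdx : f d x = 1 := by rw [hf.herm, hxd, map_one]
  obtain ⟨hP, hP2⟩ := nondeg_pair hf hxx hdd hxd
  set X := orth hf (Submodule.span F ({x, d} : Set (ι → F))) with hX'
  have hX : Nondeg hf X := nondeg_orth hf hP
  have hX4 : 4 ≤ Module.finrank F X := by
    have h := finrank_orth_add hf hP
    rw [hP2, Module.finrank_pi] at h
    change 2 + Module.finrank F X = _ at h
    omega
  have mx : x ∈ Submodule.span F ({x, d} : Set (ι → F)) := Submodule.subset_span (Set.mem_insert _ _)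
  have hXx : ∀ y ∈ X, f x y = 0 := fun y hy => hy x mx
  have hXx' : ∀ y ∈ X, f y x = 0 := fun y hy => (f_eq_zero_comm hf).1 (hXx y hy)
  obtain ⟨t, ht0, ht⟩ := exists_anti hf.ne_refl hf.involutive
  -- an isotropic vector of X in Z
  obtain ⟨p, hp, hpy⟩ := exists_proj hf hP z
  obtain ⟨a, b, rfl⟩ := Submodule.mem_span_pair.1 hp
  set z₀ := z - (a • x + b • d) with hz₀
  have hb : b = 0 := by
    have h1 : f x z₀ = 0 := hXx _ hpy
    rw [hz₀, sub_right hf, add_right hf, smul_right hf, smul_right hf, hxx, hxd, hxz] at h1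
    refine (map_eq_zero_iff σ σ.injective).1 ?_
    linear_combination -h1
  have hz₀0 : z₀ ≠ 0 := fun h => hz a (by
    rw [← sub_eq_zero, ← h, hz₀, hb, zero_smul, add_zero])
  obtain ⟨v, hv, hvv, hvz⟩ := exists_isotropic_not_orth hf hX (by omega) hpy hz₀0
  have hvz' : f z v ≠ 0 := by
    intro h
    apply hvz
    rw [f_eq_zero_comm hf, hz₀, hb, zero_smul, add_zero, sub_left hf, hf.smul_left, hXx v hv, h]
    ring
  set w := (t * f z v) • v with hw
  have hw0 : w ≠ 0 := smul_ne_zero (mul_ne_zero ht0 hvz') fun h => hvz (by rw [h, zero_left hf])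
  have hwX : w ∈ X := X.smul_mem _ hv
  have hww : f w w = 0 := by rw [hw, hf.smul_left, smul_right hf, hvv, mul_zero, mul_zero]
  have hwZ : w ∈ Z := by
    have hzZ : z ∈ Z := ⟨hxz, hm⟩
    have := hZsub _ (hZinv _ (hK v hvv t ht) (htv_fix hf _ _ _ (hXx v hv)) z hzZ) z hzZ
    rwa [mv_htv, add_sub_cancel_left] at this
  have hZiso : ∀ y ∈ X, f y y = 0 → y ∈ Z := by
    intro y hy hyy
    rcases eq_or_ne y 0 with rfl | hy0
    · simpa using hZsub w hwZ w hwZ
    obtain ⟨g, hg, hgw, hgf⟩ := exists_move hf hX hX4 (K := K) (fun u _ hu c hc => hK u hu c hc)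
      hwX hy hw0 hy0 hww hyy
    exact hgw ▸ hZinv g hg (hgf x hXx) w hwZ
  have hZX : ∀ y ∈ X, y ∈ Z := by
    intro y hy
    have hmem := isotropic_span hf hX (by omega) hy
    suffices ∀ a : F, a • y ∈ Z by simpa using this 1
    clear hy
    induction hmem using Submodule.span_induction with
    | mem u hu =>
      intro a
      exact hZiso _ (X.smul_mem a hu.1) (by rw [hf.smul_left, smul_right hf, hu.2, mul_zero, mul_zero])
    | zero => intro a; rw [smul_zero]; simpa using hZsub w hwZ w hwZ
    | add u u' _ _ ih ih' => intro a; rw [smul_add]; exact hZadd _ (ih a) _ (ih' a)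
    | smul k u _ ih => intro a; rw [smul_smul]; exact ih (a * k)
  have hZx : ∀ s : F, s • x ∈ Z := by
    intro s
    rcases eq_or_ne s 0 with rfl | hs
    · simpa using hZsub w hwZ w hwZ
    obtain ⟨w', hw', hw'v, hw'iso⟩ := exists_partner hf hX hwX hw0 hww
    -- a shear along x
    set u := t⁻¹ • w' with hu
    have huX : u ∈ X := X.smul_mem _ hw'
    have huu : f u u = 0 := by rw [hu, hf.smul_left, smul_right hf, hw'iso, mul_zero, mul_zero]
    have hxu : f (x + u) (x + u) = 0 := by
      simp only [hf.add_left, add_right hf, hxx, huu, hXx u huX, hXx' u huX, add_zero]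
    set g := htv hf (x + u) hxu t * htv hf u huu (-t) with hg
    have hgx : mv g x = x := by
      rw [hg, mv_mul, htv_fix hf u huu _ (x := x) (hXx u huX),
        htv_fix hf (x + u) hxu _ (x := x) (by rw [add_right hf, hxx, hXx u huX, add_zero])]
    have hgy : ∀ y ∈ X, mv g y = y + (t * f y u) • x := by
      intro y hy
      simp only [hg, mv_mul, mv_htv, hf.add_left, hf.smul_left, add_right hf, hXx' y hy, hXx' u huX,
        huu, mul_zero, add_zero, zero_add]
      module
    have hgK : g ∈ K := K.mul_mem (hK _ hxu _ ht) (hK _ huu _ (by rw [map_neg, ht]))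
    set y := (s / (t * f w u)) • w with hy
    have hwu : t * f w u ≠ 0 := by
      rw [hu, smul_right hf, hw'v, map_inv₀, ht]
      simp [ht0]
    have := hZsub _ (hZinv g hgK hgx y (hZX y (X.smul_mem _ hwX))) y (hZX y (X.smul_mem _ hwX))
    rw [hgy y (X.smul_mem _ hwX), add_sub_cancel_left, hy, hf.smul_left] at this
    rwa [show t * (s / (t * f w u) * f w u) = s by
      have h0 : f w u ≠ 0 := (mul_ne_zero_iff.1 hwu).2
      field_simp] at this
  -- all transvections with centre x
  have hxc : x ∈ centres M := by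
    intro φ hφ
    obtain ⟨y, hy⟩ := exists_eq_f hf φ
    have hxy : f x y = 0 := by rw [← hy, hφ]
    obtain ⟨p, hp, hpy⟩ := exists_proj hf hP y
    obtain ⟨a, b, rfl⟩ := Submodule.mem_span_pair.1 hp
    have hb : b = 0 := by
      have h1 : f x (y - (a • x + b • d)) = 0 := hXx _ hpy
      rw [sub_right hf, add_right hf, smul_right hf, smul_right hf, hxx, hxd, hxy] at h1
      refine (map_eq_zero_iff σ σ.injective).1 ?_
      linear_combination -h1
    obtain ⟨h, hmem⟩ := hZadd _ (hZX _ hpy) _ (hZx a)
    rw [tv_congr (v' := x) (φ' := formH hf (y - (a • x + b • d) + a • x)) hφ h fun u => by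
      rw [hy, formH_apply, hb, zero_smul, add_zero, sub_add_cancel]]
    exact hmem
  have hall : ∀ y, f y y = 0 → y ∈ centres M := by
    intro y hyy
    rcases eq_or_ne y 0 with rfl | hy0
    · exact centres_zero M
    obtain ⟨g, hg, hgx, -⟩ := exists_move hf (nondeg_top hf) (by omega) (K := K)
      (fun u _ hu c hc => hK u hu c hc) (Submodule.mem_top (x := x)) (Submodule.mem_top (x := y)) hx0 hy0 hxx hyy
    exact hgx ▸ centres_mv hg.1 hxc
  refine specialLinear_le fun u φ h => ?_
  have hle : Submodule.span F {v | v ∈ (⊤ : Submodule F (ι → F)) ∧ f v v = 0} ≤ centreSpace M :=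
    Submodule.span_le.2 fun v hv => hall v hv.2
  have : u ∈ centreSpace M := hle (isotropic_span hf (nondeg_top hf) (by omega) Submodule.mem_top)
  exact this φ h

/-- The similarities of a hermitian form are maximal in the special linear group. -/
theorem similarity_maximal (hn : 6 ≤ Fintype.card ι) :
    Geo.IsMaximalIn (Geo.specialLinear ι F) (Geo.similarityGroup f ⊓ Geo.specialLinear ι F) := by
  have hnt : Module.finrank F (⊤ : Submodule F (ι → F)) = Fintype.card ι := by
    rw [finrank_top, Module.finrank_pi]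
  obtain ⟨e, -, he0, hee⟩ := exists_isotropic hf (nondeg_top hf) (by omega)
  obtain ⟨d, -, hed, hdd⟩ := exists_partner hf (nondeg_top hf) (Submodule.mem_top (x := e)) he0 hee
  have hde : f d e = 1 := by rw [hf.herm, hed, map_one]
  refine ⟨lt_of_le_of_ne inf_le_right fun heq => ?_, fun M hHM hMS => ?_⟩
  · obtain ⟨hP, hP2⟩ := nondeg_pair hf hee hdd hed
    set X := orth hf (Submodule.span F ({e, d} : Set (ι → F))) with hX'
    obtain ⟨z, hz, hzz⟩ := exists_anisotropic hf (X := X) (nondeg_orth hf hP) (fun h => by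
      have hs := finrank_orth_add hf hP
      rw [hP2, Module.finrank_pi] at hs
      change 2 + Module.finrank F X = _ at hs
      rw [h, finrank_bot] at hs
      omega)
    have hez : f e z = 0 := hz e (Submodule.subset_span (Set.mem_insert _ _))
    have hdz : f d z = 0 := hz d (Submodule.subset_span (Set.mem_insert_of_mem _ rfl))
    obtain ⟨μ, hμ⟩ := (heq.ge (tv_mem_specialLinear (v := e) (φ := formH hf z) hez)).1
    have h1 := hμ e d
    change f (mv _ e) (mv _ d) = _ at h1
    rw [mv_tv (φ := formH hf z) hez, mv_tv (φ := formH hf z) hez, formH_apply, formH_apply, hez, hdz,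
      zero_smul, add_zero, add_zero, hed, mul_one] at h1
    have h2 := hμ z d
    change f (mv _ z) (mv _ d) = _ at h2
    rw [mv_tv (φ := formH hf z) hez, mv_tv (φ := formH hf z) hez, formH_apply, formH_apply, hdz,
      zero_smul, add_zero, hf.add_left, hf.smul_left, hed, ← h1, one_mul] at h2
    exact hzz (by linear_combination h2)
  by_cases hM : ∀ g ∈ M, g ∈ Geo.similarityGroup f
  · exact Or.inl (le_antisymm (fun g hg => ⟨hM g hg, hMS hg⟩) hHM)
  push Not at hM
  obtain ⟨g, hg, hgs⟩ := hM
  have hT : ∀ (v : ι → F) (hv : f v v = 0) (c : F), σ c = -c → htv hf v hv c ∈ M := fun v hv c hc =>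
    hHM (htv_mem_similarity hf v hv hc)
  obtain ⟨t, ht0, ht⟩ := exists_anti hf.ne_refl hf.involutive
  refine Or.inr (le_antisymm hMS ?_)
  -- a transvection in M that is not a unitary one
  obtain ⟨x, z, hxz, hm, hx0, hbad⟩ : ∃ (x z : ι → F) (h : f x z = 0),
      tv x (formH hf z) h ∈ M ∧ x ≠ 0 ∧ (f x x = 0 → ∀ k : F, z ≠ k • x) ∧ z ≠ 0 := by
    by_contra hcon
    apply hgs
    have hA : ∀ u, ∃ a, ∀ y, f (mv g y) (mv g u) = f y a := fun u =>
      let ⟨a, ha⟩ := exists_eq_f hf ((formH hf (mv g u)).comp (mvLin g))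
      ⟨a, fun y => by rw [← ha]; simp [formH_apply]⟩
    choose A hA using hA
    have hinjf : ∀ {a b : ι → F}, (∀ y, f y a = f y b) → a = b := fun {a b} h => by
      by_contra hne
      obtain ⟨y, hy⟩ := (hf.nondegenerate (a - b) (sub_ne_zero.2 hne)).1
      exact hy (by rw [sub_right hf, h y, sub_self])
    have Aadd : ∀ u v, A (u + v) = A u + A v := fun u v => hinjf fun y => by
      rw [add_right hf, ← hA, ← hA, ← hA, mv_add, add_right hf]
    have Asmul : ∀ (c : F) u, A (c • u) = c • A u := fun c u => hinjf fun y => by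
      rw [smul_right hf, ← hA, ← hA, mv_smul, smul_right hf]
    -- isotropic vectors are eigenvectors of A
    have eig : ∀ w, f w w = 0 → ∃ k : F, A w = k • w := by
      intro w hww
      rcases eq_or_ne w 0 with rfl | hw0
      · exact ⟨0, by simpa using Asmul 0 (0 : ι → F)⟩
      obtain ⟨z', hz'⟩ := exists_eq_f hf ((t • formH hf w).comp (mvLin g⁻¹))
      have hxz' : f (mv g w) z' = 0 := by
        rw [← hz', LinearMap.comp_apply, Matrix.toLin'_apply]
        show t * f (mv g⁻¹ (mv g w)) w = 0
        rw [mv_inv_mv, hww, mul_zero]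
      have hmem : tv (mv g w) (formH hf z') hxz' ∈ M := by
        rw [← tv_conj (v := w) (φ := t • formH hf w) (by simp [formH_apply, hww]) g hxz' rfl fun y => by
          rw [formH_apply, ← hz', LinearMap.comp_apply, Matrix.toLin'_apply]
          exact congrArg (t • formH hf w) (mv_inv_mv g y)]
        exact M.mul_mem (M.mul_mem hg (hT w hww t ht)) (M.inv_mem hg)
      have hgw0 : mv g w ≠ 0 := fun h => hw0 (mv_inj g (h.trans (mv_zero g).symm))
      have hz'0 : z' ≠ 0 := by
        intro h
        obtain ⟨y, hy⟩ := (hf.nondegenerate w hw0).1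
        apply hy
        have := hz' (mv g y)
        rw [h, zero_right hf, LinearMap.comp_apply, Matrix.toLin'_apply] at this
        have h' : t * f (mv g⁻¹ (mv g y)) w = 0 := this
        rw [mv_inv_mv] at h'
        exact (mul_eq_zero.1 h').resolve_left ht0
      obtain ⟨hiso, k, hk⟩ : f (mv g w) (mv g w) = 0 ∧ ∃ k : F, z' = k • mv g w := by
        by_contra h'
        refine hcon ⟨mv g w, z', hxz', hmem, hgw0, fun hi k hk => h' ⟨hi, k, hk⟩, hz'0⟩
      have hk0 : k ≠ 0 := fun h => hz'0 (by rw [hk, h, zero_smul])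
      refine ⟨σ.symm (t / σ k) , hinjf fun y => ?_⟩
      have h' := hz' (mv g y)
      rw [hk, LinearMap.comp_apply, Matrix.toLin'_apply, smul_right hf, hA] at h'
      have h'' : t * f (mv g⁻¹ (mv g y)) w = σ k * f y (A w) := h'
      rw [mv_inv_mv] at h''
      have hσk : σ k ≠ 0 := fun h => hk0 ((map_eq_zero_iff σ σ.injective).1 h)
      rw [smul_right hf, RingEquiv.apply_symm_apply]
      field_simp
      linear_combination -h''
    choose k hk using eig
    have same : ∀ u w (hu : f u u = 0) (hw : f w w = 0), u ≠ 0 → w ≠ 0 → k u hu = k w hw := by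
      intro u w hu hw hu0 hw0
      have step : ∀ u w (hu : f u u = 0) (hw : f w w = 0), f u w = t → k u hu = k w hw := by
        intro u w hu hw huw
        have hs : f (u + w) (u + w) = 0 := by
          rw [hf.add_left, add_right hf, add_right hf, hu, hw, huw, hf.herm w u, huw, ht]; ring
        have h1 := Aadd u w
        rw [hk u hu, hk w hw, hk _ hs, smul_add] at h1
        have h2 := congrArg (fun v => f v w) h1
        simp only [hf.add_left, hf.smul_left, huw, hw, mul_zero, add_zero] at h2
        have h3 := congrArg (fun v => f v u) h1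
        simp only [hf.add_left, hf.smul_left, hu, hf.herm w u, huw, ht, mul_zero, zero_add] at h3
        rw [← mul_right_cancel₀ ht0 h2, mul_right_cancel₀ (neg_ne_zero.2 ht0) h3]
      have indep : ∀ u w (hu : f u u = 0) (hw : f w w = 0), u ≠ 0 → (∀ l : F, w ≠ l • u) → k u hu = k w hw := by
        intro u w hu hw hu0 hind
        obtain ⟨y, -, hyy, huy, hwy⟩ := exists_common hf (nondeg_top hf) (by omega)
          (Submodule.mem_top (x := u)) (Submodule.mem_top (x := w)) hu0 hind ht0
        rw [step u y hu hyy huy, step w y hw hyy hwy]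
      by_cases hl : ∃ l : F, w = l • u
      · obtain ⟨l, hl⟩ := hl
        obtain ⟨y, -, huy, hyy⟩ := exists_partner hf (nondeg_top hf) (Submodule.mem_top (x := u)) hu0 hu
        have hy0 : y ≠ 0 := fun h => by rw [h, zero_right hf] at huy; exact zero_ne_one huy
        rw [indep u y hu hyy hu0 (fun l' hl' => by
          rw [hl', smul_right hf, hu, mul_zero] at huy; exact zero_ne_one huy)]
        refine indep y w hyy hw hy0 fun l' hl' => hw0 ?_
        have := congrArg (f u) hl'
        rw [hl, smul_right hf, smul_right hf, hu, huy, mul_zero, mul_one] at this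
        rw [hl', (map_eq_zero_iff σ σ.injective).1 this.symm, zero_smul]
      · push Not at hl
        exact indep u w hu hw hu0 hl
    set μ := k e hee with hμ
    have hAll : ∀ u, A u = μ • u := by
      intro u
      induction isotropic_span hf (nondeg_top hf) (by omega) (Submodule.mem_top (x := u)) using
        Submodule.span_induction with
      | mem w hw =>
        rcases eq_or_ne w 0 with rfl | hw0
        · simpa using Asmul 0 (0 : ι → F)
        · rw [hk w hw.2, same w e hw.2 hee hw0 he0]
      | zero => simpa using Asmul 0 (0 : ι → F)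
      | add a b _ _ iha ihb => rw [Aadd, iha, ihb, smul_add]
      | smul c a _ iha => rw [Asmul, iha, smul_comm]
    have hμ0 : μ ≠ 0 := fun h => by
      obtain ⟨y, hy⟩ := (hf.nondegenerate (mv g e) fun h => he0 (mv_inj g (h.trans (mv_zero g).symm))).1
      apply hy
      have := hA e (mv g⁻¹ y)
      rwa [mv_mv_inv, hAll, h, zero_smul, zero_right hf] at this
    exact ⟨Units.mk0 (σ μ) (fun h => hμ0 ((map_eq_zero_iff σ σ.injective).1 h)), fun y v => by
      show f (mv g y) (mv g v) = σ μ * f y v
      rw [hA, hAll, smul_right hf]⟩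
  obtain ⟨hbad, hz0⟩ := hbad
  by_cases hxx : f x x = 0
  · exact specialLinear_le_of_tv hf hn hT hxx hxz (hbad hxx) hx0 hm
  -- the centre is anisotropic: two commutators reduce to the previous case
  have hX : Nondeg hf (orth hf (Submodule.span F {x})) := nondeg_orth hf (nondeg_span_single hf hxx)
  have hzX : z ∈ orth hf (Submodule.span F {x}) := fun u hu => by
    obtain ⟨a, rfl⟩ := Submodule.mem_span_singleton.1 hu
    rw [hf.smul_left, hxz, mul_zero]
  have hX2 : 2 ≤ Module.finrank F ↥(orth hf (Submodule.span F {x})) := by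
    have := finrank_orth_add hf (nondeg_span_single hf hxx)
    rw [finrank_span_single hf hxx, Module.finrank_pi] at this
    omega
  obtain ⟨w, hwX, hww, hwz⟩ := exists_isotropic_not_orth hf hX hX2 hzX hz0
  have hxw : f x w = 0 := hwX x (Submodule.mem_span_singleton_self x)
  have hwx : f w x = 0 := (f_eq_zero_comm hf).1 hxw
  set z₁ := σ (f w z * t) • w with hz₁
  have hxz₁ : f x z₁ = 0 := by rw [hz₁, smul_right hf, hxw, mul_zero]
  have hm₁ : tv x (formH hf z₁) hxz₁ ∈ M := by
    have h1 := comm_mem hm (hT w hww t ht)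
    have e : (t • formH hf w) x = 0 := by simp [formH_apply, hxw]
    rw [htv, tv_comm_axis hxz _ e (by simp [formH_apply, hxw])] at h1
    rw [tv_congr (v' := x) (φ' := formH hf z w • t • formH hf w) hxz₁ (by simp [formH_apply, hxw]) fun y => by
      simp only [LinearMap.smul_apply, formH_apply, smul_eq_mul, hz₁, smul_right hf, hf.involutive, mul_assoc]]
    exact h1
  have hsp := isotropic_span hf (nondeg_top hf) (by omega) (Submodule.mem_top (x := x))
  -- an isotropic vector orthogonal to w but not to x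
  obtain ⟨d', -, hwd', hd'd'⟩ := exists_partner hf (nondeg_top hf) (Submodule.mem_top (x := w))
    (fun h => hwz (by rw [h, zero_left hf])) hww
  obtain ⟨hP', hP'2⟩ := nondeg_pair hf hww hd'd' hwd'
  have hY : Nondeg hf (orth hf (Submodule.span F ({w, d'} : Set (ι → F)))) := nondeg_orth hf hP'
  obtain ⟨p, hp, hpx⟩ := exists_proj hf hP' x
  obtain ⟨a, b, rfl⟩ := Submodule.mem_span_pair.1 hp
  set x₀ := x - (a • w + b • d') with hx₀
  have hwx₀ : f w x₀ = 0 := hpx w (Submodule.subset_span (Set.mem_insert _ _))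
  have hb : b = 0 := by
    rw [hx₀, sub_right hf, add_right hf, smul_right hf, smul_right hf, hww, hwd', hwx] at hwx₀
    refine (map_eq_zero_iff σ σ.injective).1 ?_
    linear_combination -hwx₀
  have hx₀0 : x₀ ≠ 0 := fun h => hxx (by
    have hxa : x = a • w := by rw [← sub_eq_zero, ← h, hx₀, hb, zero_smul, add_zero]
    rw [hxa, hf.smul_left, smul_right hf, hww, mul_zero, mul_zero])
  have hY2 : 2 ≤ Module.finrank F ↥(orth hf (Submodule.span F ({w, d'} : Set (ι → F)))) := by
    have := finrank_orth_add hf hP'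
    rw [hP'2, Module.finrank_pi] at this
    omega
  obtain ⟨w', hw'Y, hw'w', hw'x₀⟩ := exists_isotropic_not_orth hf hY hY2 hpx hx₀0
  have hw'w : f w' w = 0 := (f_eq_zero_comm hf).1 (hw'Y w (Submodule.subset_span (Set.mem_insert _ _)))
  have hxw' : f x w' ≠ 0 := fun h => hw'x₀ (by
    rw [hx₀, hb, zero_smul, add_zero, sub_right hf, smul_right hf, hw'w, (f_eq_zero_comm hf).1 h]; ring)
  have hθw' : formH hf z₁ w' = 0 := by
    rw [formH_apply, hz₁, smul_right hf, hw'w, mul_zero]
  have h2 := comm_mem hm₁ (hT w' hw'w' t ht)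
  rw [htv, tv_comm_centre hxz₁ _ hθw' (by simp [hθw'])] at h2
  set z₂ := σ (-(t * f x w')) • z₁ with hz₂
  have hw'z₂ : f w' z₂ = 0 := by rw [hz₂, smul_right hf]; rw [formH_apply] at hθw'; rw [hθw', mul_zero]
  have hm₂ : tv w' (formH hf z₂) hw'z₂ ∈ M := by
    rw [tv_congr (v' := w') (φ' := -((t • formH hf w') x) • formH hf z₁) hw'z₂
      (by rw [LinearMap.smul_apply, hθw', smul_zero]) fun y => by
      simp only [LinearMap.smul_apply, formH_apply, smul_eq_mul, hz₂, smul_right hf, hf.involutive]]
    exact h2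
  refine specialLinear_le_of_tv hf hn hT hw'w' hw'z₂ (fun l hl => ?_) (fun h => hxw' (by rw [h, zero_right hf])) hm₂
  have h3 := congrArg (f x) hl
  rw [hz₂, smul_right hf, hxz₁, mul_zero, smul_right hf] at h3
  rcases mul_eq_zero.1 h3.symm with h4 | h4
  · have hl0 := (map_eq_zero_iff σ σ.injective).1 h4
    rw [hl0, zero_smul, hz₂, hz₁, smul_smul, smul_eq_zero] at hl
    rcases hl with hl | hl
    · rcases mul_eq_zero.1 hl with h5 | h5
      · exact hxw' ((mul_eq_zero.1 (neg_eq_zero.1 ((map_eq_zero_iff σ σ.injective).1 h5))).resolve_left ht0)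
      · exact hwz ((mul_eq_zero.1 ((map_eq_zero_iff σ σ.injective).1 h5)).resolve_right ht0)
    · exact hwz (by rw [hl, zero_left hf])
  · exact hxw' h4

end Cfsg.Agent.Transvec.Herm
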