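/-
Change of basis for unitary forms and subfield subgroups.
-/
import Cfsg.Agent.Lib.Transvec.HermGen
import Cfsg.Agent.Lib.Transvec.SubfieldCore
set_option autoImplicit false

namespace Cfsg.Agent.Transvec.Herm

open scoped Matrix
open Matrix Cfsg.Agent.Transvec

variable {ι : Type} [Fintype ι] [DecidableEq ι] {F : Type*} [Field F]
variable {σ : F ≃+* F} {f : (ι → F) → (ι → F) → F}

theorem pull_isUnitary (hf : Geo.IsUnitaryForm σ f) (P : GL ι F) :
    Geo.IsUnitaryForm σ (fun u v => f (mv P u) (mv P v)) where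
  ne_refl := hf.ne_refl
  involutive := hf.involutive
  add_left x y v := by simp only [mv_add, hf.add_left]
  smul_left c x v := by simp only [mv_smul, hf.smul_left]
  herm v w := hf.herm _ _
  nondegenerate v hv := by
    obtain ⟨⟨x, hx⟩, ⟨y, hy⟩⟩ := hf.nondegenerate (mv P v) (fun h => hv (mv_inj P (h.trans (mv_zero P).symm)))
    exact ⟨⟨mv P⁻¹ x, by simpa [mv_mv_inv] using hx⟩, ⟨mv P⁻¹ y, by simpa [mv_mv_inv] using hy⟩⟩

theorem map_su (P : GL ι F) :
    (preserving (Units.coeHom (Matrix ι ι F)) (fun u v => f (mv P u) (mv P v)) ⊓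
      Geo.specialLinear ι F).map (MulAut.conj P).toMonoidHom =
      preserving (Units.coeHom (Matrix ι ι F)) f ⊓ Geo.specialLinear ι F := by
  have hN : (Geo.specialLinear ι F).Normal := MonoidHom.normal_ker _
  ext x
  constructor
  · rintro ⟨y, ⟨hy, hyd⟩, rfl⟩
    refine ⟨fun u v => ?_, hN.conj_mem y hyd P⟩
    show f (mv (P * y * P⁻¹) u) (mv (P * y * P⁻¹) v) = f u v
    have h : f (mv P (mv y (mv P⁻¹ u))) (mv P (mv y (mv P⁻¹ v))) = f (mv P (mv P⁻¹ u)) (mv P (mv P⁻¹ v)) :=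
      hy (mv P⁻¹ u) (mv P⁻¹ v)
    simpa only [mv_mul, mv_mv_inv] using h
  · rintro ⟨hx, hxd⟩
    refine ⟨P⁻¹ * x * P, ⟨fun u v => ?_, by simpa using hN.conj_mem x hxd P⁻¹⟩, by simp [mul_assoc]⟩
    show f (mv P (mv (P⁻¹ * x * P) u)) (mv P (mv (P⁻¹ * x * P) v)) = f (mv P u) (mv P v)
    simp only [mv_mul, mv_mv_inv]
    exact hx (mv P u) (mv P v)

theorem maximal_of_pull (P : GL ι F) (F₀ : Subfield F)
    (h : Geo.IsMaximalIn
      (preserving (Units.coeHom (Matrix ι ι F)) (fun u v => f (mv P u) (mv P v)) ⊓ Geo.specialLinear ι F)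
      (((Matrix.GeneralLinearGroup.map (F₀.subtype : F₀ →+* F)).range ⊔ Geo.scalars ι F) ⊓
        (preserving (Units.coeHom (Matrix ι ι F)) (fun u v => f (mv P u) (mv P v)) ⊓ Geo.specialLinear ι F))) :
    Geo.IsMaximalIn (preserving (Units.coeHom (Matrix ι ι F)) f ⊓ Geo.specialLinear ι F)
      (Geo.subfieldSubgroup F₀ P ⊓ (preserving (Units.coeHom (Matrix ι ι F)) f ⊓ Geo.specialLinear ι F)) := by
  have h' := isMaximalIn_map (MulAut.conj P) h
  rw [Subgroup.map_inf ((Matrix.GeneralLinearGroup.map (F₀.subtype : F₀ →+* F)).range ⊔ Geo.scalars ι F) _ _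
    (MulAut.conj P).injective, map_su] at h'
  exact h'

end Cfsg.Agent.Transvec.Herm
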