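/-
Overgroups of the monomial subgroup of SU in characteristic two: a transvection with a centre of support at least
three that is orthogonal to a frame vector.
-/
import Cfsg.Agent.Lib.Transvec.HermFrameOddA
set_option autoImplicit false
set_option maxHeartbeats 800000

namespace Cfsg.Agent.Transvec.Herm

open scoped Matrix
open Matrix Cfsg.Agent.Transvec

variable {ι : Type} [Fintype ι] [DecidableEq ι] {F : Type*} [Field F] [Finite F]
variable {σ : F ≃+* F} {f : (ι → F) → (ι → F) → F} (hf : Geo.IsUnitaryForm σ f)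
variable {t : ℕ} {e : Fin t → ι → F} (hfr : Frame f e)
variable {M : Subgroup (GL ι F)}
variable (hMS : M ≤ preserving (Units.coeHom (Matrix ι ι F)) f ⊓ Geo.specialLinear ι F)
variable (hMon : ∀ g ∈ preserving (Units.coeHom (Matrix ι ι F)) f ⊓ Geo.specialLinear ι F, FMon e g → g ∈ M)
include hf hfr hMS hMon

/-- The transvection at a basic isotropic vector lies in M. -/
theorem htv_basic_mem (h2 : (2 : F) = 0) {a b : Fin t} (hab : a ≠ b) {ζ : F} (hζ : ζ * σ ζ = 1) :
    ∃ hb : f (e a + ζ • e b) (e a + ζ • e b) = 0, htv hf (e a + ζ • e b) hb 1 ∈ M := by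
  have hb : f (e a + ζ • e b) (e a + ζ • e b) = 0 := by
    simp only [hf.add_left, add_right hf, hf.smul_left, smul_right hf, frame_self hf hfr,
      frame_other hf hfr hab, frame_other hf hfr hab.symm]
    linear_combination h2 + hζ
  refine ⟨hb, hMon _ ⟨htv_mem hf _ hb (by rw [map_one]; linear_combination h2), htv_mem_specialLinear hf _ _ _⟩
    fun k => ?_⟩
  rcases eq_or_ne k a with rfl | hka
  · refine ⟨b, ζ, ?_⟩
    rw [mv_htv, add_right hf, smul_right hf, frame_self hf hfr, frame_other hf hfr hab]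
    match_scalars <;> first | ring1 | linear_combination h2
  rcases eq_or_ne k b with rfl | hkb
  · refine ⟨a, σ ζ, ?_⟩
    rw [mv_htv, add_right hf, smul_right hf, frame_self hf hfr, frame_other hf hfr hka]
    match_scalars <;> first | ring1 | linear_combination hζ + h2
  exact ⟨k, 1, by rw [mv_htv, add_right hf, smul_right hf, frame_other hf hfr hka,
    frame_other hf hfr hkb]; module⟩

/-- Some basic vector is sent by a non-monomial element to a vector supported on at least three coordinates. -/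
theorem exists_wide_image (ht : 6 ≤ t) {g : GL ι F} (hg : g ∈ M) (hgm : ¬ FMon e g) :
    ∃ a b, a ≠ b ∧ ∃ ζ : F, ζ * σ ζ = 1 ∧
      ∀ S : Finset (Fin t), S.card ≤ 2 → ∃ l, l ∉ S ∧ f (mv g (e a + ζ • e b)) (e l) ≠ 0 := by
  classical
  by_contra hcon
  push Not at hcon
  apply hgm
  intro a
  have hgf : ∀ p q, f (mv g p) (mv g q) = f p q := fun p q => (hMS hg).1 p q
  set v := mv g (e a) with hv
  obtain ⟨p, hp⟩ : ∃ p, f v (e p) ≠ 0 := by
    by_contra h
    push Not at h
    exact frame_ne hf hfr a (mv_inj g ((eq_zero_of_coord hf hfr h).trans (mv_zero g).symm))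
  by_cases hp' : ∃ p', p' ≠ p ∧ f v (e p') ≠ 0
  swap
  · push Not at hp'
    exact ⟨p, f v (e p), (mem_span_of_coord hf hfr (s := {p}) fun k hk =>
      hp' k (fun h => hk (Finset.mem_singleton.2 h))).trans (Finset.sum_singleton _ _)⟩
  exfalso
  obtain ⟨p', hpp', hp'v⟩ := hp'
  have h1 : (1 : F) * σ 1 = 1 := by rw [map_one, one_mul]
  obtain ⟨ζ₂, hζ₂, hζ₂'⟩ := exists_normOne_avoid hf.ne_refl hf.involutive ({1} : Finset F)
    (by rw [Finset.card_singleton]; exact Nat.one_le_of_lt two_le_card_fixed)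
  rw [Finset.mem_singleton] at hζ₂'
  have key : ∀ c, c ≠ a → ∀ ζ, ζ * σ ζ = 1 → ∃ S : Finset (Fin t), S.card ≤ 2 ∧
      ∀ l, l ∉ S → f v (e l) + ζ * f (mv g (e c)) (e l) = 0 := by
    intro c hca ζ hζ
    obtain ⟨S, hS, hS'⟩ := hcon a c hca.symm ζ hζ
    refine ⟨S, hS, fun l hl => ?_⟩
    have := hS' l hl
    rwa [mv_add, mv_smul, hf.add_left, hf.smul_left] at this
  obtain ⟨c₀, -, hc₀⟩ := Finset.exists_mem_notMem_of_card_lt_card (s := ({a} : Finset (Fin t)))
    (t := (Finset.univ : Finset (Fin t))) (by rw [Finset.card_univ, Fintype.card_fin, Finset.card_singleton]; omega)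
  rw [Finset.mem_singleton] at hc₀
  obtain ⟨S₁, hS₁, hS₁'⟩ := key c₀ hc₀ 1 h1
  obtain ⟨S₂, hS₂, hS₂'⟩ := key c₀ hc₀ ζ₂ hζ₂
  set V := Finset.univ.filter fun l => f v (e l) ≠ 0 with hV
  have hV4 : V.card ≤ 4 := by
    have hsub : V ⊆ S₁ ∪ S₂ := fun l hl => by
      by_contra hl'
      rw [Finset.mem_union, not_or] at hl'
      have e1 := hS₁' l hl'.1
      have e2 := hS₂' l hl'.2
      refine (Finset.mem_filter.1 hl).2 ?_
      refine (mul_eq_zero.1 (show (ζ₂ - 1) * f v (e l) = 0 by linear_combination ζ₂ * e1 - e2)).resolve_left ?_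
      exact sub_ne_zero.2 hζ₂'
    have := (Finset.card_le_card hsub).trans (Finset.card_union_le _ _)
    omega
  have hall : ∀ c, ∀ l, l ∉ V → f (mv g (e c)) (e l) = 0 := by
    intro c l hl
    simp only [hV, Finset.mem_filter, Finset.mem_univ, true_and, not_not] at hl
    by_cases hca : c = a
    · rw [hca, ← hv]; exact hl
    by_contra hw
    obtain ⟨ζ, hζ, hζ'⟩ := exists_normOne_avoid hf.ne_refl hf.involutive
      ({-(f v (e p) / f (mv g (e c)) (e p)), -(f v (e p') / f (mv g (e c)) (e p'))} : Finset F)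
      (Finset.card_le_two.trans two_le_card_fixed)
    simp only [Finset.mem_insert, Finset.mem_singleton, not_or] at hζ'
    obtain ⟨S, hS, hS'⟩ := key c hca ζ hζ
    have hmem : ∀ r, r ∈ ({p, p'} : Finset (Fin t)) → f v (e r) + ζ * f (mv g (e c)) (e r) ≠ 0 := by
      intro r hr h
      simp only [Finset.mem_insert, Finset.mem_singleton] at hr
      have hrv : f v (e r) ≠ 0 := by rcases hr with rfl | rfl <;> assumption
      have hwr : f (mv g (e c)) (e r) ≠ 0 := fun h0 => hrv (by rw [h0, mul_zero, add_zero] at h; exact h)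
      have hz : ζ = -(f v (e r) / f (mv g (e c)) (e r)) := by field_simp; linear_combination h
      rcases hr with rfl | rfl
      · exact hζ'.1 hz
      · exact hζ'.2 hz
    have hsub : ({l, p, p'} : Finset (Fin t)) ⊆ S := fun r hr => by
      by_contra hrS
      have h := hS' r hrS
      rcases Finset.mem_insert.1 hr with rfl | hr'
      · rw [hl, zero_add] at h
        exact hw ((mul_eq_zero.1 h).resolve_left (left_ne_zero_of_mul_eq_one hζ))
      · exact hmem r hr' h
    have h3 : ({l, p, p'} : Finset (Fin t)).card = 3 := by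
      rw [Finset.card_insert_of_notMem, Finset.card_pair hpp'.symm]
      simp only [Finset.mem_insert, Finset.mem_singleton, not_or]
      exact ⟨fun h => hp (h ▸ hl), fun h => hp'v (h ▸ hl)⟩
    have := Finset.card_le_card hsub
    omega
  have := orth_family_card hf hfr (fun c : Fin t => mv g (e c))
    (fun c => by rw [hgf, frame_self hf hfr]; exact one_ne_zero)
    (fun c d h => by rw [hgf]; exact frame_other hf hfr h) V hall
  rw [Fintype.card_fin] at this
  omega

/-- A transvection with a centre of support at least three, orthogonal to a frame vector. -/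
theorem exists_transvection_even (h2 : (2 : F) = 0) (ht : 10 ≤ t ∨ 6 ≤ t ∧ Nat.card (fixedField σ) ≠ 2) (hnm : ∃ g ∈ M, ¬ FMon e g) :
    ∃ (r : ι → F) (hr : f r r = 0) (c : F), r ≠ 0 ∧ c ≠ 0 ∧ σ c = -c ∧ htv hf r hr c ∈ M ∧
      (∀ S : Finset (Fin t), S.card ≤ 2 → ∃ l, l ∉ S ∧ f r (e l) ≠ 0) ∧ ∃ m, f r (e m) = 0 := by
  classical
  have hMf : ∀ g ∈ M, ∀ p q, f (mv g p) (mv g q) = f p q := fun g hg p q => (hMS hg).1 p q
  have hneg : ∀ x : F, -x = x := fun x => by linear_combination -x * h2
  have h1anti : σ (1 : F) = -1 := by rw [map_one, hneg]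
  obtain ⟨g, hg, hgm⟩ := hnm
  obtain ⟨a, b, hab, ζ, hζ, hwide⟩ := exists_wide_image hf hfr hMS hMon (by omega) hg hgm
  obtain ⟨hb, hbM⟩ := htv_basic_mem hf hfr hMS hMon h2 hab hζ
  set x := mv g (e a + ζ • e b) with hx
  have hxx : f x x = 0 := (hMf g hg _ _).trans hb
  have hT : htv hf x hxx 1 ∈ M := by
    have h := M.mul_mem (M.mul_mem hg hbM) (M.inv_mem hg)
    rw [htv_conj hf (hMf g hg) _ hb 1] at h
    exact h
  have hx0 : x ≠ 0 := fun h => by
    obtain ⟨l, -, hl⟩ := hwide ∅ (by simp)
    exact hl (by rw [h, zero_left hf])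
  by_cases hzero : ∃ m, f x (e m) = 0
  · exact ⟨x, hxx, 1, hx0, one_ne_zero, h1anti, hT, hwide, hzero⟩
  push Not at hzero
  by_cases hq2 : Nat.card (fixedField σ) = 2
  · -- three diagonal pairs, coordinates 0, ..., 6
    have ht7 : 7 ≤ t := by rcases ht with h | ⟨-, h⟩ <;> [omega; exact absurd hq2 h]
    let p : Fin 7 → Fin t := fun i => ⟨i.1, by omega⟩
    have hp : Function.Injective p := fun i j h => Fin.ext (Fin.mk.inj_iff.1 h)
    have p01 : p 0 ≠ p 1 := hp.ne (by decide)
    have p23 : p 2 ≠ p 3 := hp.ne (by decide)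
    obtain ⟨ω, hω, hω1⟩ := exists_norm_one_ne hf
    have hσω : σ ω = ω * ω := by
      have := apply_eq_pow hf.ne_refl hf.involutive ω
      rwa [hq2, pow_two] at this
    have hω2 : ω + σ ω = 1 := by
      have h3 : ω * (ω * ω) = 1 := by rw [← hσω]; exact hω
      have : (ω - 1) * (ω * ω + ω + 1) = 0 := by linear_combination h3
      have h := (mul_eq_zero.1 this).resolve_left (sub_ne_zero.2 hω1)
      rw [hσω]; linear_combination h - h2
    have hN : ∀ k, f x (e k) * σ (f x (e k)) = 1 := fun k => by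
      have hfix : ∀ y : F, σ y = y → y ≠ 0 → y = 1 := by
        intro y hy hy0
        obtain ⟨u, hu, huniq⟩ := (Nat.card_eq_two_iff' (0 : fixedField σ)).1 hq2
        have e1 := huniq ⟨y, hy⟩ (fun h => hy0 (congrArg Subtype.val h))
        have e2 := huniq 1 one_ne_zero
        exact congrArg Subtype.val (e1.trans e2.symm)
      exact hfix _ (by rw [map_mul, hf.involutive]; ring)
        (mul_ne_zero (hzero k) fun h => hzero k ((map_eq_zero_iff σ σ.injective).1 h))
    obtain ⟨d₁, hd₁, hd₁m, hd₁z⟩ := exists_diag hf hfr p01 hω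
    obtain ⟨d₂, hd₂, hd₂m, hd₂z⟩ := exists_diag hf hfr p23 hω
    obtain ⟨d₃, hd₃, hd₃m, hd₃z⟩ := exists_diag hf hfr (hp.ne (show (4 : Fin 7) ≠ 5 by decide)) hω
    have ho : ∀ i j : Fin 7, i ≠ j → f (e (p i)) (e (p j)) = 0 := fun i j h => frame_other hf hfr (hp.ne h)
    set d := d₁ * d₂ * d₃ with hd
    have hdM : d ∈ M := M.mul_mem (M.mul_mem (hMon _ hd₁ hd₁m) (hMon _ hd₂ hd₂m)) (hMon _ hd₃ hd₃m)
    set x' := mv d x with hx'
    have hx'eq : x' = x + (((ω - 1) * f x (e (p 0))) • e (p 0) + ((σ ω - 1) * f x (e (p 1))) • e (p 1) +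
        ((ω - 1) * f x (e (p 2))) • e (p 2) + ((σ ω - 1) * f x (e (p 3))) • e (p 3) +
        ((ω - 1) * f x (e (p 4))) • e (p 4) + ((σ ω - 1) * f x (e (p 5))) • e (p 5)) := by
      rw [hx', hd, mv_mul, mv_mul, hd₁z, hd₂z, hd₃z]
      simp only [hf.add_left, hf.smul_left, ho _ _ (show (4 : Fin 7) ≠ 2 by decide),
        ho _ _ (show (4 : Fin 7) ≠ 3 by decide), ho _ _ (show (5 : Fin 7) ≠ 2 by decide),
        ho _ _ (show (5 : Fin 7) ≠ 3 by decide), ho _ _ (show (4 : Fin 7) ≠ 0 by decide),
        ho _ _ (show (4 : Fin 7) ≠ 1 by decide), ho _ _ (show (5 : Fin 7) ≠ 0 by decide),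
        ho _ _ (show (5 : Fin 7) ≠ 1 by decide), ho _ _ (show (2 : Fin 7) ≠ 0 by decide),
        ho _ _ (show (2 : Fin 7) ≠ 1 by decide), ho _ _ (show (3 : Fin 7) ≠ 0 by decide),
        ho _ _ (show (3 : Fin 7) ≠ 1 by decide), mul_zero, add_zero]
      abel
    have hφ : f x x' = 1 := by
      rw [hx'eq]
      simp only [add_right hf, smul_right hf, hxx, map_mul, map_sub, map_one, hf.involutive]
      linear_combination (σ ω - 1) * hN (p 0) + (ω - 1) * hN (p 1) + (σ ω - 1) * hN (p 2) + (ω - 1) * hN (p 3) +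
        (σ ω - 1) * hN (p 4) + (ω - 1) * hN (p 5) + 3 * hω2 - 2 * h2
    have hx'x' : f x' x' = 0 := (hMf d hdM x x).trans hxx
    have hT' : htv hf x' hx'x' 1 ∈ M := by
      have h := M.mul_mem (M.mul_mem hdM hT) (M.inv_mem hdM)
      rw [htv_conj hf (hMf d hdM) _ hxx 1] at h
      exact h
    set z := mv (htv hf x' hx'x' 1) x with hz
    have hzz : f z z = 0 := (hMf _ hT' x x).trans hxx
    have hzM : htv hf z hzz 1 ∈ M := by
      have h := M.mul_mem (M.mul_mem hT' hT) (M.inv_mem hT')
      rw [htv_conj hf (hMf _ hT') _ hxx 1] at h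
      exact h
    have hzeq : z = x + x' := by rw [hz, mv_htv, hφ, one_mul, one_smul]
    have hcoord : ∀ k : Fin 7, f z (e (p k)) =
        if k = 6 then 0 else (if k = 0 ∨ k = 2 ∨ k = 4 then ω + 1 else σ ω + 1) * f x (e (p k)) := by
      intro k
      rw [hzeq, hx'eq]
      simp only [hf.add_left, hf.smul_left]
      fin_cases k <;> simp [hfr.orth, hp.eq_iff] <;>
        (first | ring1 | linear_combination f x (e (p 6)) * h2 | linear_combination f x (e (p 0)) * h2 | linear_combination f x (e (p 1)) * h2 | linear_combination f x (e (p 2)) * h2 | linear_combination f x (e (p 3)) * h2 | linear_combination f x (e (p 4)) * h2 | linear_combination f x (e (p 5)) * h2)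
    have hω1' : ω + 1 ≠ 0 := fun h => hω1 (by linear_combination h - h2)
    have hω2' : σ ω + 1 ≠ 0 := fun h => hω1 (by
      have h' : σ ω = σ 1 := by rw [map_one]; linear_combination h - h2
      exact σ.injective h')
    refine ⟨z, hzz, 1, ?_, one_ne_zero, h1anti, hzM, fun S hS => ?_, p 6, by rw [hcoord, if_pos rfl]⟩
    · intro h
      have := hcoord 0
      rw [h, zero_left hf, if_neg (by decide), if_pos (Or.inl rfl)] at this
      exact mul_ne_zero hω1' (hzero _) this.symm
    · obtain ⟨l, hl, hlS⟩ := Finset.exists_mem_notMem_of_card_lt_card (s := S)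
        (t := ({p 0, p 2, p 4} : Finset (Fin t))) (by
          rw [Finset.card_insert_of_notMem (by simp [hp.eq_iff]), Finset.card_pair (hp.ne (by decide))]
          omega)
      simp only [Finset.mem_insert, Finset.mem_singleton] at hl
      refine ⟨l, hlS, ?_⟩
      rcases hl with rfl | rfl | rfl <;>
        (rw [hcoord, if_neg (by decide), if_pos (by decide)]; exact mul_ne_zero hω1' (hzero _))
  · -- a dihedral group, coordinates 0, ..., 5
    let p : Fin 6 → Fin t := fun i => ⟨i.1, by omega⟩
    have hp : Function.Injective p := fun i j h => Fin.ext (Fin.mk.inj_iff.1 h)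
    have p01 : p 0 ≠ p 1 := hp.ne (by decide)
    have p23 : p 2 ≠ p 3 := hp.ne (by decide)
    have hq4 : 4 ≤ Nat.card (fixedField σ) := by
      have h := two_le_card_fixed (σ := σ)
      by_contra hlt
      have h3 : Nat.card (fixedField σ) = 3 := by omega
      haveI : Fintype (fixedField σ) := Fintype.ofFinite _
      have h' : ((3 : ℕ) : fixedField σ) = 0 := by
        rw [← h3, Nat.card_eq_fintype_card]; exact Nat.cast_card_eq_zero _
      have h'' := congrArg (Subfield.subtype (fixedField σ)) h'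
      rw [map_natCast, map_zero] at h''
      push_cast at h''
      exact one_ne_zero (α := F) (by linear_combination h'' - h2)
    -- the squared norm of f(x, e i + θ e j) avoids any two values
    have pick : ∀ i j, i ≠ j → ∀ v₁ v₂ : F, ∃ θ, θ * σ θ = 1 ∧
        f x (e i + θ • e j) * σ (f x (e i + θ • e j)) ≠ v₁ ∧
        f x (e i + θ • e j) * σ (f x (e i + θ • e j)) ≠ v₂ := by
      intro i j hij v₁ v₂
      set A := f x (e i) * σ (f x (e i)) + f x (e j) * σ (f x (e j))
      set B := f x (e i) * σ (f x (e j))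
      have hB : B ≠ 0 := mul_ne_zero (hzero i) fun h => hzero j ((map_eq_zero_iff σ σ.injective).1 h)
      obtain ⟨θ, hθ, hθ'⟩ := exists_normOne_avoid hf.ne_refl hf.involutive
        (((normOnes σ).filter fun η => A + B * η + σ (B * η) = v₁) ∪
          ((normOnes σ).filter fun η => A + B * η + σ (B * η) = v₂))
        (by
          have e1 := card_fibre_le hf.ne_refl hf.involutive A B hB v₁
          have e2 := card_fibre_le hf.ne_refl hf.involutive A B hB v₂
          refine (Finset.card_union_le _ _).trans ?_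
          omega)
      have hval : f x (e i + θ • e j) * σ (f x (e i + θ • e j)) = A + B * θ + σ (B * θ) := by
        simp only [add_right hf, smul_right hf, map_add, map_mul, hf.involutive, A, B]
        linear_combination (f x (e j) * σ (f x (e j))) * hθ
      simp only [Finset.mem_union, Finset.mem_filter, mem_normOnes, hθ, true_and, not_or] at hθ'
      exact ⟨θ, hθ, by rw [hval]; exact hθ'.1, by rw [hval]; exact hθ'.2⟩
    obtain ⟨θ₁, hθ₁, hP₁, -⟩ := pick _ _ p01 0 0
    obtain ⟨θ₂, hθ₂, hP₂, hP₁₂⟩ :=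
      pick _ _ p23 0 (f x (e (p 0) + θ₁ • e (p 1)) * σ (f x (e (p 0) + θ₁ • e (p 1))))
    obtain ⟨hb₁, hb₁M⟩ := htv_basic_mem hf hfr hMS hMon h2 p01 hθ₁
    obtain ⟨hb₂, hb₂M⟩ := htv_basic_mem hf hfr hMS hMon h2 p23 hθ₂
    set b₁ := e (p 0) + θ₁ • e (p 1) with hb₁def
    set b₂ := e (p 2) + θ₂ • e (p 3) with hb₂def
    set p₁ := f x b₁ with hp₁
    set p₂ := f x b₂ with hp₂
    have hp₁0 : p₁ ≠ 0 := fun h => hP₁ (by rw [h, zero_mul])
    have hp₂0 : p₂ ≠ 0 := fun h => hP₂ (by rw [h, zero_mul])
    have hbb : f b₁ b₂ = 0 := by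
      simp only [hb₁def, hb₂def, hf.add_left, add_right hf, hf.smul_left, smul_right hf,
        frame_other hf hfr (hp.ne (show (0 : Fin 6) ≠ 2 by decide)),
        frame_other hf hfr (hp.ne (show (0 : Fin 6) ≠ 3 by decide)),
        frame_other hf hfr (hp.ne (show (1 : Fin 6) ≠ 2 by decide)),
        frame_other hf hfr (hp.ne (show (1 : Fin 6) ≠ 3 by decide)), mul_zero, add_zero]
    have hbb' : f b₂ b₁ = 0 := (f_eq_zero_comm hf).1 hbb
    have cb₁ : ∀ k, f b₁ (e k) = (if p 0 = k then 1 else 0) + θ₁ * (if p 1 = k then 1 else 0) := fun k => by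
      rw [hb₁def, hf.add_left, hf.smul_left, hfr.orth, hfr.orth]
    have cb₂ : ∀ k, f b₂ (e k) = (if p 2 = k then 1 else 0) + θ₂ * (if p 3 = k then 1 else 0) := fun k => by
      rw [hb₂def, hf.add_left, hf.smul_left, hfr.orth, hfr.orth]
    set u := htv hf b₁ hb₁ 1 * htv hf b₂ hb₂ 1 with hu
    have huM : u ∈ M := M.mul_mem hb₁M hb₂M
    clear_value b₁ b₂
    have huz : ∀ z, mv u z = z + f z b₁ • b₁ + f z b₂ • b₂ := fun z => by
      rw [hu, mv_mul, mv_htv, mv_htv, hf.add_left, hf.smul_left, hbb', mul_zero, add_zero]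
      module
    have hu2 : u * u = 1 := ext_mv fun z => by
      rw [mv_mul, huz, huz, mv_one]
      simp only [hf.add_left, hf.smul_left, hb₁, hb₂, hbb, hbb', mul_zero, add_zero]
      match_scalars <;> first | ring1 | linear_combination f z b₁ * h2 | linear_combination f z b₂ * h2
    set t' := htv hf x hxx 1 with ht'def
    have ht'2 : t' * t' = 1 := by
      rw [ht'def, htv_add, show (1 : F) + 1 = 0 by linear_combination h2, htv_zero]
    set ρ := u * t' with hρdef
    have hρM : ρ ∈ M := M.mul_mem huM hT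
    rcases dihedral_cases hu2 ht'2 with ⟨j, hj⟩ | ⟨m, hm1, hm2, hmu, hmt, -⟩
    · exfalso
      rw [ht'def, htv_conj hf (hMf _ (M.pow_mem hρM j)) _ hxx 1] at hj
      set y := mv (ρ ^ j) x with hy
      have hy1 : ∀ z, mv u z = z + f z y • y := fun z => by rw [← hj, mv_htv, one_mul]
      have e0 : b₁ = f (e (p 0)) y • y := by
        have h := huz (e (p 0))
        rw [hy1, show f (e (p 0)) b₁ = 1 by rw [hf.herm, cb₁, if_pos rfl, if_neg p01.symm]; simp,
          show f (e (p 0)) b₂ = 0 by
            rw [hf.herm, cb₂, if_neg (hp.ne (by decide)), if_neg (hp.ne (by decide))]; simp,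
          one_smul, zero_smul, add_zero, add_right_inj] at h
        exact h.symm
      have e2 : b₂ = f (e (p 2)) y • y := by
        have h := huz (e (p 2))
        rw [hy1, show f (e (p 2)) b₁ = 0 by
            rw [hf.herm, cb₁, if_neg (hp.ne (by decide)), if_neg (hp.ne (by decide))]; simp,
          show f (e (p 2)) b₂ = 1 by rw [hf.herm, cb₂, if_pos rfl, if_neg p23.symm]; simp,
          one_smul, zero_smul, add_zero, add_right_inj] at h
        exact h.symm
      have c1 : f (e (p 0)) y * f y (e (p 0)) = 1 := by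
        rw [← hf.smul_left, ← e0, cb₁, if_pos rfl, if_neg p01.symm]; simp
      have c2 : f (e (p 2)) y * f y (e (p 0)) = 0 := by
        rw [← hf.smul_left, ← e2, cb₂, if_neg (hp.ne (by decide)), if_neg (hp.ne (by decide))]; simp
      have c3 : f (e (p 2)) y * f y (e (p 2)) = 1 := by
        rw [← hf.smul_left, ← e2, cb₂, if_pos rfl, if_neg p23.symm]; simp
      rcases mul_eq_zero.1 c2 with h | h
      · rw [h, zero_mul] at c3; exact zero_ne_one c3
      · rw [h, mul_zero] at c1; exact zero_ne_one c1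
    · set i := ρ ^ m with hi
      have hiM : i ∈ M := M.pow_mem hρM m
      -- i moves every vector inside the span of b₁, b₂ and x
      have hL : ∀ (m : ℕ) z, ∃ α β γ : F, mv (ρ ^ m) z = z + α • b₁ + β • b₂ + γ • x := by
        intro m
        induction m with
        | zero => exact fun z => ⟨0, 0, 0, by rw [pow_zero, mv_one]; module⟩
        | succ m ih =>
          intro z
          obtain ⟨α, β, γ, h⟩ := ih z
          set z' := mv (ρ ^ m) z
          refine ⟨α + f (z' + f z' x • x) b₁, β + f (z' + f z' x • x) b₂, γ + f z' x, ?_⟩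
          rw [pow_succ', mv_mul]
          change mv ρ z' = _
          rw [hρdef, mv_mul, huz, ht'def, mv_htv, one_mul]
          conv_lhs => arg 1; arg 1; arg 1; rw [h]
          module
      have hix : mv i x = x := by
        have h0 : mv i x ≠ 0 := fun h => hx0 (mv_inj i (h.trans (mv_zero i).symm))
        obtain ⟨y, hy⟩ := (hf.nondegenerate (mv i x) h0).1
        have hct : i * t' * i⁻¹ = t' := by rw [← hmt, mul_inv_cancel_right]
        rw [ht'def, htv_conj hf (hMf i hiM) _ hxx 1] at hct
        have h := congrArg (fun g => mv g y) hct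
        simp only [mv_htv, one_mul, add_right_inj] at h
        obtain ⟨μ, hμ⟩ : ∃ μ : F, mv i x = μ • x := ⟨(f y (mv i x))⁻¹ * f y x, by
          rw [← smul_smul, ← h, smul_smul, inv_mul_cancel₀ hy, one_smul]⟩
        have h' : mv i (mv i x) = x := by rw [← mv_mul, hm2, mv_one]
        rw [hμ, mv_smul, hμ, smul_smul] at h'
        have hμ2 : μ * μ = 1 := by
          refine sub_eq_zero.1 ((smul_eq_zero.1 ?_).resolve_right hx0)
          rw [sub_smul, h', one_smul, sub_self]
        have hμ1 : μ = 1 := by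
          have : (μ - 1) * (μ - 1) = 0 := by linear_combination hμ2 - (μ - 1) * h2
          exact sub_eq_zero.1 (mul_self_eq_zero.1 this)
        rw [hμ, hμ1, one_smul]
      have horth : ∀ z, f (mv i z - z) x = 0 := fun z => by
        rw [sub_left hf]; conv_lhs => arg 1; arg 2; rw [← hix]
        rw [hMf i hiM, sub_self]
      set c₀ := σ p₂ • b₁ - σ p₁ • b₂ with hc₀
      have hbx : f b₁ x = σ p₁ ∧ f b₂ x = σ p₂ := ⟨hf.herm b₁ x, hf.herm b₂ x⟩
      have hσp₂ : σ p₂ ≠ 0 := fun h => hp₂0 ((map_eq_zero_iff σ σ.injective).1 h)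
      have hrange : ∀ z, ∃ γ : F, mv i z = z + γ • c₀ := by
        intro z
        obtain ⟨α, β, γ, h⟩ := hL m z
        rw [← hi] at h
        have hd : mv i z - z = α • b₁ + β • b₂ + γ • x := by rw [h]; abel
        have hc : mv u (mv i z - z) = mv i (mv u z) - mv u z := by
          rw [mv_sub, ← mv_mul, hmu, mv_mul]
        have e1 : f (mv u (mv i z - z)) x = 0 := by rw [hc]; exact horth (mv u z)
        have e0 := horth z
        rw [huz, hd] at e1
        rw [hd] at e0
        simp only [hf.add_left, hf.smul_left, hb₁, hb₂, hbb, hbb', ← hp₁, ← hp₂, hxx, hbx.1, hbx.2, mul_zero,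
          add_zero, zero_add] at e1 e0
        have hγ : γ = 0 := by
          refine (mul_eq_zero.1 (show γ * (p₁ * σ p₁ + p₂ * σ p₂) = 0 by linear_combination e1 - e0)).resolve_right ?_
          intro hsum
          exact hP₁₂ (by linear_combination hsum - p₁ * σ p₁ * h2)
        refine ⟨α / σ p₂, ?_⟩
        have hβ : β = -(α * σ p₁) / σ p₂ := by rw [eq_div_iff hσp₂]; linear_combination e0
        rw [h, hγ, hc₀, hβ]
        match_scalars <;> first | ring1 | (field_simp; done) | (field_simp; ring1)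
      have hc₀c₀ : f c₀ c₀ = 0 := by
        simp only [hc₀, sub_left hf, sub_right hf, hf.smul_left, smul_right hf, hb₁, hb₂, hbb, hbb']
        ring
      have hcc : ∀ k, f c₀ (e k) = σ p₂ * f b₁ (e k) - σ p₁ * f b₂ (e k) := fun k => by
        rw [hc₀, sub_left hf, hf.smul_left, hf.smul_left]
      have hc₀0 : f c₀ (e (p 0)) ≠ 0 := by
        rw [hcc, cb₁, cb₂, if_pos rfl, if_neg p01.symm, if_neg (hp.ne (by decide)), if_neg (hp.ne (by decide))]
        simpa using hσp₂
      obtain ⟨y₀, hy₀⟩ : ∃ y, f c₀ y = 1 := by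
        obtain ⟨w, hw⟩ := (hf.nondegenerate c₀ fun h => hc₀0 (by rw [h, zero_left hf])).2
        exact ⟨σ (f c₀ w)⁻¹ • w, by rw [smul_right hf, hf.involutive, inv_mul_cancel₀ hw]⟩
      choose γ hγ using hrange
      set lam := -σ (γ y₀) with hlam
      have hiz : ∀ z, mv i z = z + (lam * f z c₀) • c₀ := fun z => by
        have h := hMf i hiM z y₀
        rw [hγ z, hγ y₀, hf.add_left, add_right hf, add_right hf, hf.smul_left, hf.smul_left, smul_right hf,
          smul_right hf, hc₀c₀, hy₀] at h
        rw [hγ z, hlam]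
        congr 2
        linear_combination h
      have hl0 : lam ≠ 0 := fun h => hm1 (ext_mv fun z => by rw [hiz z, h, zero_mul, zero_smul, add_zero, mv_one])
      have hlanti : σ lam = -lam := by
        have h := hMf i hiM y₀ y₀
        simp only [hiz y₀, hf.add_left, add_right hf, hf.smul_left, smul_right hf, hc₀c₀, hy₀,
          hf.herm y₀ c₀, map_one, map_mul, mul_zero, add_zero, mul_one] at h
        linear_combination h
      refine ⟨c₀, hc₀c₀, lam, fun h => hc₀0 (by rw [h, zero_left hf]), hl0, hlanti, ?_, fun S hS => ?_, p 5, ?_⟩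
      · rw [show htv hf c₀ hc₀c₀ lam = i from ext_mv fun z => by rw [mv_htv, hiz]]
        exact hiM
      · obtain ⟨l, hl, hlS⟩ := Finset.exists_mem_notMem_of_card_lt_card (s := S)
          (t := ({p 0, p 1, p 2} : Finset (Fin t))) (by
            rw [Finset.card_insert_of_notMem (by simp [hp.eq_iff]), Finset.card_pair (hp.ne (by decide))]
            omega)
        simp only [Finset.mem_insert, Finset.mem_singleton] at hl
        refine ⟨l, hlS, ?_⟩
        rw [hcc, cb₁, cb₂]
        rcases hl with rfl | rfl | rfl <;>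
          simp [hp.eq_iff, hσp₂, left_ne_zero_of_mul_eq_one hθ₁, hp₁0, map_eq_zero_iff σ σ.injective]
      · rw [hcc, cb₁, cb₂]
        simp [hp.eq_iff]

end Cfsg.Agent.Transvec.Herm
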