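/-
Overgroups of the monomial subgroup of SU in dimension six, odd characteristic: some non-monomial element maps a
frame line to a frame line.
-/
import Cfsg.Agent.Lib.Transvec.HermFrameOddA
set_option autoImplicit false
set_option maxHeartbeats 800000

namespace Cfsg.Agent.Transvec.Herm

open scoped Matrix
open Matrix Cfsg.Agent.Transvec

section Combinatorics

variable {α : Type*}

/-- A six by six table with many symmetries is constant, or constant off a permutation. -/
theorem six_table (B : Fin 6 → Fin 6 → α)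
    (H : ∀ a a' i i', a ≠ a' → i ≠ i' → ∃ π : Equiv.Perm (Fin 6),
      (π a = i ∧ π a' = i' ∨ π a = i' ∧ π a' = i) ∧ ∀ x y, B (π y) x = B (π x) y) :
    ∃ b, (∀ i a, B i a = b) ∨ ∃ c, c ≠ b ∧ ∃ ρ : Fin 6 → Fin 6, Function.Injective ρ ∧
      ∀ i a, B i a = if i = ρ a then c else b := by
  classical
  have h01 : (0 : Fin 6) ≠ 1 := by decide
  -- symmetries moving any pair of rows to any other
  have inv : ∀ i x j y, i ≠ x → j ≠ y → ∃ β γ : Equiv.Perm (Fin 6),
      (β i = j ∧ β x = y ∨ β i = y ∧ β x = j) ∧ ∀ r a, B (β r) (γ a) = B r a := by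
    intro i x j y hix hjy
    obtain ⟨π, hπ, hs⟩ := H 0 1 i x h01 hix
    obtain ⟨π', hπ', hs'⟩ := H 0 1 j y h01 hjy
    refine ⟨π.symm.trans π', π.trans π'.symm, ?_, fun r a => ?_⟩
    · rcases hπ with ⟨e1, e2⟩ | ⟨e1, e2⟩ <;> rcases hπ' with ⟨e1', e2'⟩ | ⟨e1', e2'⟩ <;> subst e1 e2 e1' e2' <;>
        simp
    · obtain ⟨b, rfl⟩ := π.surjective r
      simp only [Equiv.trans_apply, Equiv.symm_apply_apply]
      rw [hs', Equiv.apply_symm_apply, hs a b]
  let k : α → Fin 6 → ℕ := fun v i => (Finset.univ.filter fun a => B i a = v).card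
  let lam : α → Fin 6 → Fin 6 → ℕ := fun v i j => (Finset.univ.filter fun a => B i a = v ∧ B j a = v).card
  have hkinv : ∀ {β γ : Equiv.Perm (Fin 6)}, (∀ r a, B (β r) (γ a) = B r a) →
      ∀ v r, k v (β r) = k v r := fun {β γ} h v r =>
    (Finset.card_equiv γ (fun a => by simp [h])).symm
  have hlinv : ∀ {β γ : Equiv.Perm (Fin 6)}, (∀ r a, B (β r) (γ a) = B r a) →
      ∀ v r s, lam v (β r) (β s) = lam v r s := fun {β γ} h v r s =>
    (Finset.card_equiv γ (fun a => by simp [h])).symm
  have hksum : ∀ v i x j y, i ≠ x → j ≠ y → k v i + k v x = k v j + k v y := by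
    intro v i x j y hix hjy
    obtain ⟨β, γ, hb, hB⟩ := inv i x j y hix hjy
    rw [← hkinv hB v i, ← hkinv hB v x]
    rcases hb with ⟨e1, e2⟩ | ⟨e1, e2⟩
    · rw [e1, e2]
    · rw [e1, e2, add_comm]
  have hk : ∀ v i, k v i = k v 0 := by
    intro v i
    obtain ⟨x, -, hx⟩ := Finset.exists_mem_notMem_of_card_lt_card (s := ({i, 0} : Finset (Fin 6)))
      (t := Finset.univ) (lt_of_le_of_lt Finset.card_le_two (by simp))
    simp only [Finset.mem_insert, Finset.mem_singleton, not_or] at hx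
    have := hksum v i x 0 x (Ne.symm hx.1) (Ne.symm hx.2)
    omega
  have hcol : ∀ v a, (Finset.univ.filter fun i => B i a = v).card = k v 0 := by
    intro v a
    obtain ⟨π, -, hs⟩ := H 0 1 0 1 h01 h01
    rw [← hk v (π a)]
    refine (Finset.card_equiv π fun b => ?_).symm
    simp [hs a b]
  have hlam : ∀ v i j, i ≠ j → lam v i j = lam v 0 1 := by
    intro v i j hij
    obtain ⟨β, γ, hb, hB⟩ := inv i j 0 1 hij h01
    rw [← hlinv hB v i j]
    rcases hb with ⟨e1, e2⟩ | ⟨e1, e2⟩
    · rw [e1, e2]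
    · rw [e1, e2]
      simp only [lam, and_comm]
  have hlamself : ∀ v i, lam v i i = k v 0 := fun v i => by simp only [lam, and_self]; exact hk v i
  have count : ∀ v, k v 0 + 5 * lam v 0 1 = k v 0 * k v 0 := by
    intro v
    have h1 : ∑ i, ∑ j, lam v i j = 6 * (k v 0 + 5 * lam v 0 1) := by
      have : ∀ i, ∑ j, lam v i j = k v 0 + 5 * lam v 0 1 := fun i => by
        rw [← Finset.add_sum_erase _ _ (Finset.mem_univ i), hlamself,
          Finset.sum_congr rfl fun j hj => hlam v i j (Ne.symm (Finset.ne_of_mem_erase hj)), Finset.sum_const,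
          Finset.card_erase_of_mem (Finset.mem_univ i), Finset.card_univ, Fintype.card_fin, smul_eq_mul]
      simp only [this, Finset.sum_const, Finset.card_univ, Fintype.card_fin, smul_eq_mul]
    have h2 : ∑ i, ∑ j, lam v i j = 6 * (k v 0 * k v 0) := by
      have : ∀ a, ∑ i, ∑ j, (if B i a = v ∧ B j a = v then 1 else 0 : ℕ) = k v 0 * k v 0 := fun a => by
        rw [← hcol v a, Finset.card_filter, Finset.sum_mul_sum]
        refine Finset.sum_congr rfl fun i _ => Finset.sum_congr rfl fun j _ => ?_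
        by_cases h1 : B i a = v <;> by_cases h2 : B j a = v <;> simp [h1, h2]
      simp only [lam, Finset.card_filter]
      rw [Finset.sum_congr rfl fun i _ => Finset.sum_comm, Finset.sum_comm]
      simp only [this, Finset.sum_const, Finset.card_univ, Fintype.card_fin, smul_eq_mul]
    omega
  have hle : ∀ v, k v 0 ≤ 6 := fun v => (Finset.card_le_univ _).trans (by simp)
  have four : ∀ v, k v 0 = 0 ∨ k v 0 = 1 ∨ k v 0 = 5 ∨ k v 0 = 6 := by
    intro v
    have h1 := count v
    have h2 := hle v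
    generalize k v 0 = n at h1 h2 ⊢
    interval_cases n <;> omega
  by_cases hbig : ∃ v, 5 ≤ k v 0
  · obtain ⟨v, hv⟩ := hbig
    refine ⟨v, ?_⟩
    rcases four v with h | h | h | h
    · omega
    · omega
    swap
    · left
      intro i a
      have h6 : (Finset.univ.filter fun a => B i a = v) = Finset.univ :=
        Finset.eq_univ_of_card _ (by simpa [k] using (hk v i).trans h)
      simpa using (Finset.ext_iff.1 h6 a).2 (Finset.mem_univ a)
    right
    obtain ⟨a₀, -, ha₀⟩ := Finset.exists_mem_notMem_of_card_lt_card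
      (s := Finset.univ.filter fun a => B 0 a = v) (t := Finset.univ) (by
        rw [Finset.card_univ, Fintype.card_fin]
        show k v 0 < 6
        omega)
    simp only [Finset.mem_filter, Finset.mem_univ, true_and] at ha₀
    set c := B 0 a₀ with hc
    have disj : ∀ i, k v i + k c i ≤ 6 := fun i => by
      simp only [k]
      rw [← Finset.card_union_of_disjoint (Finset.disjoint_filter.2 fun a _ h1 h2 => ha₀ (h2.symm.trans h1))]
      exact (Finset.card_le_univ _).trans (by simp)
    have hc1 : k c 0 = 1 := by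
      have h1 : 0 < k c 0 := Finset.card_pos.2 ⟨a₀, Finset.mem_filter.2 ⟨Finset.mem_univ _, rfl⟩⟩
      have h2 := disj 0
      omega
    have two : ∀ i a, B i a = v ∨ B i a = c := by
      intro i a
      have h6 : ((Finset.univ.filter fun a => B i a = v) ∪ Finset.univ.filter fun a => B i a = c) = Finset.univ :=
        Finset.eq_univ_of_card _ (by
          rw [Finset.card_union_of_disjoint (Finset.disjoint_filter.2 fun a _ h1 h2 => ha₀ (h2.symm.trans h1))]
          show k v i + k c i = _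
          rw [hk, hk c, h, hc1, Fintype.card_fin])
      have := (Finset.ext_iff.1 h6 a).2 (Finset.mem_univ a)
      simpa using this
    choose ρ hρ using fun a => Finset.card_eq_one.1 ((hcol c a).trans hc1)
    have hρ' : ∀ i a, B i a = c ↔ i = ρ a := fun i a => by
      simpa using Finset.ext_iff.1 (hρ a) i
    refine ⟨c, ha₀, ρ, fun a a' haa => ?_, fun i a => ?_⟩
    · exact Finset.card_le_one.1 ((hk c (ρ a)).trans hc1).le a
        (Finset.mem_filter.2 ⟨Finset.mem_univ _, (hρ' _ a).2 rfl⟩) a'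
        (Finset.mem_filter.2 ⟨Finset.mem_univ _, (hρ' _ a').2 haa⟩)
    · split_ifs with hia
      · exact (hρ' i a).2 hia
      · exact (two i a).resolve_right fun h' => hia ((hρ' i a).1 h')
  -- six different values in each row and column
  exfalso
  push Not at hbig
  have hone : ∀ v, k v 0 ≤ 1 := fun v => by
    have h1 := hbig v
    rcases four v with h | h | h | h <;> omega
  have rowinj : ∀ i a a', B i a = B i a' → a = a' := fun i a a' h =>
    Finset.card_le_one.1 ((hk (B i a') i).trans_le (hone _)) a (Finset.mem_filter.2 ⟨Finset.mem_univ _, h⟩) a'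
      (Finset.mem_filter.2 ⟨Finset.mem_univ _, rfl⟩)
  have colinj : ∀ a i i', B i a = B i' a → i = i' := fun a i i' h =>
    Finset.card_le_one.1 ((hcol (B i' a) a).trans_le (hone _)) i (Finset.mem_filter.2 ⟨Finset.mem_univ _, h⟩) i'
      (Finset.mem_filter.2 ⟨Finset.mem_univ _, rfl⟩)
  let R : Fin 6 → Fin 6 → Finset (α × α) := fun i j => Finset.univ.image fun a => (B i a, B j a)
  have hR : ∀ j, (0 : Fin 6) ≠ j → R 0 j = R 0 1 ∨ R 0 j = R 1 0 := by
    intro j hj
    obtain ⟨β, γ, hb, hB⟩ := inv 0 j 0 1 hj h01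
    have e : R 0 j = R (β 0) (β j) := by
      ext p
      simp only [R, Finset.mem_image, Finset.mem_univ, true_and]
      refine ⟨fun ⟨a, ha⟩ => ⟨γ a, by rw [hB, hB]; exact ha⟩, fun ⟨a, ha⟩ => ⟨γ.symm a, ?_⟩⟩
      rw [← ha]
      conv_rhs => rw [← γ.apply_symm_apply a, hB, hB]
    rcases hb with ⟨e1, e2⟩ | ⟨e1, e2⟩
    · left; rw [e, e1, e2]
    · right; rw [e, e1, e2]
  have ne : ∀ j j', j ≠ j' → R 0 j ≠ R 0 j' := by
    intro j j' hjj h
    obtain ⟨a', -, ha'⟩ := Finset.mem_image.1
      (h ▸ Finset.mem_image_of_mem (fun a => (B 0 a, B j a)) (Finset.mem_univ (0 : Fin 6)) :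
        (B 0 0, B j 0) ∈ R 0 j')
    obtain rfl := rowinj 0 a' 0 (congrArg Prod.fst ha')
    exact hjj (colinj 0 j j' (congrArg Prod.snd ha').symm)
  rcases hR 2 (by decide) with h | h
  · exact ne 2 1 (by decide) h
  rcases hR 3 (by decide) with h' | h'
  · exact ne 3 1 (by decide) h'
  · exact ne 2 3 (by decide) (h.trans h'.symm)

end Combinatorics

variable {ι : Type} [Fintype ι] [DecidableEq ι] {F : Type*} [Field F] [Finite F]
variable {σ : F ≃+* F} {f : (ι → F) → (ι → F) → F} (hf : Geo.IsUnitaryForm σ f)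
variable {e : Fin 6 → ι → F} (hfr : Frame f e)
variable {M : Subgroup (GL ι F)}
variable (hMS : M ≤ preserving (Units.coeHom (Matrix ι ι F)) f ⊓ Geo.specialLinear ι F)
variable (hMon : ∀ g ∈ preserving (Units.coeHom (Matrix ι ι F)) f ⊓ Geo.specialLinear ι F, FMon e g → g ∈ M)
include hf

omit [Finite F] in
theorem coord_inv {g : GL ι F} (hgf : ∀ x y, f (mv g x) (mv g y) = f x y) (x y : ι → F) :
    f (mv g⁻¹ x) y = σ (f (mv g y) x) := by
  rw [← hgf, mv_mv_inv, hf.herm]

include hfr

omit [Finite F] in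
/-- A conjugate of a diagonal element fixing a frame vector has two vanishing coordinates there. -/
theorem zero_of_diag_fix {g d : GL ι F} (hgf : ∀ x y, f (mv g x) (mv g y) = f x y) {c c' : Fin 6} (hcc : c ≠ c')
    {η : F} (hη : η ≠ 1)
    (hdz : ∀ z, mv d z = z + ((η - 1) * f z (e c)) • e c + ((σ η - 1) * f z (e c')) • e c') {l : Fin 6}
    (hl : mv (g * d * g⁻¹) (e l) = e l) : f (mv g (e c)) (e l) = 0 ∧ f (mv g (e c')) (e l) = 0 := by
  have h : mv d (mv g⁻¹ (e l)) = mv g⁻¹ (e l) := by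
    rw [mv_mul, mv_mul] at hl
    exact mv_inj g (by rw [hl, mv_mv_inv])
  rw [hdz] at h
  have h1 := congrArg (fun z => f z (e c)) h
  have h2 := congrArg (fun z => f z (e c')) h
  simp only [hf.add_left, coord_smul hf hfr, if_true, if_neg hcc, if_neg hcc.symm, add_zero, add_eq_left] at h1 h2
  have hση : σ η - 1 ≠ 0 := sub_ne_zero.2 fun h0 => hη (σ.injective (by rw [h0, map_one]))
  have e1 := (mul_eq_zero.1 h1).resolve_left (sub_ne_zero.2 hη)
  have e2 := (mul_eq_zero.1 h2).resolve_left hση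
  rw [coord_inv hf hgf, map_eq_zero_iff σ σ.injective] at e1 e2
  exact ⟨e1, e2⟩

include hMS hMon

variable (hNX : LineRigid e M)
include hNX

/-- A column with two zeros forces two columns of the inverse into a coordinate plane. -/
theorem two_sparse (h2 : (2 : F) ≠ 0) {g : GL ι F} (hg : g ∈ M) {a c c' : Fin 6} (hcc : c ≠ c')
    (hc : f (mv g (e a)) (e c) = 0) (hc' : f (mv g (e a)) (e c') = 0) :
    ∃ S : Finset (Fin 6), S.card ≤ 2 ∧
      ∀ l, l ∉ S → f (mv g⁻¹ (e c)) (e l) = 0 ∧ f (mv g⁻¹ (e c')) (e l) = 0 := by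
  classical
  -- a norm-one scalar of order neither dividing two nor three
  obtain ⟨η, hη, hη1, hηm, hη3⟩ : ∃ η : F, η * σ η = 1 ∧ η ≠ 1 ∧ η ≠ -1 ∧ η * η * η ≠ 1 := by
    obtain ⟨η, hη, hη'⟩ := exists_normOne_avoid hf.ne_refl hf.involutive ({1, -1} : Finset F)
      (Finset.card_le_two.trans two_le_card_fixed)
    simp only [Finset.mem_insert, Finset.mem_singleton, not_or] at hη'
    by_cases h3 : η * η * η = 1
    · refine ⟨-η, by rw [map_neg]; linear_combination hη, fun h => hη'.2 (by linear_combination -h),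
        fun h => hη'.1 (by linear_combination -h), fun h => h2 (by linear_combination -h - h3)⟩
    · exact ⟨η, hη, hη'.1, hη'.2, h3⟩
  obtain ⟨d, hd, hdm, hdz⟩ := exists_diag hf hfr hcc hη
  have hgi : ∀ p q, f (mv g⁻¹ p) (mv g⁻¹ q) = f p q := fun p q => (hMS (M.inv_mem hg)).1 p q
  set z := g⁻¹ * d * g⁻¹⁻¹ with hz
  have hzM : z ∈ M := M.mul_mem (M.mul_mem (M.inv_mem hg) (hMon d hd hdm)) (M.inv_mem (M.inv_mem hg))
  have hzm : FMon e z := hNX z hzM a a 1 (by
    rw [hz, inv_inv, mv_mul, mv_mul, hdz, hc, hc', mul_zero, mul_zero, zero_smul, zero_smul, add_zero, add_zero,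
      mv_inv_mv, one_smul])
  refine ⟨Finset.univ.filter fun k => mv z (e k) ≠ e k, ?_, fun l hl => ?_⟩
  swap
  · simp only [Finset.mem_filter, Finset.mem_univ, true_and, not_not] at hl
    exact zero_of_diag_fix hf hfr hgi hcc hη1 hdz hl
  set V := Submodule.span F ({mv g⁻¹ (e c), mv g⁻¹ (e c')} : Set (ι → F)) with hV
  have hmv : ∀ w, mv z w - w ∈ V := by
    intro w
    rw [hz, inv_inv, mv_mul, mv_mul, hdz, mv_add, mv_add, mv_smul, mv_smul, mv_inv_mv, add_assoc,
      add_sub_cancel_left]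
    exact Submodule.mem_span_pair.2 ⟨_, _, rfl⟩
  -- the cubic equation of the diagonal element
  set s := η + σ η with hs
  have hd3 : ∀ w, mv d (mv d (mv d w)) - (1 + s) • mv d (mv d w) + (1 + s) • mv d w - w = 0 := by
    intro w
    have hcoord : ∀ x l, f (mv d x) (e l) =
        (if l = c then η else if l = c' then σ η else 1) * f x (e l) := by
      intro x l
      rw [hdz, hf.add_left, hf.add_left, coord_smul hf hfr, coord_smul hf hfr]
      rcases eq_or_ne l c with rfl | hlc
      · rw [if_pos rfl, if_neg hcc.symm, if_pos rfl]; ring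
      rcases eq_or_ne l c' with rfl | hlc'
      · rw [if_neg hcc, if_pos rfl, if_neg hlc, if_pos rfl]; ring
      rw [if_neg hlc.symm, if_neg hlc'.symm, if_neg hlc, if_neg hlc']; ring
    refine eq_zero_of_coord hf hfr fun l => ?_
    simp only [sub_left hf, hf.add_left, hf.smul_left, hcoord]
    rw [hs]
    split_ifs
    · linear_combination (f w (e l) * (1 - η)) * hη
    · linear_combination (f w (e l) * (1 - σ η)) * hη
    · ring
  have hcub : ∀ w, mv z (mv z (mv z w)) - (1 + s) • mv z (mv z w) + (1 + s) • mv z w - w = 0 := by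
    intro w
    have h := congrArg (mv g⁻¹) (hd3 (mv g w))
    simp only [hz, inv_inv, mv_mul, mv_mv_inv]
    simpa only [mv_sub, mv_add, mv_smul, mv_zero, mv_inv_mv] using h
  obtain ⟨π, aa, ha1, ha⟩ := FMon.perm hf hfr hzm (fun p q => (hMS hzM).1 p q)
  have hmem : ∀ k, mv z (e k) ≠ e k → e k ∈ V := by
    intro k hk
    have m1 := hmv (e k)
    rw [ha] at m1
    rcases eq_or_ne (π k) k with hπk | hπk
    · rw [hπk, show aa k • e k - e k = (aa k - 1) • e k by rw [sub_smul, one_smul]] at m1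
      exact (Submodule.smul_mem_iff _ (sub_ne_zero.2 fun h => hk (by rw [ha, hπk, h, one_smul]))).1 m1
    have hcu := hcub (e k)
    simp only [ha, mv_smul, smul_smul] at hcu
    have ha0 : aa k ≠ 0 := left_ne_zero_of_mul_eq_one (ha1 k)
    have h1s : 1 + s ≠ 0 := fun h => hη3 (by linear_combination η * (η - 1) * h - (η - 1) * hη)
    have hππ : π (π k) = k := by
      by_contra hne
      have h := congrArg (fun w => f w (e (π k))) hcu
      simp only [sub_left hf, hf.add_left, coord_smul hf hfr, zero_left hf, if_true] at h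
      simp [hne, hπk, frame_other hf hfr hπk.symm] at h
      first | exact mul_ne_zero h1s ha0 (by linear_combination h) | exact h.elim h1s ha0
    set P := aa k * aa (π k) with hP
    rw [hππ] at hcu
    have hA := congrArg (fun w => f w (e k)) hcu
    have hB := congrArg (fun w => f w (e (π k))) hcu
    simp only [sub_left hf, hf.add_left, coord_smul hf hfr, zero_left hf, if_true, if_neg hπk, if_neg hπk.symm,
      frame_self hf hfr, frame_other hf hfr hπk.symm] at hA hB
    have hPs : P + (1 + s) = 0 := by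
      refine (mul_eq_zero.1 (show aa k * (P + (1 + s)) = 0 by rw [hP]; linear_combination hB)).resolve_left ha0
    have hs0 : s = 0 := by
      have : s * (s + 2) = 0 := by rw [hP] at hPs; linear_combination hA + (1 + s) * hPs
      rcases mul_eq_zero.1 this with h | h
      · exact h
      · exact absurd (eq_neg_of_add_eq_zero_left (mul_self_eq_zero.1
          (show (η + 1) * (η + 1) = 0 by linear_combination η * h - hη))) hηm
    have m2 := hmv (e (π k))
    rw [ha, hππ] at m2
    have m3 := V.add_mem m1 (V.smul_mem (aa k) m2)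
    rw [smul_sub, smul_smul, ← hP, show aa k • e (π k) - e k + (P • e k - aa k • e (π k)) = (P - 1) • e k by
      module] at m3
    refine (Submodule.smul_mem_iff _ ?_).1 m3
    intro h
    exact h2 (by rw [hs0] at hPs; linear_combination hPs - h)
  set T := Finset.univ.filter fun k => mv z (e k) ≠ e k with hT
  have hli : LinearIndependent F fun k : T => (⟨e k.1, hmem k.1 (Finset.mem_filter.1 k.2).2⟩ : V) := by
    refine LinearIndependent.of_comp V.subtype ?_
    rw [Fintype.linearIndependent_iff]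
    intro co hco k
    have h := congrArg (fun w => f w (e k.1)) hco
    simp only [Function.comp_apply, Submodule.coe_subtype, sum_left hf, coord_smul hf hfr, zero_left hf] at h
    rwa [Finset.sum_eq_single k (fun l _ hlk => if_neg fun h' => hlk (Subtype.ext h')) (by simp), if_pos rfl] at h
  have := hli.fintype_card_le_finrank
  rw [Fintype.card_coe] at this
  refine this.trans ((finrank_span_le_card _).trans ?_)
  rw [Set.toFinset_insert, Set.toFinset_singleton]
  exact Finset.card_le_two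

/-- A column with two zeros forces the element to be monomial. -/
theorem fmon_of_two_zeros (h2 : (2 : F) ≠ 0) {g : GL ι F} (hg : g ∈ M) {a c c' : Fin 6} (hcc : c ≠ c')
    (hc : f (mv g (e a)) (e c) = 0) (hc' : f (mv g (e a)) (e c') = 0) : FMon e g := by
  classical
  by_contra hgm
  obtain ⟨S, hS, hS'⟩ := two_sparse hf hfr hMS hMon hNX h2 hg hcc hc hc'
  obtain ⟨U, hUS, hU⟩ := Finset.exists_subset_card_eq (s := Sᶜ) (n := 3)
    (by rw [Finset.card_compl, Fintype.card_fin]; omega)
  have hline : ∀ i, ∀ T : Finset (Fin 6), T.card ≤ 1 → (∀ l, l ∉ T → f (mv g (e i)) (e l) = 0) → False := by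
    intro i T hT h0
    obtain ⟨l, hTl⟩ : ∃ l, T ⊆ {l} := by
      rcases T.eq_empty_or_nonempty with rfl | ⟨l, hl⟩
      · exact ⟨0, Finset.empty_subset _⟩
      · exact ⟨l, fun x hx => Finset.mem_singleton.2 (Finset.card_le_one.1 hT x hx l hl)⟩
    exact hgm (hNX g hg i l (f (mv g (e i)) (e l)) ((mem_span_of_coord hf hfr (s := {l})
      fun k hk => h0 k fun h => hk (hTl h)).trans (Finset.sum_singleton _ _)))
  let supp : Fin 6 → Finset (Fin 6) := fun i => Finset.univ.filter fun l => f (mv g (e i)) (e l) ≠ 0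
  have hpl : ∀ i ∈ U, ∀ i' ∈ U, i ≠ i' → (supp i).card = 2 ∧ supp i = supp i' := by
    intro i hi i' hi' hne
    obtain ⟨T, hT, hT'⟩ := two_sparse hf hfr hMS hMon hNX h2 (M.inv_mem hg) hne
      (hS' i (Finset.mem_compl.1 (hUS hi))).1 (hS' i' (Finset.mem_compl.1 (hUS hi'))).1
    rw [inv_inv] at hT'
    have h1 : supp i ⊆ T := fun l hl => by
      by_contra h; exact (Finset.mem_filter.1 hl).2 (hT' l h).1
    have h1' : supp i' ⊆ T := fun l hl => by
      by_contra h; exact (Finset.mem_filter.1 hl).2 (hT' l h).2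
    have h3 : ∀ j, 2 ≤ (supp j).card := fun j => by
      by_contra h
      exact hline j (supp j) (by omega) fun l hl => not_not.1 fun hne' =>
        hl (Finset.mem_filter.2 ⟨Finset.mem_univ _, hne'⟩)
    have e1 := Finset.eq_of_subset_of_card_le h1 (by have := h3 i; omega)
    have e2 := Finset.eq_of_subset_of_card_le h1' (by have := h3 i'; omega)
    exact ⟨le_antisymm ((Finset.card_le_card h1).trans hT) (h3 i), e1.trans e2.symm⟩
  obtain ⟨i₀, hi₀, i₁, hi₁, hne⟩ := Finset.one_lt_card.1 (show 1 < U.card by omega)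
  have h := orth_family_card hf hfr (fun i : U => mv g (e i.1))
    (fun i => by rw [show ∀ p q, f (mv g p) (mv g q) = f p q from (hMS hg).1, frame_self hf hfr]; exact one_ne_zero)
    (fun i i' h => by rw [show ∀ p q, f (mv g p) (mv g q) = f p q from (hMS hg).1]; exact frame_other hf hfr fun h' => h (Subtype.ext h'))
    (supp i₀) (fun i l hl => by
      by_contra h
      apply hl
      rcases eq_or_ne i₀ i.1 with he | he
      · rw [he]; exact Finset.mem_filter.2 ⟨Finset.mem_univ _, h⟩
      · rw [(hpl i₀ hi₀ i.1 i.2 he).2]; exact Finset.mem_filter.2 ⟨Finset.mem_univ _, h⟩)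
  rw [Fintype.card_coe, hU, (hpl i₀ hi₀ i₁ hi₁ hne).1] at h
  omega

/-- Squared absolute values of coordinates of a non-monomial element are symmetrical in many ways. -/
theorem exists_symmetry (h2 : (2 : F) ≠ 0) {g : GL ι F} (hg : g ∈ M) (hgm : ¬ FMon e g) {a a' i i' : Fin 6}
    (haa : a ≠ a') (hii : i ≠ i') :
    ∃ π : Equiv.Perm (Fin 6), (π a = i ∧ π a' = i' ∨ π a = i' ∧ π a' = i) ∧
      ∀ x y, f (mv g (e x)) (e (π y)) * σ (f (mv g (e x)) (e (π y))) =
        f (mv g (e y)) (e (π x)) * σ (f (mv g (e y)) (e (π x))) := by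
  classical
  have hMf : ∀ g ∈ M, ∀ p q, f (mv g p) (mv g q) = f p q := fun g hg p q => (hMS hg).1 p q
  have zeros : ∀ y ∈ M, ∀ x (A : Finset (Fin 6)), A.card ≤ 4 → (∀ l, l ∉ A → f (mv y (e x)) (e l) = 0) →
      FMon e y := by
    intro y hy x A hA h0
    obtain ⟨c, hc, c', hc', hcc⟩ := Finset.one_lt_card.1
      (show 1 < Aᶜ.card by rw [Finset.card_compl, Fintype.card_fin]; omega)
    exact fmon_of_two_zeros hf hfr hMS hMon hNX h2 hy hcc (h0 c (Finset.mem_compl.1 hc))
      (h0 c' (Finset.mem_compl.1 hc'))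
  have hC : ∀ y ∈ M, ∀ (A : Finset (Fin 6)) (w : GL ι F), A.Nonempty → A.card ≤ 4 → Signs e A w →
      w * y = y * w → FMon e y := by
    intro y hy A w hAne hA hw hc
    obtain ⟨x, hx⟩ := hAne
    refine zeros y hy x A hA fun l hl => ?_
    have h := Signs.coord hf hfr hw (mv y (e x)) l
    rw [← mv_mul, hc, mv_mul, hw x, if_pos hx, mv_neg, neg_left hf, if_neg hl] at h
    exact (mul_eq_zero.1 (show (2 : F) * f (mv y (e x)) (e l) = 0 by linear_combination -h)).resolve_left h2
  have hX : ∀ y ∈ M, ∀ (W : Finset (Fin 6)) (w : GL ι F), W.card = 2 → Signs e W w →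
      FMon e (y * w * y⁻¹) → FMon e y := by
    intro y hy W w hW hw hm
    obtain ⟨x, hx⟩ := Finset.card_pos.1 (show 0 < W.card by omega)
    obtain ⟨S, hS, hS'⟩ := sparse_of_conj hf hfr h2 (hMf y hy) hw hm
    exact zeros y hy x S (by omega) (hS' x hx)
  obtain ⟨u, huM, hu⟩ := exists_signs_pair hf hfr hMS hMon hii
  obtain ⟨wP, hwM, hw⟩ := exists_signs_pair hf hfr hMS hMon haa
  set t' := g * wP * g⁻¹ with ht'
  have ht'M : t' ∈ M := M.mul_mem (M.mul_mem hg hwM) (M.inv_mem hg)
  have ht'm : ¬ FMon e t' := fun h => hgm (hX g hg _ wP (Finset.card_pair haa) hw h)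
  have hu2 := Signs.mul_self hf hfr hu
  have ht'2 : t' * t' = 1 := by
    rw [ht', show g * wP * g⁻¹ * (g * wP * g⁻¹) = g * (wP * wP) * g⁻¹ by group,
      Signs.mul_self hf hfr hw, mul_one, mul_inv_cancel]
  rcases dihedral_cases hu2 ht'2 with ⟨j, hj⟩ | ⟨m, hm1, hm2, hmu, hmt, j, hj⟩
  swap
  · exfalso
    set v := (u * t') ^ m with hv
    have hvM : v ∈ M := M.pow_mem (M.mul_mem huM ht'M) m
    have hvm : FMon e v := hC v hvM _ u (Finset.insert_nonempty _ _) (Finset.card_le_two.trans (by norm_num)) hu hmu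
    have hvu : FMon e (v * u) := FMon.mul hvm hu.fmon
    obtain ⟨x, hxM, W, w, hW, hw', hxw⟩ : ∃ x ∈ M, ∃ (W : Finset (Fin 6)) (w : GL ι F),
        W.card = 2 ∧ Signs e W w ∧ x * w * x⁻¹ = v * u := by
      rcases hj with hj | hj
      · exact ⟨_, M.pow_mem (M.mul_mem huM ht'M) j, _, u, Finset.card_pair hii, hu, hj⟩
      · exact ⟨_, M.mul_mem (M.pow_mem (M.mul_mem huM ht'M) j) hg, _, wP, Finset.card_pair haa, hw,
          by rw [← hj, ht']; group⟩
    have hxm : FMon e x := hX x hxM W w hW hw' (hxw ▸ hvu)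
    obtain ⟨π, c, hc1, hc⟩ := FMon.perm hf hfr hxm (hMf x hxM)
    set W' := W.image π with hW'
    have hvu' : Signs e W' (v * u) := by
      intro k
      obtain ⟨k', rfl⟩ := π.surjective k
      have hinv : mv x⁻¹ (e (π k')) = σ (c k') • e k' := by
        refine ((mv_eq_iff x).1 ?_).symm
        rw [mv_smul, hc, smul_smul, mul_comm, hc1, one_smul]
      have hiff : π k' ∈ W' ↔ k' ∈ W := by simp [hW']
      rw [← hxw, mv_mul, mv_mul, hinv, mv_smul, hw']
      by_cases hk : k' ∈ W
      · rw [if_pos hk, if_pos (hiff.2 hk), mv_smul, mv_neg, hc, smul_neg, smul_smul, mul_comm, hc1, one_smul]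
      · rw [if_neg hk, if_neg fun h => hk (hiff.1 h), mv_smul, hc, smul_smul, mul_comm, hc1, one_smul]
    set Q : Finset (Fin 6) := {i, i'} with hQ
    set A := (W' \ Q) ∪ (Q \ W') with hA
    have hvA : Signs e A v := by
      intro k
      have hveq : v = v * u * u := by rw [mul_assoc, hu2, mul_one]
      rw [hveq, mv_mul, hu k]
      simp only [hA, Finset.mem_union, Finset.mem_sdiff]
      by_cases hk1 : k ∈ Q <;> by_cases hk2 : k ∈ W' <;> simp [hk1, hk2, mv_neg, hvu' k]
    have hAne : A.Nonempty := by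
      rcases A.eq_empty_or_nonempty with he | he
      · exact absurd (ext_frame hf hfr fun k => by rw [hvA k, he, if_neg (Finset.notMem_empty k), mv_one]) hm1
      · exact he
    have hA4 : A.card ≤ 4 := by
      have h1 := Finset.card_union_le (W' \ Q) (Q \ W')
      have h2' : (W' \ Q).card ≤ W'.card := Finset.card_le_card Finset.sdiff_subset
      have h3 : (Q \ W').card ≤ Q.card := Finset.card_le_card Finset.sdiff_subset
      have h4 : W'.card ≤ W.card := Finset.card_image_le
      have h5 : Q.card ≤ 2 := Finset.card_le_two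
      rw [← hA] at h1
      omega
    exact ht'm (hC t' ht'M A v hAne hA4 hvA hmt.symm)
  set r := (u * t') ^ j with hr
  have hrM : r ∈ M := M.pow_mem (M.mul_mem huM ht'M) j
  set y := r * g with hy
  have hyM : y ∈ M := M.mul_mem hrM hg
  have huy : u * y = y * wP := by
    have h1 : r * t' * r⁻¹ * y = y * wP := by rw [hy, ht']; group
    rwa [hj] at h1
  have hsupp : ∀ x, (x = a ∨ x = a') → ∀ l, l ∉ ({i, i'} : Finset (Fin 6)) → f (mv y (e x)) (e l) = 0 := by
    intro x hx l hl
    have h := Signs.coord hf hfr hu (mv y (e x)) l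
    rw [← mv_mul, huy, mv_mul, hw x, if_pos (by simpa using hx), mv_neg, neg_left hf, if_neg hl] at h
    exact (mul_eq_zero.1 (show (2 : F) * f (mv y (e x)) (e l) = 0 by linear_combination -h)).resolve_left h2
  have hym : FMon e y := zeros y hyM a _ (Finset.card_le_two.trans (by norm_num)) (hsupp a (Or.inl rfl))
  obtain ⟨π, c, hc1, hc⟩ := FMon.perm hf hfr hym (hMf y hyM)
  have hc0 : ∀ x, c x ≠ 0 := fun x => left_ne_zero_of_mul_eq_one (hc1 x)
  have hπ : ∀ x, (x = a ∨ x = a') → π x = i ∨ π x = i' := by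
    intro x hx
    by_contra hne
    have h := hsupp x hx (π x) (by simpa using hne)
    rw [hc, coord_smul hf hfr, if_pos rfl] at h
    exact hc0 x h
  refine ⟨π, ?_, fun x z => ?_⟩
  · have hne : π a ≠ π a' := π.injective.ne haa
    rcases hπ a (Or.inl rfl) with h | h <;> rcases hπ a' (Or.inr rfl) with h' | h'
    · exact absurd (h.trans h'.symm) hne
    · exact Or.inl ⟨h, h'⟩
    · exact Or.inr ⟨h, h'⟩
    · exact absurd (h.trans h'.symm) hne
  have hgy : ∀ x, mv g (e x) = c x • mv r⁻¹ (e (π x)) := fun x => by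
    rw [← mv_smul, ← hc, hy, mv_mul, mv_inv_mv]
  -- the rotation is inverted by u
  have hur : u * r⁻¹ * u = r := by
    have hti : t'⁻¹ = t' := inv_eq_of_mul_eq_one_right ht'2
    have hui : u⁻¹ = u := inv_eq_of_mul_eq_one_right hu2
    have h1 : u * (u * t')⁻¹ * u = u * t' := by
      rw [_root_.mul_inv_rev, hti, hui, mul_assoc, mul_assoc, hu2, mul_one]
    have h2' : ∀ n : ℕ, u * ((u * t') ^ n)⁻¹ * u = (u * t') ^ n := by
      intro n
      induction n with
      | zero => rw [pow_zero, inv_one, mul_one, hu2]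
      | succ n ih =>
        rw [pow_succ, _root_.mul_inv_rev]
        calc u * ((u * t')⁻¹ * ((u * t') ^ n)⁻¹) * u
            = (u * (u * t')⁻¹ * u) * (u⁻¹ * ((u * t') ^ n)⁻¹ * u) := by group
          _ = (u * t') * (u * t') ^ n := by rw [h1, hui, ih]
          _ = _ := by rw [← pow_succ', pow_succ]
    exact h2' j
  have hsym : ∀ p p', f (mv r⁻¹ (e p)) (e p') * σ (f (mv r⁻¹ (e p)) (e p')) =
      f (mv r⁻¹ (e p')) (e p) * σ (f (mv r⁻¹ (e p')) (e p)) := by
    intro p p'
    obtain ⟨δ, hδ, hup⟩ : ∃ δ : F, δ * σ δ = 1 ∧ mv u (e p) = δ • e p := by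
      rw [hu p]
      by_cases h : p ∈ ({i, i'} : Finset (Fin 6))
      · exact ⟨-1, by rw [map_neg, map_one]; ring, by rw [if_pos h, neg_one_smul]⟩
      · exact ⟨1, by rw [map_one, one_mul], by rw [if_neg h, one_smul]⟩
    obtain ⟨δ', hδ', hup'⟩ : ∃ δ : F, δ * σ δ = 1 ∧ mv u (e p') = δ • e p' := by
      rw [hu p']
      by_cases h : p' ∈ ({i, i'} : Finset (Fin 6))
      · exact ⟨-1, by rw [map_neg, map_one]; ring, by rw [if_pos h, neg_one_smul]⟩
      · exact ⟨1, by rw [map_one, one_mul], by rw [if_neg h, one_smul]⟩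
    have h1 : f (mv r⁻¹ (e p)) (e p') = δ * σ δ' * σ (f (mv r⁻¹ (e p')) (e p)) := by
      conv_lhs => rw [coord_inv hf (hMf r hrM), ← hur, mv_mul, mv_mul, hup', mv_smul, mv_smul, hf.smul_left,
        ← hMf u huM, ← mv_mul, hu2, mv_one, hup, smul_right hf]
      rw [map_mul, map_mul, hf.involutive]
      ring
    rw [h1, map_mul, map_mul, hf.involutive, hf.involutive]
    linear_combination (f (mv r⁻¹ (e p')) (e p) * σ (f (mv r⁻¹ (e p')) (e p))) * (σ δ' * δ' * hδ + hδ')
  rw [hgy, hgy, hf.smul_left, hf.smul_left, map_mul, map_mul]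
  linear_combination hsym (π x) (π z) + (f (mv r⁻¹ (e (π x))) (e (π z)) * σ (f (mv r⁻¹ (e (π x))) (e (π z)))) * hc1 x -
    (f (mv r⁻¹ (e (π z))) (e (π x)) * σ (f (mv r⁻¹ (e (π z))) (e (π x)))) * hc1 z

/-- The shape of a non-monomial element. -/
theorem exists_shape (h2 : (2 : F) ≠ 0) {g : GL ι F} (hg : g ∈ M) (hgm : ¬ FMon e g) :
    ∃ b : F, b ≠ 0 ∧ σ b = b ∧ ((∀ i a, f (mv g (e a)) (e i) * σ (f (mv g (e a)) (e i)) = b) ∨
      ∃ c, c ≠ b ∧ ∃ ρ : Fin 6 → Fin 6, Function.Injective ρ ∧
        ∀ i a, f (mv g (e a)) (e i) * σ (f (mv g (e a)) (e i)) = if i = ρ a then c else b) := by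
  classical
  obtain ⟨b, hb⟩ := six_table (fun i a => f (mv g (e a)) (e i) * σ (f (mv g (e a)) (e i)))
    fun a a' i i' haa hii => exists_symmetry hf hfr hMS hMon hNX h2 hg hgm haa hii
  -- two coordinates in the first column with value b
  obtain ⟨i, i', hii, hi, hi'⟩ : ∃ i i', i ≠ i' ∧ f (mv g (e 0)) (e i) * σ (f (mv g (e 0)) (e i)) = b ∧
      f (mv g (e 0)) (e i') * σ (f (mv g (e 0)) (e i')) = b := by
    rcases hb with hb | ⟨c, -, ρ, -, hρ⟩
    · exact ⟨0, 1, by decide, hb 0 0, hb 1 0⟩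
    · obtain ⟨i, hi, i', hi', hii⟩ := Finset.one_lt_card.1
        (show 1 < ({ρ 0}ᶜ : Finset (Fin 6)).card by rw [Finset.card_compl, Fintype.card_fin, Finset.card_singleton]; omega)
      rw [Finset.mem_compl, Finset.mem_singleton] at hi hi'
      exact ⟨i, i', hii, (hρ i 0).trans (if_neg hi), (hρ i' 0).trans (if_neg hi')⟩
  refine ⟨b, fun h0 => hgm ?_, by rw [← hi, map_mul, hf.involutive, mul_comm], hb⟩
  have hz : ∀ {x : F}, x * σ x = b → x = 0 := fun {x} hx => by
    rw [h0, mul_eq_zero, map_eq_zero_iff σ σ.injective, or_self] at hx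
    exact hx
  exact fmon_of_two_zeros hf hfr hMS hMon hNX h2 hg hii (hz hi) (hz hi')

/-- Conjugates of diagonal pairs by non-monomial elements are not monomial. -/
theorem conj_diag_not_fmon (h2 : (2 : F) ≠ 0) {g : GL ι F} (hg : g ∈ M) (hgm : ¬ FMon e g) {a b : Fin 6}
    (hab : a ≠ b) {η : F} (hη1 : η ≠ 1) {d : GL ι F} (hdM : d ∈ M)
    (hdz : ∀ z, mv d z = z + ((η - 1) * f z (e a)) • e a + ((σ η - 1) * f z (e b)) • e b) :
    ¬ FMon e (g * d * g⁻¹) := by
  classical
  intro hm
  set x := g * d * g⁻¹ with hx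
  have hxM : x ∈ M := M.mul_mem (M.mul_mem hg hdM) (M.inv_mem hg)
  obtain ⟨π, c, hc1, hc⟩ := FMon.perm hf hfr hm (fun p q => (hMS hxM).1 p q)
  set V := Submodule.span F ({mv g (e a), mv g (e b)} : Set (ι → F)) with hV
  have hV2 : Module.finrank F V ≤ 2 := (finrank_span_le_card _).trans (by
    rw [Set.toFinset_insert, Set.toFinset_singleton]; exact Finset.card_le_two)
  have hmv : ∀ k, mv x (e k) - e k ∈ V := by
    intro k
    rw [hx, mv_mul, mv_mul, hdz, mv_add, mv_add, mv_smul, mv_smul, mv_mv_inv, add_assoc, add_sub_cancel_left]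
    exact Submodule.mem_span_pair.2 ⟨_, _, rfl⟩
  set T := Finset.univ.filter fun k => mv x (e k) ≠ e k with hT
  suffices hT4 : T.card ≤ 4 by
    obtain ⟨l, hl, l', hl', hll⟩ := Finset.one_lt_card.1
      (show 1 < Tᶜ.card by rw [Finset.card_compl, Fintype.card_fin]; omega)
    simp only [hT, Finset.mem_compl, Finset.mem_filter, Finset.mem_univ, true_and, not_not] at hl hl'
    exact hgm (fmon_of_two_zeros hf hfr hMS hMon hNX h2 hg hll
      (zero_of_diag_fix hf hfr (fun p q => (hMS hg).1 p q) hab hη1 hdz hl).1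
      (zero_of_diag_fix hf hfr (fun p q => (hMS hg).1 p q) hab hη1 hdz hl').1)
  by_contra hbig
  obtain ⟨k₁, hk₁⟩ := Finset.card_pos.1 (show 0 < T.card by omega)
  obtain ⟨k₂, hk₂, hk₂'⟩ := Finset.exists_mem_notMem_of_card_lt_card
    (s := ({k₁, π k₁} : Finset (Fin 6))) (t := T) (lt_of_le_of_lt Finset.card_le_two (by omega))
  obtain ⟨k₃, hk₃, hk₃'⟩ := Finset.exists_mem_notMem_of_card_lt_card
    (s := ({k₁, π k₁} : Finset (Fin 6)) ∪ {k₂, π k₂}) (t := T) (by
      have h := Finset.card_union_le ({k₁, π k₁} : Finset (Fin 6)) {k₂, π k₂}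
      have h1 : ({k₁, π k₁} : Finset (Fin 6)).card ≤ 2 := Finset.card_le_two
      have h2' : ({k₂, π k₂} : Finset (Fin 6)).card ≤ 2 := Finset.card_le_two
      omega)
  simp only [Finset.mem_insert, Finset.mem_singleton, not_or, Finset.mem_union] at hk₂' hk₃'
  have hself : ∀ k ∈ T, f (mv x (e k) - e k) (e k) ≠ 0 := by
    intro k hk
    rw [sub_left hf, hc, coord_smul hf hfr, frame_self hf hfr]
    split_ifs with h
    · intro h0
      exact (Finset.mem_filter.1 hk).2 (by rw [hc, h, sub_eq_zero.1 h0, one_smul])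
    · rw [zero_sub]; exact neg_ne_zero.2 one_ne_zero
  have hoff : ∀ k l, l ≠ k → l ≠ π k → f (mv x (e k) - e k) (e l) = 0 := fun k l h1 h2' => by
    rw [sub_left hf, hc, coord_smul hf hfr, if_neg h2'.symm, frame_other hf hfr h1.symm, sub_zero]
  have hli : LinearIndependent F fun s : Fin 3 => (⟨_, hmv (![k₁, k₂, k₃] s)⟩ : V) := by
    refine LinearIndependent.of_comp V.subtype ?_
    rw [Fintype.linearIndependent_iff]
    intro co hco
    have key : ∀ l, co 0 * f (mv x (e k₁) - e k₁) (e l) + co 1 * f (mv x (e k₂) - e k₂) (e l) +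
        co 2 * f (mv x (e k₃) - e k₃) (e l) = 0 := by
      intro l
      have h := congrArg (fun w => f w (e l)) hco
      simpa [Fin.sum_univ_three, hf.add_left, hf.smul_left, zero_left hf] using h
    have e3 : co 2 = 0 := by
      have h := key k₃
      rw [hoff k₁ k₃ hk₃'.1.1 hk₃'.1.2, hoff k₂ k₃ hk₃'.2.1 hk₃'.2.2, mul_zero, mul_zero, zero_add, zero_add] at h
      exact (mul_eq_zero.1 h).resolve_right (hself k₃ hk₃)
    have e2 : co 1 = 0 := by
      have h := key k₂
      rw [hoff k₁ k₂ hk₂'.1 hk₂'.2, e3, mul_zero, zero_mul, zero_add, add_zero] at h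
      exact (mul_eq_zero.1 h).resolve_right (hself k₂ hk₂)
    have e1 : co 0 = 0 := by
      have h := key k₁
      rw [e2, e3, zero_mul, zero_mul, add_zero, add_zero] at h
      exact (mul_eq_zero.1 h).resolve_right (hself k₁ hk₁)
    intro s
    fin_cases s <;> assumption
  have := hli.fintype_card_le_finrank
  rw [Fintype.card_fin] at this
  omega

omit hfr hMS hMon hNX in
/-- Two values of a norm-one scalar with the same trace. -/
theorem eq_or_eq_conj {u v : F} (hu : u * σ u = 1) (hv : v * σ v = 1) (h : u + σ u = v + σ v) :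
    u = v ∨ u = σ v := by
  have : (u - v) * (u - σ v) = 0 := by linear_combination hv - hu + u * h
  rcases mul_eq_zero.1 this with h' | h'
  · exact Or.inl (sub_eq_zero.1 h')
  · exact Or.inr (sub_eq_zero.1 h')

/-- Two columns are proportional on the rows without exceptions. -/
theorem exists_phase (h2 : (2 : F) ≠ 0) {g : GL ι F} (hg : g ∈ M) (hgm : ¬ FMon e g) {b₀ : F} (hb₀ : b₀ ≠ 0)
    {a b : Fin 6} (hab : a ≠ b) (G : Finset (Fin 6)) (hG : 4 ≤ G.card)
    (hGa : ∀ i ∈ G, f (mv g (e a)) (e i) * σ (f (mv g (e a)) (e i)) = b₀)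
    (hGb : ∀ i ∈ G, f (mv g (e b)) (e i) * σ (f (mv g (e b)) (e i)) = b₀) :
    ∃ φ : F, φ * σ φ = 1 ∧ ∀ i ∈ G, f (mv g (e b)) (e i) = φ * f (mv g (e a)) (e i) := by
  classical
  set A : Fin 6 → F := fun i => f (mv g (e a)) (e i) with hA
  set B : Fin 6 → F := fun i => f (mv g (e b)) (e i) with hB
  have hA0 : ∀ i ∈ G, A i ≠ 0 := fun i hi h => hb₀ (by rw [← hGa i hi]; simp [hA] at h; rw [h, zero_mul])
  set φ : Fin 6 → F := fun i => B i / A i with hφ
  have hφ1 : ∀ i ∈ G, φ i * σ (φ i) = 1 := fun i hi => by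
    have hs : σ (A i) ≠ 0 := fun h => hA0 i hi ((map_eq_zero_iff σ σ.injective).1 h)
    rw [hφ, map_div₀]
    field_simp [hA0 i hi]
    exact (hGb i hi).trans (hGa i hi).symm
  have step : ∀ i ∈ G, ∀ j ∈ G, φ i ≠ φ j → ∀ k ∈ G, k ≠ i → k ≠ j → ∀ l ∈ G, l ≠ i → l ≠ j → k ≠ l →
      φ k ≠ φ j ∧ (φ k = φ l ∨ φ k * φ l = φ j * φ j) := by
    intro i hi j hj hne k hk hki hkj l hl hli hlj hkl
    set η := φ i * σ (φ j) with hη
    have hη1 : η * σ η = 1 := by
      rw [hη, map_mul, hf.involutive]; linear_combination (φ j * σ (φ j)) * hφ1 i hi + hφ1 j hj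
    have hη0 : η ≠ 1 := fun h => hne (by linear_combination (φ j) * h - φ i * hφ1 j hj)
    obtain ⟨d, hd, hdm, hdz⟩ := exists_diag hf hfr hab hη1
    have hdM := hMon d hd hdm
    set x := g * d * g⁻¹ with hx
    have hxM : x ∈ M := M.mul_mem (M.mul_mem hg hdM) (M.inv_mem hg)
    have hxm := conj_diag_not_fmon hf hfr hMS hMon hNX h2 hg hgm hab hη0 hdM hdz
    have ent : ∀ m ∈ G, m ≠ i → f (mv x (e m)) (e i) =
        (η - 1) * A i * σ (A m) * (1 - φ j * σ (φ m)) := by
      intro m hm hmi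
      rw [hx, mv_mul, mv_mul, hdz, mv_add, mv_add, mv_smul, mv_smul, mv_mv_inv, hf.add_left, hf.add_left,
        hf.smul_left, hf.smul_left, frame_other hf hfr hmi, coord_inv hf (fun p q => (hMS hg).1 p q),
        coord_inv hf (fun p q => (hMS hg).1 p q)]
      show 0 + (η - 1) * σ (A m) * A i + (σ η - 1) * σ (B m) * B i = _
      have e1 : B i = φ i * A i := (div_mul_cancel₀ _ (hA0 i hi)).symm
      have e2 : B m = φ m * A m := (div_mul_cancel₀ _ (hA0 m hm)).symm
      rw [e1, e2, map_mul, hη, map_mul, hf.involutive]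
      linear_combination (σ (A m) * A i * σ (φ m) * φ j) * hφ1 i hi +
        (σ (A m) * A i * σ (φ m) * φ i) * hφ1 j hj
    obtain ⟨bx, hbx, -, hsh⟩ := exists_shape hf hfr hMS hMon hNX h2 hxM hxm
    have hzero : f (mv x (e j)) (e i) = 0 := by
      rw [ent j hj (fun h => hne (by rw [h])), hφ1 j hj]; ring
    have hgood : ∀ m, m ≠ j → f (mv x (e m)) (e i) * σ (f (mv x (e m)) (e i)) = bx := by
      rcases hsh with hsh | ⟨c, -, ρ, hρi, hρ⟩
      · exact fun m _ => hsh i m
      · have hij : i = ρ j := by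
          by_contra h
          have := hρ i j
          rw [if_neg h, hzero, zero_mul] at this
          exact hbx this.symm
        intro m hm
        rw [hρ, if_neg fun h => hm (hρi (h.symm.trans hij))]
    have hw0 : (η - 1) * σ (η - 1) * (b₀ * b₀) ≠ 0 := mul_ne_zero (mul_ne_zero (sub_ne_zero.2 hη0)
      fun h => hη0 (sub_eq_zero.1 ((map_eq_zero_iff σ σ.injective).1 h))) (mul_ne_zero hb₀ hb₀)
    have hn : ∀ m ∈ G, m ≠ i → m ≠ j →
        (η - 1) * σ (η - 1) * (b₀ * b₀) * ((1 - φ j * σ (φ m)) * σ (1 - φ j * σ (φ m))) = bx := by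
      intro m hm hmi hmj
      rw [← hgood m hmj, ent m hm hmi]
      simp only [map_mul, hf.involutive]
      linear_combination -((η - 1) * σ (η - 1) * (A m * σ (A m)) * ((1 - φ j * σ (φ m)) * σ (1 - φ j * σ (φ m)))) *
        hGa i hi - ((η - 1) * σ (η - 1) * b₀ * ((1 - φ j * σ (φ m)) * σ (1 - φ j * σ (φ m)))) * hGa m hm
    refine ⟨fun h => hbx ?_, ?_⟩
    · rw [← hn k hk hki hkj, h, hφ1 j hj]; simp
    have htr := mul_left_cancel₀ hw0 ((hn k hk hki hkj).trans (hn l hl hli hlj).symm)
    have hu : ∀ m ∈ G, φ j * σ (φ m) * σ (φ j * σ (φ m)) = 1 := fun m hm => by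
      rw [map_mul, hf.involutive]; linear_combination (φ m * σ (φ m)) * hφ1 j hj + hφ1 m hm
    rcases eq_or_eq_conj hf (hu k hk) (hu l hl) (by
        simp only [map_sub, map_one] at htr
        linear_combination -htr + hu k hk - hu l hl) with h | h
    · refine Or.inl (σ.injective (mul_left_cancel₀ ?_ h))
      exact left_ne_zero_of_mul_eq_one (hφ1 j hj)
    · right
      rw [map_mul, hf.involutive] at h
      linear_combination (-(φ k * φ j)) * h + φ j * φ j * hφ1 k hk - φ k * φ l * hφ1 j hj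
  have alleq : ∀ i ∈ G, ∀ j ∈ G, φ i = φ j := by
    intro i hi j hj
    by_contra hne
    obtain ⟨k, hk, l, hl, hkl⟩ := Finset.one_lt_card.1 (show 1 < ((G.erase i).erase j).card by
      have h1 := Finset.pred_card_le_card_erase (s := G) (a := i)
      have h2' := Finset.pred_card_le_card_erase (s := G.erase i) (a := j)
      omega)
    simp only [Finset.mem_erase] at hk hl
    obtain ⟨hkj, hki, hkG⟩ := hk
    obtain ⟨hlj, hli, hlG⟩ := hl
    obtain ⟨hne_kj, hkl1⟩ := step i hi j hj hne k hkG hki hkj l hlG hli hlj hkl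
    obtain ⟨hne_ki, hkl2⟩ := step j hj i hi (Ne.symm hne) k hkG hkj hki l hlG hlj hli hkl
    have hij : i ≠ j := fun h => hne (by rw [h])
    obtain ⟨hjk, hjl1⟩ := step i hi k hkG (Ne.symm hne_ki) j hj hij.symm (Ne.symm hkj) l hlG hli hkl.symm
      (Ne.symm hlj)
    obtain ⟨hji, hjl2⟩ := step k hkG i hi hne_ki j hj (Ne.symm hkj) hij.symm l hlG hkl.symm hli (Ne.symm hlj)
    obtain ⟨hlk, -⟩ := step i hi k hkG (Ne.symm hne_ki) l hlG hli hkl.symm j hj hij.symm (Ne.symm hkj) hlj
    obtain ⟨hlne_j, -⟩ := step i hi j hj hne l hlG hli hlj k hkG hki hkj hkl.symm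
    have hj2 : φ k * φ l = φ j * φ j := hkl1.resolve_left (Ne.symm hlk)
    have hi2 : φ k * φ l = φ i * φ i := hkl2.resolve_left (Ne.symm hlk)
    have hk2' : φ j * φ l = φ k * φ k := hjl1.resolve_left (Ne.symm hlne_j)
    have hi2' : φ j * φ l = φ i * φ i := hjl2.resolve_left (Ne.symm hlne_j)
    have e1 : φ j = -φ i := by
      rcases mul_self_eq_mul_self_iff.1 (hj2.symm.trans hi2) with h | h
      · exact absurd h.symm hne
      · exact h
    have e2 : φ k = -φ i := by
      rcases mul_self_eq_mul_self_iff.1 (hk2'.symm.trans hi2') with h | h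
      · exact absurd h hne_ki
      · exact h
    exact hne_kj (e2.trans e1.symm)
  obtain ⟨i₀, hi₀⟩ := Finset.card_pos.1 (show 0 < G.card by omega)
  refine ⟨φ i₀, hφ1 i₀ hi₀, fun i hi => ?_⟩
  rw [alleq i₀ hi₀ i hi]
  exact (div_mul_cancel₀ _ (hA0 i hi)).symm

/-- In dimension six every element is monomial if all elements fixing a frame line are. -/
theorem fmon_six (h2 : (2 : F) ≠ 0) : ∀ g ∈ M, FMon e g := by
  classical
  intro g hg
  by_contra hgm
  obtain ⟨b₀, hb₀, hb₀σ, hsh⟩ := exists_shape hf hfr hMS hMon hNX h2 hg hgm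
  have hgf : ∀ p q, f (mv g p) (mv g q) = f p q := fun p q => (hMS hg).1 p q
  have hnorm : ∀ a, ∑ i, f (mv g (e a)) (e i) * σ (f (mv g (e a)) (e i)) = 1 := fun a => by
    rw [← f_coord hf hfr, hgf, frame_self hf hfr]
  have horth : ∀ a b, a ≠ b → ∑ i, f (mv g (e a)) (e i) * σ (f (mv g (e b)) (e i)) = 0 := fun a b h => by
    rw [← f_coord hf hfr, hgf, frame_other hf hfr h]
  set a : Fin 6 := 0 with ha
  set b : Fin 6 := 1 with hb
  have hab : a ≠ b := by rw [ha, hb]; decide
  rcases hsh with hall | ⟨c, hcb, ρ, hρi, hρ⟩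
  · obtain ⟨φ, hφ, hφG⟩ := exists_phase hf hfr hMS hMon hNX h2 hg hgm hb₀ hab Finset.univ (by simp)
      (fun i _ => hall i a) (fun i _ => hall i b)
    have h1 := hnorm a
    have h0 := horth a b hab
    rw [Finset.sum_congr rfl fun i _ => show f (mv g (e a)) (e i) * σ (f (mv g (e b)) (e i)) = σ φ * b₀ by
      rw [hφG i (Finset.mem_univ i), map_mul, ← hall i a]; ring] at h0
    simp only [hall, Finset.sum_const, Finset.card_univ, Fintype.card_fin, nsmul_eq_mul] at h1 h0
    exact right_ne_zero_of_mul_eq_one hφ (by linear_combination h0 - σ φ * h1)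
  set r := ρ a with hr
  set r' := ρ b with hr'
  have hrr : r ≠ r' := hρi.ne hab
  set G := ((Finset.univ : Finset (Fin 6)).erase r).erase r' with hGdef
  have hG4 : G.card = 4 := by
    rw [hGdef, Finset.card_erase_of_mem (Finset.mem_erase.2 ⟨hrr.symm, Finset.mem_univ _⟩),
      Finset.card_erase_of_mem (Finset.mem_univ _), Finset.card_univ, Fintype.card_fin]
  have hGm : ∀ i ∈ G, i ≠ r ∧ i ≠ r' := fun i hi => by
    simp only [hGdef, Finset.mem_erase] at hi; exact ⟨hi.2.1, hi.1⟩
  obtain ⟨φ, hφ, hφG⟩ := exists_phase hf hfr hMS hMon hNX h2 hg hgm hb₀ hab G hG4.ge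
    (fun i hi => (hρ i a).trans (if_neg (hGm i hi).1)) (fun i hi => (hρ i b).trans (if_neg (hGm i hi).2))
  have hφ0 : φ ≠ 0 := left_ne_zero_of_mul_eq_one hφ
  have hσφ0 : σ φ ≠ 0 := right_ne_zero_of_mul_eq_one hφ
  set A₁ := f (mv g (e a)) (e r) with hA₁
  set B₁ := f (mv g (e b)) (e r) with hB₁
  set A₂ := f (mv g (e a)) (e r') with hA₂
  set B₂ := f (mv g (e b)) (e r') with hB₂
  have nA₁ : A₁ * σ A₁ = c := (hρ r a).trans (if_pos rfl)
  have nB₁ : B₁ * σ B₁ = b₀ := (hρ r b).trans (if_neg hrr)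
  have nA₂ : A₂ * σ A₂ = b₀ := (hρ r' a).trans (if_neg hrr.symm)
  have nB₂ : B₂ * σ B₂ = c := (hρ r' b).trans (if_pos rfl)
  have hcσ : σ c = c := by rw [← nA₁, map_mul, hf.involutive, mul_comm]
  set n := c / b₀ with hn
  set z := A₁ * σ B₁ / (b₀ * σ φ) with hz
  set z' := A₂ * σ B₂ / (b₀ * σ φ) with hz'
  have hn1 : n ≠ 1 := fun h => hcb ((div_eq_one_iff_eq hb₀).1 h)
  have hnσ : σ n = n := by rw [hn, map_div₀, hcσ, hb₀σ]
  have hσz : σ z = σ A₁ * B₁ / (b₀ * φ) := by
    rw [hz, map_div₀, map_mul, map_mul, hf.involutive, hf.involutive, hb₀σ]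
  have hσz' : σ z' = σ A₂ * B₂ / (b₀ * φ) := by
    rw [hz', map_div₀, map_mul, map_mul, hf.involutive, hf.involutive, hb₀σ]
  have hNz : z * σ z = n := by
    rw [hσz, hz, hn]; field_simp
    linear_combination (B₁ * σ B₁) * nA₁ + c * nB₁ - c * b₀ * hφ
  have hNz' : z' * σ z' = n := by
    rw [hσz', hz', hn]; field_simp
    linear_combination (B₂ * σ B₂) * nA₂ + b₀ * nB₂ - c * b₀ * hφ
  have h4 : 4 + z + z' = 0 := by
    have h0 := horth a b hab
    rw [← Finset.add_sum_erase _ _ (Finset.mem_univ r),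
      ← Finset.add_sum_erase _ _ (Finset.mem_erase.2 ⟨hrr.symm, Finset.mem_univ r'⟩), ← hGdef,
      Finset.sum_congr rfl fun i hi => show f (mv g (e a)) (e i) * σ (f (mv g (e b)) (e i)) = σ φ * b₀ by
        rw [hφG i hi, map_mul, ← (hρ i a).trans (if_neg (hGm i hi).1)]; ring,
      Finset.sum_const, hG4, nsmul_eq_mul, ← hA₁, ← hB₁, ← hA₂, ← hB₂] at h0
    rw [hz, hz']
    field_simp
    push_cast at h0
    linear_combination h0
  have hn0 : n ≠ 0 := fun h => by
    have e1 : z = 0 := by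
      rw [h, mul_eq_zero, map_eq_zero_iff σ σ.injective, or_self] at hNz; exact hNz
    have e2 : z' = 0 := by
      rw [h, mul_eq_zero, map_eq_zero_iff σ σ.injective, or_self] at hNz'; exact hNz'
    exact mul_ne_zero h2 h2 (by linear_combination h4 - e1 - e2)
  -- the two equations
  have either : ∀ η, η * σ η = 1 → η ≠ 1 →
      n - 1 = (z - 1) * σ η + σ (z - 1) * η ∨ n - 1 = (z' - 1) * σ η + σ (z' - 1) * η := by
    intro η hη hη1
    obtain ⟨d, hd, hdm, hdz⟩ := exists_diag hf hfr hab hη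
    have hdM := hMon d hd hdm
    set x := g * d * g⁻¹ with hx
    have hxM : x ∈ M := M.mul_mem (M.mul_mem hg hdM) (M.inv_mem hg)
    have hxm := conj_diag_not_fmon hf hfr hMS hMon hNX h2 hg hgm hab hη1 hdM hdz
    obtain ⟨i, hi⟩ := Finset.card_pos.1 (show 0 < G.card by omega)
    set A := f (mv g (e a)) (e i) with hAdef
    have nA : A * σ A = b₀ := (hρ i a).trans (if_neg (hGm i hi).1)
    have ent : ∀ m, m ≠ i → f (mv x (e m)) (e i) =
        (η - 1) * A * (σ (f (mv g (e a)) (e m)) - σ η * φ * σ (f (mv g (e b)) (e m))) := by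
      intro m hmi
      rw [hx, mv_mul, mv_mul, hdz, mv_add, mv_add, mv_smul, mv_smul, mv_mv_inv, hf.add_left, hf.add_left,
        hf.smul_left, hf.smul_left, frame_other hf hfr hmi, coord_inv hf hgf, coord_inv hf hgf, hφG i hi, ← hAdef]
      linear_combination (σ (f (mv g (e b)) (e m)) * φ * A) * hη
    set w := (η - 1) * σ (η - 1) with hw
    have hw' : w = 2 - η - σ η := by rw [hw, map_sub, map_one]; linear_combination hη
    have hgoodv : ∀ m ∈ G, m ≠ i → f (mv x (e m)) (e i) * σ (f (mv x (e m)) (e i)) = w * w * (b₀ * b₀) := by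
      intro m hm hmi
      have nm : f (mv g (e a)) (e m) * σ (f (mv g (e a)) (e m)) = b₀ := (hρ m a).trans (if_neg (hGm m hm).1)
      rw [ent m hmi, hφG m hm, hw]
      set Am := f (mv g (e a)) (e m)
      simp only [map_mul, map_sub, map_one, hf.involutive]
      linear_combination ((η - 1) * (σ η - 1) * ((η - 1) * (σ η - 1)) * (Am * σ Am)) * nA +
        ((η - 1) * (σ η - 1) * ((η - 1) * (σ η - 1)) * b₀) * nm +
        ((η - 1) * (σ η - 1) * (A * σ A * (Am * σ Am)) * (-η - σ η + η * σ η * (φ * σ φ + 1))) * hφ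
    obtain ⟨bx, hbx, -, hxs⟩ := exists_shape hf hfr hMS hMon hNX h2 hxM hxm
    obtain ⟨m₁, hm₁, m₂, hm₂, hm12⟩ := Finset.one_lt_card.1 (show 1 < (G.erase i).card by
      rw [Finset.card_erase_of_mem hi]; omega)
    rw [Finset.mem_erase] at hm₁ hm₂
    have hir : r ≠ i := (hGm i hi).1.symm
    have hir' : r' ≠ i := (hGm i hi).2.symm
    obtain ⟨hmaj, hone⟩ : w * w * (b₀ * b₀) = bx ∧ (f (mv x (e r)) (e i) * σ (f (mv x (e r)) (e i)) = bx ∨
        f (mv x (e r')) (e i) * σ (f (mv x (e r')) (e i)) = bx) := by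
      rcases hxs with hxs | ⟨cx, -, ρx, hρxi, hρx⟩
      · exact ⟨(hgoodv m₁ hm₁.2 hm₁.1).symm.trans (hxs i m₁), Or.inl (hxs i r)⟩
      refine ⟨?_, ?_⟩
      · by_cases h : i = ρx m₁
        · exact (hgoodv m₂ hm₂.2 hm₂.1).symm.trans ((hρx i m₂).trans (if_neg fun h' => hm12 (hρxi (h.symm.trans h'))))
        · exact (hgoodv m₁ hm₁.2 hm₁.1).symm.trans ((hρx i m₁).trans (if_neg h))
      · by_cases h : i = ρx r
        · exact Or.inr ((hρx i r').trans (if_neg fun h' => hrr (hρxi (h.symm.trans h'))))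
        · exact Or.inl ((hρx i r).trans (if_neg h))
    have hw0 : w ≠ 0 := fun h => hbx (by rw [← hmaj, h, zero_mul, zero_mul])
    rcases hone with h | h
    · left
      rw [← hmaj, ent r hir, ← hA₁, ← hB₁] at h
      simp only [map_mul, map_sub, map_one, hf.involutive] at h
      have h' : (σ A₁ - σ η * φ * σ B₁) * (A₁ - η * σ φ * B₁) = w * b₀ := by
        refine mul_left_cancel₀ (mul_ne_zero hw0 hb₀) ?_
        rw [hw, map_sub, map_one] at *
        linear_combination h - ((η - 1) * (σ η - 1) * ((σ A₁ - σ η * φ * σ B₁) * (A₁ - η * σ φ * B₁))) * nA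
      rw [hw'] at h'
      rw [map_sub, map_one, hσz, hz, hn]
      field_simp
      linear_combination h' - nA₁ - (η * σ η * φ * σ φ) * nB₁ - b₀ * φ * σ φ * hη - b₀ * hφ + (c - b₀ + b₀ * η + b₀ * σ η) * hφ
    · right
      rw [← hmaj, ent r' hir', ← hA₂, ← hB₂] at h
      simp only [map_mul, map_sub, map_one, hf.involutive] at h
      have h' : (σ A₂ - σ η * φ * σ B₂) * (A₂ - η * σ φ * B₂) = w * b₀ := by
        refine mul_left_cancel₀ (mul_ne_zero hw0 hb₀) ?_
        rw [hw, map_sub, map_one] at *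
        linear_combination h - ((η - 1) * (σ η - 1) * ((σ A₂ - σ η * φ * σ B₂) * (A₂ - η * σ φ * B₂))) * nA
      rw [hw'] at h'
      rw [map_sub, map_one, hσz', hz', hn]
      field_simp
      linear_combination h' - nA₂ - (η * σ η * φ * σ φ) * nB₂ - c * φ * σ φ * hη - c * hφ + (c - b₀ + b₀ * η + b₀ * σ η) * hφ
  -- the trace of z is -4
  have hm1 : (-1 : F) * σ (-1) = 1 := by rw [map_neg, map_one]; ring
  have hm1' : (-1 : F) ≠ 1 := fun h => h2 (by linear_combination -h)
  have hσ4 : 4 + σ z + σ z' = 0 := by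
    have h := congrArg σ h4
    rwa [map_add, map_add, map_ofNat, map_zero] at h
  obtain ⟨htr, htr', hn7⟩ : z + σ z = -4 ∧ z' = σ z ∧ n = 7 := by
    rcases either (-1) hm1 hm1' with h | h
    · simp only [map_neg, map_one, map_sub] at h
      have e1 : z' * σ z' = 16 + 4 * (z + σ z) + z * σ z := by
        rw [show z' = -4 - z by linear_combination h4, show σ (-4 - z) = -4 - σ z by rw [map_sub, map_neg, map_ofNat]]
        ring
      have e2 : z + σ z = -4 :=
        mul_left_cancel₀ (mul_ne_zero h2 h2) (by linear_combination hNz' - hNz - e1)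
      exact ⟨e2, by linear_combination h4 - e2, by linear_combination h - e2⟩
    · simp only [map_neg, map_one, map_sub] at h
      have e1 : z * σ z = 16 + 4 * (z' + σ z') + z' * σ z' := by
        rw [show z = -4 - z' by linear_combination h4, show σ (-4 - z') = -4 - σ z' by rw [map_sub, map_neg, map_ofNat]]
        ring
      have e2 : z' + σ z' = -4 :=
        mul_left_cancel₀ (mul_ne_zero h2 h2) (by linear_combination hNz - hNz' - e1)
      exact ⟨by linear_combination hσ4 + h4 - e2, by linear_combination e2 - hσ4, by linear_combination h - e2⟩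
  have h3 : (3 : F) ≠ 0 := fun h => hn1 (by linear_combination hn7 + 2 * h)
  set u := z - 1 with hu
  have hu0 : u ≠ 0 := fun h => mul_ne_zero h2 h3 (by
    have h' : σ u = 0 := by rw [h, map_zero]
    rw [hu, map_sub, map_one] at h'
    rw [hu] at h
    linear_combination htr - h - h')
  have hσu0 : σ u ≠ 0 := fun h => hu0 ((map_eq_zero_iff σ σ.injective).1 h)
  have hq4 : 4 ≤ Nat.card (fixedField σ) := by
    haveI : Fintype (fixedField σ) := Fintype.ofFinite _
    have h' : ((Nat.card (fixedField σ) : ℕ) : F) = 0 := by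
      have h'' := congrArg (Subfield.subtype (fixedField σ))
        (show ((Nat.card (fixedField σ) : ℕ) : fixedField σ) = 0 by
          rw [Nat.card_eq_fintype_card]; exact Nat.cast_card_eq_zero _)
      rwa [map_natCast, map_zero] at h''
    have := two_le_card_fixed (σ := σ)
    by_contra hlt
    have : Nat.card (fixedField σ) = 2 ∨ Nat.card (fixedField σ) = 3 := by omega
    rcases this with h | h <;> rw [h] at h'
    · exact h2 (by exact_mod_cast h')
    · exact h3 (by exact_mod_cast h')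
  obtain ⟨η, hη, hη'⟩ := exists_normOne_avoid hf.ne_refl hf.involutive
    ({1, -1, -(σ u / u), -(u / σ u)} : Finset F) ((Finset.card_le_four).trans hq4)
  simp only [Finset.mem_insert, Finset.mem_singleton, not_or] at hη'
  obtain ⟨hη1, hηm, hr1, hr2⟩ := hη'
  have hη0 : η ≠ 0 := left_ne_zero_of_mul_eq_one hη
  have hzz' : z' - 1 = σ u := by rw [hu, map_sub, map_one, htr']
  have hsum : u + σ u = -6 := by rw [hu, map_sub, map_one]; linear_combination htr
  rcases either η hη hη1 with h | h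
  · refine hr2 ?_
    have e : (η + 1) * (σ u * η + u) = 0 := by
      linear_combination -η * h + η * hn7 - u * hη + η * hsum
    have := (mul_eq_zero.1 e).resolve_left fun h' => hηm (eq_neg_of_add_eq_zero_left h')
    field_simp
    linear_combination this
  · rw [hzz', hf.involutive] at h
    refine hr1 ?_
    have e : (η + 1) * (u * η + σ u) = 0 := by
      linear_combination -η * h + η * hn7 - σ u * hη + η * hsum
    have := (mul_eq_zero.1 e).resolve_left fun h' => hηm (eq_neg_of_add_eq_zero_left h')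
    field_simp
    linear_combination this

omit hNX in
/-- In dimension six some non-monomial element maps a frame line to a frame line. -/
theorem not_lineRigid_six (h2 : (2 : F) ≠ 0) (hnm : ∃ g ∈ M, ¬ FMon e g) :
    ∃ g ∈ M, ¬ FMon e g ∧ ∃ a l, ∃ c : F, mv g (e a) = c • e l := by
  by_contra hcon
  push Not at hcon
  obtain ⟨g, hg, hgm⟩ := hnm
  exact hgm (fmon_six hf hfr hMS hMon (fun g hg a l c h => by
    by_contra hm; exact hcon g hg hm a l c h) h2 g hg)

end Cfsg.Agent.Transvec.Herm
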