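/-
Overgroups of the monomial subgroup of SU in odd characteristic: a non-monomial element fixing a frame line gives a
transvection whose centre is orthogonal to a frame vector.
-/
import Cfsg.Agent.Lib.Transvec.HermFrameSix
set_option autoImplicit false
set_option maxHeartbeats 800000

namespace Cfsg.Agent.Transvec.Herm

open scoped Matrix
open Matrix Cfsg.Agent.Transvec

section Field

variable {F : Type*} [Field F] [Finite F] {σ : F ≃+* F}
variable (hne : σ ≠ RingEquiv.refl F) (hinv : ∀ a : F, σ (σ a) = a)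
include hne hinv

/-- A fixed non-square times the square of an anti-fixed element is a square of a fixed element. -/
theorem exists_anti_sqrt (h2 : (2 : F) ≠ 0) {k : F} (hk : σ k = k) (hns : ∀ y, σ y = y → y * y ≠ k) :
    ∃ κ, σ κ = -κ ∧ κ * κ = k := by
  classical
  haveI : Fintype (fixedField σ) := Fintype.ofFinite _
  obtain ⟨τ, hτ0, hτ⟩ := exists_anti hne hinv
  set K : fixedField σ := ⟨k, hk⟩
  set T : fixedField σ := ⟨τ * τ, by show σ (τ * τ) = τ * τ; rw [map_mul, hτ]; ring⟩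
  have hK : ¬ IsSquare K := by
    rintro ⟨y, hy⟩
    exact hns y y.2 (congrArg Subtype.val hy).symm
  have hT : ¬ IsSquare T := by
    rintro ⟨y, hy⟩
    have h : ((y : F) - τ) * ((y : F) + τ) = 0 := by
      have h' : τ * τ = (y : F) * y := congrArg Subtype.val hy
      linear_combination -h'
    have hfix : σ τ = τ := by
      rcases mul_eq_zero.1 h with h' | h'
      · rw [← sub_eq_zero.1 h']; exact y.2
      · rw [eq_neg_of_add_eq_zero_right h', map_neg, y.2]
    rw [hτ] at hfix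
    exact mul_ne_zero h2 hτ0 (by linear_combination -hfix)
  have hK' := quadraticChar_neg_one_iff_not_isSquare.2 hK
  have hT' := quadraticChar_neg_one_iff_not_isSquare.2 hT
  have hmul : quadraticChar (fixedField σ) (K * T) = 1 := by rw [map_mul, hK', hT']; rfl
  have h0 : K * T ≠ 0 := fun h => by rw [h, MulChar.map_zero] at hmul; exact zero_ne_one hmul
  obtain ⟨y, hy⟩ := (quadraticChar_one_iff_isSquare h0).1 hmul
  refine ⟨(y : F) / τ, ?_, ?_⟩
  · rw [map_div₀, y.2, hτ, div_neg]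
  · have h' : k * (τ * τ) = (y : F) * y := congrArg Subtype.val hy
    field_simp
    linear_combination -h'

/-- A norm-one scalar making x = |η - 1|² times M₀ a non-square. -/
theorem exists_eta_nonsquare (h2 : (2 : F) ≠ 0) {M₀ : F} (hM : σ M₀ = M₀) (hM0 : M₀ ≠ 0) :
    ∃ η, η * σ η = 1 ∧ ∀ y, σ y = y → y * y ≠ (2 - η - σ η) * M₀ := by
  classical
  by_cases hsq : ∃ y, σ y = y ∧ y * y = M₀
  swap
  · push Not at hsq
    refine ⟨-1, by rw [map_neg, map_one]; ring, fun y hy h => hsq (y / 2) ?_ ?_⟩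
    · rw [map_div₀, hy, map_ofNat]
    · rw [map_neg, map_one] at h
      field_simp
      linear_combination h
  obtain ⟨y₀, hy₀, hy₀'⟩ := hsq
  have hy₀0 : y₀ ≠ 0 := fun h => hM0 (by rw [← hy₀', h, mul_zero])
  -- a non-square in the norm-one group other than -1
  obtain ⟨θ, hθ, hθ1, hθns⟩ : ∃ θ, θ * σ θ = 1 ∧ θ ≠ -1 ∧ ∀ w, w * σ w = 1 → w * w ≠ θ := by
    obtain ⟨θ₀, hθ₀, hθ₀'⟩ := exists_normOne_avoid hne hinv ({1, -1} : Finset F)
      (Finset.card_le_two.trans two_le_card_fixed)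
    simp only [Finset.mem_insert, Finset.mem_singleton, not_or] at hθ₀'
    obtain ⟨θ, hθ, hθns⟩ : ∃ θ, θ * σ θ = 1 ∧ ∀ w, w * σ w = 1 → w * w ≠ θ := by
      by_contra hcon
      push Not at hcon
      have hsurj : Set.SurjOn (fun w => w * w) (normOnes σ : Set F) (normOnes σ : Set F) := fun x hx => by
        obtain ⟨w, hw, hw'⟩ := hcon x (mem_normOnes.1 hx)
        exact ⟨w, mem_normOnes.2 hw, hw'⟩
      have hinj : Set.InjOn (fun w => w * w) (normOnes σ : Set F) :=
        Finset.injOn_of_surjOn_of_card_le _ (fun w hw => by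
          rw [Finset.mem_coe, mem_normOnes] at hw ⊢
          rw [map_mul]; linear_combination (w * σ w + 1) * hw) hsurj le_rfl
      have h := hinj (x₁ := (1 : F)) (x₂ := -1) (mem_normOnes.2 (by rw [map_one, mul_one]))
        (mem_normOnes.2 (by rw [map_neg, map_one]; ring)) (by simp)
      exact h2 (by linear_combination h)
    by_cases hθ1 : θ = -1
    · subst hθ1
      refine ⟨-(θ₀ * θ₀), by rw [map_neg, map_mul]; linear_combination (θ₀ * σ θ₀ + 1) * hθ₀, ?_, fun w hw h => ?_⟩
      · intro h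
        rcases mul_eq_zero.1 (show (θ₀ - 1) * (θ₀ + 1) = 0 by linear_combination -h) with h' | h'
        · exact hθ₀'.1 (sub_eq_zero.1 h')
        · exact hθ₀'.2 (eq_neg_of_add_eq_zero_left h')
      · refine hθns (w * σ θ₀) ?_ ?_
        · rw [map_mul, hinv]; linear_combination (θ₀ * σ θ₀) * hw + hθ₀
        · linear_combination (σ θ₀ * σ θ₀) * h + (-(θ₀ * σ θ₀) - 1) * hθ₀
    · exact ⟨θ, hθ, hθ1, hθns⟩
  refine ⟨-θ, by rw [map_neg]; linear_combination hθ, fun y hy h => ?_⟩
  set x := 2 - -θ - σ (-θ) with hx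
  have hxy : x = (y / y₀) * (y / y₀) := by
    field_simp
    linear_combination -h + x * hy₀'
  set z := y / y₀
  have hz : σ z = z := by rw [map_div₀, hy, hy₀]
  rw [hx, map_neg] at hxy
  have hz0 : z ≠ 0 := fun h0 => by
    have h3 : (θ + 1) * (θ + 1) = 0 := by
      have : 2 + θ + σ θ = 0 := by linear_combination hxy + z * h0
      linear_combination θ * this - hθ
    exact hθ1 (eq_neg_of_add_eq_zero_left (mul_self_eq_zero.1 h3))
  refine hθns ((-θ - 1) / z) ?_ ?_
  · rw [map_div₀, map_sub, map_neg, map_one, hz]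
    field_simp
    linear_combination hxy + hθ
  · field_simp
    linear_combination θ * hxy - hθ

end Field

variable {ι : Type} [Fintype ι] [DecidableEq ι] {F : Type*} [Field F] [Finite F]
variable {σ : F ≃+* F} {f : (ι → F) → (ι → F) → F} (hf : Geo.IsUnitaryForm σ f)
variable {t : ℕ} {e : Fin t → ι → F} (hfr : Frame f e)
variable {M : Subgroup (GL ι F)}
variable (hMS : M ≤ preserving (Units.coeHom (Matrix ι ι F)) f ⊓ Geo.specialLinear ι F)
variable (hMon : ∀ g ∈ preserving (Units.coeHom (Matrix ι ι F)) f ⊓ Geo.specialLinear ι F, FMon e g → g ∈ M)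
include hf hfr hMS hMon

theorem exists_transvection_odd (h2 : (2 : F) ≠ 0) (ht : 10 ≤ t ∨ t = 6) (hnm : ∃ g ∈ M, ¬ FMon e g) :
    ∃ (r : ι → F) (hr : f r r = 0) (c : F), r ≠ 0 ∧ c ≠ 0 ∧ σ c = -c ∧ htv hf r hr c ∈ M ∧
      ∃ m, f r (e m) = 0 := by
  classical
  obtain ⟨g, hg, hgm, a, l, μ, hga⟩ : ∃ g ∈ M, ¬ FMon e g ∧ ∃ a l, ∃ c : F, mv g (e a) = c • e l := by
    rcases ht with ht | rfl
    · exact not_lineRigid hf hfr hMS hMon h2 ht hnm
    · exact not_lineRigid_six hf hfr hMS hMon h2 hnm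
  have hMf : ∀ g ∈ M, ∀ p q, f (mv g p) (mv g q) = f p q := fun g hg p q => (hMS hg).1 p q
  have hμ : μ * σ μ = 1 := by
    have h := hMf g hg (e a) (e a)
    rwa [hga, hf.smul_left, smul_right hf, frame_self hf hfr, frame_self hf hfr, mul_one] at h
  -- pairs of pseudo-reflections at e l and v
  let P : (ι → F) → Prop := fun v => f v v = 1 ∧ f v (e l) = 0 ∧ ∀ η, η * σ η = 1 → ∃ h ∈ M,
    ∀ z, mv h z = z + ((η - 1) * f z (e l)) • e l + ((σ η - 1) * f z v) • v
  have hconj : ∀ k ∈ M, ∀ (p u : ι → F) (μ : F), μ * σ μ = 1 → mv k p = μ • e l →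
      (∀ η, η * σ η = 1 → ∃ h ∈ M, ∀ z, mv h z = z + ((η - 1) * f z p) • p + ((σ η - 1) * f z u) • u) →
      ∀ η, η * σ η = 1 → ∃ h ∈ M,
        ∀ z, mv h z = z + ((η - 1) * f z (e l)) • e l + ((σ η - 1) * f z (mv k u)) • mv k u := by
    intro k hk p u μ hμ hkp hp η hη
    obtain ⟨h, hh, hhz⟩ := hp η hη
    refine ⟨k * h * k⁻¹, M.mul_mem (M.mul_mem hk hh) (M.inv_mem hk), fun z => ?_⟩
    have e1 : f (mv k⁻¹ z) p = σ μ * f z (e l) := by
      have := hMf k hk (mv k⁻¹ z) p
      rw [mv_mv_inv, hkp, smul_right hf] at this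
      exact this.symm
    have e2 : f (mv k⁻¹ z) u = f z (mv k u) := by
      have := hMf k hk (mv k⁻¹ z) u
      rw [mv_mv_inv] at this
      exact this.symm
    rw [mv_mul, mv_mul, hhz, mv_add, mv_add, mv_smul, mv_smul, mv_mv_inv, hkp, e1, e2, smul_smul,
      show (η - 1) * (σ μ * f z (e l)) * μ = (η - 1) * f z (e l) by linear_combination (η - 1) * f z (e l) * hμ]
  obtain ⟨c, hc⟩ : ∃ c, ∀ p (α : F), mv g (e c) ≠ α • e p := by
    by_contra hcon
    push Not at hcon
    exact hgm hcon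
  have hca : c ≠ a := fun h => hc l μ (h ▸ hga)
  set v := mv g (e c) with hv
  have hvv : f v v = 1 := by rw [hv, hMf g hg, frame_self hf hfr]
  have hvl : f v (e l) = 0 := by
    have h := hMf g hg (e c) (e a)
    rw [hga, smul_right hf, frame_other hf hfr hca, ← hv] at h
    exact (mul_eq_zero.1 h).resolve_left (right_ne_zero_of_mul_eq_one hμ)
  have hPv : P v := ⟨hvv, hvl, hconj g hg (e a) (e c) μ hμ hga fun η hη => by
    obtain ⟨w, hw, hwm, hwz⟩ := exists_diag hf hfr hca.symm hη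
    exact ⟨w, hMon w hw hwm, hwz⟩⟩
  -- the choice of coordinates to change
  obtain ⟨N, hNfix, hN0, hN1, hd⟩ : ∃ N : F, σ N = N ∧ N ≠ 0 ∧ N ≠ 1 ∧ ∀ η, η * σ η = 1 →
      ∃ w, P w ∧ f v w = 1 + (σ η - 1) * N := by
    obtain ⟨i, hi⟩ : ∃ i, f v (e i) ≠ 0 := by
      by_contra hcon
      push Not at hcon
      rw [eq_zero_of_coord hf hfr hcon, zero_left hf] at hvv
      exact zero_ne_one hvv
    have hil : ∀ j, f v (e j) ≠ 0 → j ≠ l := fun j hj h => hj (h ▸ hvl)
    have mk : ∀ η, η * σ η = 1 → ∀ j, j ≠ l → ∀ w, P w → ∀ x, x = w + ((η - 1) * f w (e j)) • e j →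
        P x := by
      intro η hη j hjl w hw x hx
      obtain ⟨d, hd, hdm, hdz⟩ := exists_diag hf hfr hjl hη
      have hdM := hMon d hd hdm
      have hdl : mv d (e l) = σ η • e l := by
        rw [hdz, frame_other hf hfr hjl.symm, frame_self hf hfr]; module
      have hdw : mv d w = x := by rw [hdz, hw.2.1, hx]; module
      refine ⟨?_, ?_, ?_⟩
      · rw [← hdw, hMf d hdM]; exact hw.1
      · rw [hx, hf.add_left, hw.2.1, coord_smul hf hfr, if_neg hjl, add_zero]
      · rw [← hdw]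
        exact hconj d hdM (e l) w (σ η) (by rw [hf.involutive, mul_comm]; exact hη) hdl hw.2.2
    by_cases hgen : ∃ i, f v (e i) * σ (f v (e i)) ≠ 0 ∧ f v (e i) * σ (f v (e i)) ≠ 1
    · obtain ⟨j, hj0, hj1⟩ := hgen
      refine ⟨_, ?_, hj0, hj1, fun η hη => ⟨v + ((η - 1) * f v (e j)) • e j,
        mk η hη j (hil j (left_ne_zero_of_mul hj0)) v hPv _ rfl, ?_⟩⟩
      · rw [map_mul, hf.involutive]; ring
      · rw [add_right hf, hvv, smul_right hf, map_mul, map_sub, map_one]; ring
    push Not at hgen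
    have hσ0 : ∀ {x : F}, x ≠ 0 → x * σ x ≠ 0 := fun hx =>
      mul_ne_zero hx fun h => hx ((map_eq_zero_iff σ σ.injective).1 h)
    obtain ⟨j, hj, hji⟩ : ∃ j, f v (e j) ≠ 0 ∧ j ≠ i := by
      by_contra hcon
      push Not at hcon
      refine hc i (f v (e i)) ?_
      exact (mem_span_of_coord hf hfr (s := {i}) fun k hk => by
        by_contra hk'; exact hk (Finset.mem_singleton.2 (hcon k hk'))).trans (Finset.sum_singleton _ _)
    refine ⟨2, map_ofNat σ 2, h2, fun h => one_ne_zero (α := F) (by linear_combination h),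
      fun η hη => ⟨v + ((η - 1) * f v (e i)) • e i + ((η - 1) * f v (e j)) • e j, ?_, ?_⟩⟩
    · refine mk η hη j (hil j hj) _ (mk η hη i (hil i hi) v hPv _ rfl) _ ?_
      rw [hf.add_left, coord_smul hf hfr, if_neg hji.symm, add_zero]
    · rw [add_right hf, add_right hf, hvv, smul_right hf, smul_right hf, map_mul, map_mul, map_sub, map_one]
      linear_combination (σ η - 1) * hgen i (hσ0 hi) + (σ η - 1) * hgen j (hσ0 hj)
  obtain ⟨η, hη, hns⟩ := exists_eta_nonsquare hf.ne_refl hf.involutive h2 (M₀ := N * (1 - N))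
    (by rw [map_mul, map_sub, map_one, hNfix]) (mul_ne_zero hN0 (sub_ne_zero.2 (Ne.symm hN1)))
  obtain ⟨w, hw, hvw⟩ := hd η hη
  set φ := f v w with hφ
  set k := 1 - φ * σ φ with hk
  have hk' : k = (2 - η - σ η) * (N * (1 - N)) := by
    rw [hk, hvw, map_add, map_mul, map_sub, map_one, hNfix, hf.involutive]
    linear_combination -(N * N) * hη
  have hkns : ∀ y, σ y = y → y * y ≠ k := by rw [hk']; exact hns
  have hk0 : k ≠ 0 := fun h => hkns 0 (map_zero σ) (by rw [h, mul_zero])
  have hk1 : k ≠ 1 := fun h => hkns 1 (map_one σ) (by rw [h, mul_one])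
  obtain ⟨κ, hκ, hκk⟩ := exists_anti_sqrt hf.ne_refl hf.involutive h2
    (k := k) (by rw [hk, map_sub, map_one, map_mul, hf.involutive]; ring) hkns
  have hκ1 : κ - 1 ≠ 0 := fun h => by
    rw [sub_eq_zero.1 h, map_one] at hκ; exact h2 (by linear_combination hκ)
  have hκ2 : κ + 1 ≠ 0 := fun h => by
    rw [eq_neg_of_add_eq_zero_left h, map_neg, map_one] at hκ; exact h2 (by linear_combination -hκ)
  have hnk : -κ - 1 ≠ 0 := fun h => hκ2 (by linear_combination -h)
  set ζ := (κ + 1) / (κ - 1) with hζdef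
  have hζ : ζ * σ ζ = 1 := by
    rw [hζdef, map_div₀, map_add, map_sub, map_one, hκ]
    field_simp
    ring
  set s := ζ - 1 with hs
  have hks : (ζ + 1) * (ζ + 1) = k * (s * s) := by
    rw [hs, hζdef, ← hκk]
    field_simp
    ring
  have hs0 : s ≠ 0 := by
    intro h0
    rw [h0, mul_zero, mul_zero] at hks
    exact h2 (by linear_combination mul_self_eq_zero.1 hks - h0)
  have hφ0 : φ ≠ 0 := fun h => hk1 (by rw [hk, h, zero_mul, sub_zero])
  clear_value ζ
  obtain ⟨h₁, hh₁, hh₁z⟩ := hPv.2.2 (σ ζ) (by rw [hf.involutive, mul_comm]; exact hζ)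
  obtain ⟨h₂, hh₂, hh₂z⟩ := hw.2.2 (σ ζ) (by rw [hf.involutive, mul_comm]; exact hζ)
  simp only [hf.involutive] at hh₁z hh₂z
  set A := h₁ * h₂ with hA
  have hwv : f w v = σ φ := hf.herm w v
  have hlv : f (e l) v = 0 := (f_eq_zero_comm hf).1 hvl
  have hlw : f (e l) w = 0 := (f_eq_zero_comm hf).1 hw.2.1
  have hAe : mv A (e l) = (σ ζ * σ ζ) • e l := by
    rw [hA, mv_mul, hh₂z, hh₁z]
    simp only [hf.add_left, hf.smul_left, frame_self hf hfr, hlw, hlv, hvl, hw.2.1]
    module
  set r := (-2 * ζ) • v + (s * φ) • w with hr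
  clear_value r
  have hAv : mv A v = (-ζ) • v + r := by
    rw [hA, mv_mul, hh₂z, hh₁z, hr]
    simp only [hf.add_left, hf.smul_left, hvl, hvv, hw.2.1, hwv, ← hφ]
    match_scalars <;> first | ring1 | (rw [hk] at hks; linear_combination hks)
  have hAw : mv A w = (ζ * s * σ φ) • v + ζ • w := by
    rw [hA, mv_mul, hh₂z, hh₁z]
    simp only [hf.add_left, hf.smul_left, hvl, hw.1, hw.2.1, hwv]
    match_scalars <;> ring1
  have hAr : mv A r = (-ζ) • r := by
    rw [hr, mv_add, mv_smul, mv_smul, hAv, hAw, hr]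
    match_scalars <;> first | ring1 | (rw [hk] at hks; linear_combination ζ * hks)
  have hAM : A ∈ M := M.mul_mem hh₁ hh₂
  have hnζ : (-ζ) * σ (-ζ) = 1 := by rw [map_neg]; linear_combination hζ
  have hnζ' : σ (-ζ) ≠ 0 := right_ne_zero_of_mul_eq_one hnζ
  have hrr : f r r = 0 := by
    have h := hMf A hAM v r
    rw [hAv, hAr, hf.add_left, hf.smul_left, smul_right hf, smul_right hf] at h
    exact (mul_eq_zero.1 (show σ (-ζ) * f r r = 0 by linear_combination h - f v r * hnζ)).resolve_left hnζ'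
  have hrl : f r (e l) = 0 := by rw [hr, hf.add_left, hf.smul_left, hf.smul_left, hvl, hw.2.1]; ring
  have hsφ : s * φ ≠ 0 := mul_ne_zero hs0 hφ0
  have hvr : f v r ≠ 0 := by
    intro h
    have hrv : f r v = 0 := (f_eq_zero_comm hf).1 h
    have hrw : f r w = 0 := by
      have h' : f r r = σ (-2 * ζ) * f r v + σ (s * φ) * f r w := by
        conv_lhs => arg 2; rw [hr]
        rw [add_right hf, smul_right hf, smul_right hf]
      rw [hrr, hrv, mul_zero, zero_add, eq_comm] at h'
      exact (mul_eq_zero.1 h').resolve_left fun h0 => hsφ ((map_eq_zero_iff σ σ.injective).1 h0)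
    rw [hr, hf.add_left, hf.smul_left, hf.smul_left, hvv, hwv] at hrv
    rw [hr, hf.add_left, hf.smul_left, hf.smul_left, ← hφ, hw.1] at hrw
    have hsζ : s - 2 * ζ = 0 :=
      (mul_eq_zero.1 (show (s - 2 * ζ) * φ = 0 by linear_combination hrw)).resolve_right hφ0
    have hζ' : ζ + 1 = 0 := by linear_combination -hsζ + hs
    rw [hζ', zero_mul, eq_comm] at hks
    exact mul_ne_zero hk0 (mul_ne_zero hs0 hs0) hks
  have hr0 : r ≠ 0 := fun h => hvr (by rw [h, zero_right hf])
  have hAfix : ∀ z, f z (e l) = 0 → f z v = 0 → f z w = 0 → mv A z = z := fun z e1 e2 e3 => by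
    rw [hA, mv_mul, hh₂z, e1, e3, mul_zero, mul_zero, zero_smul, zero_smul, add_zero, add_zero, hh₁z, e1, e2,
      mul_zero, mul_zero, zero_smul, zero_smul, add_zero, add_zero]
  have hpow : ∀ j : ℕ, mv (A ^ j) (e l) = (σ ζ * σ ζ) ^ j • e l ∧ mv (A ^ j) r = (-ζ) ^ j • r ∧
      mv (A ^ (j + 1)) v = (-ζ) ^ (j + 1) • v + (((j : F) + 1) * (-ζ) ^ j) • r ∧
      ∀ z, f z (e l) = 0 → f z v = 0 → f z w = 0 → mv (A ^ j) z = z := by
    intro j
    induction j with
    | zero =>
      refine ⟨?_, ?_, ?_, fun z _ _ _ => ?_⟩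
      · rw [pow_zero, pow_zero, mv_one, one_smul]
      · rw [pow_zero, pow_zero, mv_one, one_smul]
      · rw [zero_add, pow_one, hAv, Nat.cast_zero]; module
      · rw [pow_zero, mv_one]
    | succ j ih =>
      obtain ⟨i1, i2, i3, i4⟩ := ih
      refine ⟨?_, ?_, ?_, fun z e1 e2 e3 => ?_⟩
      · rw [pow_succ', mv_mul, i1, mv_smul, hAe, smul_smul, ← pow_succ]
      · rw [pow_succ', mv_mul, i2, mv_smul, hAr, smul_smul, ← pow_succ]
      · rw [pow_succ' A (j + 1), mv_mul, i3, mv_add, mv_smul, mv_smul, hAv, hAr, Nat.cast_succ]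
        match_scalars <;> ring1
      · rw [pow_succ', mv_mul, i4 z e1 e2 e3, hAfix z e1 e2 e3]
  set q := Nat.card (fixedField σ) with hq
  have hqF : (q : F) = 0 := by
    haveI : Fintype (fixedField σ) := Fintype.ofFinite _
    have h : ((q : ℕ) : fixedField σ) = 0 := by rw [hq, Nat.card_eq_fintype_card]; exact Nat.cast_card_eq_zero _
    have h' := congrArg (Subfield.subtype (fixedField σ)) h
    rwa [map_natCast, map_zero] at h'
  have hpq : ∀ x : F, x * σ x = 1 → x ^ (q + 1) = 1 := fun x hx => by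
    rw [pow_succ', hq, ← apply_eq_pow hf.ne_refl hf.involutive]; exact hx
  obtain ⟨Q1, -, -, Qfix⟩ := hpow (q + 1)
  obtain ⟨-, -, Qv, -⟩ := hpow q
  have Qr := (hpow (q + 1)).2.1
  set Q := A ^ (q + 1) with hQ
  rw [hpq _ hnζ, one_smul, hqF, zero_add, one_mul] at Qv
  rw [hpq _ (by rw [map_mul, hf.involutive]; linear_combination (ζ * σ ζ + 1) * hζ), one_smul] at Q1
  rw [hpq _ hnζ, one_smul] at Qr
  set c₀ := (-ζ) ^ q with hc₀
  set c' := c₀ / f v r with hc'
  have hQz : ∀ z, mv Q z = z + (c' * f z r) • r := by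
    intro z
    set α := f z r / f v r with hα
    set β := (f z v - α) / f r v with hβ
    have hrv : f r v ≠ 0 := fun h => hvr ((f_eq_zero_comm hf).1 h)
    set z' := z - f z (e l) • e l - α • v - β • r with hz'
    have e1 : f z' (e l) = 0 := by
      rw [hz', sub_left hf, sub_left hf, sub_left hf, hf.smul_left, hf.smul_left, hf.smul_left,
        frame_self hf hfr, hvl, hrl]; ring
    have elr : f (e l) r = 0 := (f_eq_zero_comm hf).1 hrl
    have e2 : f z' r = 0 := by
      rw [hz', sub_left hf, sub_left hf, sub_left hf, hf.smul_left, hf.smul_left, hf.smul_left, elr, hrr, hα]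
      field_simp; ring
    have e3 : f z' v = 0 := by
      rw [hz', sub_left hf, sub_left hf, sub_left hf, hf.smul_left, hf.smul_left, hf.smul_left, hlv, hvv, hβ]
      field_simp; ring
    have e4 : f z' w = 0 := by
      have h' : f z' r = σ (-2 * ζ) * f z' v + σ (s * φ) * f z' w := by
        rw [hr, add_right hf, smul_right hf, smul_right hf]
      rw [e2, e3, mul_zero, zero_add, eq_comm] at h'
      exact (mul_eq_zero.1 h').resolve_left fun h0 => hsφ ((map_eq_zero_iff σ σ.injective).1 h0)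
    conv_lhs => rw [show z = z' + f z (e l) • e l + α • v + β • r by rw [hz']; abel]
    rw [mv_add, mv_add, mv_add, mv_smul, mv_smul, mv_smul, Qfix z' e1 e3 e4, Q1, Qr, Qv, hz',
      show c' * f z r = α * c₀ by rw [hc', hα]; field_simp]
    module
  have hanti : σ c' = -c' := by
    have h := hMf Q (M.pow_mem hAM _) v v
    simp only [hQz, hf.add_left, add_right hf, hf.smul_left, smul_right hf, hrr, map_mul, hf.herm r v,
      mul_zero, add_zero] at h
    have h' : (c' + σ c') * (f v r * σ (f v r)) = 0 := by linear_combination h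
    have := (mul_eq_zero.1 h').resolve_right
      (mul_ne_zero hvr fun h0 => hvr ((map_eq_zero_iff σ σ.injective).1 h0))
    linear_combination this
  refine ⟨r, hrr, c', hr0, div_ne_zero (pow_ne_zero _ (left_ne_zero_of_mul_eq_one hnζ)) hvr, hanti, ?_, l, hrl⟩
  rw [show htv hf r hrr c' = Q from ext_mv fun z => by rw [mv_htv, hQz]]
  exact M.pow_mem hAM _

end Cfsg.Agent.Transvec.Herm
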