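/-
Squares of fixed elements of an involutive field automorphism: a quadratic with distinct roots takes a non-square value.
-/
import Cfsg.Agent.Lib.Transvec.HermFrame
set_option autoImplicit false

namespace Cfsg.Agent.Transvec.Herm

variable {F : Type*} [Field F] [Finite F] {σ : F ≃+* F}
variable (hne : σ ≠ RingEquiv.refl F) (hinv : ∀ a : F, σ (σ a) = a)
include hne hinv

/-- The squares of fixed elements are not invariant under a non-zero translation. -/
theorem squares_not_translated (h2 : (2 : F) ≠ 0) {D : F} (hD : σ D = D) (hD0 : D ≠ 0) :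
    ¬ ∀ y, σ y = y → ∃ y', σ y' = y' ∧ y * y + D = y' * y' := by
  classical
  intro h
  let S : Set F := {x | ∃ y, σ y = y ∧ x = y * y}
  let T : Set F := {a | ∀ x ∈ S, x + a ∈ S}
  have hSfin : S.Finite := Set.toFinite _
  have hTneg : ∀ a ∈ T, ∀ x ∈ S, x - a ∈ S := by
    intro a ha x hx
    have hinj : Set.InjOn (fun z => z + a) S := fun z _ z' _ hzz => add_right_cancel hzz
    have himg : (fun z => z + a) '' S = S :=
      Set.eq_of_subset_of_ncard_le (Set.image_subset_iff.2 ha) (by rw [Set.ncard_image_of_injOn hinj]) hSfin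
    obtain ⟨z, hz, hzx⟩ := himg.symm ▸ hx
    rwa [← hzx, add_sub_cancel_right]
  have hTD : ∀ y, σ y = y → D * (y * y) ∈ T := by
    rintro y hy x ⟨z, hz, rfl⟩
    by_cases hy0 : y = 0
    · exact ⟨z, hz, by rw [hy0]; ring⟩
    obtain ⟨y', hy', he⟩ := h (z / y) (by rw [map_div₀, hz, hy])
    refine ⟨y * y', by rw [map_mul, hy, hy'], ?_⟩
    field_simp at he
    linear_combination he
  have hall : ∀ w, σ w = w → w ∈ S := by
    intro w hw
    set y := w / (2 * D)
    have hy : σ y = y := by rw [map_div₀, map_mul, map_ofNat, hD, hw]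
    have h0 : (0 : F) ∈ S := ⟨0, map_zero σ, by ring⟩
    have e1 := hTD (y + 1) (by rw [map_add, hy, map_one]) _ h0
    have e2 := hTneg _ (hTD y hy) _ e1
    have e3 := hTneg _ (hTD 1 (map_one σ)) _ e2
    convert e3 using 1
    simp only [y]
    field_simp
    ring
  obtain ⟨τ, hτ0, hτ⟩ := exists_anti hne hinv
  obtain ⟨y, hy, hyτ⟩ := hall (τ * τ) (by rw [map_mul, hτ]; ring)
  rcases mul_eq_zero.1 (show (τ - y) * (τ + y) = 0 by linear_combination hyτ) with h' | h'
  · rw [sub_eq_zero.1 h', hy] at hτ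
    exact mul_ne_zero h2 hτ0 (by linear_combination hτ + 2 * h')
  · rw [eq_neg_of_add_eq_zero_left h', map_neg, hy] at hτ
    exact mul_ne_zero h2 hτ0 (by linear_combination hτ + 2 * h')

/-- A quadratic over the fixed field with non-zero discriminant has a non-square value. -/
theorem exists_nonsquare_value (h2 : (2 : F) ≠ 0) (hq : 4 ≤ Nat.card (fixedField σ)) {A B C : F}
    (hA : σ A = A) (hB : σ B = B) (hC : σ C = C) (hA0 : A ≠ 0) (hdisc : B * B - 4 * A * C ≠ 0) :
    ∃ s, σ s = s ∧ ∀ y, σ y = y → y * y ≠ A * (s * s) + B * s + C := by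
  classical
  by_contra hcon
  push Not at hcon
  have h2A : (2 : F) * A ≠ 0 := mul_ne_zero h2 hA0
  set C' := C - B * B / (4 * A) with hC'
  have h4A : (4 : F) * A ≠ 0 := mul_ne_zero (by rw [show (4 : F) = 2 * 2 by norm_num]; exact mul_ne_zero h2 h2) hA0
  have h40 : (4 : F) ≠ 0 := left_ne_zero_of_mul h4A
  have hC'fix : σ C' = C' := by rw [hC', map_sub, map_div₀, map_mul, map_mul, map_ofNat, hA, hB, hC]
  have hC'0 : C' ≠ 0 := fun h => hdisc (by rw [hC'] at h; field_simp at h; linear_combination -h)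
  have hval : ∀ r, σ r = r → ∃ y, σ y = y ∧ C' + A * (r * r) = y * y := by
    intro r hr
    obtain ⟨y, hy, he⟩ := hcon (r - B / (2 * A))
      (by rw [map_sub, map_div₀, map_mul, map_ofNat, hA, hB, hr])
    refine ⟨y, hy, ?_⟩
    rw [he, hC']
    field_simp
    ring
  by_cases hAsq : ∃ α, σ α = α ∧ α * α = A
  · obtain ⟨α, hα, hα'⟩ := hAsq
    have hα0 : α ≠ 0 := fun h => hA0 (by rw [← hα', h, mul_zero])
    refine squares_not_translated hne hinv h2 (D := C' / A) (by rw [map_div₀, hC'fix, hA])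
      (div_ne_zero hC'0 hA0) fun y hy => ?_
    obtain ⟨z, hz, he⟩ := hval y hy
    refine ⟨z / α, by rw [map_div₀, hz, hα], ?_⟩
    field_simp
    rw [← hα'] at he ⊢
    linear_combination α * α * he
  push Not at hAsq
  obtain ⟨u, hu, hu'⟩ : ∃ u, σ u = u ∧ u ≠ 0 ∧ u * u ≠ 1 := by
    haveI : Fintype (fixedField σ) := Fintype.ofFinite _
    obtain ⟨u, -, hu⟩ := Finset.exists_mem_notMem_of_card_lt_card (s := ({0, 1, -1} : Finset (fixedField σ)))
      (t := Finset.univ) (by rw [Finset.card_univ, ← Nat.card_eq_fintype_card]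
                             exact lt_of_le_of_lt Finset.card_le_three (by omega))
    simp only [Finset.mem_insert, Finset.mem_singleton, not_or] at hu
    refine ⟨u, u.2, fun h => hu.1 (Subtype.ext h), fun h => ?_⟩
    rcases mul_eq_zero.1 (show ((u : F) - 1) * ((u : F) + 1) = 0 by linear_combination h) with h' | h'
    · exact hu.2.1 (Subtype.ext (sub_eq_zero.1 h'))
    · exact hu.2.2 (Subtype.ext (eq_neg_of_add_eq_zero_left h'))
  obtain ⟨hu0, hu1⟩ := hu'
  let S : Set F := {x | ∃ y, σ y = y ∧ x = y * y}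
  have hsurj : ∀ x ∈ S, ∃ z ∈ S, C' + A * z = x := by
    intro x hx
    have hinj : Set.InjOn (fun z => C' + A * z) S := fun z _ z' _ hzz =>
      mul_left_cancel₀ hA0 (add_left_cancel hzz)
    have himg : (fun z => C' + A * z) '' S = S := by
      refine Set.eq_of_subset_of_ncard_le ?_ (by rw [Set.ncard_image_of_injOn hinj]) (Set.toFinite _)
      rintro _ ⟨z, ⟨r, hr, rfl⟩, rfl⟩
      exact hval r hr
    obtain ⟨z, hz, hzx⟩ := himg.symm ▸ hx
    exact ⟨z, hz, hzx⟩
  refine squares_not_translated hne hinv h2 (D := (1 - u * u) * C')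
    (by rw [map_mul, map_sub, map_mul, map_one, hu, hC'fix]) (mul_ne_zero (sub_ne_zero.2 (Ne.symm hu1)) hC'0)
    fun y hy => ?_
  obtain ⟨z, ⟨r, hr, rfl⟩, hzx⟩ := hsurj ((y / u) * (y / u)) ⟨y / u, by rw [map_div₀, hy, hu], rfl⟩
  obtain ⟨w, hw, he⟩ := hval (u * r) (by rw [map_mul, hu, hr])
  refine ⟨w, hw, ?_⟩
  field_simp at hzx
  linear_combination he - hzx

end Cfsg.Agent.Transvec.Herm
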