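/-
Overgroups of the monomial subgroup of SU: from one transvection orthogonal to a frame vector to all transvections
supported on two coordinates, and on all isotropic vectors.
-/
import Cfsg.Agent.Lib.Transvec.HermFrameOddB
import Cfsg.Agent.Lib.Transvec.HermFrameEven
import Cfsg.Agent.Lib.Transvec.HermSquares
set_option autoImplicit false
set_option maxHeartbeats 800000

namespace Cfsg.Agent.Transvec.Herm

open scoped Matrix
open Matrix Cfsg.Agent.Transvec

variable {ι : Type} [Fintype ι] [DecidableEq ι] {F : Type*} [Field F] [Finite F]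
variable {σ : F ≃+* F} {f : (ι → F) → (ι → F) → F} (hf : Geo.IsUnitaryForm σ f)
variable {t : ℕ} {e : Fin t → ι → F} (hfr : Frame f e)
variable {M : Subgroup (GL ι F)}
variable (hMS : M ≤ preserving (Units.coeHom (Matrix ι ι F)) f ⊓ Geo.specialLinear ι F)
variable (hMon : ∀ g ∈ preserving (Units.coeHom (Matrix ι ι F)) f ⊓ Geo.specialLinear ι F, FMon e g → g ∈ M)
include hf hfr hMS hMon

/-- The scalars of the transvections at a centre form everything once a coordinate is not exceptional. -/
theorem mem_hCentres_of_coord {r : ι → F} (hr : f r r = 0) {c : F} (hc0 : c ≠ 0) (hc : σ c = -c)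
    (hT : htv hf r hr c ∈ M) {m : Fin t} (hm : f r (e m) = 0) {i : Fin t} (hi : f r (e i) ≠ 0)
    (hex : c * (f r (e i) * σ (f r (e i))) ≠ -1) : r ∈ hCentres hf M := by
  classical
  have him : i ≠ m := fun h => hi (h ▸ hm)
  set Λ : Set F := {d | σ d = -d ∧ htv hf r hr d ∈ M} with hΛ
  set R : Set F := {a | ∀ d ∈ Λ, a * d ∈ Λ} with hR
  have hcΛ : c ∈ Λ := ⟨hc, hT⟩
  have hΛneg : ∀ d ∈ Λ, -d ∈ Λ := by
    rintro d ⟨hd, hdM⟩
    refine ⟨by rw [map_neg, hd], ?_⟩
    rw [show htv hf r hr (-d) = (htv hf r hr d)⁻¹ from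
      eq_inv_of_mul_eq_one_left (by rw [htv_add, neg_add_cancel, htv_zero])]
    exact M.inv_mem hdM
  have hΛadd : ∀ d ∈ Λ, ∀ d' ∈ Λ, d + d' ∈ Λ := by
    rintro d ⟨hd, hdM⟩ d' ⟨hd', hd'M⟩
    exact ⟨by rw [map_add, hd, hd', neg_add], by rw [← htv_add]; exact M.mul_mem hdM hd'M⟩
  have hRfix : ∀ a ∈ R, σ a = a := fun a ha => by
    have h := (ha c hcΛ).1
    rw [map_mul, hc] at h
    refine mul_right_cancel₀ hc0 ?_
    linear_combination -h
  have hR1 : (1 : F) ∈ R := fun d hd => by rwa [one_mul]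
  have hRmul : ∀ a ∈ R, ∀ b ∈ R, a * b ∈ R := fun a ha b hb d hd => by rw [mul_assoc]; exact ha _ (hb d hd)
  have hRsub : ∀ a ∈ R, ∀ b ∈ R, a - b ∈ R := fun a ha b hb d hd => by
    rw [sub_mul, sub_eq_add_neg]; exact hΛadd _ (ha d hd) _ (hΛneg _ (hb d hd))
  haveI : Fintype F := Fintype.ofFinite F
  have hRinv : ∀ a ∈ R, a ≠ 0 → a⁻¹ ∈ R := by
    intro a ha ha0
    have hpow : ∀ n : ℕ, a ^ n ∈ R := by
      intro n
      induction n with
      | zero => rw [pow_zero]; exact hR1
      | succ n ih => rw [pow_succ]; exact hRmul _ ih _ ha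
    have hcard := Fintype.one_lt_card (α := F)
    have : a⁻¹ = a ^ (Fintype.card F - 2) := by
      refine inv_eq_of_mul_eq_one_right ?_
      rw [← pow_succ', show Fintype.card F - 2 + 1 = Fintype.card F - 1 by omega]
      exact FiniteField.pow_card_sub_one_eq_one a ha0
    rw [this]; exact hpow _
  set E := c * (f r (e i) * σ (f r (e i))) with hE
  have hEanti : σ E = -E := by rw [hE, map_mul, map_mul, hc, hf.involutive]; ring
  have hE0 : E ≠ 0 :=
    mul_ne_zero hc0 (mul_ne_zero hi fun h => hi ((map_eq_zero_iff σ σ.injective).1 h))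
  set V : F → F := fun η => (1 + E * (η - 1)) * σ (1 + E * (η - 1)) with hV
  have hVR : ∀ η ∈ normOnes σ, V η ∈ R := by
    intro η hη
    rw [mem_normOnes] at hη
    by_cases hη1 : η = 1
    · simp only [hV, hη1, sub_self, mul_zero, add_zero, map_one, one_mul]; exact hR1
    obtain ⟨d, hd, hdm, hdz⟩ := exists_diag hf hfr him hη
    have hdM := hMon d hd hdm
    set κ := 1 + E * (η - 1) with hκ
    set ν := η + E * (η - 1) with hν
    have hnorm : κ * σ κ = ν * σ ν := by
      rw [hκ, hν]; simp only [map_add, map_mul, map_sub, map_one, hEanti]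
      linear_combination -hη
    have hκ0 : κ ≠ 0 := by
      intro h
      have hν0 : ν = 0 := by
        rw [h, zero_mul, eq_comm] at hnorm
        rcases mul_eq_zero.1 hnorm with h' | h'
        · exact h'
        · exact (map_eq_zero_iff σ σ.injective).1 h'
      exact hη1 (by linear_combination hν0 - h + hν - hκ)
    have hν0 : ν ≠ 0 := by
      intro h
      rw [h, zero_mul] at hnorm
      exact mul_ne_zero hκ0 (fun h' => hκ0 ((map_eq_zero_iff σ σ.injective).1 h')) hnorm
    have hσν : σ ν ≠ 0 := fun h => hν0 ((map_eq_zero_iff σ σ.injective).1 h)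
    obtain ⟨d', hd', hd'm, hd'z⟩ := exists_diag hf hfr him (η := κ / ν) (by
      rw [map_div₀]; field_simp; linear_combination hnorm)
    set h := d' * htv hf r hr c * d with hh
    have hhM : h ∈ M := M.mul_mem (M.mul_mem (hMon d' hd' hd'm) hT) hdM
    have e1 : mv (htv hf r hr c) (mv d r) = κ • r + ((η - 1) * f r (e i)) • e i := by
      rw [mv_htv, hdz]
      simp only [hf.add_left, hf.smul_left, hr, hm, mul_zero, zero_add, add_zero, zero_smul]
      rw [hf.herm (e i) r, hκ, hE]
      match_scalars <;> ring1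
    have hhr : mv h r = κ • r := by
      rw [hh, mv_mul, mv_mul, e1, hd'z]
      simp only [hf.add_left, hf.smul_left, hm, frame_self hf hfr, frame_other hf hfr him, mul_zero, add_zero,
        zero_smul, mul_one]
      have hsplit : ((η - 1) * f r (e i) + (κ / ν - 1) * (κ * f r (e i) + (η - 1) * f r (e i))) = 0 := by
        have hνκ : κ * f r (e i) + (η - 1) * f r (e i) = ν * f r (e i) := by rw [hν, hκ]; ring
        rw [hνκ]
        field_simp
        rw [hν, hκ]; ring
      rw [add_assoc, ← add_smul, hsplit, zero_smul, add_zero]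
    rintro a ⟨ha, haM⟩
    have hVeq : V η = κ * σ κ := rfl
    refine ⟨by rw [hVeq, map_mul, map_mul, hf.involutive, ha]; ring, ?_⟩
    have hcong : ∀ (v : ι → F) (hv : f v v = 0), v = κ • r → htv hf v hv a = htv hf r hr (κ * σ κ * a) := by
      rintro v hv rfl
      exact htv_smul hf r hr κ a
    have hhf : ∀ x y, f (mv h x) (mv h y) = f x y := fun x y => (hMS hhM).1 x y
    have hhr0 : f (mv h r) (mv h r) = 0 := (hhf r r).trans hr
    rw [hVeq, ← hcong (mv h r) hhr0 hhr, ← htv_conj hf hhf r hr a]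
    exact M.mul_mem (M.mul_mem hhM haM) (M.inv_mem hhM)
  -- R is the whole fixed field
  have hRall : ∀ z, σ z = z → z ∈ R := by
    intro z hz
    by_contra hzR
    set Rf := (Set.toFinite R).toFinset with hRf
    have hI : (normOnes σ).card ≤ 2 * Rf.card := by
      refine Finset.card_le_mul_card_image_of_maps_to (f := V) (t := Rf) (fun η hη => ?_) 2 (fun v _ => ?_)
      · rw [hRf, Set.Finite.mem_toFinset]; exact hVR η hη
      · have hB : E + E * E ≠ 0 := by
          rw [show E + E * E = E * (1 + E) by ring]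
          exact mul_ne_zero hE0 fun h => hex (eq_neg_of_add_eq_zero_right h)
        refine le_trans (Finset.card_le_card fun η hη => ?_)
          (card_fibre_le hf.ne_refl hf.involutive (1 - 2 * (E * E)) (E + E * E) hB v)
        rw [Finset.mem_filter] at hη ⊢
        refine ⟨hη.1, ?_⟩
        rw [← hη.2]
        simp only [hV, map_add, map_mul, map_sub, map_one, hEanti]
        linear_combination E * E * mem_normOnes.1 hη.1
    have hsq : Rf.card * Rf.card ≤ Nat.card (fixedField σ) := by
      haveI : Fintype (fixedField σ) := Fintype.ofFinite _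
      rw [← Finset.card_product, Nat.card_eq_fintype_card, ← Finset.card_univ]
      refine Finset.card_le_card_of_injOn (fun p => if h : σ (p.1 + p.2 * z) = p.1 + p.2 * z then
        (⟨p.1 + p.2 * z, h⟩ : fixedField σ) else 0) (fun p _ => Finset.mem_univ _) ?_
      rintro ⟨a, b⟩ hab ⟨a', b'⟩ hab' heq
      simp only [Finset.mem_coe, Finset.mem_product, hRf, Set.Finite.mem_toFinset] at hab hab'
      have fx : ∀ a b, a ∈ R → b ∈ R → σ (a + b * z) = a + b * z := fun a b ha hb => by
        rw [map_add, map_mul, hRfix a ha, hRfix b hb, hz]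
      dsimp only at heq
      rw [dif_pos (fx a b hab.1 hab.2), dif_pos (fx a' b' hab'.1 hab'.2)] at heq
      have heq' : a + b * z = a' + b' * z := congrArg Subtype.val heq
      by_cases hb : b = b'
      · subst hb; rw [add_left_inj] at heq'; rw [heq']
      · exfalso; refine hzR ?_
        have hzz : z = (a' - a) * (b - b')⁻¹ := by
          have : b - b' ≠ 0 := sub_ne_zero.2 hb
          field_simp; linear_combination heq'
        rw [hzz]
        exact hRmul _ (hRsub _ hab'.1 _ hab.1) _ (hRinv _ (hRsub _ hab.2 _ hab'.2) (sub_ne_zero.2 hb))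
    have := card_normOnes hf.ne_refl hf.involutive
    have h2 := two_le_card_fixed (σ := σ)
    have h3 : Nat.card (fixedField σ) + 1 ≤ 2 * Rf.card := this.trans hI
    nlinarith
  refine ⟨hr, fun d hd => ?_⟩
  have := (hRall (d / c) (by rw [map_div₀, hd, hc, neg_div_neg_eq]) c hcΛ).2
  rwa [div_mul_cancel₀ _ hc0] at this

/-- One centre orthogonal to a frame vector. -/
theorem exists_centre (ht : 10 ≤ t ∨ t = 6 ∧ Nat.card (fixedField σ) ≠ 2) (hnm : ∃ g ∈ M, ¬ FMon e g) :
    ∃ r ∈ hCentres hf M, r ≠ 0 ∧ (∃ m, f r (e m) = 0) ∧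
      (Nat.card (fixedField σ) = 2 → ∀ S : Finset (Fin t), S.card ≤ 2 → ∃ l, l ∉ S ∧ f r (e l) ≠ 0) := by
  classical
  have hq2 : ∀ {r : ι → F} {hr : f r r = 0} {c : F}, c ≠ 0 → σ c = -c → htv hf r hr c ∈ M →
      Nat.card (fixedField σ) = 2 → r ∈ hCentres hf M := by
    intro r hr c hc0 hc hT hq
    refine ⟨hr, fun d hd => ?_⟩
    by_cases hd0 : d = 0
    · subst hd0; rw [htv_zero]; exact M.one_mem
    obtain ⟨u, hu, huniq⟩ := (Nat.card_eq_two_iff' (0 : fixedField σ)).1 hq
    have e1 := huniq ⟨d / c, show σ (d / c) = d / c by rw [map_div₀, hd, hc, neg_div_neg_eq]⟩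
      (fun h => div_ne_zero hd0 hc0 (congrArg Subtype.val h))
    have e2 := huniq 1 one_ne_zero
    have e3 : d / c = 1 := congrArg Subtype.val (e1.trans e2.symm)
    rwa [(div_eq_one_iff_eq hc0).1 e3]
  by_cases h2 : (2 : F) = 0
  swap
  · obtain ⟨r, hr, c, hr0, hc0, hc, hT, m, hm⟩ := exists_transvection_odd hf hfr hMS hMon h2 (ht.imp_right And.left) hnm
    obtain ⟨i, hi⟩ : ∃ i, f r (e i) ≠ 0 := by
      by_contra h; push Not at h; exact hr0 (eq_zero_of_coord hf hfr h)
    refine ⟨r, mem_hCentres_of_coord hf hfr hMS hMon hr hc0 hc hT hm hi ?_, hr0, ⟨m, hm⟩, fun hq => ?_⟩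
    · intro h
      have h' := congrArg σ h
      simp only [map_mul, map_neg, map_one, hc, hf.involutive] at h'
      exact h2 (by linear_combination h + h')
    · exfalso
      haveI : Fintype (fixedField σ) := Fintype.ofFinite _
      have h' : ((2 : ℕ) : fixedField σ) = 0 := by
        rw [← hq, Nat.card_eq_fintype_card]; exact Nat.cast_card_eq_zero _
      have h'' := congrArg (Subfield.subtype (fixedField σ)) h'
      rw [map_natCast, map_zero] at h''
      exact h2 (by exact_mod_cast h'')
  obtain ⟨r, hr, c, hr0, hc0, hc, hT, hwide, m, hm⟩ := exists_transvection_even hf hfr hMS hMon h2 (ht.imp_right fun h => ⟨h.1.ge, h.2⟩) hnm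
  have hneg : ∀ x : F, -x = x := fun x => by linear_combination -x * h2
  by_cases hq : Nat.card (fixedField σ) = 2
  · exact ⟨r, hq2 hc0 hc hT hq, hr0, ⟨m, hm⟩, fun _ => hwide⟩
  by_cases hgood : ∃ i, f r (e i) ≠ 0 ∧ c * (f r (e i) * σ (f r (e i))) ≠ -1
  · obtain ⟨i, hi, hi'⟩ := hgood
    exact ⟨r, mem_hCentres_of_coord hf hfr hMS hMon hr hc0 hc hT hm hi hi', hr0, ⟨m, hm⟩, fun h => absurd h hq⟩
  push Not at hgood
  obtain ⟨i, -, hi⟩ := hwide ∅ (by simp)
  obtain ⟨j, hj', hj⟩ := hwide {i} (by simp)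
  obtain ⟨l, hl', hl⟩ := hwide {i, j} Finset.card_le_two
  simp only [Finset.mem_insert, Finset.mem_singleton, not_or] at hj' hl'
  have hij : i ≠ j := fun h => hj' h.symm
  obtain ⟨η, hη, hη'⟩ := exists_normOne_avoid hf.ne_refl hf.involutive
    (({1} : Finset F) ∪ (normOnes σ).filter fun η => 0 + 1 * η + σ (1 * η) = 1) (by
      have e1 := card_fibre_le hf.ne_refl hf.involutive (0 : F) 1 one_ne_zero 1
      refine (Finset.card_union_le _ _).trans ?_
      rw [Finset.card_singleton]
      have h3 : 3 ≤ Nat.card (fixedField σ) := by have := two_le_card_fixed (σ := σ); omega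
      omega)
  simp only [Finset.mem_union, Finset.mem_singleton, Finset.mem_filter, mem_normOnes, hη, true_and, not_or,
    zero_add, one_mul] at hη'
  set τ := η + σ η with hτ
  have hτ1 : τ ≠ 1 := hη'.2
  have hτ0 : τ ≠ 0 := by
    intro h
    refine hη'.1 ?_
    have : (η - 1) * (η - 1) = 0 := by linear_combination η * h - hη - η * h2
    exact sub_eq_zero.1 (mul_self_eq_zero.1 this)
  obtain ⟨d, hd, hdm, hdz⟩ := exists_diag hf hfr hij hη
  have hdM := hMon d hd hdm
  set r' := mv d r with hr'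
  have hr'r' : f r' r' = 0 := ((hMS hdM).1 r r).trans hr
  have hT' : htv hf r' hr'r' c ∈ M := by
    have h := M.mul_mem (M.mul_mem hdM hT) (M.inv_mem hdM)
    rw [htv_conj hf (fun x y => (hMS hdM).1 x y) _ hr c] at h
    exact h
  set z := mv (htv hf r' hr'r' c) r with hz
  have hzz : f z z = 0 := ((hMS hT').1 r r).trans hr
  have hzM : htv hf z hzz c ∈ M := by
    have h := M.mul_mem (M.mul_mem hT' hT) (M.inv_mem hT')
    rw [htv_conj hf (fun x y => (hMS hT').1 x y) _ hr c] at h
    exact h
  have hφ : c * f r r' = τ := by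
    rw [hr', hdz, add_right hf, add_right hf, smul_right hf, smul_right hf, hr, map_mul, map_mul, map_sub,
      map_sub, map_one, hf.involutive, hτ]
    linear_combination (σ η - 1) * hgood i hi + (η - 1) * hgood j hj + (1 - η - σ η) * h2
  have hzl : f z (e l) = (1 + τ) * f r (e l) := by
    rw [hz, mv_htv, hφ, hf.add_left, hf.smul_left, hr', hdz, hf.add_left, hf.add_left, coord_smul hf hfr,
      coord_smul hf hfr, if_neg (Ne.symm hl'.1), if_neg (Ne.symm hl'.2)]
    ring
  have hzm : f z (e m) = 0 := by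
    rw [hz, mv_htv, hφ, hf.add_left, hf.smul_left, hr', hdz, hf.add_left, hf.add_left, coord_smul hf hfr,
      coord_smul hf hfr, if_neg (fun h => hi (by rw [h]; exact hm)), if_neg (fun h => hj (by rw [h]; exact hm)), hm]
    ring
  have hτfix : σ τ = τ := by rw [hτ, map_add, hf.involutive]; ring
  have h1τ : 1 + τ ≠ 0 := fun h => hτ1 (by linear_combination h - h2)
  have hzl0 : f z (e l) ≠ 0 := by rw [hzl]; exact mul_ne_zero h1τ hl
  refine ⟨z, mem_hCentres_of_coord hf hfr hMS hMon hzz hc0 hc hzM hzm hzl0 ?_,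
    fun h => hzl0 (by rw [h, zero_left hf]), ⟨m, hzm⟩, fun h => absurd h hq⟩
  rw [hzl, map_mul, map_add, map_one, hτfix]
  intro h
  have h' : τ * τ = 0 := by linear_combination -h + ((1 + τ) * (1 + τ)) * hgood l hl - τ * h2
  exact hτ0 (mul_self_eq_zero.1 h')

end Cfsg.Agent.Transvec.Herm
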