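/-
Overgroups of the monomial subgroup of SU: centres on two coordinates give all isotropic centres.
-/
import Cfsg.Agent.Lib.Transvec.HermFrameOddB
import Cfsg.Agent.Lib.Transvec.HermSquares
set_option autoImplicit false
set_option maxHeartbeats 800000

namespace Cfsg.Agent.Transvec.Herm

open scoped Matrix
open Matrix Cfsg.Agent.Transvec

variable {ι : Type} [Fintype ι] [DecidableEq ι] {F : Type*} [Field F] [Finite F]
variable {σ : F ≃+* F} {f : (ι → F) → (ι → F) → F} (hf : Geo.IsUnitaryForm σ f)
variable {t : ℕ} {e : Fin t → ι → F} (hfr : Frame f e)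
variable {M : Subgroup (GL ι F)}
variable (hMS : M ≤ preserving (Units.coeHom (Matrix ι ι F)) f ⊓ Geo.specialLinear ι F)
variable (hMon : ∀ g ∈ preserving (Units.coeHom (Matrix ι ι F)) f ⊓ Geo.specialLinear ι F, FMon e g → g ∈ M)
variable (hpairs : ∀ a b, a ≠ b → ∀ α β : F, f (α • e a + β • e b) (α • e a + β • e b) = 0 →
  α • e a + β • e b ∈ hCentres hf M)
include hf hfr hMS hMon hpairs

/-- The coordinate a of an isotropic vector is removed by a centre on two coordinates. -/
theorem reduce_step {u : ι → F} (huu : f u u = 0) {a b : Fin t} (hab : a ≠ b) (hb : f u (e b) ≠ 0) {κ : F}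
    (hκ : σ κ = -κ) (hκ0 : κ ≠ 0)
    (hκk : κ * κ = f u (e a) * σ (f u (e a)) *
      (f u (e a) * σ (f u (e a)) + f u (e b) * σ (f u (e b))))
    (ih : ∀ z, f z z = 0 → (∀ l, f z (e l) ≠ 0 → l ≠ a ∧ f u (e l) ≠ 0) → z ∈ hCentres hf M) :
    u ∈ hCentres hf M := by
  set xa := f u (e a) with hxa
  set xb := f u (e b) with hxb
  set Na := xa * σ xa with hNa
  have hσb : σ xb ≠ 0 := fun h => hb ((map_eq_zero_iff σ σ.injective).1 h)
  have hNfix : σ Na = Na := by rw [hNa, map_mul, hf.involutive]; ring
  set w := -Na + κ with hw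
  set yb := w / σ xb with hyb
  set y := xa • e a + yb • e b with hy
  have hyyval : Na + yb * σ yb = 0 := by
    rw [hyb, map_div₀, hf.involutive, hw, map_add, map_neg, hNfix, hκ]
    field_simp
    linear_combination -hκk
  have hyy : f y y = 0 := by
    rw [hy]
    simp only [hf.add_left, add_right hf, hf.smul_left, smul_right hf, frame_self hf hfr,
      frame_other hf hfr hab, frame_other hf hfr hab.symm]
    linear_combination hyyval
  have hyu : f y u = κ := by
    rw [hy, hf.add_left, hf.smul_left, hf.smul_left, hf.herm (e a) u, hf.herm (e b) u, ← hxa, ← hxb, hyb,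
      div_mul_cancel₀ _ hσb, hw, hNa]
    ring
  have huy : f u y = -κ := by rw [hf.herm, hyu, hκ]
  set z := u - y with hz
  have hzz : f z z = 0 := by rw [hz, sub_left hf, sub_right hf, sub_right hf, huu, hyy, hyu, huy]; ring
  have hzC : z ∈ hCentres hf M := by
    refine ih z hzz fun l hl => ?_
    rw [hz, sub_left hf, hy, hf.add_left, coord_smul hf hfr, coord_smul hf hfr] at hl
    refine ⟨fun h => ?_, ?_⟩
    · subst h
      rw [if_pos rfl, if_neg hab.symm, add_zero, ← hxa, sub_self] at hl
      exact hl rfl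
    · intro h
      rcases eq_or_ne a l with rfl | hal
      · rw [if_pos rfl, if_neg hab.symm, add_zero, ← hxa, sub_self] at hl
        exact hl rfl
      rcases eq_or_ne b l with rfl | hbl
      · exact hb h
      · rw [if_neg hal, if_neg hbl, h, add_zero, sub_zero] at hl
        exact hl rfl
  have hyC : y ∈ hCentres hf M := hpairs a b hab xa yb hyy
  have hMf : M ≤ preserving (Units.coeHom (Matrix ι ι F)) f := fun g hg => (hMS hg).1
  have := hCentres_add hf hMf hyC hzC (by rw [hz, sub_right hf, hyu, hyy, sub_zero]; exact hκ0)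
    (by rw [hz, add_sub_cancel]; exact huu)
  rwa [hz, add_sub_cancel] at this

/-- Anti-fixed square roots in characteristic two. -/
theorem exists_sqrt_two (h2 : (2 : F) = 0) {k : F} (hk : σ k = k) : ∃ κ, σ κ = -κ ∧ κ * κ = k := by
  haveI : Fintype F := Fintype.ofFinite F
  have hinj : Function.Injective fun x : F => x * x := fun x y h => by
    have h' : (x - y) * (x - y) = 0 := by simp only at h; linear_combination h + (y * y - x * y) * h2
    exact sub_eq_zero.1 (mul_self_eq_zero.1 h')
  obtain ⟨κ, hκ⟩ := Finite.injective_iff_surjective.1 hinj k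
  simp only at hκ
  refine ⟨κ, ?_, hκ⟩
  have : σ κ * σ κ = κ * κ := by rw [← map_mul, hκ, hk]
  rw [hinj this]
  linear_combination κ * h2

/-- Every isotropic vector is a centre when the fixed field has more than two elements. -/
theorem centres_of_pairs (ht : 2 ≤ t) (hq : Nat.card (fixedField σ) ≠ 2) :
    ∀ u, f u u = 0 → u ∈ hCentres hf M := by
  classical
  have hMf : M ≤ preserving (Units.coeHom (Matrix ι ι F)) f := fun g hg => (hMS hg).1
  let supp : (ι → F) → Finset (Fin t) := fun u => Finset.univ.filter fun l => f u (e l) ≠ 0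
  have msupp : ∀ u l, l ∈ supp u ↔ f u (e l) ≠ 0 := fun u l => by simp [supp]
  suffices H : ∀ (m : ℕ) u, (supp u).card ≤ m → f u u = 0 → u ∈ hCentres hf M from
    fun u hu => H _ u le_rfl hu
  intro m
  induction m using Nat.strong_induction_on with
  | _ m IH =>
    intro u hum huu
    set S := supp u with hS
    by_cases hS2 : S.card ≤ 2
    · obtain ⟨T, hST, -, hT⟩ := Finset.exists_subsuperset_card_eq (Finset.subset_univ S) hS2
        (show 2 ≤ (Finset.univ : Finset (Fin t)).card by rw [Finset.card_univ, Fintype.card_fin]; omega)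
      obtain ⟨a, b, hab, rfl⟩ := Finset.card_eq_two.1 hT
      have hu : u = f u (e a) • e a + f u (e b) • e b := by
        refine (mem_span_of_coord hf hfr (s := {a, b}) fun k hk => ?_).trans (Finset.sum_pair hab)
        by_contra h; exact hk (hST ((msupp u k).2 h))
      rw [hu] at huu ⊢
      exact hpairs a b hab _ _ huu
    -- a reduction from a suitable pair of a vector with support inside S
    have red : ∀ v, f v v = 0 → supp v ⊆ S → ∀ a b, a ≠ b → f v (e a) ≠ 0 → f v (e b) ≠ 0 →
        (∃ κ, σ κ = -κ ∧ κ ≠ 0 ∧ κ * κ = f v (e a) * σ (f v (e a)) *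
          (f v (e a) * σ (f v (e a)) + f v (e b) * σ (f v (e b)))) → v ∈ hCentres hf M := by
      rintro v hvv hvS a b hab ha hb ⟨κ, hκ, hκ0, hκk⟩
      refine reduce_step hf hfr hMS hMon hpairs hvv hab hb hκ hκ0 hκk fun z hzz hz => ?_
      have hsub : supp z ⊆ S.erase a := fun l hl =>
        Finset.mem_erase.2 ⟨(hz l ((msupp z l).1 hl)).1, hvS ((msupp v l).2 (hz l ((msupp z l).1 hl)).2)⟩
      have h1 := Finset.card_le_card hsub
      rw [Finset.card_erase_of_mem (hvS ((msupp v a).2 ha))] at h1
      exact IH (m - 1) (by omega) z (by omega) hzz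
    -- moving a coordinate by a transvection of a plane
    have move : ∀ a b, a ∈ S → b ∈ S → a ≠ b → ∀ θ, θ * σ θ = -1 → ∀ c, σ c = -c →
        (∀ v, f v v = 0 → supp v ⊆ S → f v (e a) = f u (e a) + c * (f u (e a) + σ θ * f u (e b)) →
          (∀ l, l ≠ a → l ≠ b → f v (e l) = f u (e l)) → v ∈ hCentres hf M) → u ∈ hCentres hf M := by
      intro a b ha hb hab θ hθ c hc H
      have hbb : f ((1 : F) • e a + θ • e b) ((1 : F) • e a + θ • e b) = 0 := by
        simp only [hf.add_left, add_right hf, hf.smul_left, smul_right hf, frame_self hf hfr,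
          frame_other hf hfr hab, frame_other hf hfr hab.symm, map_one]
        linear_combination hθ
      obtain ⟨hw, hwM⟩ := hpairs a b hab 1 θ hbb
      set g := htv hf _ hw c with hg
      have hgM : g ∈ M := hwM c hc
      set v := mv g u with hv
      have hvl : ∀ l, f v (e l) = f u (e l) +
          c * (f u (e a) + σ θ * f u (e b)) * ((if a = l then 1 else 0) + θ * (if b = l then 1 else 0)) := by
        intro l
        rw [hv, hg, mv_htv, hf.add_left, hf.smul_left, add_right hf, hf.add_left, smul_right hf, smul_right hf,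
          map_one, one_mul, hf.smul_left, hf.smul_left, one_mul, hfr.orth, hfr.orth]
      have hvC : v ∈ hCentres hf M := by
        refine H v ((hMf hgM u u).trans huu) (fun l hl => ?_)
          (by rw [hvl, if_pos rfl, if_neg hab.symm]; ring) fun l h1 h2 => ?_
        · by_contra hlS
          refine (msupp v l).1 hl ?_
          rw [hvl, if_neg (show a ≠ l from fun h => hlS (h ▸ ha)), if_neg (show b ≠ l from fun h => hlS (h ▸ hb)),
            show f u (e l) = 0 from not_not.1 fun h => hlS ((msupp u l).2 h)]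
          ring
        · rw [hvl, if_neg h1.symm, if_neg h2.symm]; ring
      have := hCentres_mv hf hMf (M.inv_mem hgM) hvC
      rwa [hv, mv_inv_mv] at this
    have small : ∀ v, f v v = 0 → supp v ⊆ S → ∀ a ∈ S, f v (e a) = 0 → v ∈ hCentres hf M := by
      intro v hvv hvS a ha hva
      have hsub : supp v ⊆ S.erase a := fun l hl =>
        Finset.mem_erase.2 ⟨fun h => (msupp v l).1 hl (by rw [h]; exact hva), hvS hl⟩
      have h1 := Finset.card_le_card hsub
      rw [Finset.card_erase_of_mem ha] at h1
      exact IH (m - 1) (by omega) v (by omega) hvv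
    set N : Fin t → F := fun l => f u (e l) * σ (f u (e l)) with hN
    have hNfix : ∀ l, σ (N l) = N l := fun l => by simp only [hN]; rw [map_mul, hf.involutive]; ring
    have hσ0 : ∀ {x : F}, x ≠ 0 → σ x ≠ 0 := fun hx h => hx ((map_eq_zero_iff σ σ.injective).1 h)
    have hN0 : ∀ l ∈ S, N l ≠ 0 := fun l hl => mul_ne_zero ((msupp u l).1 hl) (hσ0 ((msupp u l).1 hl))
    obtain ⟨a, ha, b, hb, l, hl, hab, hal, hbl⟩ := Finset.two_lt_card.1 (show 2 < S.card by omega)
    by_cases h2 : (2 : F) = 0
    · -- characteristic two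
      have hneg : ∀ x : F, -x = x := fun x => by linear_combination -x * h2
      have neq : ∀ v, f v v = 0 → supp v ⊆ S → ∀ a b, f v (e a) ≠ 0 → f v (e b) ≠ 0 →
          f v (e a) * σ (f v (e a)) ≠ f v (e b) * σ (f v (e b)) → v ∈ hCentres hf M := by
        intro v hvv hvS a b ha hb hne
        have hab : a ≠ b := fun h => hne (by rw [h])
        set A := f v (e a) * σ (f v (e a)) with hA
        set B := f v (e b) * σ (f v (e b)) with hB
        obtain ⟨κ, hκ, hκk⟩ := exists_sqrt_two hf hfr hMS hMon hpairs h2 (k := A * (A + B)) (by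
          simp only [hA, hB, map_mul, map_add, hf.involutive]; ring)
        refine red v hvv hvS a b hab ha hb ⟨κ, hκ, fun h => ?_, hκk⟩
        rw [h, mul_zero, eq_comm] at hκk
        rcases mul_eq_zero.1 hκk with h' | h'
        · exact mul_ne_zero ha (hσ0 ha) h'
        · exact hne (by linear_combination h' - B * h2)
      by_cases hne : ∃ i ∈ S, ∃ j ∈ S, N i ≠ N j
      · obtain ⟨i, hi, j, hj, hij⟩ := hne
        exact neq u huu (fun x hx => hx) i j ((msupp u i).1 hi) ((msupp u j).1 hj) hij
      push Not at hne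
      obtain ⟨ε, hε, hε1⟩ := exists_norm_one_ne hf
      obtain ⟨c, hc, hc0, hc1⟩ : ∃ c, σ c = c ∧ c ≠ 0 ∧ c ≠ 1 := by
        haveI : Fintype (fixedField σ) := Fintype.ofFinite _
        obtain ⟨c, -, hc⟩ := Finset.exists_mem_notMem_of_card_lt_card (s := ({0, 1} : Finset (fixedField σ)))
          (t := Finset.univ) (by
            rw [Finset.card_univ, ← Nat.card_eq_fintype_card]
            exact lt_of_le_of_lt Finset.card_le_two (by have := two_le_card_fixed (σ := σ); omega))
        simp only [Finset.mem_insert, Finset.mem_singleton, not_or] at hc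
        exact ⟨c, c.2, fun h => hc.1 (Subtype.ext h), fun h => hc.2 (Subtype.ext h)⟩
      have hxb := (msupp u b).1 hb
      set θ := σ (ε * f u (e a) / f u (e b)) with hθ
      refine move a b ha hb hab θ ?_ c (by rw [hc, hneg]) fun v hvv hvS hva hvo => ?_
      · rw [hθ, hf.involutive, hneg, mul_comm]
        have h' : N a = N b := hne a ha b hb
        have := hσ0 hxb
        simp only [hN] at h'
        rw [map_div₀, map_mul]
        field_simp
        linear_combination (f u (e a) * σ (f u (e a))) * hε + h'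
      by_cases hva0 : f v (e a) = 0
      · exact small v hvv hvS a ha hva0
      refine neq v hvv hvS a l hva0 (by rw [hvo l hal.symm hbl.symm]; exact (msupp u l).1 hl) ?_
      rw [hvo l hal.symm hbl.symm]
      intro h
      have h' : N a = N l := hne a ha l hl
      simp only [hN] at h'
      have hσθ : σ θ * f u (e b) = ε * f u (e a) := by rw [hθ, hf.involutive, div_mul_cancel₀ _ hxb]
      rw [hva, hσθ, map_add, map_mul, map_add, map_mul, hc, ← h'] at h
      have e1 : f u (e a) * σ (f u (e a)) * ((ε + σ ε) * (c * (1 + c))) = 0 := by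
        linear_combination h - c * c * f u (e a) * σ (f u (e a)) * hε - (c + c * c) * f u (e a) * σ (f u (e a)) * h2
      rcases mul_eq_zero.1 e1 with h3 | h3
      · exact hN0 a ha h3
      rcases mul_eq_zero.1 h3 with h4 | h4
      · refine hε1 ?_
        have : (ε - 1) * (ε - 1) = 0 := by linear_combination ε * h4 - hε - ε * h2
        exact sub_eq_zero.1 (mul_self_eq_zero.1 this)
      · rcases mul_eq_zero.1 h4 with h5 | h5
        · exact hc0 h5
        · exact hc1 (by linear_combination h5 - h2)
    -- odd characteristic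
    have nsq : ∀ v, f v v = 0 → supp v ⊆ S → ∀ a b, a ≠ b → f v (e a) ≠ 0 → f v (e b) ≠ 0 →
        (∀ y, σ y = y → y * y ≠ f v (e a) * σ (f v (e a)) *
          (f v (e a) * σ (f v (e a)) + f v (e b) * σ (f v (e b)))) → v ∈ hCentres hf M := by
      intro v hvv hvS a b hab ha hb hns
      obtain ⟨κ, hκ, hκk⟩ := exists_anti_sqrt hf.ne_refl hf.involutive h2
        (by simp only [map_mul, map_add, hf.involutive]; ring) hns
      refine red v hvv hvS a b hab ha hb ⟨κ, hκ, fun h => hns 0 (map_zero σ) ?_, hκk⟩
      rw [← hκk, h]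
    by_cases hq3 : Nat.card (fixedField σ) = 3
    · -- two coordinates of equal norm
      have hpm : ∀ x, σ x = x → x ≠ 0 → x = 1 ∨ x = -1 := fun x hx hx0 => by
        have h := apply_eq_pow hf.ne_refl hf.involutive x
        rw [hx, hq3] at h
        rcases mul_eq_zero.1 (show x * ((x - 1) * (x + 1)) = 0 by linear_combination -h) with h' | h'
        · exact absurd h' hx0
        rcases mul_eq_zero.1 h' with h'' | h''
        · exact Or.inl (sub_eq_zero.1 h'')
        · exact Or.inr (eq_neg_of_add_eq_zero_left h'')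
      have h30 : (3 : F) = 0 := by
        haveI : Fintype (fixedField σ) := Fintype.ofFinite _
        have h' : ((3 : ℕ) : fixedField σ) = 0 := by
          rw [← hq3, Nat.card_eq_fintype_card]; exact Nat.cast_card_eq_zero _
        have h'' := congrArg (Subfield.subtype (fixedField σ)) h'
        rw [map_natCast, map_zero] at h''
        exact_mod_cast h''
      obtain ⟨i, hi, j, hj, hij, hNij⟩ : ∃ i ∈ S, ∃ j ∈ S, i ≠ j ∧ N i = N j := by
        rcases hpm _ (hNfix a) (hN0 a ha) with h | h <;> rcases hpm _ (hNfix b) (hN0 b hb) with h' | h' <;>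
          rcases hpm _ (hNfix l) (hN0 l hl) with h'' | h''
        all_goals first
          | exact ⟨a, ha, b, hb, hab, h.trans h'.symm⟩
          | exact ⟨a, ha, l, hl, hal, h.trans h''.symm⟩
          | exact ⟨b, hb, l, hl, hbl, h'.trans h''.symm⟩
      refine nsq u huu (fun x hx => hx) i j hij ((msupp u i).1 hi) ((msupp u j).1 hj) fun y hy h => ?_
      simp only [hN] at hNij
      rw [← hNij] at h
      have h4 : f u (e i) * σ (f u (e i)) * (f u (e i) * σ (f u (e i))) = 1 := by
        rcases hpm _ (hNfix i) (hN0 i hi) with h5 | h5 <;> (simp only [hN] at h5; rw [h5]; ring)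
      by_cases hy0 : y = 0
      · rw [hy0] at h
        exact h2 (by linear_combination -h - 2 * h4)
      · rcases hpm y hy hy0 with rfl | rfl
        · exact one_ne_zero (α := F) (by linear_combination -h - 2 * h4)
        · exact one_ne_zero (α := F) (by linear_combination -h - 2 * h4)
    -- a pair with non-zero norm sum
    obtain ⟨i, hi, j, hj, hij, hsum⟩ : ∃ i ∈ S, ∃ j ∈ S, i ≠ j ∧ N i + N j ≠ 0 := by
      by_contra hcon
      push Not at hcon
      have e1 := hcon a ha b hb hab
      have e2 := hcon a ha l hl hal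
      have e3 := hcon b hb l hl hbl
      exact mul_ne_zero h2 (hN0 a ha) (by linear_combination e1 + e2 - e3)
    set xi := f u (e i) with hxi
    set xj := f u (e j) with hxj
    have hxi0 : xi ≠ 0 := (msupp u i).1 hi
    have hxj0 : xj ≠ 0 := (msupp u j).1 hj
    obtain ⟨θ₀, hθ₀⟩ := exists_norm hf.ne_refl hf.involutive (-1 : F) (by rw [map_neg, map_one])
    set y₀ := σ θ₀ * xj * σ xi with hy₀
    have hy₀0 : y₀ ≠ 0 := mul_ne_zero (mul_ne_zero
      (right_ne_zero_of_mul (show θ₀ * σ θ₀ ≠ 0 by rw [hθ₀]; exact neg_ne_zero.2 one_ne_zero)) hxj0) (hσ0 hxi0)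
    obtain ⟨η, hη, hη'⟩ := exists_normOne_avoid hf.ne_refl hf.involutive
      ((normOnes σ).filter fun η => 2 * N i + y₀ * η + σ (y₀ * η) = 0) (by
        have e1 := card_fibre_le hf.ne_refl hf.involutive (2 * N i) y₀ hy₀0 0
        have := two_le_card_fixed (σ := σ)
        omega)
    simp only [Finset.mem_filter, mem_normOnes, hη, true_and] at hη'
    set θ := θ₀ * σ η with hθdef
    have hθ : θ * σ θ = -1 := by
      rw [hθdef, map_mul, hf.involutive]; linear_combination (η * σ η) * hθ₀ - hη
    obtain ⟨τ, hτ0, hτ⟩ := exists_anti hf.ne_refl hf.involutive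
    set φ := xi + σ θ * xj with hφ
    set Z := τ * φ * σ xi with hZ
    set NN := N i + N j with hNN
    have hNNfix : σ NN = NN := by rw [hNN, map_add, hNfix, hNfix]
    have hφval : φ * σ xi = N i + y₀ * η := by
      simp only [hφ, hy₀, hN, hθdef, map_mul, hf.involutive, ← hxi]; ring
    have hZ' : Z - σ Z ≠ 0 := by
      have : Z - σ Z = τ * (2 * N i + y₀ * η + σ (y₀ * η)) := by
        rw [hZ, mul_assoc, hφval, map_mul, map_add, hNfix, hτ]; ring
      rw [this]; exact mul_ne_zero hτ0 hη'
    have hφ0 : φ ≠ 0 := fun h => hZ' (by rw [hZ, h, mul_zero, zero_mul, map_zero, sub_zero])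
    obtain ⟨s, hs, hns⟩ := exists_nonsquare_value hf.ne_refl hf.involutive h2
      (by have := two_le_card_fixed (σ := σ); omega)
      (A := τ * φ * σ (τ * φ) * NN) (B := (Z + σ Z) * NN) (C := N i * NN)
      (by simp only [map_mul, hf.involutive, hNNfix]; ring)
      (by rw [map_mul, map_add, hf.involutive, hNNfix, add_comm])
      (by rw [map_mul, hNfix, hNNfix])
      (mul_ne_zero (mul_ne_zero (mul_ne_zero hτ0 hφ0) (hσ0 (mul_ne_zero hτ0 hφ0))) hsum) (by
        have : (Z + σ Z) * NN * ((Z + σ Z) * NN) - 4 * (τ * φ * σ (τ * φ) * NN) * (N i * NN) =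
            (Z - σ Z) * (Z - σ Z) * (NN * NN) := by
          simp only [hZ, hN, map_mul, hf.involutive, ← hxi]; ring
        rw [this]; exact mul_ne_zero (mul_ne_zero hZ' hZ') (mul_ne_zero hsum hsum))
    refine move i j hi hj hij θ hθ (s * τ) (by rw [map_mul, hs, hτ, mul_neg]) fun v hvv hvS hvi hvo => ?_
    rw [← hxi, ← hxj, ← hφ] at hvi
    by_cases hvi0 : f v (e i) = 0
    · exact small v hvv hvS i hi hvi0
    by_cases hvj0 : f v (e j) = 0
    · exact small v hvv hvS j hj hvj0
    -- the norm sum of the pair is unchanged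
    have hsame : f v (e i) * σ (f v (e i)) + f v (e j) * σ (f v (e j)) = NN := by
      have h := hvv
      have h' := huu
      rw [f_coord hf hfr, ← Finset.add_sum_erase _ _ (Finset.mem_univ i),
        ← Finset.add_sum_erase _ _ (Finset.mem_erase.2 ⟨hij.symm, Finset.mem_univ j⟩)] at h h'
      rw [Finset.sum_congr rfl fun k hk => by
        simp only [Finset.mem_erase] at hk
        rw [hvo k hk.2.1 hk.1]] at h
      simp only [hNN, hN, ← hxi, ← hxj] at h' ⊢
      linear_combination h - h'
    refine nsq v hvv hvS i j hij hvi0 hvj0 fun y hy h => hns y hy (h.trans ?_)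
    rw [hsame, hvi, map_add, map_mul, map_mul, hs, hZ]
    simp only [hN, map_mul, hf.involutive, ← hxi, hτ]
    ring

end Cfsg.Agent.Transvec.Herm
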