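/-
Maximality in the special unitary group of the stabiliser of an orthonormal frame.
-/
import Cfsg.Agent.Lib.Transvec.HermFrameCentres
import Cfsg.Agent.Lib.Transvec.HermFrameInduct
set_option autoImplicit false
set_option maxHeartbeats 800000

namespace Cfsg.Agent.Transvec.Herm

open scoped Matrix
open Matrix Cfsg.Agent.Transvec

variable {ι : Type} [Fintype ι] [DecidableEq ι] {F : Type*} [Field F] [Finite F]
variable {σ : F ≃+* F} {f : (ι → F) → (ι → F) → F} (hf : Geo.IsUnitaryForm σ f)
variable {t : ℕ} {e : Fin t → ι → F} (hfr : Frame f e)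
variable {M : Subgroup (GL ι F)}
variable (hMS : M ≤ preserving (Units.coeHom (Matrix ι ι F)) f ⊓ Geo.specialLinear ι F)
variable (hMon : ∀ g ∈ preserving (Units.coeHom (Matrix ι ι F)) f ⊓ Geo.specialLinear ι F, FMon e g → g ∈ M)
include hf hfr hMS hMon

/-- A centre orthogonal to a frame vector gives all centres on one pair of coordinates. -/
theorem exists_pair_centres {r : ι → F} (hr : r ∈ hCentres hf M) (hr0 : r ≠ 0) {m : Fin t}
    (hm : f r (e m) = 0) :
    ∃ a b, a ≠ b ∧ ∀ α β : F, f (α • e a + β • e b) (α • e a + β • e b) = 0 →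
      α • e a + β • e b ∈ hCentres hf M := by
  classical
  have hMf : M ≤ preserving (Units.coeHom (Matrix ι ι F)) f := fun g hg => (hMS hg).1
  have hσ0 : ∀ {x : F}, x ≠ 0 → σ x ≠ 0 := fun hx h => hx ((map_eq_zero_iff σ σ.injective).1 h)
  obtain ⟨i, hi⟩ : ∃ i, f r (e i) ≠ 0 := by
    by_contra h; push Not at h; exact hr0 (eq_zero_of_coord hf hfr h)
  obtain ⟨j, hji, hj⟩ : ∃ j, j ≠ i ∧ f r (e j) ≠ 0 := by
    by_contra h
    push Not at h
    have hr' := hr.1
    rw [f_coord hf hfr, Finset.sum_eq_single i (fun k _ hk => by rw [h k hk, zero_mul]) (by simp)] at hr'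
    exact mul_ne_zero hi (hσ0 hi) hr'
  have hij : i ≠ j := hji.symm
  have him : i ≠ m := fun h => hi (h ▸ hm)
  have hjm : j ≠ m := fun h => hj (h ▸ hm)
  set xi := f r (e i) with hxi
  set xj := f r (e j) with hxj
  set Ni := xi * σ xi with hNi
  set Nj := xj * σ xj with hNj
  have hNi0 : Ni ≠ 0 := mul_ne_zero hi (hσ0 hi)
  have hNj0 : Nj ≠ 0 := mul_ne_zero hj (hσ0 hj)
  have hfix : ∀ x : F, σ (x * σ x) = x * σ x := fun x => by rw [map_mul, hf.involutive, mul_comm]
  -- two norm-one scalars
  obtain ⟨η, η', hη, hη', hη1, hη'1, hsum, hne⟩ : ∃ η η', η * σ η = 1 ∧ η' * σ η' = 1 ∧ η ≠ 1 ∧ η' ≠ 1 ∧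
      (2 - η - σ η) * Ni + (2 - η' - σ η') * Nj = 0 ∧ (η - 1) * Ni + (η' - 1) * Nj ≠ 0 := by
    by_cases hopp : Ni + Nj = 0
    · obtain ⟨η, hη, hη'⟩ := exists_normOne_avoid hf.ne_refl hf.involutive ({1, -1} : Finset F)
        (Finset.card_le_two.trans two_le_card_fixed)
      simp only [Finset.mem_insert, Finset.mem_singleton, not_or] at hη'
      refine ⟨η, σ η, hη, by rw [hf.involutive, mul_comm]; exact hη, hη'.1, fun h => ?_, ?_, ?_⟩
      · rw [h, mul_one] at hη; exact hη'.1 hη
      · rw [hf.involutive]; linear_combination (2 - η - σ η) * hopp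
      · intro h
        have h' : (η - σ η) * Ni = 0 := by linear_combination h - (σ η - 1) * hopp
        have h'' := (mul_eq_zero.1 h').resolve_right hNi0
        rcases mul_eq_zero.1 (show (η - 1) * (η + 1) = 0 by linear_combination η * h'' + hη) with h3 | h3
        · exact hη'.1 (sub_eq_zero.1 h3)
        · exact hη'.2 (eq_neg_of_add_eq_zero_left h3)
    set U := (normOnes σ).erase 1 with hU
    set X := U.image fun η => 2 - η - σ η with hX
    have hUc : Nat.card (fixedField σ) ≤ U.card := by
      have := card_normOnes hf.ne_refl hf.involutive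
      rw [hU, Finset.card_erase_of_mem (mem_normOnes.2 (by rw [map_one, mul_one]))]
      omega
    have hXc : U.card ≤ 2 * X.card := by
      refine Finset.card_le_mul_card_image U 2 fun v _ => ?_
      refine le_trans (Finset.card_le_card fun η hη => ?_)
        (card_fibre_le hf.ne_refl hf.involutive (2 : F) (-1) (neg_ne_zero.2 one_ne_zero) v)
      rw [Finset.mem_filter] at hη ⊢
      refine ⟨Finset.mem_of_mem_erase hη.1, ?_⟩
      rw [← hη.2, map_mul, map_neg, map_one]; ring
    haveI : Fintype (fixedField σ) := Fintype.ofFinite _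
    set T : Finset F := ((Finset.univ : Finset (fixedField σ)).image Subtype.val).erase 0 with hT
    have hTc : T.card + 1 ≤ Nat.card (fixedField σ) := by
      have h0 : (0 : F) ∈ (Finset.univ : Finset (fixedField σ)).image Subtype.val :=
        Finset.mem_image_of_mem Subtype.val (Finset.mem_univ (0 : fixedField σ))
      rw [hT, Finset.card_erase_of_mem h0, Finset.card_image_of_injective _ Subtype.val_injective,
        Finset.card_univ, Nat.card_eq_fintype_card]
      have := Fintype.card_pos (α := fixedField σ)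
      omega
    have hXval : ∀ x ∈ X, σ x = x ∧ x ≠ 0 := fun x hx => by
      obtain ⟨η, hη, rfl⟩ := Finset.mem_image.1 hx
      rw [hU, Finset.mem_erase, mem_normOnes] at hη
      refine ⟨by rw [map_sub, map_sub, map_ofNat, hf.involutive]; ring, fun h => hη.1 ?_⟩
      exact sub_eq_zero.1 (mul_self_eq_zero.1
        (show (η - 1) * (η - 1) = 0 by linear_combination -η * h - hη.2))
    set L := -(Ni / Nj) with hL
    have hLfix : σ L = L := by rw [hL, hNi, hNj, map_neg, map_div₀, hfix, hfix]
    have hL0 : L ≠ 0 := neg_ne_zero.2 (div_ne_zero hNi0 hNj0)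
    have hint : ∃ y, y ∈ X ∧ y ∈ X.image fun x => L * x := by
      have hsub : X ∪ X.image (fun x => L * x) ⊆ T := fun y hy => by
        have hy' : σ y = y ∧ y ≠ 0 := by
          rcases Finset.mem_union.1 hy with h | h
          · exact hXval y h
          · obtain ⟨x, hx, rfl⟩ := Finset.mem_image.1 h
            exact ⟨by rw [map_mul, hLfix, (hXval x hx).1], mul_ne_zero hL0 (hXval x hx).2⟩
        exact Finset.mem_erase.2 ⟨hy'.2, Finset.mem_image_of_mem Subtype.val (Finset.mem_univ (⟨y, hy'.1⟩ : fixedField σ))⟩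
      have h1 := Finset.card_union_add_card_inter X (X.image fun x => L * x)
      have h2 := Finset.card_le_card hsub
      rw [Finset.card_image_of_injective _ (mul_right_injective₀ hL0)] at h1
      obtain ⟨y, hy⟩ := Finset.card_pos.1 (show 0 < (X ∩ X.image fun x => L * x).card by omega)
      exact ⟨y, Finset.mem_inter.1 hy⟩
    obtain ⟨y, hyX, hyL⟩ := hint
    obtain ⟨η', hη', rfl⟩ := Finset.mem_image.1 hyX
    obtain ⟨x, hx, hxy⟩ := Finset.mem_image.1 hyL
    obtain ⟨η, hη, rfl⟩ := Finset.mem_image.1 hx
    rw [hU, Finset.mem_erase, mem_normOnes] at hη hη'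
    have hs : (2 - η - σ η) * Ni + (2 - η' - σ η') * Nj = 0 := by
      rw [← hxy, hL]; field_simp; ring
    refine ⟨η, η', hη.2, hη'.2, hη.1, hη'.1, hs, fun h => hopp ?_⟩
    have h' := congrArg σ h
    simp only [map_add, map_mul, map_sub, map_one, map_zero, hNi, hNj, hf.involutive] at h'
    -- comparing norms
    have hnn : (2 - η - σ η) * (Ni * Ni) = (2 - η' - σ η') * (Nj * Nj) := by
      have e1 : (η - 1) * Ni = -((η' - 1) * Nj) := by linear_combination h
      have e2 : (σ η - 1) * Ni = -((σ η' - 1) * Nj) := by rw [hNi, hNj]; linear_combination h'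
      linear_combination ((σ η - 1) * Ni) * e1 - ((η' - 1) * Nj) * e2 - (Ni * Ni) * hη.2 + (Nj * Nj) * hη'.2
    have hx0 := (hXval _ (Finset.mem_image_of_mem _ (show η ∈ U by
      rw [hU, Finset.mem_erase, mem_normOnes]; exact hη))).2
    refine (mul_eq_zero.1 (show (2 - η - σ η) * Ni * (Ni + Nj) = 0 by linear_combination hnn + Nj * hs)).resolve_left ?_
    exact mul_ne_zero hx0 hNi0
  obtain ⟨d₁, hd₁, hd₁m, hd₁z⟩ := exists_diag hf hfr him hη
  obtain ⟨d₂, hd₂, hd₂m, hd₂z⟩ := exists_diag hf hfr hjm hη'
  have hdM : d₂ * d₁ ∈ M := M.mul_mem (hMon _ hd₂ hd₂m) (hMon _ hd₁ hd₁m)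
  set ai := (η - 1) * xi with hai
  set aj := (η' - 1) * xj with haj
  have hdr : mv (d₂ * d₁) r = r + (ai • e i + aj • e j) := by
    rw [mv_mul, hd₁z, hd₂z]
    simp only [hf.add_left, hf.smul_left, hm, frame_other hf hfr hij, frame_other hf hfr him,
      mul_zero, zero_smul, add_zero, ← hxi, ← hxj]
    rw [add_assoc]
  set y := mv (d₂ * d₁) r with hy
  have hyC : y ∈ hCentres hf M := hCentres_mv hf hMf hdM hr
  have hzz : f (ai • e i + aj • e j) (ai • e i + aj • e j) = 0 := by
    simp only [hf.add_left, add_right hf, hf.smul_left, smul_right hf, frame_self hf hfr,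
      frame_other hf hfr hij, frame_other hf hfr hij.symm, hai, haj, map_mul, map_sub, map_one]
    rw [hNi, hNj] at hsum
    linear_combination hsum + xi * σ xi * hη + xj * σ xj * hη'
  have hnC : -r ∈ hCentres hf M := by have := hCentres_smul hf hr (-1 : F); rwa [neg_one_smul] at this
  have hzC := hCentres_add hf hMf hyC hnC (by
    rw [neg_right hf, neg_ne_zero, hdr, hf.add_left, hr.1, zero_add, hf.add_left, hf.smul_left, hf.smul_left,
      hf.herm (e i) r, hf.herm (e j) r, ← hxi, ← hxj, hai, haj]
    rw [hNi, hNj] at hne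
    intro h; exact hne (by linear_combination h))
    (by rw [hdr, show r + (ai • e i + aj • e j) + -r = ai • e i + aj • e j by abel]; exact hzz)
  rw [hdr, show r + (ai • e i + aj • e j) + -r = ai • e i + aj • e j by abel] at hzC
  have hai0 : ai ≠ 0 := mul_ne_zero (sub_ne_zero.2 hη1) hi
  have haj0 : aj ≠ 0 := mul_ne_zero (sub_ne_zero.2 hη'1) hj
  -- all vectors of the pair
  refine ⟨i, j, hij, fun α β h => ?_⟩
  have hval : α * σ α + β * σ β = 0 := by
    simp only [hf.add_left, add_right hf, hf.smul_left, smul_right hf, frame_self hf hfr,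
      frame_other hf hfr hij, frame_other hf hfr hij.symm] at h
    linear_combination h
  by_cases hα : α = 0
  · rw [hα, zero_mul, zero_add] at hval
    have hβ : β = 0 := by
      rcases mul_eq_zero.1 hval with h' | h'
      · exact h'
      · exact (map_eq_zero_iff σ σ.injective).1 h'
    rw [hα, hβ, zero_smul, zero_smul, add_zero]
    have := hCentres_smul hf hr (0 : F)
    rwa [zero_smul] at this
  set s := α / ai with hs
  have hs0 : s ≠ 0 := div_ne_zero hα hai0
  set θ := β / (s * aj) with hθ
  have hθ1 : θ * σ θ = 1 := by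
    have hz' : ai * σ ai + aj * σ aj = 0 := by
      simp only [hf.add_left, add_right hf, hf.smul_left, smul_right hf, frame_self hf hfr,
        frame_other hf hfr hij, frame_other hf hfr hij.symm] at hzz
      linear_combination hzz
    have := hσ0 hai0
    have := hσ0 haj0
    have := hσ0 hα
    rw [hθ, hs, map_div₀, map_mul, map_div₀]
    field_simp
    linear_combination (ai * σ ai) * hval - (α * σ α) * hz'
  obtain ⟨d, hd, hdm', hdz⟩ := exists_diag hf hfr hjm hθ1
  have h1 := hCentres_smul hf (hCentres_mv hf hMf (hMon d hd hdm') hzC) s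
  rw [hdz] at h1
  simp only [hf.add_left, hf.smul_left, frame_self hf hfr, frame_other hf hfr hij, frame_other hf hfr him,
    frame_other hf hfr hjm, mul_zero, zero_add, add_zero, zero_smul, mul_one] at h1
  convert h1 using 1
  rw [hθ, hs]
  match_scalars <;> (field_simp; try ring1)

omit hMS hMon in
/-- Two frame lines in characteristic two over the smallest field. -/
theorem card_two_facts (hq : Nat.card (fixedField σ) = 2) :
    (2 : F) = 0 ∧ ∀ x : F, σ x = x → x ≠ 0 → x = 1 := by
  refine ⟨?_, fun x hx hx0 => ?_⟩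
  · haveI : Fintype (fixedField σ) := Fintype.ofFinite _
    have h' : ((2 : ℕ) : fixedField σ) = 0 := by
      rw [← hq, Nat.card_eq_fintype_card]; exact Nat.cast_card_eq_zero _
    have h'' := congrArg (Subfield.subtype (fixedField σ)) h'
    rw [map_natCast, map_zero] at h''
    exact_mod_cast h''
  · obtain ⟨u, hu, huniq⟩ := (Nat.card_eq_two_iff' (0 : fixedField σ)).1 hq
    exact congrArg Subtype.val ((huniq ⟨x, hx⟩ fun h => hx0 (congrArg Subtype.val h)).trans
      (huniq 1 one_ne_zero).symm)

/-- Over the smallest field the monomial group has all centres on two coordinates. -/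
theorem pairs_two (hq : Nat.card (fixedField σ) = 2) :
    ∀ a b, a ≠ b → ∀ α β : F, f (α • e a + β • e b) (α • e a + β • e b) = 0 →
      α • e a + β • e b ∈ hCentres hf M := by
  obtain ⟨h2, hone⟩ := card_two_facts hf hfr hq
  intro a b hab α β h
  have hzero : (0 : ι → F) ∈ hCentres hf M :=
    ⟨zero_left hf 0, fun c _ => by
      have h0 : htv hf (0 : ι → F) (zero_left hf 0) c = 1 := ext_mv fun x => by
        rw [mv_htv, mv_one, smul_zero, add_zero]
      rw [h0]; exact M.one_mem⟩
  simp only [hf.add_left, add_right hf, hf.smul_left, smul_right hf, frame_self hf hfr,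
    frame_other hf hfr hab, frame_other hf hfr hab.symm] at h
  by_cases hα : α = 0
  · rw [hα] at h
    have hβ : β * σ β = 0 := by linear_combination h
    have hβ0 : β = 0 := by
      rcases mul_eq_zero.1 hβ with h' | h'
      · exact h'
      · exact (map_eq_zero_iff σ σ.injective).1 h'
    rw [hα, hβ0, zero_smul, zero_smul, add_zero]; exact hzero
  have hσα : σ α ≠ 0 := fun h' => hα ((map_eq_zero_iff σ σ.injective).1 h')
  obtain ⟨hb, hbM⟩ := htv_basic_mem hf hfr hMS hMon h2 hab (ζ := β / α) (by
    rw [map_div₀]; field_simp; linear_combination h - (α * σ α) * h2)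
  have hmem : e a + (β / α) • e b ∈ hCentres hf M := ⟨hb, fun c hc => by
    by_cases hc0 : c = 0
    · subst hc0; rw [htv_zero]; exact M.one_mem
    · rwa [hone c (by rw [hc]; linear_combination -c * h2) hc0]⟩
  have := hCentres_smul hf hmem α
  rwa [smul_add, smul_smul, mul_div_cancel₀ _ hα] at this

/-- Over the smallest field one centre of support at least three gives all centres. -/
theorem centres_two (ht : 10 ≤ t) (hq : Nat.card (fixedField σ) = 2) {r : ι → F} (hr : r ∈ hCentres hf M)
    {m : Fin t} (hm : f r (e m) = 0)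
    (hwide : ∀ S : Finset (Fin t), S.card ≤ 2 → ∃ l, l ∉ S ∧ f r (e l) ≠ 0) :
    ∀ u, f u u = 0 → u ∈ hCentres hf M := by
  classical
  have hMf : M ≤ preserving (Units.coeHom (Matrix ι ι F)) f := fun g hg => (hMS hg).1
  obtain ⟨h2, hone⟩ := card_two_facts hf hfr hq
  have hσ0 : ∀ {x : F}, x ≠ 0 → σ x ≠ 0 := fun hx h => hx ((map_eq_zero_iff σ σ.injective).1 h)
  have hN : ∀ x : F, x ≠ 0 → x * σ x = 1 := fun x hx =>
    hone _ (by rw [map_mul, hf.involutive, mul_comm]) (mul_ne_zero hx (hσ0 hx))
  have hpairs := pairs_two hf hfr hMS hMon hq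
  let supp : (ι → F) → Finset (Fin t) := fun u => Finset.univ.filter fun l => f u (e l) ≠ 0
  have msupp : ∀ u l, l ∈ supp u ↔ f u (e l) ≠ 0 := fun u l => by simp [supp]
  have hnorm : ∀ u, f u u = ((supp u).card : F) := fun u => by
    rw [f_coord hf hfr, ← Finset.sum_filter_of_ne (p := fun l => f u (e l) ≠ 0) (fun l _ h => left_ne_zero_of_mul h)]
    rw [Finset.sum_congr rfl fun l hl => hN _ (Finset.mem_filter.1 hl).2, Finset.sum_const, nsmul_one]
  have hthree : ∀ u, f u u = 0 → (supp u).card ≠ 3 := fun u hu h => by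
    rw [hnorm, h] at hu
    push_cast at hu
    exact one_ne_zero (α := F) (by linear_combination hu - h2)
  obtain ⟨ω, hω, hω1⟩ := exists_norm_one_ne hf
  have hω2 : ω + σ ω = 1 := by
    refine hone _ (by rw [map_add, hf.involutive, add_comm]) fun h => hω1 ?_
    exact sub_eq_zero.1 (mul_self_eq_zero.1
      (show (ω - 1) * (ω - 1) = 0 by linear_combination ω * h - hω - ω * h2))
  -- a centre with exactly four non-zero coordinates
  obtain ⟨z, hzC, hz4⟩ : ∃ z ∈ hCentres hf M, (supp z).card = 4 := by
    obtain ⟨a, -, ha⟩ := hwide ∅ (by simp)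
    obtain ⟨b, hb', hb⟩ := hwide {a} (by simp)
    obtain ⟨c, hc', hc⟩ := hwide {a, b} Finset.card_le_two
    simp only [Finset.mem_insert, Finset.mem_singleton, not_or] at hb' hc'
    obtain ⟨d, hd, hd'⟩ : ∃ d ∈ supp r, d ∉ ({a, b, c} : Finset (Fin t)) := by
      refine Finset.exists_mem_notMem_of_card_lt_card ?_
      have h3 : ({a, b, c} : Finset (Fin t)).card ≤ (supp r).card :=
        Finset.card_le_card fun x hx => by
          simp only [Finset.mem_insert, Finset.mem_singleton] at hx
          rcases hx with rfl | rfl | rfl <;> exact (msupp r _).2 (by assumption)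
      have h3' : ({a, b, c} : Finset (Fin t)).card = 3 := by
        rw [Finset.card_insert_of_notMem (by simp [Ne.symm hb', Ne.symm hc'.1]), Finset.card_pair (Ne.symm hc'.2)]
      have := hthree r hr.1
      omega
    rw [msupp] at hd
    simp only [Finset.mem_insert, Finset.mem_singleton, not_or] at hd'
    have ne : ∀ x, f r (e x) ≠ 0 → x ≠ m := fun x hx h => hx (h ▸ hm)
    obtain ⟨g₁, hg₁, hg₁m, hg₁z⟩ := exists_diag hf hfr (ne a ha) hω
    obtain ⟨g₂, hg₂, hg₂m, hg₂z⟩ := exists_diag hf hfr (ne b hb) hω
    obtain ⟨g₃, hg₃, hg₃m, hg₃z⟩ := exists_diag hf hfr (ne c hc) hω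
    obtain ⟨g₄, hg₄, hg₄m, hg₄z⟩ := exists_diag hf hfr (ne d hd) (η := σ ω) (by rw [hf.involutive, mul_comm]; exact hω)
    set g := g₄ * (g₃ * (g₂ * g₁)) with hg
    have hgM : g ∈ M := M.mul_mem (hMon _ hg₄ hg₄m) (M.mul_mem (hMon _ hg₃ hg₃m)
      (M.mul_mem (hMon _ hg₂ hg₂m) (hMon _ hg₁ hg₁m)))
    set w := ((ω - 1) * f r (e a)) • e a + ((ω - 1) * f r (e b)) • e b + ((ω - 1) * f r (e c)) • e c +
      ((σ ω - 1) * f r (e d)) • e d with hw
    have hgr : mv g r = r + w := by
      rw [hg, mv_mul, mv_mul, mv_mul, hg₁z, hg₂z, hg₃z, hg₄z, hw]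
      simp only [hf.add_left, hf.smul_left, hm, frame_other hf hfr (ne a ha), frame_other hf hfr (ne b hb),
        frame_other hf hfr (ne c hc), frame_other hf hfr (Ne.symm hb'),
        frame_other hf hfr (Ne.symm hc'.1), frame_other hf hfr (Ne.symm hc'.2),
        frame_other hf hfr (Ne.symm hd'.1), frame_other hf hfr (Ne.symm hd'.2.1),
        frame_other hf hfr (Ne.symm hd'.2.2), mul_zero, zero_smul, add_zero]
      abel
    have hC1 := hCentres_mv hf hMf hgM hr
    have hnC : -r ∈ hCentres hf M := by have := hCentres_smul hf hr (-1 : F); rwa [neg_one_smul] at this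
    have hwcoord : ∀ k, f w (e k) = (if a = k then (ω - 1) * f r (e a) else 0) + (if b = k then (ω - 1) * f r (e b) else 0) +
        (if c = k then (ω - 1) * f r (e c) else 0) + (if d = k then (σ ω - 1) * f r (e d) else 0) := fun k => by
      rw [hw, hf.add_left, hf.add_left, hf.add_left, coord_smul hf hfr, coord_smul hf hfr, coord_smul hf hfr,
        coord_smul hf hfr]
    have hωn : ω - 1 ≠ 0 := sub_ne_zero.2 hω1
    have hσωn : σ ω - 1 ≠ 0 := fun h => hω1 (by
      have h' : σ ω = σ 1 := by rw [map_one]; exact sub_eq_zero.1 h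
      exact σ.injective h')
    have hsuppw : supp w = {a, b, c, d} := by
      ext k
      rw [msupp, hwcoord]
      simp only [Finset.mem_insert, Finset.mem_singleton]
      rcases eq_or_ne a k with rfl | h1
      · simp [hb', hc'.1, hd'.1, hωn, ha]
      rcases eq_or_ne b k with rfl | h2'
      · simp [h1, hc'.2, hd'.2.1, hωn, hb]
      rcases eq_or_ne c k with rfl | h3
      · simp [h1, h2', hd'.2.2, hωn, hc]
      rcases eq_or_ne d k with rfl | h4
      · simp [h1, h2', h3, hσωn, hd]
      simp [h1, h2', h3, h4, h1.symm, h2'.symm, h3.symm, h4.symm]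
    have h4 : (supp w).card = 4 := by
      rw [hsuppw, Finset.card_insert_of_notMem (by simp [Ne.symm hb', Ne.symm hc'.1, Ne.symm hd'.1]),
        Finset.card_insert_of_notMem (by simp [Ne.symm hc'.2, Ne.symm hd'.2.1]),
        Finset.card_pair (Ne.symm hd'.2.2)]
    have hfwr : f w r = 1 := by
      rw [hw, hf.add_left, hf.add_left, hf.add_left, hf.smul_left, hf.smul_left, hf.smul_left, hf.smul_left,
        hf.herm (e a) r, hf.herm (e b) r, hf.herm (e c) r, hf.herm (e d) r]
      linear_combination (ω - 1) * hN _ ha + (ω - 1) * hN _ hb + (ω - 1) * hN _ hc + (σ ω - 1) * hN _ hd +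
        hω2 + (ω - 2) * h2
    refine ⟨w, ?_, h4⟩
    have hiso : f w w = 0 := by rw [hnorm, h4]; push_cast; linear_combination 2 * h2
    have := hCentres_add hf hMf hC1 hnC
      (by rw [hgr, neg_right hf, hf.add_left, hr.1, zero_add, hfwr]; exact neg_ne_zero.2 one_ne_zero)
      (by rw [hgr, show r + w + -r = w by abel]; exact hiso)
    rwa [hgr, show r + w + -r = w by abel] at this
  -- phases
  have phase : ∀ z ∈ hCentres hf M, (supp z).card ≤ 4 → ∀ u, supp u = supp z → u ∈ hCentres hf M := by
    intro z hz hz4 u hu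
    obtain ⟨p, -, hp⟩ := Finset.exists_mem_notMem_of_card_lt_card (s := supp z)
      (t := (Finset.univ : Finset (Fin t))) (by rw [Finset.card_univ, Fintype.card_fin]; omega)
    suffices H : ∀ R ⊆ supp z, ∃ v ∈ hCentres hf M, ∀ l, f v (e l) = if l ∈ R then f u (e l) else f z (e l) by
      obtain ⟨v, hv, hvl⟩ := H _ subset_rfl
      have huv : u = v := coord_ext hf hfr fun l => by
        rw [hvl]
        split_ifs with hl
        · rfl
        · rw [not_not.1 fun h => hl ((msupp z l).2 h)]
          exact not_not.1 fun h => hl (hu ▸ (msupp u l).2 h)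
      rw [huv]; exact hv
    intro R
    induction R using Finset.induction with
    | empty => exact fun _ => ⟨z, hz, fun l => by simp⟩
    | @insert k R hk ihR =>
      intro hR
      obtain ⟨v, hv, hvl⟩ := ihR fun x hx => hR (Finset.mem_insert_of_mem hx)
      have hkz : k ∈ supp z := hR (Finset.mem_insert_self _ _)
      have hzk : f z (e k) ≠ 0 := (msupp z k).1 hkz
      have huk : f u (e k) ≠ 0 := (msupp u k).1 (hu ▸ hkz)
      have hkp : k ≠ p := fun h => hp (h ▸ hkz)
      obtain ⟨d, hd, hdm, hdz⟩ := exists_diag hf hfr hkp (η := f u (e k) / f z (e k)) (by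
        rw [map_div₀, div_mul_div_comm, hN _ huk, hN _ hzk, div_one])
      refine ⟨mv d v, hCentres_mv hf hMf (hMon d hd hdm) hv, fun l => ?_⟩
      have hvp : f v (e p) = 0 := by
        rw [hvl, if_neg (fun h => hp (hR (Finset.mem_insert_of_mem h)))]
        exact not_not.1 fun h => hp ((msupp z p).2 h)
      rw [hdz, hvp, mul_zero, zero_smul, add_zero, hf.add_left, coord_smul hf hfr, hvl, hvl, if_neg hk]
      rcases eq_or_ne k l with rfl | hkl
      · rw [if_pos rfl, if_neg hk, if_pos (Finset.mem_insert_self _ _)]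
        field_simp
        ring
      · rw [if_neg hkl, add_zero]
        simp [Finset.mem_insert, hkl.symm]
  -- every four coordinates
  have four : ∀ u, (supp u).card = 4 → u ∈ hCentres hf M := by
    suffices H : ∀ (n : ℕ) (z u : ι → F), z ∈ hCentres hf M → (supp z).card = 4 → (supp u).card = 4 →
        (supp u \ supp z).card ≤ n → u ∈ hCentres hf M from fun u hu => H _ z u hzC hz4 hu le_rfl
    intro n
    induction n with
    | zero =>
      intro z u hz hz4 hu4 hd
      refine phase z hz hz4.le u (Finset.eq_of_subset_of_card_le ?_ (by rw [hu4, hz4]))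
      exact Finset.sdiff_eq_empty_iff_subset.1 (Finset.card_eq_zero.1 (Nat.le_zero.1 hd))
    | succ n ihn =>
      intro z u hz hz4 hu4 hd
      by_cases he : supp u ⊆ supp z
      · exact phase z hz hz4.le u (Finset.eq_of_subset_of_card_le he (by rw [hu4, hz4]))
      obtain ⟨p', hp'⟩ := Finset.not_subset.1 he
      obtain ⟨p, hp⟩ : (supp z \ supp u).Nonempty := by
        rw [← Finset.card_pos]
        have h1 := Finset.card_sdiff_add_card_inter (supp z) (supp u)
        have h2' := Finset.card_sdiff_add_card_inter (supp u) (supp z)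
        have h3 : 0 < (supp u \ supp z).card := Finset.card_pos.2 ⟨p', Finset.mem_sdiff.2 hp'⟩
        rw [Finset.inter_comm] at h2'
        omega
      rw [Finset.mem_sdiff] at hp
      have hpp' : p ≠ p' := fun h => hp'.2 (h ▸ hp.1)
      obtain ⟨q, -, hq'⟩ := Finset.exists_mem_notMem_of_card_lt_card (s := insert p' (supp z))
        (t := (Finset.univ : Finset (Fin t))) (by
          rw [Finset.card_univ, Fintype.card_fin]
          have := Finset.card_insert_le p' (supp z); omega)
      simp only [Finset.mem_insert, not_or] at hq'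
      have hqp : q ≠ p := fun h => hq'.2 (h ▸ hp.1)
      obtain ⟨g, hg, hgm, hgp, hgp', hgo⟩ := exists_swap hf hfr hpp' hqp hq'.1
      have hgM := hMon g hg hgm
      have hzp' : f z (e p') = 0 := not_not.1 fun h => hp'.2 ((msupp z p').2 h)
      have hzq : f z (e q) = 0 := not_not.1 fun h => hq'.2 ((msupp z q).2 h)
      have hgz : mv g z = z + f z (e p) • (e p' - e p) := by
        have hz' : z - f z (e p) • e p = ∑ k ∈ (supp z).erase p, f z (e k) • e k := by
          refine coord_ext hf hfr fun k => ?_
          rw [coord_sum hf hfr, sub_left hf, coord_smul hf hfr]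
          rcases eq_or_ne p k with rfl | hpk
          · rw [if_pos rfl, sub_self, if_neg (Finset.notMem_erase _ _)]
          · rw [if_neg hpk, sub_zero]
            split_ifs with hkk
            · rfl
            · exact not_not.1 fun h => hkk (Finset.mem_erase.2 ⟨hpk.symm, (msupp z k).2 h⟩)
        have hfix : mv g (z - f z (e p) • e p) = z - f z (e p) • e p := by
          rw [hz', mv_sum]
          refine Finset.sum_congr rfl fun k hk => ?_
          rw [Finset.mem_erase, msupp] at hk
          rw [mv_smul, hgo k hk.1 (fun h => hk.2 (h ▸ hzp')) (fun h => hk.2 (h ▸ hzq))]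
        conv_lhs => rw [show z = (z - f z (e p) • e p) + f z (e p) • e p by abel]
        rw [mv_add, hfix, mv_smul, hgp]
        module
      have hsupp : supp (mv g z) = insert p' ((supp z).erase p) := by
        ext l
        rw [msupp, hgz, hf.add_left, hf.smul_left, sub_left hf, hfr.orth, hfr.orth, Finset.mem_insert,
          Finset.mem_erase, msupp]
        rcases eq_or_ne p l with rfl | h1
        · rw [if_neg hpp'.symm, if_pos rfl]
          simp only [zero_sub, mul_neg, mul_one, add_neg_cancel, ne_eq, not_true, false_and, or_false]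
          simp [hpp']
        rcases eq_or_ne p' l with rfl | h2'
        · rw [if_pos rfl, if_neg h1, hzp']
          simp only [sub_zero, mul_one, zero_add, true_or, iff_true]
          exact (msupp z p).1 hp.1
        rw [if_neg h1, if_neg h2']
        simp [h1.symm, h2'.symm]
      refine ihn (mv g z) u (hCentres_mv hf hMf hgM hz) ?_ hu4 ?_
      · rw [hsupp, Finset.card_insert_of_notMem (fun h => hp'.2 (Finset.mem_of_mem_erase h)),
          Finset.card_erase_of_mem hp.1, hz4]
      · have hsub : supp u \ supp (mv g z) ⊆ (supp u \ supp z).erase p' := fun l hl => by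
          rw [hsupp] at hl
          simp only [Finset.mem_sdiff, Finset.mem_insert, Finset.mem_erase, not_or, not_and] at hl
          refine Finset.mem_erase.2 ⟨hl.2.1, Finset.mem_sdiff.2 ⟨hl.1, fun h => ?_⟩⟩
          exact hl.2.2 (fun h' => hp.2 (h' ▸ hl.1)) h
        have h1 := Finset.card_le_card hsub
        rw [Finset.card_erase_of_mem (Finset.mem_sdiff.2 hp')] at h1
        omega
  -- induction on the support
  suffices H : ∀ (n : ℕ) u, (supp u).card ≤ n → f u u = 0 → u ∈ hCentres hf M from
    fun u hu => H _ u le_rfl hu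
  intro n
  induction n using Nat.strong_induction_on with
  | _ n IH =>
    intro u hn huu
    rcases Nat.lt_or_ge (supp u).card 3 with h | h
    · obtain ⟨T, hST, -, hT⟩ := Finset.exists_subsuperset_card_eq (Finset.subset_univ (supp u))
        (show (supp u).card ≤ 2 by omega)
        (show 2 ≤ (Finset.univ : Finset (Fin t)).card by rw [Finset.card_univ, Fintype.card_fin]; omega)
      obtain ⟨a, b, hab, rfl⟩ := Finset.card_eq_two.1 hT
      have hu : u = f u (e a) • e a + f u (e b) • e b := by
        refine (mem_span_of_coord hf hfr (s := {a, b}) fun k hk => ?_).trans (Finset.sum_pair hab)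
        by_contra h; exact hk (hST ((msupp u k).2 h))
      rw [hu] at huu ⊢
      exact hpairs a b hab _ _ huu
    by_cases h4 : (supp u).card = 4
    · exact four u h4
    have h5 : 5 ≤ (supp u).card := by have := hthree u huu; omega
    obtain ⟨T, hTs, hT⟩ := Finset.exists_subset_card_eq (show 4 ≤ (supp u).card by omega)
    obtain ⟨a, b, c, d, hab, hac, had, hbc, hbd, hcd, rfl⟩ := Finset.card_eq_four.1 hT
    have hin : ∀ x, x ∈ ({a, b, c, d} : Finset (Fin t)) → f u (e x) ≠ 0 := fun x hx => (msupp u x).1 (hTs hx)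
    have ha := hin a (by simp)
    have hb := hin b (by simp)
    have hc := hin c (by simp)
    have hd := hin d (by simp)
    set z := (ω * f u (e a)) • e a + (σ ω * f u (e b)) • e b + f u (e c) • e c + f u (e d) • e d with hz
    have hzl : ∀ l, f z (e l) = (if a = l then ω * f u (e a) else 0) + (if b = l then σ ω * f u (e b) else 0) +
        (if c = l then f u (e c) else 0) + (if d = l then f u (e d) else 0) := fun l => by
      rw [hz, hf.add_left, hf.add_left, hf.add_left, coord_smul hf hfr, coord_smul hf hfr, coord_smul hf hfr,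
        coord_smul hf hfr]
    set y := u - z with hy
    have hω0 : ω ≠ 0 := left_ne_zero_of_mul_eq_one hω
    have hsz : supp z = {a, b, c, d} := by
      ext l
      rw [msupp, hzl]
      simp only [Finset.mem_insert, Finset.mem_singleton]
      rcases eq_or_ne a l with rfl | h1
      · simp [hab.symm, hac.symm, had.symm, hω0, ha]
      rcases eq_or_ne b l with rfl | h2'
      · simp [h1, hbc.symm, hbd.symm, hσ0 hω0, hb]
      rcases eq_or_ne c l with rfl | h3
      · simp [h1, h2', hcd.symm, hc]
      rcases eq_or_ne d l with rfl | h4'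
      · simp [h1, h2', h3, hd]
      simp [h1, h2', h3, h4', h1.symm, h2'.symm, h3.symm, h4'.symm]
    have hsy : supp y = ((supp u).erase c).erase d := by
      ext l
      rw [msupp, Finset.mem_erase, Finset.mem_erase, msupp, hy, sub_left hf, hzl]
      rcases eq_or_ne a l with rfl | h1
      · simp only [if_neg hab.symm, if_neg hac.symm, if_neg had.symm, if_pos, add_zero]
        refine iff_of_true ?_ ⟨had, hac, ha⟩
        rw [show f u (e a) - ω * f u (e a) = (1 - ω) * f u (e a) by ring]
        exact mul_ne_zero (sub_ne_zero.2 (Ne.symm hω1)) ha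
      rcases eq_or_ne b l with rfl | h2'
      · simp only [if_neg h1, if_neg hbc.symm, if_neg hbd.symm, if_pos, add_zero, zero_add]
        refine iff_of_true ?_ ⟨hbd, hbc, hb⟩
        rw [show f u (e b) - σ ω * f u (e b) = (1 - σ ω) * f u (e b) by ring]
        refine mul_ne_zero (sub_ne_zero.2 fun h => hω1 ?_) hb
        exact σ.injective (by rw [map_one]; exact h.symm)
      rcases eq_or_ne c l with rfl | h3
      · simp [h1, h2', hcd.symm]
      rcases eq_or_ne d l with rfl | h4'
      · simp [h1, h2', h3]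
      simp [h1, h2', h3, h4', h3.symm, h4'.symm]
    have hyc : (supp y).card = (supp u).card - 2 := by
      rw [hsy, Finset.card_erase_of_mem (Finset.mem_erase.2 ⟨hcd.symm, (msupp u d).2 hd⟩),
        Finset.card_erase_of_mem ((msupp u c).2 hc)]
      omega
    have hzz : f z z = 0 := by
      rw [hnorm, hsz, hT]; push_cast; linear_combination 2 * h2
    have hyy : f y y = 0 := by
      rw [hnorm, hyc, Nat.cast_sub (by omega), ← hnorm, huu]; push_cast; linear_combination -h2
    have hzC : z ∈ hCentres hf M := four z (by rw [hsz, hT])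
    have hyC : y ∈ hCentres hf M := IH ((supp y).card) (by omega) y le_rfl hyy
    have hzy : f z y = σ ω * σ ω * 0 + 1 := by
      rw [hy, sub_right hf, hzz, sub_zero, hz, hf.add_left, hf.add_left, hf.add_left, hf.smul_left, hf.smul_left,
        hf.smul_left, hf.smul_left, hf.herm (e a) u, hf.herm (e b) u, hf.herm (e c) u, hf.herm (e d) u]
      linear_combination ω * hN _ ha + σ ω * hN _ hb + hN _ hc + hN _ hd + hω2 + h2
    have := hCentres_add hf hMf hzC hyC (by rw [hzy, mul_zero, zero_add]; exact one_ne_zero)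
      (by rw [hy, add_sub_cancel]; exact huu)
    rwa [hy, add_sub_cancel] at this

omit hf hfr hMS hMon in
theorem frame_maximal (hf : Geo.IsUnitaryForm σ f) {D : Fin t → Submodule F (ι → F)}
    (hD : Geo.IsNondegenerateMDecomposition f 1 D)
    (ht : 10 ≤ t ∨ t = 6 ∧ Nat.card (fixedField σ) ≠ 2) :
    Geo.IsMaximalIn (preserving (Units.coeHom (Matrix ι ι F)) f ⊓ Geo.specialLinear ι F)
      (Geo.decompositionStabilizer D ⊓
        (preserving (Units.coeHom (Matrix ι ι F)) f ⊓ Geo.specialLinear ι F)) := by
  classical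
  choose ob hobD hobo hobx using fun i => exists_orthonormal hf 1 (nondeg_block hf hD i) (hD.decomp.finrank_eq i)
  set e : Fin t → ι → F := fun i => ob i 0 with he
  have heD : ∀ i, e i ∈ D i := fun i => hobD i 0
  have hsp : ∀ i, ∀ v ∈ D i, v = f v (e i) • e i := fun i v hv => by
    have h := hobx i v hv
    rwa [Fin.sum_univ_one] at h
  have hfr : Frame f e := by
    refine ⟨fun i j => ?_, fun x => ?_⟩
    · split_ifs with h
      · subst h; simpa using hobo i 0 0
      · exact f_block hD h (heD i) (heD j)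
    · obtain ⟨p, hp, rfl⟩ := exists_sum_blocks hD x
      refine Finset.sum_congr rfl fun i _ => ?_
      rw [sum_left hf, Finset.sum_eq_single i (fun j _ hj => f_block hD hj (hp j) (heD i)) (by simp)]
      exact hsp i _ (hp i)
  have hmem : ∀ g : GL ι F, FMon e g → g ∈ Geo.decompositionStabilizer D := fun g hg =>
    mem_decompositionStabilizer hf hD fun i => by
      obtain ⟨l, a, hl⟩ := hg i
      exact ⟨l, fun u hu => by
        rw [hsp i u hu, mv_smul, hl]; exact Submodule.smul_mem _ _ (Submodule.smul_mem _ _ (heD l))⟩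
  have hmem' : ∀ g : GL ι F, g ∈ Geo.decompositionStabilizer D → FMon e g := fun g hg i => by
    obtain ⟨π, hπ⟩ := hg
    have hm : mv g (e i) ∈ D (π i) := by rw [← hπ i]; exact ⟨e i, heD i, Matrix.toLin'_apply _ _⟩
    exact ⟨π i, _, hsp _ _ hm⟩
  refine ⟨?_, fun M hHM hMS => ?_⟩
  · refine lt_of_le_of_ne inf_le_right fun heq => ?_
    let p : Fin 4 → Fin t := fun i => ⟨i.1, by omega⟩
    have hp : Function.Injective p := fun i j h => Fin.ext (Fin.mk.inj_iff.1 h)
    obtain ⟨l, hl⟩ := exists_norm hf.ne_refl hf.involutive (-1 : F) (by rw [map_neg, map_one])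
    obtain ⟨τ, hτ0, hτ⟩ := exists_anti hf.ne_refl hf.involutive
    set x := e (p 0) + l • e (p 1) + e (p 2) + l • e (p 3) with hx
    have hxl : ∀ k, f x (e k) = (if p 0 = k then 1 else 0) + l * (if p 1 = k then 1 else 0) +
        (if p 2 = k then 1 else 0) + l * (if p 3 = k then 1 else 0) := fun k => by
      rw [hx, hf.add_left, hf.add_left, hf.add_left, hf.smul_left, hf.smul_left, hfr.orth, hfr.orth, hfr.orth,
        hfr.orth]
    have hxx : f x x = 0 := by
      rw [hx]
      simp [hf.add_left, add_right hf, hf.smul_left, smul_right hf, hfr.orth, hp.eq_iff]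
      linear_combination 2 * hl
    have hg : htv hf x hxx τ ∈ Geo.decompositionStabilizer D :=
      (heq.ge (x := htv hf x hxx τ) ⟨htv_mem hf x hxx hτ, htv_mem_specialLinear hf x hxx τ⟩).1
    obtain ⟨k, α, hk⟩ := hmem' _ hg (p 0)
    have hc : ∀ i : Fin 4, i ≠ 0 → f (mv (htv hf x hxx τ) (e (p 0))) (e (p i)) = τ * f x (e (p i)) := by
      intro i hi
      rw [mv_htv, hf.add_left, hf.smul_left, frame_other hf hfr (hp.ne hi.symm), zero_add,
        hf.herm (e (p 0)) x, hxl (p 0)]
      simp [hp.eq_iff]
    have h1 := hc 1 (by decide)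
    have h2 := hc 2 (by decide)
    rw [hk, coord_smul hf hfr, hxl] at h1 h2
    simp [hp.eq_iff] at h1 h2
    split_ifs at h1 h2 with h3 h4
    · exact hp.ne (show (1 : Fin 4) ≠ 2 by decide) (h3.symm.trans h4)
    all_goals first
      | exact hτ0 h2.symm
      | exact mul_ne_zero hτ0 (left_ne_zero_of_mul (show l * σ l ≠ 0 by rw [hl]; exact neg_ne_zero.2 one_ne_zero)) h1.symm
  by_cases hnm : ∃ g ∈ M, ¬ FMon e g
  swap
  · push Not at hnm
    exact Or.inl (le_antisymm (fun g hg => ⟨hmem g (hnm g hg), hMS hg⟩) hHM)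
  have hMf : M ≤ preserving (Units.coeHom (Matrix ι ι F)) f := fun g hg => (hMS hg).1
  have hMon : ∀ g ∈ preserving (Units.coeHom (Matrix ι ι F)) f ⊓ Geo.specialLinear ι F, FMon e g → g ∈ M :=
    fun g hg hm => hHM ⟨hmem g hm, hg⟩
  have hcard : Fintype.card ι = t := by rw [card_eq_mul hD, mul_one]
  obtain ⟨r, hr, hr0, ⟨m, hm⟩, hwide⟩ := exists_centre hf hfr hMS hMon ht hnm
  refine Or.inr (eq_su hf (by omega) hMS ?_)
  by_cases hq : Nat.card (fixedField σ) = 2
  · exact centres_two hf hfr hMS hMon (by rcases ht with h | ⟨-, h⟩ <;> [exact h; exact absurd hq h]) hq hr hm (hwide hq)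
  obtain ⟨a, b, hab, hP⟩ := exists_pair_centres hf hfr hMS hMon hr hr0 hm
  have hP' : ∀ v ∈ D a, ∀ w ∈ D b, f (v + w) (v + w) = 0 → v + w ∈ hCentres hf M := fun v hv w hw h => by
    rw [hsp a v hv, hsp b w hw] at h ⊢
    exact hP _ _ h
  have hall := pairs_of_one hf hD hMf hHM hab hP'
  exact centres_of_pairs hf hfr hMS hMon
    (fun c d hcd α β h => hall c d hcd _ (Submodule.smul_mem _ _ (heD c)) _ (Submodule.smul_mem _ _ (heD d)) h)
    (by omega) hq

end Cfsg.Agent.Transvec.Herm
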