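/-
Maximality in the special unitary group of the subfield subgroups of odd prime index.
-/
import Cfsg.Agent.Lib.Transvec.HermOrth
set_option autoImplicit false

namespace Cfsg.Agent.Transvec.Herm

open scoped Matrix
open Matrix Cfsg.Agent.Transvec

variable {ι : Type} [Fintype ι] [DecidableEq ι] {F : Type*} [Field F] {F₀ : Subfield F}
variable {σ : F ≃+* F} {f : (ι → F) → (ι → F) → F} (hf : Geo.IsUnitaryForm σ f)
include hf

/-- Two transvections whose centres differ by a multiple of an orthogonal isotropic vector. -/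
theorem isEich_htv_mul {u x : ι → F} (hu : f u u = 0) (hx : f x x = 0) (hxu : f x u = 0) (k : F) {c : F}
    (hc : σ c = -c) (hxk : f (x + k • u) (x + k • u) = 0) :
    IsEich f (htv hf (x + k • u) hxk c * htv hf x hx (-c)) u ((c * σ k) • x) (c * k * σ k) := by
  have hux : f u x = 0 := (f_eq_zero_comm hf).1 hxu
  intro z
  rw [mv_mul, mv_htv, mv_htv]
  simp only [hf.add_left, add_right hf, hf.smul_left, smul_right hf, map_mul, hc, hf.involutive, hx, hxu,
    mul_zero, add_zero]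
  module

theorem exists_isotropic_ker [Finite F] {W : Type*} [AddCommGroup W] [Module F W] [Module.Finite F W]
    (L : (ι → F) →ₗ[F] W) (hd : Module.finrank F W + 2 ≤ Fintype.card ι) :
    ∃ v, v ≠ 0 ∧ L v = 0 ∧ f v v = 0 := by
  have hker : 2 ≤ Module.finrank F (LinearMap.ker L) := by
    have h1 := LinearMap.finrank_range_add_finrank_ker L
    have h2 := Submodule.finrank_le (LinearMap.range L)
    rw [Module.finrank_pi] at h1
    omega
  obtain ⟨v, hv, hv0⟩ := (LinearMap.ker L).ne_bot_iff.1 (fun h => by rw [h, finrank_bot] at hker; omega)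
  by_cases hvv : f v v = 0
  · exact ⟨v, hv0, LinearMap.mem_ker.1 hv, hvv⟩
  obtain ⟨w, hw, hw0⟩ := (LinearMap.ker ((formH hf v).comp (LinearMap.ker L).subtype)).ne_bot_iff.1
    (LinearMap.ker_ne_bot_of_finrank_lt (by rw [Module.finrank_self]; omega))
  have hwv : f w v = 0 := LinearMap.mem_ker.1 hw
  have hw0' : (w : ι → F) ≠ 0 := fun h => hw0 (Subtype.ext h)
  by_cases hww : f w w = 0
  · exact ⟨w, hw0', LinearMap.mem_ker.1 w.2, hww⟩
  obtain ⟨a, ha⟩ := exists_norm hf.ne_refl hf.involutive (-f v v / f (w : ι → F) w)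
    (by rw [map_div₀, map_neg, self_fixed hf, self_fixed hf])
  refine ⟨v + a • (w : ι → F), fun h => hvv ?_, ?_, ?_⟩
  · have := congrArg (fun z => f z v) h
    simpa [hf.add_left, hf.smul_left, hwv, zero_left hf] using this
  · rw [map_add, map_smul, LinearMap.mem_ker.1 hv, LinearMap.mem_ker.1 w.2, smul_zero, add_zero]
  · simp only [hf.add_left, add_right hf, hf.smul_left, smul_right hf, hwv, (f_eq_zero_comm hf).1 hwv,
      mul_zero, add_zero, zero_add]
    rw [← mul_assoc, ha, div_mul_cancel₀ _ hww, add_neg_cancel]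

section

variable {σ₀ : F₀ ≃+* F₀} (hσ₀ : ∀ x : F₀, (σ₀ x : F) = σ x) (hne : σ₀ ≠ RingEquiv.refl F₀)
  (hG : ∀ u v : ι → F, RatV F₀ u → RatV F₀ v → f u v ∈ F₀)
include hσ₀ hne hG

theorem formDown_unitary : Geo.IsUnitaryForm σ₀ (formDown hG) where
  ne_refl := hne
  involutive x := Subtype.ext (by rw [hσ₀, hσ₀, hf.involutive])
  add_left x y v := Subtype.ext (by
    show f (up (x + y)) (up v) = _
    rw [up_add, hf.add_left]; rfl)
  smul_left c x v := Subtype.ext (by
    show f (up (c • x)) (up v) = _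
    rw [up_smul, hf.smul_left]; rfl)
  herm x y := Subtype.ext (by
    rw [hσ₀]
    exact hf.herm _ _)
  nondegenerate v hv := by
    obtain ⟨i, hi⟩ : ∃ i, f (Pi.single i 1) (up v) ≠ 0 := by
      by_contra h
      push Not at h
      obtain ⟨x, hx⟩ := (hf.nondegenerate (up v) (up_ne_zero hv)).1
      exact hx (LinearMap.congr_fun (dual_ext_zero (φ := formH hf (up v)) h) x)
    refine ⟨⟨Pi.single i 1, fun h => hi ?_⟩, ⟨Pi.single i 1, fun h => hi ?_⟩⟩
    · have := congrArg Subtype.val h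
      rwa [formDown_val, up_single] at this
    · have := congrArg Subtype.val h
      rw [formDown_val, up_single] at this
      exact (f_eq_zero_comm hf).1 this

omit hσ₀ hne in
theorem down_zero {u v : ι → F₀} : formDown hG u v = 0 ↔ f (up u) (up v) = 0 :=
  ⟨fun h => congrArg Subtype.val h, fun h => Subtype.ext h⟩

/-- Rational functionals are given by rational vectors. -/
theorem exists_rat_rep {φ : Module.Dual F (ι → F)} (hφ : RatD F₀ φ) :
    ∃ d : ι → F₀, ∀ y, φ y = f y (up d) := by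
  obtain ⟨d, hd⟩ := exists_eq_f (formDown_unitary hf hσ₀ hne hG)
    (dotDual (F := F₀) fun i => ⟨φ (Pi.single i 1), hφ i⟩)
  refine ⟨d, fun y => ?_⟩
  show φ y = formH hf (up d) y
  refine LinearMap.congr_fun (sub_eq_zero.1 (dual_ext_zero fun i => ?_)) y
  have := congrArg Subtype.val (hd (Pi.single i 1))
  rw [formDown_val, up_single, dotDual_single] at this
  rw [LinearMap.sub_apply, formH_apply, ← this, sub_self]

theorem ratV_of_herm {x : ι → F} (h : ∀ w : ι → F₀, f x (up w) ∈ F₀) : RatV F₀ x := fun i => by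
  obtain ⟨d, hd⟩ := exists_rat_rep hf hσ₀ hne hG (φ := LinearMap.proj i) (fun j => ratV_single j F₀.one_mem i)
  have := h d
  rwa [← hd] at this

theorem ratM_htv {v : ι → F₀} (hv : f (up v) (up v) = 0) {c : F} (hc : c ∈ F₀) :
    RatM F₀ (htv hf (up v) hv c : Matrix ι ι F) :=
  ratM_tv _ (ratV_up v) fun i => F₀.mul_mem hc (hG _ _ (ratV_single i F₀.one_mem) (ratV_up v))

theorem map_htv (v : ι → F₀) (hv : formDown hG v v = 0) (c : F₀) :
    Matrix.GeneralLinearGroup.map (F₀.subtype : F₀ →+* F) (htv (formDown_unitary hf hσ₀ hne hG) v hv c) =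
      htv hf (up v) ((down_zero hf hG).1 hv) (c : F) := by
  refine Units.ext (Matrix.ext_of_mulVec_single fun i => ?_)
  show mv _ _ = mv _ _
  rw [← up_single (F₀ := F₀) i, mv_map, mv_htv, mv_htv, up_add, up_smul]
  rfl

variable {M : Subgroup (GL ι F)} [Finite F]
  (hMS : M ≤ preserving (Units.coeHom (Matrix ι ι F)) f ⊓ Geo.specialLinear ι F)
  (hH : ∀ g ∈ preserving (Units.coeHom (Matrix ι ι F)) f ⊓ Geo.specialLinear ι F,
    RatM F₀ (g : Matrix ι ι F) → g ∈ M)

include hH in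
theorem htv_rat_mem {v : ι → F₀} (hv : f (up v) (up v) = 0) {c : F} (hc : c ∈ F₀) (hc' : σ c = -c) :
    htv hf (up v) hv c ∈ M :=
  hH _ ⟨htv_mem hf _ hv hc', htv_mem_specialLinear hf _ hv c⟩ (ratM_htv hf hσ₀ hne hG hv hc)

include hH in
theorem exists_rat_eich {u w : ι → F₀} (hu : f (up u) (up u) = 0) (hwu : f (up w) (up u) = 0) :
    ∃ e ∈ M, ∃ l : F, IsEich f e (up u) (up w) l := by
  have hf₀ := formDown_unitary hf hσ₀ hne hG
  obtain ⟨b, hb⟩ := exists_trace hf₀.ne_refl hf₀.involutive (-formDown hG w w) (by rw [map_neg, self_fixed hf₀])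
  have hl : (b : F) + σ (b : F) + f (up w) (up w) = 0 := by
    have := congrArg Subtype.val hb
    rw [AddMemClass.coe_add, hσ₀, NegMemClass.coe_neg, formDown_val] at this
    linear_combination this
  obtain ⟨e, he, he'⟩ := exists_isEich hf hu hwu hl
  exact ⟨e, hH e he (ratM_isEich hf hG (ratV_up u) (ratV_up w) b.2 he'), b, he'⟩

variable (hn : 6 ≤ Fintype.card ι)
  (hB : ∀ (u : ι → F₀) (hu : f (up u) (up u) = 0), u ≠ 0 → ∀ c : F, σ c = -c → htv hf (up u) hu c ∈ M → c ∈ F₀)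

include hMS hH hB hn in
theorem ratLine_centre_herm {x : ι → F} (hx : f x x = 0) {c : F} (hc0 : c ≠ 0) (hc : σ c = -c)
    (hm : htv hf x hx c ∈ M) {u : ι → F₀} (hu0 : u ≠ 0) (hu : f (up u) (up u) = 0) (hux : f (up u) x = 0) :
    RatLine F₀ x := by
  have hf₀ := formDown_unitary hf hσ₀ hne hG
  obtain ⟨t, ht⟩ : ∃ t : F₀, σ₀ t ≠ t := by
    by_contra h
    push Not at h
    exact hne (RingEquiv.ext h)
  have step : ∀ u : ι → F₀, u ≠ 0 → f (up u) (up u) = 0 → f (up u) x = 0 → ∀ p q : ι → F₀,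
      f (up p) (up u) = 0 → f (up q) (up u) = 0 → c * σ (f x (up p)) * f x (up q) ∈ F₀ := by
    intro u hu0 hu hux p q hp hq
    have hxu : f x (up u) = 0 := (f_eq_zero_comm hf).1 hux
    obtain ⟨h, hh, l, hh'⟩ := exists_rat_eich hf hσ₀ hne hG hH hu hp
    set k := -f x (up p) with hk
    have hhx : mv h x = x + k • up u := by
      rw [hh', hxu, zero_smul, add_zero, mul_zero, zero_sub]
    have hconj : htv hf (mv h x) ((show f (mv h x) (mv h x) = f x x from (hMS hh).1 x x).trans hx) c ∈ M := by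
      rw [← htv_conj hf (fun a b => (hMS hh).1 a b) x hx c]
      exact M.mul_mem (M.mul_mem hh hm) (M.inv_mem hh)
    simp only [hhx] at hconj
    have hxk : f (x + k • up u) (x + k • up u) = 0 :=
      hhx ▸ ((show f (mv h x) (mv h x) = f x x from (hMS hh).1 x x).trans hx)
    have hneg : htv hf x hx (-c) ∈ M := by
      have := M.inv_mem hm
      rwa [inv_eq_of_mul_eq_one_right (by rw [htv_add, add_neg_cancel, htv_zero] :
        htv hf x hx c * htv hf x hx (-c) = 1)] at this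
    have hE := isEich_htv_mul hf hu hx hxu k hc hxk
    have hEM := M.mul_mem hconj hneg
    have hy : f ((c * σ k) • x) (up u) = 0 := by rw [hf.smul_left, hxu, mul_zero]
    have D : ∀ q : ι → F₀, f (up q) (up u) = 0 →
        f ((c * σ k) • x) (up q) - f (up q) ((c * σ k) • x) ∈ F₀ := by
      intro q hq
      obtain ⟨h', hh1, l', hh2⟩ := exists_rat_eich hf hσ₀ hne hG hH hu hq
      have hcm := M.mul_mem (M.mul_mem hEM hh1) (M.inv_mem (M.mul_mem hh1 hEM))
      rw [isEich_comm hf hu hy hq hE hh2] at hcm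
      refine hB u hu hu0 _ ?_ hcm
      rw [map_sub, ← hf.herm, ← hf.herm]
      ring
    have h1 := D q hq
    have h2 := D (t • q) (by rw [up_smul, hf.smul_left, hq, mul_zero])
    have htt : σ (t : F) - t ≠ 0 := sub_ne_zero.2 fun h => ht (Subtype.ext (by rw [hσ₀, h]))
    have h3 := F₀.div_mem (F₀.sub_mem h2 (F₀.mul_mem t.2 h1))
      (F₀.sub_mem (show σ (t : F) ∈ F₀ from hσ₀ t ▸ (σ₀ t).2) t.2)
    refine (congrArg (· ∈ F₀) ?_).mp (F₀.neg_mem h3)
    simp only [up_smul, smul_right hf, hf.smul_left, hk, map_mul, map_neg, hc, hf.involutive, hf.herm (up q) x]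
    field_simp
    ring
  have hxu : f x (up u) = 0 := (f_eq_zero_comm hf).1 hux
  by_cases hmul : ∃ k : F, x = k • up u
  · obtain ⟨k, rfl⟩ := hmul
    rcases eq_or_ne k 0 with rfl | hk
    · exact ⟨1, one_ne_zero, fun i => by simp⟩
    · exact ⟨k⁻¹, inv_ne_zero hk, by rw [smul_smul, inv_mul_cancel₀ hk, one_smul]; exact ratV_up u⟩
  push Not at hmul
  obtain ⟨χ, hχ, -, hχu, hχx⟩ := exists_rat_annihilator (ratV_up u) (up_ne_zero hu0) hmul
  obtain ⟨w₁, hχ'⟩ := exists_rat_rep hf hσ₀ hne hG hχ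
  rw [hχ'] at hχu hχx
  have hw₁u : f (up w₁) (up u) = 0 := (f_eq_zero_comm hf).1 hχu
  set k := f x (up w₁) with hk
  have hσk : σ k ≠ 0 := fun h => hχx ((map_eq_zero_iff σ σ.injective).1 h)
  have hcc : c * σ k ≠ 0 := mul_ne_zero hc0 hσk
  have ratio : ∀ (u' : ι → F₀), u' ≠ 0 → f (up u') (up u') = 0 → f (up u') x = 0 →
      f (up w₁) (up u') = 0 → ∀ q : ι → F₀, f (up q) (up u') = 0 → f x (up q) / k ∈ F₀ := by
    intro u' h0 h1 h2 h3 q hq
    have := F₀.div_mem (step u' h0 h1 h2 w₁ q h3 hq) (step u' h0 h1 h2 w₁ w₁ h3 h3)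
    rwa [← hk, mul_div_mul_left _ _ hcc] at this
  refine ⟨k⁻¹, inv_ne_zero hχx, ratV_of_herm hf hσ₀ hne hG fun w => ?_⟩
  obtain ⟨ρ, hρ⟩ : ∃ ρ : F →ₗ[F₀] F₀, ρ 1 = 1 := by
    obtain ⟨ρ, hρ⟩ := Module.Projective.exists_dual_ne_zero F₀ (one_ne_zero (α := F))
    exact ⟨(ρ 1)⁻¹ • ρ, by rw [LinearMap.smul_apply, smul_eq_mul, inv_mul_cancel₀ hρ]⟩
  set L : (ι → F₀) →ₗ[F₀] F₀ × F₀ × F₀ × F₀ := (formH hf₀ u).prod ((formH hf₀ w₁).prod ((formH hf₀ w).prod
    (ρ.comp (((formH hf (k⁻¹ • x)).restrictScalars F₀).comp ((Algebra.linearMap F₀ F).compLeft ι))))) with hL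
  obtain ⟨v, hv0, hv, hvv⟩ := exists_isotropic_ker hf₀ L (by
    rw [Module.finrank_prod, Module.finrank_prod, Module.finrank_prod, Module.finrank_self]; omega)
  have hv1 : f (up v) (up u) = 0 := congrArg (fun p : F₀ × F₀ × F₀ × F₀ => (p.1 : F)) hv
  have hv2 : f (up v) (up w₁) = 0 := congrArg (fun p : F₀ × F₀ × F₀ × F₀ => (p.2.1 : F)) hv
  have hv3 : f (up v) (up w) = 0 := congrArg (fun p : F₀ × F₀ × F₀ × F₀ => (p.2.2.1 : F)) hv
  have hv4 : ρ (f (up v) (k⁻¹ • x)) = 0 := congrArg (fun p : F₀ × F₀ × F₀ × F₀ => p.2.2.2) hv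
  have hr := ratio u hu0 hu hux hw₁u v hv1
  have hvx : f (up v) x = 0 := by
    have hval : f (up v) (k⁻¹ • x) ∈ F₀ := by
      rw [hf.herm (up v) (k⁻¹ • x), hf.smul_left, ← div_eq_inv_mul]
      exact (hσ₀ ⟨_, hr⟩) ▸ (σ₀ ⟨_, hr⟩).2
    have h0 : f (up v) (k⁻¹ • x) = 0 := by
      have h1 : f (up v) (k⁻¹ • x) = (⟨_, hval⟩ : F₀) • (1 : F) := (mul_one _).symm
      rw [h1, map_smul, hρ, smul_eq_mul, mul_one] at hv4
      exact congrArg Subtype.val hv4
    rw [smul_right hf, map_inv₀] at h0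
    exact (mul_eq_zero.1 h0).resolve_left (inv_ne_zero hσk)
  rw [hf.smul_left, ← div_eq_inv_mul]
  exact ratio v hv0 (congrArg Subtype.val hvv) hvx ((f_eq_zero_comm hf).1 hv2) w ((f_eq_zero_comm hf).1 hv3)

include hMS hH hB hn in
/-- One rational isotropic line mapped to a rational line forces all lines to be mapped to rational lines. -/
theorem srat_of_one_line {g : GL ι F} (hg : g ∈ M) {v₀ : ι → F₀} (hv₀ : v₀ ≠ 0)
    (hv₀' : f (up v₀) (up v₀) = 0) (hline : RatLine F₀ (mv g (up v₀))) : SRat F₀ g := by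
  have hf₀ := formDown_unitary hf hσ₀ hne hG
  have hgf : ∀ a b, f (mv g a) (mv g b) = f a b := fun a b => (hMS hg).1 a b
  obtain ⟨t, ht0, ht⟩ := exists_anti hf₀.ne_refl hf₀.involutive
  have ht' : σ (t : F) = -(t : F) := by rw [← hσ₀, ht]; rfl
  have ht0' : (t : F) ≠ 0 := fun h => ht0 (Subtype.ext h)
  have move : ∀ v u : ι → F₀, u ≠ 0 → f (up v) (up v) = 0 → f (up u) (up u) = 0 →
      RatLine F₀ (mv g (up u)) → f (up u) (up v) = 0 → RatLine F₀ (mv g (up v)) := by
    intro v u hu0 hv hu ⟨a, ha, har⟩ huv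
    obtain ⟨p, hp⟩ := exists_up har
    have hp0 : p ≠ 0 := fun h => up_ne_zero hu0 (by
      rw [h, up_zero] at hp
      exact mv_inj g (((smul_eq_zero.1 hp).resolve_left ha).trans (mv_zero g).symm))
    have hpv : ∀ y, f (up p) y = a * f (mv g (up u)) y := fun y => by rw [← hp, hf.smul_left]
    refine ratLine_centre_herm hf hσ₀ hne hG hMS hH hn hB (x := mv g (up v)) (by rw [hgf, hv]) ht0' ht' ?_
      hp0 ?_ ?_
    · rw [← htv_conj hf hgf (up v) hv]
      exact M.mul_mem (M.mul_mem hg (htv_rat_mem hf hσ₀ hne hG hH hv t.2 ht')) (M.inv_mem hg)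
    · rw [hpv, ← hp, smul_right hf, hgf, hu, mul_zero, mul_zero]
    · rw [hpv, hgf, huv, mul_zero]
  have iso : ∀ v : ι → F₀, formDown hG v v = 0 → RatLine F₀ (mv g (up v)) := by
    intro v hv
    obtain ⟨w, hw0, hw, hww⟩ := exists_isotropic_ker hf₀ ((formH hf₀ v₀).prod (formH hf₀ v)) (by
      rw [Module.finrank_prod, Module.finrank_self]; omega)
    have h1 : f (up w) (up v₀) = 0 := congrArg (fun p : F₀ × F₀ => (p.1 : F)) hw
    have h2 : f (up w) (up v) = 0 := congrArg (fun p : F₀ × F₀ => (p.2 : F)) hw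
    exact move v w hw0 (congrArg Subtype.val hv) (congrArg Subtype.val hww)
      (move w v₀ hv₀ (congrArg Subtype.val hww) hv₀' hline ((f_eq_zero_comm hf).1 h1)) h2
  have : Nonempty ι := Fintype.card_pos_iff.1 (by omega)
  refine srat_of_lines fun y hy hy0 => ?_
  obtain ⟨v, rfl⟩ := exists_up hy
  by_cases hvv : formDown hG v v = 0
  · exact iso v hvv
  obtain ⟨b, hb⟩ := exists_trace hf₀.ne_refl hf₀.involutive _ (self_fixed hf₀ v)
  have hb0 : b ≠ 0 := fun h => hvv (by rw [← hb, h, map_zero, add_zero])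
  obtain ⟨e, -, d, -, hee, hdd, hed, rfl⟩ := exists_norm_pair hf₀ (nondeg_top hf₀)
    (by rw [finrank_top, Module.finrank_pi]; omega) (Submodule.mem_top (x := v)) hvv hb hb0
  have hde : formDown hG d e = 1 := by rw [hf₀.herm, hed, map_one]
  have hetd : formDown hG (e + t • d) (e + t • d) = 0 := by
    simp only [hf₀.add_left, add_right hf₀, hf₀.smul_left, smul_right hf₀, hee, hdd, hed, hde, ht]
    ring
  obtain ⟨a₁, ha₁, hr₁⟩ := iso e hee
  obtain ⟨a₂, ha₂, hr₂⟩ := iso d hdd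
  obtain ⟨a₃, ha₃, hr₃⟩ := iso _ hetd
  have E : f (mv g (up e)) (mv g (up d)) = 1 := (hgf _ _).trans (congrArg Subtype.val hed)
  have E' : f (mv g (up d)) (mv g (up e)) = 1 := (hgf _ _).trans (congrArg Subtype.val hde)
  have Ee : f (mv g (up e)) (mv g (up e)) = 0 := (hgf _ _).trans (congrArg Subtype.val hee)
  have Ed : f (mv g (up d)) (mv g (up d)) = 0 := (hgf _ _).trans (congrArg Subtype.val hdd)
  rw [up_add, up_smul, mv_add, mv_smul] at hr₃
  have h12 := hG _ _ hr₁ hr₂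
  have h21 := hG _ _ hr₂ hr₁
  have h32 := hG _ _ hr₃ hr₂
  have h31 := hG _ _ hr₃ hr₁
  simp only [hf.add_left, hf.smul_left, smul_right hf, E, E', Ee, Ed, mul_zero, mul_one, add_zero, zero_add]
    at h12 h21 h32 h31
  have s1 : σ a₁ ≠ 0 := fun h => ha₁ ((map_eq_zero_iff σ σ.injective).1 h)
  have s2 : σ a₂ ≠ 0 := fun h => ha₂ ((map_eq_zero_iff σ σ.injective).1 h)
  have q1 := F₀.div_mem h32 h12
  have q2 := F₀.div_mem h31 (F₀.mul_mem h21 t.2)
  have hq := F₀.div_mem q1 q2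
  have hratio : a₁ / a₂ ∈ F₀ := by
    refine (congrArg (· ∈ F₀) ?_).mp (F₀.inv_mem hq)
    field_simp
  refine ⟨a₁, ha₁, ?_⟩
  rw [up_add, up_smul, mv_add, mv_smul, smul_add]
  refine ratV_add hr₁ ?_
  rw [show a₁ • (b : F) • mv g (up d) = ((b : F) * (a₁ / a₂)) • a₂ • mv g (up d) by
    rw [smul_smul, smul_smul]; congr 1; field_simp]
  exact ratV_smul (F₀.mul_mem b.2 hratio) hr₂

end

end Cfsg.Agent.Transvec.Herm
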