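/-
Maximality in the special unitary group of the stabiliser of two complementary totally singular subspaces.
-/
import Cfsg.Agent.Lib.Transvec.HermSubfield
set_option autoImplicit false

namespace Cfsg.Agent.Transvec.Herm

open scoped Matrix
open Matrix Cfsg.Agent.Transvec

variable {ι : Type} [Fintype ι] [DecidableEq ι] {F : Type*} [Field F]
variable {σ : F ≃+* F} {f : (ι → F) → (ι → F) → F} (hf : Geo.IsUnitaryForm σ f)

/-- The elements with vertices a and b lie in M for every parameter. -/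
def PairIn (f : (ι → F) → (ι → F) → F) (M : Subgroup (GL ι F)) (a b : ι → F) : Prop :=
  ∀ l : F, ∃ e ∈ M, IsEich f e a (l • b) 0

include hf

theorem pairIn_symm {M : Subgroup (GL ι F)} {a b : ι → F} (h : PairIn f M a b) : PairIn f M b a := by
  intro l
  obtain ⟨e, he, he'⟩ := h (-σ l)
  refine ⟨e, he, fun z => ?_⟩
  rw [he', smul_right hf, smul_right hf, map_neg, hf.involutive]
  module

theorem pairIn_conj {M : Subgroup (GL ι F)} (hMf : M ≤ preserving (Units.coeHom (Matrix ι ι F)) f) {g : GL ι F}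
    (hg : g ∈ M) {a b : ι → F} (h : PairIn f M a b) : PairIn f M (mv g a) (mv g b) := by
  intro l
  obtain ⟨e, he, he'⟩ := h l
  exact ⟨_, M.mul_mem (M.mul_mem hg he) (M.inv_mem hg), mv_smul g l b ▸ isEich_conj hf (fun x z => hMf hg x z) he'⟩

/-- Two pairs with a common vertex and non-orthogonal second vertices give transvections at the vertex. -/
theorem centre_of_two_pairs {M : Subgroup (GL ι F)} {a b b' : ι → F} (ha : f a a = 0) (hba : f b a = 0)
    (hb'a : f b' a = 0) (h : PairIn f M a b) (h' : PairIn f M a b') (hbb : f b b' ≠ 0) : a ∈ hCentres hf M := by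
  refine ⟨ha, fun d hd => ?_⟩
  obtain ⟨β, hβ⟩ := exists_trace hf.ne_refl hf.involutive 1 (map_one σ)
  obtain ⟨e, he, he'⟩ := h (d * β / f b b')
  obtain ⟨e₂, he₂, he₂'⟩ := h' 1
  have hm := M.mul_mem (M.mul_mem he he₂) (M.inv_mem (M.mul_mem he₂ he))
  rw [isEich_comm hf ha (by rw [hf.smul_left, hba, mul_zero]) (by rw [hf.smul_left, hb'a, mul_zero]) he' he₂',
    one_smul] at hm
  rw [hf.smul_left, div_mul_cancel₀ _ hbb, smul_right hf, hf.herm b' b, ← map_mul, div_mul_cancel₀ _ hbb,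
    map_mul, hd] at hm
  rwa [show d * β - -d * σ β = d by linear_combination d * hβ] at hm

variable {W W' : Submodule F (ι → F)} (hW : ∀ u ∈ W, ∀ v ∈ W, f u v = 0) (hW' : ∀ u ∈ W', ∀ v ∈ W', f u v = 0)
  (hc : IsCompl W W')
include hW hW' hc

omit hf hW hW' in
theorem exists_split (v : ι → F) : ∃ p ∈ W, ∃ w ∈ W', v = p + w := by
  have hv : v ∈ W ⊔ W' := by rw [hc.sup_eq_top]; exact Submodule.mem_top
  obtain ⟨p, hp, w, hw, h⟩ := Submodule.mem_sup.1 hv
  exact ⟨p, hp, w, hw, h.symm⟩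

theorem exists_dual_in (φ : Module.Dual F (ι → F)) : ∃ w ∈ W', ∀ x ∈ W, φ x = f x w := by
  obtain ⟨z, hz⟩ := exists_eq_f hf φ
  obtain ⟨p, hp, w, hw, rfl⟩ := exists_split hc z
  exact ⟨w, hw, fun x hx => by rw [hz, add_right hf, hW x hx p hp, zero_add]⟩

theorem exists_avoid {U : Submodule F (ι → F)} (hU : Module.finrank F U + 2 < Module.finrank F W) (y y' : ι → F) :
    ∃ z ∈ W, f z y = 0 ∧ f z y' = 0 ∧ z ∉ U := by
  by_contra h
  push Not at h
  set L := ((formH hf y).prod (formH hf y')).comp W.subtype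
  have h1 := LinearMap.finrank_range_add_finrank_ker L
  have h2 := Submodule.finrank_le (LinearMap.range L)
  rw [Module.finrank_prod, Module.finrank_self] at h2
  have h3 : (LinearMap.ker L).map W.subtype ≤ U := by
    rintro _ ⟨z, hz, rfl⟩
    have hz' := LinearMap.mem_ker.1 hz
    exact h z z.2 (congrArg Prod.fst hz') (congrArg Prod.snd hz')
  have h4 := Submodule.finrank_mono h3
  rw [Submodule.finrank_map_subtype_eq] at h4
  omega

theorem exists_avoid_one {U : Submodule F (ι → F)} (hU : Module.finrank F U + 1 < Module.finrank F W) (y : ι → F) :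
    ∃ z ∈ W, f z y = 0 ∧ z ∉ U := by
  by_contra h
  push Not at h
  set L := (formH hf y).comp W.subtype
  have h1 := LinearMap.finrank_range_add_finrank_ker L
  have h2 := Submodule.finrank_le (LinearMap.range L)
  rw [Module.finrank_self] at h2
  have h3 : (LinearMap.ker L).map W.subtype ≤ U := by
    rintro _ ⟨z, hz, rfl⟩
    exact h z z.2 (LinearMap.mem_ker.1 hz)
  have h4 := Submodule.finrank_mono h3
  rw [Submodule.finrank_map_subtype_eq] at h4
  omega

theorem mem_of_zero_fst {v : ι → F} {p w : ι → F} (hp : p ∈ W) (hw : w ∈ W') (h : v = p + w) (hv : v ∈ W) :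
    w = 0 := by
  have hwW : w ∈ W := by
    rw [show w = v - p by rw [h]; abel]
    exact W.sub_mem hv hp
  have : w ∈ W ⊓ W' := ⟨hwW, hw⟩
  rwa [hc.inf_eq_bot, Submodule.mem_bot] at this

variable {M : Subgroup (GL ι F)}
  (hMS : M ≤ preserving (Units.coeHom (Matrix ι ι F)) f ⊓ Geo.specialLinear ι F)
  (hH : ∀ g ∈ preserving (Units.coeHom (Matrix ι ι F)) f ⊓ Geo.specialLinear ι F,
    (∀ u ∈ W, mv g u ∈ W) → (∀ u ∈ W', mv g u ∈ W') → g ∈ M)
  (hk : 3 ≤ Module.finrank F W)

include hH in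
theorem exists_std {p w : ι → F} (hp : p ∈ W) (hw : w ∈ W') (h : f w p = 0) :
    ∃ e ∈ M, IsEich f e p w 0 := by
  obtain ⟨e, he, he'⟩ := exists_isEich hf (hW p hp p hp) h
    (show (0 : F) + σ 0 + f w w = 0 by rw [hW' w hw w hw, map_zero, add_zero, add_zero])
  refine ⟨e, hH e he (fun u hu => ?_) (fun u hu => ?_), he'⟩
  · rw [he', hW u hu p hp, zero_smul, add_zero, mul_zero, zero_sub]
    exact W.add_mem hu (W.smul_mem _ hp)
  · rw [he', hW' u hu w hw, zero_mul, sub_zero, zero_smul, add_zero]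
    exact W'.add_mem hu (W'.smul_mem _ hw)

include hH in
theorem pairIn_std {p w : ι → F} (hp : p ∈ W) (hw : w ∈ W') (h : f w p = 0) : PairIn f M p w := fun l =>
  exists_std hf hW hW' hc hH hp (W'.smul_mem l hw) (by rw [hf.smul_left, h, mul_zero])

include hH in
/-- A pair with one vertex in W whose other vertex is not in W' gives transvections. -/
theorem centre_of_pure {a b : ι → F} (ha : a ∈ W) (ha0 : a ≠ 0) (hba : f b a = 0) (h : PairIn f M a b)
    {p w : ι → F} (hp : p ∈ W) (hp0 : p ≠ 0) (hw : w ∈ W') (hb : b = p + w) : a ∈ hCentres hf M := by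
  have hwa : f w a = 0 := by
    rw [hb, hf.add_left, hW p hp a ha, zero_add] at hba
    exact hba
  by_cases hpa : p ∈ Submodule.span F {a}
  · obtain ⟨m, rfl⟩ := Submodule.mem_span_singleton.1 hpa
    have hm : m ≠ 0 := fun h => hp0 (by rw [h, zero_smul])
    refine ⟨hW a ha a ha, fun d hd => ?_⟩
    obtain ⟨β, hβ⟩ := exists_trace hf.ne_refl hf.involutive 1 (map_one σ)
    set l := d * β / m with hl
    obtain ⟨e, he, he'⟩ := h l
    obtain ⟨e₂, he₂, he₂'⟩ := exists_std hf hW hW' hc hH ha (W'.smul_mem (-l) hw)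
      (by rw [hf.smul_left, hwa, mul_zero])
    have h3 := isEich_mul hf (hW a ha a ha) (by rw [hf.smul_left, hba, mul_zero])
      (by rw [hf.smul_left, hwa, mul_zero]) he' he₂'
    refine (congrArg (· ∈ M) (ext_mv fun z => ?_)).mp (M.mul_mem he he₂)
    rw [h3 z, mv_htv, hb]
    simp only [hf.add_left, add_right hf, hf.smul_left, smul_right hf, hwa, (f_eq_zero_comm hf).1 hwa,
      hW' w hw w hw, hW a ha a ha, map_neg, mul_zero, add_zero]
    rw [show d = l * m - σ l * σ m by
      rw [← map_mul, hl, div_mul_cancel₀ _ hm, map_mul, hd]; linear_combination (-d) * hβ]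
    module
  · obtain ⟨φ, hφ, hφp⟩ := exists_dual hpa
    obtain ⟨y, hy, hy'⟩ := exists_dual_in hf hW hW' hc φ
    have hay : f a y = 0 := by rw [← hy' a ha, hφ a (Submodule.mem_span_singleton_self a)]
    have hpy : f p y = 1 := by rw [← hy' p hp, hφp]
    refine centre_of_two_pairs hf (hW a ha a ha) hba ((f_eq_zero_comm hf).1 hay) h
      (pairIn_std hf hW hW' hc hH ha hy ((f_eq_zero_comm hf).1 hay)) ?_
    rw [hb, hf.add_left, hpy, hW' w hw y hy, add_zero]
    exact one_ne_zero

omit hW hW' hc in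
/-- The second difference of three products of transvections. -/
theorem exists_cross {v z z' : ι → F} (hv : f v v = 0) (hz : f z z = 0) (hz' : f z' z' = 0) (hvz : f v z = 0)
    (hvz' : f v z' = 0) (hzz : f z z' = 0) {c : F} (hc : σ c = -c)
    (h : ∀ s, (s = z ∨ s = z' ∨ s = z + z') → ∀ hs : f (v + s) (v + s) = 0,
      htv hf (v + s) hs c * htv hf v hv (-c) ∈ M) :
    ∃ e ∈ M, IsEich f e z ((-c) • z') 0 := by
  have hzv := (f_eq_zero_comm hf).1 hvz
  have hz'v := (f_eq_zero_comm hf).1 hvz'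
  have hz'z := (f_eq_zero_comm hf).1 hzz
  have h1 : f (v + z) (v + z) = 0 := by simp [hf.add_left, add_right hf, hv, hz, hvz, hzv]
  have h2 : f (v + z') (v + z') = 0 := by simp [hf.add_left, add_right hf, hv, hz', hvz', hz'v]
  have h3 : f (v + (z + z')) (v + (z + z')) = 0 := by
    simp [hf.add_left, add_right hf, hv, hz, hz', hvz, hzv, hvz', hz'v, hzz, hz'z]
  obtain ⟨e, -, he'⟩ := exists_isEich hf (y := (-c) • z') (l := 0) hz (by rw [hf.smul_left, hz'z, mul_zero])
    (by rw [hf.smul_left, smul_right hf, hz', map_zero, mul_zero, mul_zero, add_zero, add_zero])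
  refine ⟨e, ?_, he'⟩
  have key : htv hf (v + z) h1 c * htv hf v hv (-c) * (htv hf (v + z') h2 c * htv hf v hv (-c)) =
      e * (htv hf (v + (z + z')) h3 c * htv hf v hv (-c)) := ext_mv fun x => by
    simp only [mv_mul, mv_htv, he' _, hf.add_left, add_right hf, hf.smul_left, smul_right hf, map_neg, hc,
      hv, hz, hz', hvz, hzv, hvz', hz'v, hzz, hz'z, mul_zero, add_zero]
    module
  have := M.mul_mem (M.mul_mem (h z (Or.inl rfl) h1) (h z' (Or.inr (Or.inl rfl)) h2))
    (M.inv_mem (h (z + z') (Or.inr (Or.inr rfl)) h3))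
  rwa [key, mul_inv_cancel_right] at this

include hH hk in
theorem centre_of_shift {x y v : ι → F} (hy : y ∈ W') (hv : f v v = 0)
    (hvW : ∀ z ∈ W, f z y = 0 → f v z = 0) {c : F} (hc0 : c ≠ 0) (hc' : σ c = -c)
    (h : ∀ z ∈ W, f z y = 0 → z ∉ Submodule.span F {x} → ∀ hs : f (v + z) (v + z) = 0,
      htv hf (v + z) hs c * htv hf v hv (-c) ∈ M) :
    ∃ a ∈ W, a ≠ 0 ∧ a ∈ hCentres hf M := by
  classical
  obtain ⟨z, hz, hzy, hzx⟩ := exists_avoid_one hf hW hW' hc (U := Submodule.span F {x})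
    (by have := (finrank_span_le_card (R := F) ({x} : Set (ι → F))).trans (by simp : _ ≤ 1); omega) y
  have hz0 : z ≠ 0 := fun h => hzx (h ▸ Submodule.zero_mem _)
  obtain ⟨z', hz', hzy', hz'z, hzx'⟩ : ∃ z' ∈ W, f z' y = 0 ∧ z' ∉ Submodule.span F {z} ∧
      z' ∉ Submodule.span F {x} := by
    obtain ⟨z', hz', hzy', hz'z⟩ := exists_avoid_one hf hW hW' hc (U := Submodule.span F {z})
      (by have := (finrank_span_le_card (R := F) ({z} : Set (ι → F))).trans (by simp : _ ≤ 1); omega) y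
    by_cases h1 : z' ∈ Submodule.span F {x}
    · refine ⟨z' + z, W.add_mem hz' hz, by rw [hf.add_left, hzy', hzy, add_zero], fun h2 => hz'z ?_, fun h2 => hzx ?_⟩
      · have := Submodule.sub_mem _ h2 (Submodule.mem_span_singleton_self z)
        rwa [add_sub_cancel_right] at this
      · have := Submodule.sub_mem _ h2 h1
        rwa [add_sub_cancel_left] at this
    · exact ⟨z', hz', hzy', hz'z, h1⟩
  have hz'0 : z' ≠ 0 := fun h => hz'z (h ▸ Submodule.zero_mem _)
  refine ⟨z, hz, hz0, centre_of_pure hf hW hW' hc hH hz hz0 (hW z' hz' z hz) (fun l => ?_) hz' hz'0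
    W'.zero_mem (add_zero z').symm⟩
  -- all but one parameter directly
  have direct : ∀ l : F, l ≠ 0 → z + (l / (-c)) • z' ∉ Submodule.span F {x} →
      ∃ e ∈ M, IsEich f e z (l • z') 0 := by
    intro l hl hgood
    set κ := l / (-c) with hκdef
    have hκ : κ ≠ 0 := div_ne_zero hl (neg_ne_zero.2 hc0)
    have hA : ∀ s, (s = z ∨ s = κ • z' ∨ s = z + κ • z') → ∀ hs : f (v + s) (v + s) = 0,
        htv hf (v + s) hs c * htv hf v hv (-c) ∈ M := by
      rintro s (rfl | rfl | rfl)
      · exact h _ hz hzy hzx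
      · exact h _ (W.smul_mem κ hz') (by rw [hf.smul_left, hzy', mul_zero])
          fun h => hzx' ((Submodule.smul_mem_iff _ hκ).1 h)
      · exact h _ (W.add_mem hz (W.smul_mem κ hz')) (by rw [hf.add_left, hzy, hf.smul_left, hzy', mul_zero, add_zero])
          hgood
    obtain ⟨e, he, he'⟩ := exists_cross hf hv (hW z hz z hz) (hW _ (W.smul_mem κ hz') _ (W.smul_mem κ hz'))
      (hvW z hz hzy) (hvW _ (W.smul_mem κ hz') (by rw [hf.smul_left, hzy', mul_zero]))
      (hW z hz _ (W.smul_mem κ hz')) hc' hA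
    refine ⟨e, he, ?_⟩
    rwa [smul_smul, mul_div_cancel₀ _ (neg_ne_zero.2 hc0)] at he'
  rcases eq_or_ne l 0 with rfl | hl
  · exact ⟨1, M.one_mem, fun w => by rw [mv_one, zero_smul, zero_right hf]; simp⟩
  by_cases hgood : z + (l / (-c)) • z' ∈ Submodule.span F {x}
  swap
  · exact direct l hl hgood
  -- the exceptional parameter is the sum of two others
  obtain ⟨β, hβ⟩ : ∃ β, σ β ≠ β := by
    by_contra h0
    push Not at h0
    exact hf.ne_refl (RingEquiv.ext h0)
  have only : ∀ l' : F, z + (l' / (-c)) • z' ∈ Submodule.span F {x} → l' = l := by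
    intro l' hl'
    by_contra hne
    have h1 := Submodule.sub_mem _ hl' hgood
    rw [add_sub_add_left_eq_sub, ← sub_smul, ← sub_div] at h1
    exact hzx' ((Submodule.smul_mem_iff _ (div_ne_zero (sub_ne_zero.2 hne) (neg_ne_zero.2 hc0))).1 h1)
  have hβ0 : β ≠ 0 := fun h0 => hβ (by rw [h0, map_zero])
  have hβ1 : β ≠ 1 := fun h0 => hβ (by rw [h0, map_one])
  have h1β : 1 - β ≠ 0 := sub_ne_zero.2 (Ne.symm hβ1)
  obtain ⟨e₁, he₁, he₁'⟩ := direct (β * l) (mul_ne_zero hβ0 hl) fun h0 =>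
    hβ1 (mul_right_cancel₀ hl ((only _ h0).trans (one_mul l).symm))
  obtain ⟨e₂, he₂, he₂'⟩ := direct ((1 - β) * l) (mul_ne_zero h1β hl) fun h0 =>
    hβ0 (by simpa using mul_right_cancel₀ hl ((only _ h0).trans (one_mul l).symm))
  refine ⟨_, M.mul_mem he₁ he₂, ?_⟩
  have hz'zf : f z' z = 0 := hW z' hz' z hz
  have h3 := isEich_mul hf (hW z hz z hz) (by rw [hf.smul_left, hz'zf, mul_zero])
    (by rw [hf.smul_left, hz'zf, mul_zero]) he₁' he₂'
  convert h3 using 1
  · rw [← add_smul, show β * l + (1 - β) * l = l by ring]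
  · rw [hf.smul_left, smul_right hf, hW z' hz' z' hz']
    ring

include hH in
/-- The element shifting x by z. -/
theorem exists_pair_shift {x z : ι → F} (hx : x ∈ W) (hz : z ∈ W) (hzx : z ∉ Submodule.span F {x}) (hx0 : x ≠ 0) :
    ∃ h ∈ M, mv h x = x + z ∧ ∀ y ∈ W', f y z = 0 → mv h y = y := by
  have hxz : x ∉ Submodule.span F {z} := fun h => by
    obtain ⟨m, rfl⟩ := Submodule.mem_span_singleton.1 h
    have hm : m ≠ 0 := fun h => hx0 (by rw [h, zero_smul])
    exact hzx (Submodule.mem_span_singleton.2 ⟨m⁻¹, by rw [smul_smul, inv_mul_cancel₀ hm, one_smul]⟩)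
  obtain ⟨φ, hφ, hφx⟩ := exists_dual hxz
  obtain ⟨w, hw, hw'⟩ := exists_dual_in hf hW hW' hc (-φ)
  have hwz : f w z = 0 := (f_eq_zero_comm hf).1 (by
    rw [← hw' z hz, LinearMap.neg_apply, hφ z (Submodule.mem_span_singleton_self z), neg_zero])
  have hxw : f x w = -1 := by rw [← hw' x hx, LinearMap.neg_apply, hφx]
  obtain ⟨e, he, he'⟩ := exists_std hf hW hW' hc hH hz hw hwz
  refine ⟨e, he, ?_, fun y hy hyz => ?_⟩
  · rw [he', hW x hx z hz, hxw]; module
  · rw [he', hyz, hW' y hy w hw]; module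

include hMS hH in
/-- Two mixed vertices in general position give a centre. -/
theorem centre_of_general {a b x y x' y' z : ι → F} (hx : x ∈ W) (hy : y ∈ W') (hx' : x' ∈ W) (hy' : y' ∈ W')
    (ha : a = x + y) (hb : b = x' + y') (haa : f a a = 0) (hba : f b a = 0) (hbb : f b b = 0) (ha0 : a ≠ 0)
    (h : PairIn f M a b) (hz : z ∈ W) (hzy : f y z = 0) (hzy' : f y' z = 1)
    (hzx : x' ∉ Submodule.span F ({x, z} : Set (ι → F))) : ∃ v, v ≠ 0 ∧ v ∈ hCentres hf M := by
  have hMf : M ≤ preserving (Units.coeHom (Matrix ι ι F)) f := fun g hg => (hMS hg).1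
  obtain ⟨ψ, hψ, hψx⟩ := exists_dual hzx
  obtain ⟨β, hβ⟩ : ∃ β, σ β ≠ β := by
    by_contra h0
    push Not at h0
    exact hf.ne_refl (RingEquiv.ext h0)
  obtain ⟨w, hw, hw'⟩ := exists_dual_in hf hW hW' hc (β • ψ)
  have hwx : f x w = 0 := by rw [← hw' x hx, LinearMap.smul_apply, hψ x (Submodule.subset_span (by simp)), smul_zero]
  have hwz : f w z = 0 := (f_eq_zero_comm hf).1 (by
    rw [← hw' z hz, LinearMap.smul_apply, hψ z (Submodule.subset_span (by simp)), smul_zero])
  have hwx' : f x' w = β := by rw [← hw' x' hx', LinearMap.smul_apply, hψx, smul_eq_mul, mul_one]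
  obtain ⟨g, hg, hg'⟩ := exists_std hf hW hW' hc hH hz hw hwz
  have hga : mv g a = a := by
    rw [hg', ha, hf.add_left, hf.add_left, hW x hx z hz, hzy, hwx, hW' y hy w hw]
    module
  have hbz : f b z = 1 := by rw [hb, hf.add_left, hW x' hx' z hz, hzy', zero_add]
  have hbw : f b w = β := by rw [hb, hf.add_left, hwx', hW' y' hy' w hw, add_zero]
  have h' : PairIn f M a (mv g b) := by
    have := pairIn_conj hf hMf hg h
    rwa [hga] at this
  refine ⟨a, ha0, centre_of_two_pairs hf haa hba ?_ h h' ?_⟩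
  · conv_lhs => rw [← hga]
    exact (hMf hg b a).trans hba
  · rw [hg', hbz, hbw, add_right hf, add_right hf, smul_right hf, smul_right hf, hbb, hbz, hbw]
    simp only [map_one, one_mul, mul_one, zero_mul, zero_sub, map_neg, zero_add]
    intro h0
    exact hβ (by linear_combination -h0)


include hMS hH hk in
/-- A pair of which both vertices are mixed gives transvections. -/
theorem centre_of_mixed {a b x y x' y' : ι → F} (hx : x ∈ W) (hy : y ∈ W') (hx' : x' ∈ W) (hy' : y' ∈ W')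
    (hx0 : x ≠ 0) (hy0 : y ≠ 0) (hk' : 3 ≤ Module.finrank F W') (ha : a = x + y) (hb : b = x' + y') (haa : f a a = 0) (hba : f b a = 0)
    (hbb : f b b = 0) (hab : b ∉ Submodule.span F {a}) (h : PairIn f M a b)
    (hsymm : y' ∈ Submodule.span F {y} → x' ∈ Submodule.span F {x}) : ∃ v, v ≠ 0 ∧ v ∈ hCentres hf M := by
  classical
  have hMf : M ≤ preserving (Units.coeHom (Matrix ι ι F)) f := fun g hg => (hMS hg).1
  have ha0 : a ≠ 0 := fun h0 => hx0 (by
    have : x ∈ W ⊓ W' := ⟨hx, by rw [show x = a - y by rw [ha]; abel, h0, zero_sub]; exact W'.neg_mem hy⟩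
    rwa [hc.inf_eq_bot, Submodule.mem_bot] at this)
  by_cases hyy : y' ∈ Submodule.span F {y}
  · -- both vertices on one standard line
    obtain ⟨m, rfl⟩ := Submodule.mem_span_singleton.1 (hsymm hyy)
    obtain ⟨m', rfl⟩ := Submodule.mem_span_singleton.1 hyy
    have hmm : σ m' - σ m ≠ 0 := fun h0 => hab (Submodule.mem_span_singleton.2 ⟨m, by
      rw [hb, ha, σ.injective (sub_eq_zero.1 h0), smul_add]⟩)
    have hxy : f x y = 0 := by
      have h1 : f a b = 0 := (f_eq_zero_comm hf).1 hba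
      rw [ha, hb] at h1
      simp only [hf.add_left, add_right hf, smul_right hf, hW x hx x hx, hW' y hy y hy, mul_zero, add_zero,
        zero_add] at h1
      rw [ha] at haa
      simp only [hf.add_left, add_right hf, hW x hx x hx, hW' y hy y hy, add_zero, zero_add] at haa
      have h2 : (σ m' - σ m) * f x y = 0 := by linear_combination h1 - σ m * haa
      exact (mul_eq_zero.1 h2).resolve_left hmm
    have hyx := (f_eq_zero_comm hf).1 hxy
    by_cases hm : m = 0
    · have hy'0 : m' • y ≠ 0 := fun h0 => hab (by rw [hb, hm, h0, zero_smul, add_zero]; exact Submodule.zero_mem _)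
      exact ⟨m' • y, hy'0, centre_of_pure hf hW' hW hc.symm (fun g hg h1 h2 => hH g hg h2 h1) (b := a)
        (W'.smul_mem _ hy) hy'0 (by rw [ha, smul_right hf, hf.add_left, hxy, hW' y hy y hy]; ring)
        (by
          have hbeq : b = m' • y := by rw [hb, hm, zero_smul, zero_add]
          exact hbeq ▸ pairIn_symm hf h)
        hy (fun h0 => hy'0 (by rw [h0, smul_zero])) hx (by rw [ha, add_comm])⟩
    obtain ⟨β, hβ⟩ : ∃ β, σ β ≠ β := by
      by_contra h0
      push Not at h0
      exact hf.ne_refl (RingEquiv.ext h0)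
    set l := β / m with hl
    set c₁ := l * m - σ l * σ m with hc₁
    set c₂ := l * m' - σ l * σ m' with hc₂
    have hc₁' : σ c₁ = -c₁ := by rw [hc₁, map_sub, map_mul, map_mul, hf.involutive, hf.involutive]; ring
    have hc₂' : σ c₂ = -c₂ := by rw [hc₂, map_sub, map_mul, map_mul, hf.involutive, hf.involutive]; ring
    have hc₁0 : c₁ ≠ 0 := by
      rw [hc₁, ← map_mul, hl, div_mul_cancel₀ _ hm]
      exact sub_ne_zero.2 (Ne.symm hβ)
    obtain ⟨e, he, he'⟩ := h l
    obtain ⟨q, hq, hq'⟩ := pairIn_symm hf (pairIn_std hf hW hW' hc hH hx hy hyx) (σ l * σ m' - l * m)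
    have hxx := hW x hx x hx
    have hyy0 := hW' y hy y hy
    have hP : q * e = htv hf x hxx c₁ * htv hf y hyy0 c₂ := ext_mv fun z => by
      simp only [mv_mul, he' _, hq' _, mv_htv, ha, hb, hf.add_left, add_right hf, hf.smul_left, smul_right hf,
        hxx, hyy0, hxy, hyx, map_sub, map_mul, hf.involutive, mul_zero, add_zero, hc₁, hc₂]
      module
    have hPM := M.mul_mem hq he
    rw [hP] at hPM
    obtain ⟨u, hu, hu0, huC⟩ := centre_of_shift hf hW hW' hc hH hk (x := x) (y := y) (v := x) hy hxx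
      (fun z hz _ => hW x hx z hz) hc₁0 hc₁' (fun z hz hzy hzx hs => by
        obtain ⟨g, hg, hgx, hgy⟩ := exists_pair_shift hf hW hW' hc hH hx hz hzx hx0
        have h1 := M.mul_mem (M.mul_mem hg hPM) (M.inv_mem hg)
        rw [show g * (htv hf x hxx c₁ * htv hf y hyy0 c₂) * g⁻¹ =
          g * htv hf x hxx c₁ * g⁻¹ * (g * htv hf y hyy0 c₂ * g⁻¹) by group,
          htv_conj hf (fun a b => hMf hg a b), htv_conj hf (fun a b => hMf hg a b)] at h1
        simp only [hgx, hgy y hy ((f_eq_zero_comm hf).1 hzy)] at h1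
        have h2 := M.mul_mem h1 (M.inv_mem hPM)
        rwa [_root_.mul_inv_rev, ← mul_assoc, mul_inv_cancel_right,
          inv_eq_of_mul_eq_one_right (by rw [htv_add, add_neg_cancel, htv_zero] :
            htv hf x hxx c₁ * htv hf x hxx (-c₁) = 1)] at h2)
    exact ⟨u, hu0, huC⟩
  obtain ⟨φ, hφ, hφy⟩ := exists_dual hyy
  obtain ⟨z₀, hz₀, hz₀'⟩ := exists_dual_in hf hW' hW hc.symm φ
  have hy₀ : f y z₀ = 0 := by rw [← hz₀' y hy, hφ y (Submodule.mem_span_singleton_self y)]
  have hy₁ : f y' z₀ = 1 := by rw [← hz₀' y' hy', hφy]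
  by_cases hxx : x' ∈ Submodule.span F {x}
  · -- the line contains a vertex in W'
    obtain ⟨m, rfl⟩ := Submodule.mem_span_singleton.1 hxx
    obtain ⟨w, hw, hwx, hwz, hw0⟩ := exists_avoid hf hW' hW hc.symm (U := (⊥ : Submodule F (ι → F)))
      (by rw [finrank_bot]; omega) x z₀
    have hwx' : f x w = 0 := (f_eq_zero_comm hf).1 hwx
    obtain ⟨g, hg, hg'⟩ := exists_std hf hW hW' hc hH hz₀ hw hwz
    have hga : mv g a = a := by
      rw [hg', ha, hf.add_left, hf.add_left, hW x hx z₀ hz₀, hy₀, hwx', hW' y hy w hw]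
      module
    have hgb : mv g b = b + w := by
      rw [hg', hb, hf.add_left, hf.add_left, hW _ hx' z₀ hz₀, hy₁, hf.smul_left, hwx', hW' y' hy' w hw]
      module
    have hbw : f b w = 0 := by rw [hb, hf.add_left, hf.smul_left, hwx', hW' y' hy' w hw, mul_zero, add_zero]
    have hwa : f w a = 0 := by rw [ha, add_right hf, hwx, hW' w hw y hy, add_zero]
    have h' : PairIn f M a (b + w) := by
      have := pairIn_conj hf hMf hg h
      rwa [hga, hgb] at this
    have hP : PairIn f M a w := by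
      intro l
      obtain ⟨e, he, he'⟩ := h l
      obtain ⟨e₂, he₂, he₂'⟩ := h' l
      refine ⟨_, M.mul_mem he₂ (M.inv_mem he), ?_⟩
      have h3 := isEich_mul hf haa (by rw [hf.smul_left, hf.add_left, hba, hwa, add_zero, mul_zero])
        (by rw [neg_left hf, hf.smul_left, hba, mul_zero, neg_zero]) he₂'
        (isEich_inv hf haa (by rw [hf.smul_left, hba, mul_zero]) he')
      convert h3 using 1
      · module
      · rw [hf.smul_left, neg_left hf, hf.smul_left, smul_right hf, smul_right hf, hbb, add_right hf, hbb, hbw]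
        ring
    have hw0' : w ≠ 0 := fun h0 => hw0 (h0 ▸ Submodule.zero_mem _)
    exact ⟨w, hw0', centre_of_pure hf hW' hW hc.symm (fun g hg h1 h2 => hH g hg h2 h1) hw hw0'
      ((f_eq_zero_comm hf).1 hwa) (pairIn_symm hf hP) hy hy0 hx (by rw [ha, add_comm])⟩
  -- the general case
  by_cases h1 : x' ∈ Submodule.span F ({x, z₀} : Set (ι → F))
  swap
  · exact centre_of_general hf hW hW' hc hMS hH hx hy hx' hy' ha hb haa hba hbb ha0 h hz₀ hy₀ hy₁ h1
  obtain ⟨r, hr, hry, hry', hr0⟩ := exists_avoid hf hW hW' hc (U := (⊥ : Submodule F (ι → F)))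
    (by rw [finrank_bot]; omega) y y'
  by_cases hrx : r ∈ Submodule.span F ({x, z₀} : Set (ι → F))
  swap
  · refine centre_of_general hf hW hW' hc hMS hH (z := z₀ + r) hx hy hx' hy' ha hb haa hba hbb ha0 h
      (W.add_mem hz₀ hr) (by rw [add_right hf, hy₀, (f_eq_zero_comm hf).1 hry, add_zero])
      (by rw [add_right hf, hy₁, (f_eq_zero_comm hf).1 hry', add_zero]) fun h2 => hrx ?_
    obtain ⟨p₁, q₁, hpq₁⟩ := Submodule.mem_span_pair.1 h1
    obtain ⟨p₂, q₂, hpq₂⟩ := Submodule.mem_span_pair.1 h2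
    have hq₂ : q₂ ≠ 0 := fun h0 => hxx (Submodule.mem_span_singleton.2 ⟨p₂, by
      rw [← hpq₂, h0, zero_smul, add_zero]⟩)
    refine Submodule.mem_span_pair.2 ⟨(p₁ - p₂) / q₂, (q₁ - q₂) / q₂, ?_⟩
    apply smul_right_injective (ι → F) hq₂
    show q₂ • _ = q₂ • r
    rw [smul_add, smul_smul, smul_smul, mul_div_cancel₀ _ hq₂, mul_div_cancel₀ _ hq₂]
    linear_combination (norm := module) hpq₁ - hpq₂
  -- exchange the two vertices
  obtain ⟨p, s, hps⟩ := Submodule.mem_span_pair.1 hrx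
  obtain ⟨p₁, q₁, hpq₁⟩ := Submodule.mem_span_pair.1 h1
  have hzy0 : f z₀ y = 0 := (f_eq_zero_comm hf).1 hy₀
  have hp : p ≠ 0 := fun h0 => hr0 (by
    rw [h0, zero_smul, zero_add] at hps
    rw [← hps, hf.smul_left, mul_eq_zero] at hry'
    have hzy1 : f z₀ y' ≠ 0 := fun h2 => one_ne_zero (α := F) (by rw [← hy₁, (f_eq_zero_comm hf).1 h2])
    rw [← hps, hry'.resolve_right hzy1, zero_smul]
    exact Submodule.zero_mem _)
  have hxy : f x y = 0 := by
    rw [← hps, hf.add_left, hf.smul_left, hf.smul_left, hzy0, mul_zero, add_zero, mul_eq_zero] at hry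
    exact hry.resolve_left hp
  have hy'x : f y' x = 0 := by
    rw [hb, ha, hf.add_left, add_right hf, add_right hf, hW x' hx' x hx, hW' y' hy' y hy, zero_add, add_zero,
      ← hpq₁, hf.add_left, hf.smul_left, hf.smul_left, hxy, hzy0, mul_zero, mul_zero, add_zero, zero_add] at hba
    exact hba
  have hq₁ : q₁ ≠ 0 := fun h0 => hxx (Submodule.mem_span_singleton.2 ⟨p₁, by
    rw [← hpq₁, h0, zero_smul, add_zero]⟩)
  have hy'x' : f y' x' = σ q₁ := by
    rw [← hpq₁, add_right hf, smul_right hf, smul_right hf, hy'x, hy₁, mul_zero, zero_add, mul_one]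
  obtain ⟨φ', hφ', hφy'⟩ := exists_dual (W := Submodule.span F {y'}) (u := y) (fun h0 => by
    obtain ⟨m, hm⟩ := Submodule.mem_span_singleton.1 h0
    have hm0 : m ≠ 0 := fun h2 => hy0 (by rw [← hm, h2, zero_smul])
    exact hyy (Submodule.mem_span_singleton.2 ⟨m⁻¹, by rw [← hm, smul_smul, inv_mul_cancel₀ hm0, one_smul]⟩))
  obtain ⟨z₁, hz₁, hz₁'⟩ := exists_dual_in hf hW' hW hc.symm φ'
  have hb₀ : f y' z₁ = 0 := by rw [← hz₁' y' hy', hφ' y' (Submodule.mem_span_singleton_self y')]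
  have hb₁ : f y z₁ = 1 := by rw [← hz₁' y hy, hφy']
  have hb0 : b ≠ 0 := fun h0 => hab (h0 ▸ Submodule.zero_mem _)
  refine centre_of_general hf hW hW' hc hMS hH hx' hy' hx hy hb ha hbb ((f_eq_zero_comm hf).1 hba) haa hb0
    (pairIn_symm hf h) hz₁ hb₀ hb₁ fun h2 => ?_
  obtain ⟨c₁, c₂, hc12⟩ := Submodule.mem_span_pair.1 h2
  have e1 : f y' x = σ c₁ * σ q₁ := by
    rw [← hc12, add_right hf, smul_right hf, smul_right hf, hy'x', hb₀, mul_zero, add_zero]
  rw [hy'x, eq_comm, mul_eq_zero, map_eq_zero_iff σ σ.injective, map_eq_zero_iff σ σ.injective] at e1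
  have hc₁ := e1.resolve_right hq₁
  have e2 : f y x = σ c₂ := by
    rw [← hc12, hc₁, zero_smul, zero_add, smul_right hf, hb₁, mul_one]
  rw [(f_eq_zero_comm hf).1 hxy, eq_comm, map_eq_zero_iff σ σ.injective] at e2
  exact hx0 (by rw [← hc12, hc₁, e2, zero_smul, zero_smul, add_zero])

end Cfsg.Agent.Transvec.Herm
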