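/-
The stabiliser of two complementary totally singular subspaces is maximal in the special unitary group.
-/
import Cfsg.Agent.Lib.Transvec.HermPair
set_option autoImplicit false

namespace Cfsg.Agent.Transvec.Herm

open scoped Matrix
open Matrix Cfsg.Agent.Transvec

variable {ι : Type} [Fintype ι] [DecidableEq ι] {F : Type*} [Field F]
variable {σ : F ≃+* F} {f : (ι → F) → (ι → F) → F} (hf : Geo.IsUnitaryForm σ f)
include hf

variable {W W' : Submodule F (ι → F)} (hW : ∀ u ∈ W, ∀ v ∈ W, f u v = 0) (hW' : ∀ u ∈ W', ∀ v ∈ W', f u v = 0)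

include hW hW' in
theorem exists_pair_swap {t : F} (ht0 : t ≠ 0) (ht : σ t = -t) : ∀ (U U' : Submodule F (ι → F)), U ≤ W → U' ≤ W' →
    (∀ u ∈ U, (∀ v ∈ U', f u v = 0) → u = 0) → (∀ v ∈ U', (∀ u ∈ U, f v u = 0) → v = 0) →
    ∃ g ∈ preserving (Units.coeHom (Matrix ι ι F)) f ⊓ Geo.specialLinear ι F,
      (∀ u ∈ U, mv g u ∈ U') ∧ (∀ v ∈ U', mv g v ∈ U) ∧
      ∀ z, (∀ u ∈ U, f z u = 0) → (∀ v ∈ U', f z v = 0) → mv g z = z := by
  intro U
  generalize hd : Module.finrank F U = d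
  induction d using Nat.strong_induction_on generalizing U with
  | _ d ih =>
    intro U' hUW hU'W hn hn'
    by_cases hU : U = ⊥
    · refine ⟨1, one_mem _, fun u hu => ?_, fun v hv => ?_, fun z _ _ => mv_one z⟩
      · rw [hU, Submodule.mem_bot] at hu; rw [hu, mv_one]; exact U'.zero_mem
      · rw [mv_one, hn' v hv fun u hu => by rw [hU, Submodule.mem_bot] at hu; rw [hu, zero_right hf]]
        exact U.zero_mem
    obtain ⟨e, he, he0⟩ := U.ne_bot_iff.1 hU
    obtain ⟨d₀, hd₀, hed₀⟩ : ∃ d₀ ∈ U', f e d₀ ≠ 0 := by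
      by_contra h
      push Not at h
      exact he0 (hn e he h)
    set p := (σ (f e d₀))⁻¹ • d₀ with hp
    have hpU : p ∈ U' := U'.smul_mem _ hd₀
    have hep : f e p = 1 := by
      rw [hp, smul_right hf, map_inv₀, hf.involutive, inv_mul_cancel₀ hed₀]
    have hpe : f p e = 1 := by rw [hf.herm, hep, map_one]
    have hee : f e e = 0 := hW e (hUW he) e (hUW he)
    have hpp : f p p = 0 := hW' p (hU'W hpU) p (hU'W hpU)
    set U₁ := U ⊓ LinearMap.ker (formH hf p)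
    set U₁' := U' ⊓ LinearMap.ker (formH hf e)
    have hlt : U₁ < U := lt_of_le_of_ne inf_le_left fun h => one_ne_zero (α := F) (by
      rw [← hep]
      exact LinearMap.mem_ker.1 (h.ge he).2)
    obtain ⟨g, hg, hgU, hgU', hgf⟩ := ih _ (hd ▸ Submodule.finrank_lt_finrank_of_lt hlt) U₁ rfl U₁'
      (inf_le_left.trans hUW) (inf_le_left.trans hU'W)
      (fun u hu h => hn u hu.1 fun v hv => by
        have h1 := h (v - f v e • p) ⟨U'.sub_mem hv (U'.smul_mem _ hpU), LinearMap.mem_ker.2 (by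
          rw [formH_apply, sub_left hf, hf.smul_left, hpe, mul_one, sub_self])⟩
        rwa [sub_right hf, smul_right hf, show f u p = 0 from LinearMap.mem_ker.1 hu.2, mul_zero, sub_zero] at h1)
      (fun v hv h => hn' v hv.1 fun u hu => by
        have h1 := h (u - f u p • e) ⟨U.sub_mem hu (U.smul_mem _ he), LinearMap.mem_ker.2 (by
          rw [formH_apply, sub_left hf, hf.smul_left, hep, mul_one, sub_self])⟩
        rwa [sub_right hf, smul_right hf, show f v e = 0 from LinearMap.mem_ker.1 hv.2, mul_zero, sub_zero] at h1)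
    set s := htv hf p hpp t * htv hf e hee (-t⁻¹) * htv hf p hpp t with hs
    have hti : σ (-t⁻¹) = -(-t⁻¹) := by rw [map_neg, map_inv₀, ht, inv_neg]
    have hsS : s ∈ preserving (Units.coeHom (Matrix ι ι F)) f ⊓ Geo.specialLinear ι F :=
      Subgroup.mul_mem _ (Subgroup.mul_mem _ ⟨htv_mem hf _ _ ht, htv_mem_specialLinear hf _ _ _⟩
        ⟨htv_mem hf _ _ hti, htv_mem_specialLinear hf _ _ _⟩) ⟨htv_mem hf _ _ ht, htv_mem_specialLinear hf _ _ _⟩
    have hsv : ∀ z, f z e = 0 → f z p = 0 → mv s z = z := fun z h1 h2 => by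
      rw [hs, mv_mul, mv_mul, htv_fix hf _ _ _ h2, htv_fix hf _ _ _ h1, htv_fix hf _ _ _ h2]
    have hse : mv s e = t • p := by
      rw [hs, mv_mul, mv_mul, mv_htv, mv_htv, mv_htv]
      simp only [hf.add_left, hf.smul_left, hep, hpe, hee, hpp, mul_one, mul_zero, add_zero, zero_add]
      field_simp
      module
    have hsp : mv s p = (-t⁻¹) • e := by
      rw [hs, mv_mul, mv_mul, mv_htv, mv_htv, mv_htv]
      simp only [hf.add_left, hf.smul_left, hep, hpe, hee, hpp, mul_one, mul_zero, add_zero, zero_add, zero_smul]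
      field_simp
      module
    have hge : mv g e = e := hgf e (fun u hu => hW e (hUW he) u (hUW hu.1))
      (fun v hv => (f_eq_zero_comm hf).1 (LinearMap.mem_ker.1 hv.2))
    have hgp : mv g p = p := hgf p (fun u hu => (f_eq_zero_comm hf).1 (LinearMap.mem_ker.1 hu.2))
      (fun v hv => hW' p (hU'W hpU) v (hU'W hv.1))
    refine ⟨s * g, Subgroup.mul_mem _ hsS hg, fun u hu => ?_, fun v hv => ?_, fun z h1 h2 => ?_⟩
    · have h₁ : u - f u p • e ∈ U₁ := ⟨U.sub_mem hu (U.smul_mem _ he), LinearMap.mem_ker.2 (by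
        rw [formH_apply, sub_left hf, hf.smul_left, hep, mul_one, sub_self])⟩
      have h₂ := hgU _ h₁
      rw [show u = (u - f u p • e) + f u p • e by abel, mv_mul, mv_add, mv_smul, hge, mv_add, mv_smul, hse,
        hsv _ (LinearMap.mem_ker.1 h₂.2) (hW' _ (hU'W h₂.1) p (hU'W hpU))]
      exact U'.add_mem h₂.1 (U'.smul_mem _ (U'.smul_mem _ hpU))
    · have h₁ : v - f v e • p ∈ U₁' := ⟨U'.sub_mem hv (U'.smul_mem _ hpU), LinearMap.mem_ker.2 (by
        rw [formH_apply, sub_left hf, hf.smul_left, hpe, mul_one, sub_self])⟩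
      have h₂ := hgU' _ h₁
      rw [show v = (v - f v e • p) + f v e • p by abel, mv_mul, mv_add, mv_smul, hgp, mv_add, mv_smul, hsp,
        hsv _ (hW _ (hUW h₂.1) e (hUW he)) (LinearMap.mem_ker.1 h₂.2)]
      exact U.add_mem h₂.1 (U.smul_mem _ (U.smul_mem _ he))
    · rw [mv_mul, hgf z (fun u hu => h1 u hu.1) (fun v hv => h2 v hv.1), hsv z (h1 e he) (h2 p hpU)]

variable (hc : IsCompl W W')
include hW hW' hc

theorem pair_stab_maximal [Finite F] (hk : 3 ≤ Module.finrank F W) (hk' : 3 ≤ Module.finrank F W')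
    {H : Subgroup (GL ι F)}
    (hHdef : ∀ g, g ∈ H ↔ g ∈ preserving (Units.coeHom (Matrix ι ι F)) f ⊓ Geo.specialLinear ι F ∧
      ((∀ u ∈ W, mv g u ∈ W) ∧ (∀ u ∈ W', mv g u ∈ W') ∨ (∀ u ∈ W, mv g u ∈ W') ∧ (∀ u ∈ W', mv g u ∈ W))) :
    Geo.IsMaximalIn (preserving (Units.coeHom (Matrix ι ι F)) f ⊓ Geo.specialLinear ι F) H := by
  classical
  set S := preserving (Units.coeHom (Matrix ι ι F)) f ⊓ Geo.specialLinear ι F with hS
  obtain ⟨t, ht0, ht⟩ := exists_anti hf.ne_refl hf.involutive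
  have hcard : 4 ≤ Fintype.card ι := by
    have := Submodule.finrank_add_eq_of_isCompl hc
    rw [Module.finrank_pi] at this
    omega
  have hbot : ∀ {v : ι → F}, v ∈ W → v ∈ W' → v = 0 := fun h1 h2 => by
    have : _ ∈ W ⊓ W' := ⟨h1, h2⟩
    rwa [hc.inf_eq_bot, Submodule.mem_bot] at this
  have hn : ∀ u ∈ W, (∀ v ∈ W', f u v = 0) → u = 0 := fun u hu h => by
    by_contra hu0
    obtain ⟨-, ⟨z, hz⟩⟩ := hf.nondegenerate u hu0
    obtain ⟨p, hp, w, hw, rfl⟩ := exists_split hc z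
    exact hz (by rw [add_right hf, hW u hu p hp, h w hw, add_zero])
  have hn' : ∀ u ∈ W', (∀ v ∈ W, f u v = 0) → u = 0 := fun u hu h => by
    by_contra hu0
    obtain ⟨-, ⟨z, hz⟩⟩ := hf.nondegenerate u hu0
    obtain ⟨p, hp, w, hw, rfl⟩ := exists_split hc z
    exact hz (by rw [add_right hf, hW' u hu w hw, h p hp, add_zero])
  refine ⟨lt_of_le_of_ne (fun g hg => ((hHdef g).1 hg).1) fun heq => ?_, fun M hHM hMS => ?_⟩
  · obtain ⟨p, hp, hp0⟩ := W.ne_bot_iff.1 (fun h => by rw [h, finrank_bot] at hk; omega)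
    obtain ⟨w, hw, hpw⟩ : ∃ w ∈ W', f p w ≠ 0 := by
      by_contra h
      push Not at h
      exact hp0 (hn p hp h)
    have hwp : f w p ≠ 0 := fun h => hpw ((f_eq_zero_comm hf).1 h)
    rcases ((hHdef _).1 (heq.ge (⟨htv_mem hf p (hW p hp p hp) ht, htv_mem_specialLinear hf p _ t⟩ : _ ∈ S))).2
      with ⟨-, h⟩ | ⟨h, -⟩
    · have h1 := W'.sub_mem (h w hw) hw
      rw [mv_htv, add_sub_cancel_left] at h1
      exact hp0 (hbot hp ((Submodule.smul_mem_iff _ (mul_ne_zero ht0 hwp)).1 h1))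
    · have h1 := h p hp
      rw [htv_fix hf _ _ _ (hW p hp p hp)] at h1
      exact hp0 (hbot hp h1)
  have hMf : M ≤ preserving (Units.coeHom (Matrix ι ι F)) f := fun g hg => (hMS hg).1
  have hH : ∀ g ∈ S, (∀ u ∈ W, mv g u ∈ W) → (∀ u ∈ W', mv g u ∈ W') → g ∈ M := fun g hg h1 h2 =>
    hHM ((hHdef g).2 ⟨hg, Or.inl ⟨h1, h2⟩⟩)
  have hH' : ∀ g ∈ S, (∀ u ∈ W', mv g u ∈ W') → (∀ u ∈ W, mv g u ∈ W) → g ∈ M := fun g hg h1 h2 => hH g hg h2 h1
  by_cases hC : ∃ v, v ≠ 0 ∧ v ∈ hCentres hf M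
  · refine Or.inr (eq_su hf hcard hMS ?_)
    obtain ⟨sw, hsw, hsW, hsW', -⟩ := exists_pair_swap hf hW hW' ht0 ht W W' le_rfl le_rfl hn hn'
    have hswM : sw ∈ M := hHM ((hHdef sw).2 ⟨hsw, Or.inr ⟨hsW, hsW'⟩⟩)
    have hswn : ∀ {u : ι → F}, u ≠ 0 → mv sw u ≠ 0 := fun hu h => hu (mv_inj sw (h.trans (mv_zero sw).symm))
    -- a centre inside W
    obtain ⟨a, ha, ha0, haC⟩ : ∃ a ∈ W, a ≠ 0 ∧ a ∈ hCentres hf M := by
      obtain ⟨v, hv0, hvC⟩ := hC
      obtain ⟨x, hx, y, hy, rfl⟩ := exists_split hc v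
      by_cases hy0 : y = 0
      · rw [hy0, add_zero] at hv0 hvC; exact ⟨x, hx, hv0, hvC⟩
      by_cases hx0 : x = 0
      · rw [hx0, zero_add] at hv0 hvC
        exact ⟨mv sw y, hsW' y hy, hswn hv0, hCentres_mv hf hMf hswM hvC⟩
      refine centre_of_shift hf hW hW' hc hH hk (x := x) (y := y) hy hvC.1 (fun z hz hzy => ?_) ht0 ht
        (fun z hz hzy hzx hs => ?_)
      · rw [hf.add_left, hW x hx z hz, (f_eq_zero_comm hf).1 hzy, add_zero]
      · obtain ⟨g, hg, hgx, hgy⟩ := exists_pair_shift hf hW hW' hc hH hx hz hzx hx0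
        have h1 := hCentres_mv hf hMf hg hvC
        rw [mv_add, hgx, hgy y hy ((f_eq_zero_comm hf).1 hzy), show x + z + y = x + y + z by abel] at h1
        exact M.mul_mem (h1.2 t ht) (hvC.2 (-t) (by rw [map_neg, ht]))
    have hWC : ∀ u ∈ W, u ∈ hCentres hf M := by
      intro u hu
      by_cases hua : u ∈ Submodule.span F {a}
      · obtain ⟨m, rfl⟩ := Submodule.mem_span_singleton.1 hua
        exact hCentres_smul hf haC m
      obtain ⟨g, hg, hga, -⟩ := exists_pair_shift hf hW hW' hc hH ha (W.sub_mem hu ha) (fun h => hua (by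
        have := Submodule.add_mem _ h (Submodule.mem_span_singleton_self a)
        rwa [sub_add_cancel] at this)) ha0
      have h1 := hCentres_mv hf hMf hg haC
      rwa [hga, add_sub_cancel] at h1
    have hW'C : ∀ u ∈ W', u ∈ hCentres hf M := by
      intro u hu
      have h1 := hCentres_mv hf hMf (M.inv_mem hswM) (hWC _ (hsW' u hu))
      rwa [mv_inv_mv] at h1
    have hadd : ∀ x ∈ W, ∀ y ∈ W', f x y ≠ 0 → σ (f x y) = -f x y → x + y ∈ hCentres hf M := fun x hx y hy h hs =>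
      hCentres_add hf hMf (hWC x hx) (hW'C y hy) h (by
        rw [hf.add_left, add_right hf, add_right hf, hW x hx x hx, hW' y hy y hy, hf.herm y x, hs]
        ring)
    intro v hvv
    obtain ⟨x, hx, y, hy, rfl⟩ := exists_split hc v
    by_cases hx0 : x = 0
    · rw [hx0, zero_add]; exact hW'C y hy
    have hanti : σ (f x y) = -f x y := by
      rw [hf.add_left, add_right hf, add_right hf, hW x hx x hx, hW' y hy y hy, hf.herm y x] at hvv
      linear_combination hvv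
    by_cases hxy : f x y = 0
    swap
    · exact hadd x hx y hy hxy hanti
    obtain ⟨φ, -, hφ⟩ := exists_dual (W := (⊥ : Submodule F (ι → F))) (u := x) (by simpa using hx0)
    obtain ⟨y₁, hy₁, hy₁'⟩ := exists_dual_in hf hW hW' hc (t • φ)
    have hxy₁ : f x y₁ = t := by rw [← hy₁' x hx, LinearMap.smul_apply, hφ, smul_eq_mul, mul_one]
    have h1 := hadd x hx y₁ hy₁ (hxy₁ ▸ ht0) (by rw [hxy₁, ht])
    have h2 := hW'C _ (W'.sub_mem hy hy₁)
    have h3 := hCentres_add hf hMf h1 h2 (by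
      rw [hf.add_left, sub_right hf, sub_right hf, hxy, hxy₁, hW' y₁ hy₁ y hy, hW' y₁ hy₁ y₁ hy₁]
      simpa using ht0) (by rw [show x + y₁ + (y - y₁) = x + y by abel]; exact hvv)
    rwa [show x + y₁ + (y - y₁) = x + y by abel] at h3
  refine Or.inl (le_antisymm (fun g hg => (hHdef g).2 ⟨hMS hg, ?_⟩) hHM)
  push Not at hC
  have nc : ∀ {v : ι → F}, v ≠ 0 → v ∈ hCentres hf M → False := fun h1 h2 => hC _ h1 h2
  have gn : ∀ {u : ι → F}, u ≠ 0 → mv g u ≠ 0 := fun hu h => hu (mv_inj g (h.trans (mv_zero g).symm))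
  -- a partner for every vertex
  have partner : ∀ p ∈ W, p ≠ 0 → ∃ w ∈ W', w ≠ 0 ∧ f w p = 0 := by
    intro p hp hp0
    obtain ⟨w, hw, hwp, -, hw0⟩ := exists_avoid hf hW' hW hc.symm (U := (⊥ : Submodule F (ι → F)))
      (by rw [finrank_bot]; omega) p p
    exact ⟨w, hw, fun h => hw0 (h ▸ Submodule.zero_mem _), hwp⟩
  -- image pairs are standard
  have std : ∀ p ∈ W, p ≠ 0 → ∀ w ∈ W', w ≠ 0 → f w p = 0 →
      mv g p ∈ W ∧ mv g w ∈ W' ∨ mv g p ∈ W' ∧ mv g w ∈ W := by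
    intro p hp hp0 w hw hw0 hwp
    have hP := pairIn_conj hf hMf hg (pairIn_std hf hW hW' hc hH hp hw hwp)
    have hgf : ∀ a b, f (mv g a) (mv g b) = f a b := fun a b => hMf hg a b
    have e1 : f (mv g p) (mv g p) = 0 := by rw [hgf, hW p hp p hp]
    have e2 : f (mv g w) (mv g p) = 0 := by rw [hgf, hwp]
    have e2' : f (mv g p) (mv g w) = 0 := (f_eq_zero_comm hf).1 e2
    have e3 : f (mv g w) (mv g w) = 0 := by rw [hgf, hW' w hw w hw]
    obtain ⟨x, hx, y, hy, hxy⟩ := exists_split hc (mv g p)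
    obtain ⟨x', hx', y', hy', hxy'⟩ := exists_split hc (mv g w)
    by_cases hy0 : y = 0
    · rw [hy0, add_zero] at hxy
      by_cases hx'0 : x' = 0
      · exact Or.inl ⟨hxy ▸ hx, by rw [hxy', hx'0, zero_add]; exact hy'⟩
      exact (nc (gn hp0) (centre_of_pure hf hW hW' hc hH (hxy ▸ hx) (gn hp0) e2 hP hx' hx'0 hy' hxy')).elim
    by_cases hx0 : x = 0
    · rw [hx0, zero_add] at hxy
      by_cases hy'0 : y' = 0
      · exact Or.inr ⟨hxy ▸ hy, by rw [hxy', hy'0, add_zero]; exact hx'⟩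
      exact (nc (gn hp0) (centre_of_pure hf hW' hW hc.symm hH' (hxy ▸ hy) (gn hp0) e2 hP hy' hy'0 hx'
        (by rw [hxy', add_comm]))).elim
    have hind : mv g w ∉ Submodule.span F {mv g p} := fun h => by
      obtain ⟨m, hm⟩ := Submodule.mem_span_singleton.1 h
      have hm' : m • p = w := mv_inj g (by rw [mv_smul, hm])
      exact hw0 (hbot (hm' ▸ W.smul_mem m hp) hw)
    exfalso
    by_cases hyy : y' ∈ Submodule.span F {y} → x' ∈ Submodule.span F {x}
    · obtain ⟨v, hv0, hv⟩ := centre_of_mixed hf hW hW' hc hMS hH hk hx hy hx' hy' hx0 hy0 hk' hxy hxy' e1 e2 e3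
        hind hP hyy
      exact nc hv0 hv
    · rw [Classical.not_imp] at hyy
      obtain ⟨v, hv0, hv⟩ := centre_of_mixed hf hW' hW hc.symm hMS hH' hk' hy hx hy' hx' hy0 hx0 hk
        (by rw [hxy, add_comm]) (by rw [hxy', add_comm]) e1 e2 e3 hind hP (fun _ => hyy.1)
      exact nc hv0 hv
  have himage : ∀ p ∈ W, mv g p ∈ W ∨ mv g p ∈ W' := by
    intro p hp
    rcases eq_or_ne p 0 with rfl | hp0
    · left; rw [mv_zero]; exact W.zero_mem
    obtain ⟨w, hw, hw0, hwp⟩ := partner p hp hp0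
    exact (std p hp hp0 w hw hw0 hwp).imp And.left And.left
  have partner' : ∀ w ∈ W', w ≠ 0 → ∃ p ∈ W, p ≠ 0 ∧ f w p = 0 := by
    intro w hw hw0
    obtain ⟨p, hp, hpw, -, hp0⟩ := exists_avoid hf hW hW' hc (U := (⊥ : Submodule F (ι → F)))
      (by rw [finrank_bot]; omega) w w
    exact ⟨p, hp, fun h => hp0 (h ▸ Submodule.zero_mem _), (f_eq_zero_comm hf).1 hpw⟩
  have dich : (∀ p ∈ W, mv g p ∈ W) ∨ (∀ p ∈ W, mv g p ∈ W') := by
    by_contra h
    push Not at h
    obtain ⟨⟨p, hp, hp'⟩, q, hq, hq'⟩ := h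
    have hp'' := (himage p hp).resolve_left hp'
    have hq'' := (himage q hq).resolve_right hq'
    rcases himage (p + q) (W.add_mem hp hq) with h1 | h1
    · rw [mv_add] at h1
      exact hp' ((add_sub_cancel_right (mv g p) (mv g q)) ▸ W.sub_mem h1 hq'')
    · rw [mv_add] at h1
      exact hq' ((add_sub_cancel_left (mv g p) (mv g q)) ▸ W'.sub_mem h1 hp'')
  rcases dich with hgW | hgW
  · refine Or.inl ⟨hgW, fun w hw => ?_⟩
    rcases eq_or_ne w 0 with rfl | hw0
    · rw [mv_zero]; exact W'.zero_mem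
    obtain ⟨p, hp, hp0, hwp⟩ := partner' w hw hw0
    rcases std p hp hp0 w hw hw0 hwp with ⟨-, h2⟩ | ⟨h1, -⟩
    · exact h2
    · exact absurd (hbot (hgW p hp) h1) (gn hp0)
  · refine Or.inr ⟨hgW, fun w hw => ?_⟩
    rcases eq_or_ne w 0 with rfl | hw0
    · rw [mv_zero]; exact W.zero_mem
    obtain ⟨p, hp, hp0, hwp⟩ := partner' w hw hw0
    rcases std p hp hp0 w hw hw0 hwp with ⟨h1, -⟩ | ⟨-, h2⟩
    · exact absurd (hbot h1 (hgW p hp)) (gn hp0)
    · exact h2

end Cfsg.Agent.Transvec.Herm
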