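/-
The maximality theorem for subfield subgroups of odd prime index of special unitary groups.
-/
import Cfsg.Agent.Lib.Transvec.HermSubfield
import Cfsg.Agent.Lib.Transvec.SubfieldSL
import Mathlib.LinearAlgebra.LinearIndependent.BaseChange
set_option autoImplicit false

namespace Cfsg.Agent.Transvec.Herm

open scoped Matrix
open Matrix Cfsg.Agent.Transvec

variable {ι : Type} [Fintype ι] [DecidableEq ι] {F : Type*} [Field F] {F₀ : Subfield F}
variable {σ : F ≃+* F} {f : (ι → F) → (ι → F) → F} (hf : Geo.IsUnitaryForm σ f)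

/-- The rank of a rational matrix does not drop over the larger field. -/
theorem finrank_range_le_rank (D₀ : Matrix ι ι F₀) :
    Module.finrank F₀ (LinearMap.range D₀.mulVecLin) ≤ (D₀.map (Subtype.val : F₀ → F)).rank := by
  set R := LinearMap.range D₀.mulVecLin
  set b := Module.finBasis F₀ R
  have hi : LinearIndependent F₀ (fun i => (b i : ι → F₀)) := b.linearIndependent.map' R.subtype R.ker_subtype
  have hi' : LinearIndependent F (fun i => up (b i : ι → F₀)) :=
    (linearIndependent_algebraMap_comp_iff (R := F₀) (S := F)).2 hi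
  have h := finrank_span_eq_card hi'
  rw [Fintype.card_fin] at h
  refine h.symm.le.trans (Submodule.finrank_mono (Submodule.span_le.2 ?_))
  rintro _ ⟨i, rfl⟩
  obtain ⟨y, hy⟩ := (b i).2
  refine ⟨up y, ?_⟩
  funext j
  show ((D₀.map (F₀.subtype : F₀ → F)) *ᵥ (F₀.subtype ∘ y)) j = up (b i : ι → F₀) j
  rw [← RingHom.map_mulVec, ← hy]
  rfl

theorem finrank_pair_le (p q : ι → F) : Module.finrank F (Submodule.span F ({p, q} : Set (ι → F))) ≤ 2 := by
  classical
  refine (finrank_span_le_card _).trans ?_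
  rw [Set.toFinset_insert, Set.toFinset_singleton]
  exact Finset.card_le_two

include hf

theorem exists_isotropic_submodule [Finite F] {X : Submodule F (ι → F)} (h2 : 2 ≤ Module.finrank F X) :
    ∃ v ∈ X, v ≠ 0 ∧ f v v = 0 := by
  obtain ⟨W, hW⟩ := X.exists_isCompl
  have h := Submodule.finrank_add_eq_of_isCompl hW
  rw [Module.finrank_pi] at h
  obtain ⟨v, hv0, hv, hvv⟩ := exists_isotropic_ker hf (W.projectionOnto X hW.symm) (by omega)
  refine ⟨v, ?_, hv0, hvv⟩
  rwa [← LinearMap.mem_ker, Submodule.ker_projectionOnto] at hv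

section

variable {σ₀ : F₀ ≃+* F₀} (hσ₀ : ∀ x : F₀, (σ₀ x : F) = σ x) (hne : σ₀ ≠ RingEquiv.refl F₀)
  (hG : ∀ u v : ι → F, RatV F₀ u → RatV F₀ v → f u v ∈ F₀)
  {M : Subgroup (GL ι F)} [Fintype F]
  (hMS : M ≤ preserving (Units.coeHom (Matrix ι ι F)) f ⊓ Geo.specialLinear ι F)
  (hH : ∀ g ∈ preserving (Units.coeHom (Matrix ι ι F)) f ⊓ Geo.specialLinear ι F,
    RatM F₀ (g : Matrix ι ι F) → g ∈ M)
  (hn : 6 ≤ Fintype.card ι)
include hσ₀ hne hG hMS hH hn

theorem all_htv_mem {r : ℕ} (hr : r.Prime) (hcard : Fintype.card F = Nat.card F₀ ^ r) {u₁ : ι → F₀}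
    (hu₁0 : u₁ ≠ 0) (hu₁ : f (up u₁) (up u₁) = 0) {c : F} (hc : σ c = -c) (hcF : c ∉ F₀)
    (hcM : htv hf (up u₁) hu₁ c ∈ M) :
    M = preserving (Units.coeHom (Matrix ι ι F)) f ⊓ Geo.specialLinear ι F := by
  have hf₀ := formDown_unitary hf hσ₀ hne hG
  have hMf : M ≤ preserving (Units.coeHom (Matrix ι ι F)) f := fun g hg => (hMS hg).1
  have hgf : ∀ {g}, g ∈ M → ∀ a b, f (mv g a) (mv g b) = f a b := fun hg a b => hMf hg a b
  have hd' : ∀ {u v : ι → F₀}, formDown hG u v = 0 → f (up u) (up v) = 0 := fun h => congrArg Subtype.val h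
  have h4 : 4 ≤ Module.finrank F₀ (⊤ : Submodule F₀ (ι → F₀)) := by rw [finrank_top, Module.finrank_pi]; omega
  have hanti : ∀ {a : F₀}, σ₀ a = -a → σ (a : F) = -(a : F) := fun h => by rw [← hσ₀, h]; rfl
  set A : Set F := {d | σ d = -d ∧ ∀ (v : ι → F₀) (hv : f (up v) (up v) = 0), htv hf (up v) hv d ∈ M} with hA
  have hcA : c ∈ A := by
    refine ⟨hc, fun v hv => ?_⟩
    rcases eq_or_ne v 0 with rfl | hv0
    · rw [show htv hf (up (0 : ι → F₀)) hv c = 1 from ext_mv fun z => by
        rw [mv_htv, mv_one, up_zero, smul_zero, add_zero]]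
      exact M.one_mem
    obtain ⟨g, hg, hgu, -⟩ := exists_move hf₀ (nondeg_top hf₀) h4
      (K := M.comap (Matrix.GeneralLinearGroup.map (F₀.subtype : F₀ →+* F)))
      (fun w _ hw a ha => by
        rw [Subgroup.mem_comap, map_htv hf hσ₀ hne hG]
        exact htv_rat_mem hf hσ₀ hne hG hH _ a.2 (hanti ha))
      (Submodule.mem_top (x := u₁)) (Submodule.mem_top (x := v)) hu₁0 hv0 (Subtype.ext hu₁) (Subtype.ext hv)
    have h := M.mul_mem (M.mul_mem hg hcM) (M.inv_mem hg)
    rw [htv_conj hf (hgf hg)] at h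
    have e : mv (Matrix.GeneralLinearGroup.map (F₀.subtype : F₀ →+* F) g) (up u₁) = up v := by
      rw [mv_map, hgu]
    simpa only [e] using h
  set B : Set F := {b | ∀ u p : ι → F₀, f (up u) (up u) = 0 → f (up p) (up p) = 0 → f (up p) (up u) = 0 →
    ∃ g ∈ M, ∃ l, IsEich f g (up u) (b • up p) l} with hB
  have ident : ∀ (u : ι → F) (β : F), IsEich f 1 u (β • u) (σ β - β) := fun u β z => by
    rw [mv_one, smul_right hf]; module
  have hBadd : ∀ a ∈ B, ∀ b ∈ B, a + b ∈ B := by
    intro a ha b hb u p hu hp hpu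
    obtain ⟨g, hg, l, hgl⟩ := ha u p hu hp hpu
    obtain ⟨g', hg', l', hgl'⟩ := hb u p hu hp hpu
    exact ⟨_, M.mul_mem hg hg', _, add_smul a b (up p) ▸
      isEich_mul hf hu (by rw [hf.smul_left, hpu, mul_zero]) (by rw [hf.smul_left, hpu, mul_zero]) hgl hgl'⟩
  have hB₀ : ∀ a ∈ F₀, ∀ b ∈ B, a * b ∈ B := by
    intro a ha b hb u p hu hp hpu
    obtain ⟨g, hg, l, hgl⟩ := hb u ((⟨a, ha⟩ : F₀) • p) hu
      (by rw [up_smul, hf.smul_left, smul_right hf, hp, mul_zero, mul_zero])
      (by rw [up_smul, hf.smul_left, hpu, mul_zero])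
    exact ⟨g, hg, l, by rwa [up_smul, smul_smul, mul_comm] at hgl⟩
  have hAB : ∀ d ∈ A, d ∈ B := by
    intro d hd u p hu hp hpu
    have hpu' : f (up p + (1 : F) • up u) (up p + (1 : F) • up u) = 0 := by
      rw [one_smul, hf.add_left, add_right hf, add_right hf, hp, hu, hpu, (f_eq_zero_comm hf).1 hpu]; ring
    have h1 : htv hf (up p + (1 : F) • up u) hpu' d ∈ M := by
      have := hd.2 (p + u) (by simpa [up_add] using hpu')
      simpa only [up_add, one_smul] using this
    have h2 : htv hf (up p) hp (-d) ∈ M := by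
      have := M.inv_mem (hd.2 p hp)
      rwa [inv_eq_of_mul_eq_one_right (by rw [htv_add, add_neg_cancel, htv_zero] :
        htv hf (up p) hp d * htv hf (up p) hp (-d) = 1)] at this
    refine ⟨_, M.mul_mem h1 h2, d * 1 * σ 1, ?_⟩
    have h3 := isEich_htv_mul hf hu hp hpu (1 : F) hd.1 hpu'
    rwa [show d * σ 1 = d by rw [map_one, mul_one]] at h3
  have hBA : ∀ d ∈ A, ∀ b ∈ B, d * b ∈ B := by
    intro d hd b hb u p hu hp hpu
    by_cases hmul : p ∈ Submodule.span F₀ {u}
    · obtain ⟨m, rfl⟩ := Submodule.mem_span_singleton.1 hmul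
      rw [up_smul, smul_smul]
      exact ⟨1, M.one_mem, _, ident _ _⟩
    obtain ⟨φ, hφu, hφp⟩ := exists_dual hmul
    obtain ⟨q₀, hq₀⟩ := exists_eq_f hf₀ φ
    obtain ⟨s, hs⟩ := exists_trace hf₀.ne_refl hf₀.involutive (-formDown hG q₀ q₀)
      (by rw [map_neg, self_fixed hf₀])
    have e1 : formDown hG p q₀ = 1 := by rw [← hq₀, hφp]
    have e2 : formDown hG u q₀ = 0 := by rw [← hq₀, hφu u (Submodule.mem_span_singleton_self u)]
    have hp' : formDown hG p p = 0 := Subtype.ext hp
    have e3 : formDown hG q₀ p = 1 := by rw [hf₀.herm, e1, map_one]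
    set q := q₀ + s • p with hq
    have hqq : formDown hG q q = 0 := by
      simp only [hq, hf₀.add_left, add_right hf₀, hf₀.smul_left, smul_right hf₀, e1, e3, hp']
      linear_combination hs
    have hqu : f (up q) (up u) = 0 := by
      rw [hq, up_add, up_smul, hf.add_left, hf.smul_left, hpu,
        (f_eq_zero_comm hf).1 (congrArg Subtype.val e2 : f (up u) (up q₀) = 0), mul_zero, add_zero]
    have hqp : f (up q) (up p) = 1 := by
      rw [hq, up_add, up_smul, hf.add_left, hf.smul_left, hp, mul_zero, add_zero]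
      exact congrArg Subtype.val e3
    obtain ⟨e, he, l, hel⟩ := hb u q hu (congrArg Subtype.val hqq) hqu
    have hg := hd.2 p hp
    have h1 := isEich_conj hf (hgf hg) hel
    rw [htv_fix hf _ _ _ ((f_eq_zero_comm hf).1 hpu), mv_htv, hf.smul_left, hqp, mul_one] at h1
    have hy : f (b • up q) (up u) = 0 := by rw [hf.smul_left, hqu, mul_zero]
    have h2 := isEich_mul hf hu (by rw [hf.add_left, hy, hf.smul_left, hpu, mul_zero, add_zero])
      (by rw [neg_left hf, hy, neg_zero]) h1 (isEich_inv hf hu hy hel)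
    exact ⟨_, M.mul_mem (M.mul_mem (M.mul_mem hg he) (M.inv_mem hg)) (M.inv_mem he), _,
      (show b • up q + (d * b) • up p + -(b • up q) = (d * b) • up p by abel) ▸ h2⟩
  obtain ⟨t, ht0, ht⟩ := exists_anti hf₀.ne_refl hf₀.involutive
  have htA : (t : F) ∈ A := ⟨hanti ht, fun v hv => htv_rat_mem hf hσ₀ hne hG hH hv t.2 (hanti ht)⟩
  have ht0' : (t : F) ≠ 0 := fun h => ht0 (Subtype.ext h)
  have hone : (1 : F) ∈ B := by
    have := hB₀ _ (F₀.inv_mem t.2) _ (hAB _ htA)
    rwa [inv_mul_cancel₀ ht0'] at this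
  have hBall : ∀ b : F, b ∈ B := fun b => by
    simpa using mul_closed hr hcard hBadd hB₀ hcF (hBA c hcA) b 1 hone
  -- all anti parameters
  have hAall : ∀ d : F, σ d = -d → d ∈ A := by
    intro d hd
    refine ⟨hd, fun u hu => ?_⟩
    rcases eq_or_ne u 0 with rfl | hu0
    · rw [show htv hf (up (0 : ι → F₀)) hu d = 1 from ext_mv fun z => by
        rw [mv_htv, mv_one, up_zero, smul_zero, add_zero]]
      exact M.one_mem
    obtain ⟨w, -, huw, hww⟩ := exists_partner hf₀ (nondeg_top hf₀) (Submodule.mem_top (x := u)) hu0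
      (Subtype.ext hu)
    obtain ⟨hPn, hP2⟩ := nondeg_pair hf₀ (Subtype.ext hu) hww huw
    have hX := nondeg_orth hf₀ hPn
    have hX2 : 2 ≤ Module.finrank F₀ ↥(orth hf₀ (Submodule.span F₀ ({u, w} : Set (ι → F₀)))) := by
      have := finrank_orth_add hf₀ hPn
      rw [hP2, Module.finrank_pi] at this
      omega
    obtain ⟨e, he, he0, hee⟩ := exists_isotropic hf₀ hX hX2
    obtain ⟨q, hq, heq, hqq⟩ := exists_partner hf₀ hX he he0 hee
    have hue : f (up e) (up u) = 0 := (f_eq_zero_comm hf).1 (hd' (he u (Submodule.subset_span (Set.mem_insert _ _))))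
    have huq : f (up q) (up u) = 0 := (f_eq_zero_comm hf).1 (hd' (hq u (Submodule.subset_span (Set.mem_insert _ _))))
    obtain ⟨β, hβ⟩ := exists_trace hf.ne_refl hf.involutive 1 (map_one σ)
    obtain ⟨g, hg, l, hgl⟩ := hBall (d * β) u e hu (hd' hee) hue
    obtain ⟨g', hg', l', hgl'⟩ := hBall 1 u q hu (hd' hqq) huq
    rw [one_smul] at hgl'
    have h := M.mul_mem (M.mul_mem hg hg') (M.inv_mem (M.mul_mem hg' hg))
    rw [isEich_comm hf hu (by rw [hf.smul_left, hue, mul_zero]) huq hgl hgl'] at h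
    have e1 : f (up e) (up q) = 1 := congrArg Subtype.val heq
    have e2 : f (up q) (up e) = 1 := by rw [hf.herm, e1, map_one]
    rw [hf.smul_left, smul_right hf, e1, e2, map_mul, hd] at h
    rwa [show d * β * 1 - -d * σ β * 1 = d by linear_combination d * hβ] at h
  have hC : ∀ v : ι → F₀, f (up v) (up v) = 0 → up v ∈ hCentres hf M := fun v hv =>
    ⟨hv, fun d hd => (hAall d hd).2 v hv⟩
  -- all isotropic vectors
  refine eq_su hf (by omega) hMS fun x hxx => ?_
  by_cases hx : ∃ u : ι → F₀, f (up u) (up u) = 0 ∧ f x (up u) ≠ 0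
  swap
  · push Not at hx
    have hx0 : x = 0 := by
      by_contra h
      obtain ⟨⟨y, hy⟩, -⟩ := hf.nondegenerate x h
      refine hy (LinearMap.congr_fun (dual_ext_zero (φ := formH hf x) fun i => ?_) y)
      have hmem := isotropic_span hf₀ (nondeg_top hf₀) (by omega) (Submodule.mem_top (x := Pi.single i (1 : F₀)))
      rw [formH_apply, ← up_single (F₀ := F₀)]
      generalize (Pi.single i (1 : F₀) : ι → F₀) = w at hmem ⊢
      induction hmem using Submodule.span_induction with
      | mem v hv => exact (f_eq_zero_comm hf).1 (hx v (congrArg Subtype.val hv.2))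
      | zero => rw [up_zero, zero_left hf]
      | add a b _ _ iha ihb => rw [up_add, hf.add_left, iha, ihb, add_zero]
      | smul a b _ ihb => rw [up_smul, hf.smul_left, ihb, mul_zero]
    have := hCentres_smul hf (hC 0 (by rw [up_zero, zero_left hf])) (0 : F)
    rwa [zero_smul, ← hx0] at this
  obtain ⟨u, huu, hxu⟩ := hx
  have hu0 : u ≠ 0 := fun h => hxu (by rw [h, up_zero, zero_right hf])
  obtain ⟨w, -, huw, hww'⟩ := exists_partner hf₀ (nondeg_top hf₀) (Submodule.mem_top (x := u)) hu0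
    (Subtype.ext huu)
  have huw' : f (up u) (up w) = 1 := congrArg Subtype.val huw
  have hwu : f (up w) (up u) = 1 := by rw [hf.herm, huw', map_one]
  have hww : f (up w) (up w) = 0 := hd' hww'
  set P : Set (ι → F) := {y | f y (up u) = 0 ∧ ∃ e ∈ M, ∃ l, IsEich f e (up u) y l} with hP
  have Padd : ∀ a b, a ∈ P → b ∈ P → a + b ∈ P := by
    rintro a b ⟨ha, e, he, l, hel⟩ ⟨hb, e', he', l', hel'⟩
    exact ⟨by rw [hf.add_left, ha, hb, add_zero], _, M.mul_mem he he', _, isEich_mul hf huu ha hb hel hel'⟩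
  have P0 : (0 : ι → F) ∈ P := ⟨zero_left hf _, 1, M.one_mem, _, by simpa using ident (up u) 0⟩
  obtain ⟨hPn, hP2⟩ := nondeg_pair hf₀ (Subtype.ext huu) hww' huw
  have hX := nondeg_orth hf₀ hPn
  have hX2 : 2 ≤ Module.finrank F₀ ↥(orth hf₀ (Submodule.span F₀ ({u, w} : Set (ι → F₀)))) := by
    have := finrank_orth_add hf₀ hPn
    rw [hP2, Module.finrank_pi] at this
    omega
  have PX : ∀ q ∈ orth hf₀ (Submodule.span F₀ ({u, w} : Set (ι → F₀))), ∀ b : F, b • up q ∈ P := by
    intro q hq
    have hmem := isotropic_span hf₀ hX hX2 hq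
    clear hq
    induction hmem using Submodule.span_induction with
    | mem v hv =>
      intro b
      have hvu : f (up v) (up u) = 0 :=
        (f_eq_zero_comm hf).1 (hd' (hv.1 u (Submodule.subset_span (Set.mem_insert _ _))))
      obtain ⟨g, hg, l, hgl⟩ := hBall b u v huu (hd' hv.2) hvu
      exact ⟨by rw [hf.smul_left, hvu, mul_zero], g, hg, l, hgl⟩
    | zero => intro b; rw [up_zero, smul_zero]; exact P0
    | add a b' _ _ iha ihb => intro b; rw [up_add, smul_add]; exact Padd _ _ (iha b) (ihb b)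
    | smul a b' _ ihb => intro b; rw [up_smul, smul_smul]; exact ihb _
  have Pu : ∀ q : ι → F₀, f (up q) (up u) = 0 → ∀ b : F, b • up q ∈ P := by
    intro q hq b
    set a := formDown hG q w with ha
    have hmem : q - a • u ∈ orth hf₀ (Submodule.span F₀ ({u, w} : Set (ι → F₀))) := by
      intro v hv
      obtain ⟨m₁, m₂, rfl⟩ := Submodule.mem_span_pair.1 hv
      have e1 : formDown hG u (q - a • u) = 0 := by
        rw [sub_right hf₀, smul_right hf₀, show formDown hG u u = 0 from Subtype.ext huu,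
          show formDown hG u q = 0 from Subtype.ext ((f_eq_zero_comm hf).1 hq), mul_zero, sub_zero]
      have e2 : formDown hG w (q - a • u) = 0 := by
        rw [sub_right hf₀, smul_right hf₀, show formDown hG w u = 1 from Subtype.ext hwu, mul_one, ha,
          ← hf₀.herm, sub_self]
      rw [hf₀.add_left, hf₀.smul_left, hf₀.smul_left, e1, e2, mul_zero, mul_zero, add_zero]
    have := Padd _ _ (PX _ hmem b) (⟨by rw [hf.smul_left, huu, mul_zero], 1, M.one_mem, _,
      ident (up u) (b * (a : F))⟩ : (b * (a : F)) • up u ∈ P)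
    rwa [show b • up (q - a • u) + (b * (a : F)) • up u = b • up q by
      rw [← smul_smul, ← smul_add, ← up_smul, ← up_add, sub_add_cancel]] at this
  have Pall : ∀ y, f y (up u) = 0 → y ∈ P := by
    intro y hy
    set φ : ι → ι → F := fun i => up ((Pi.single i (1 : F₀)) - formDown hG (Pi.single i 1) u • w) with hφ
    have hφ' : ∀ i, φ i = Pi.single i 1 - f (Pi.single i 1) (up u) • up w := fun i => by
      rw [hφ]
      funext j
      simp only [Pi.sub_apply, Pi.smul_apply, smul_eq_mul]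
      rw [← up_single (F₀ := F₀) (ι := ι) i]
      rfl
    have hsum : y = ∑ i, y i • φ i := by
      have h1 : f y (up u) = ∑ i, y i * f (Pi.single i 1) (up u) := by
        conv_lhs => rw [show f y (up u) = formH hf (up u) y from rfl, pi_eq_sum_univ' y, map_sum]
        simp [formH_apply, hf.smul_left]
      simp only [hφ', smul_sub, smul_smul, Finset.sum_sub_distrib, ← Finset.sum_smul, ← h1, hy, zero_smul,
        sub_zero]
      exact pi_eq_sum_univ' y
    rw [hsum]
    refine Finset.sum_induction _ (· ∈ P) Padd P0 fun i _ => Pu _ ?_ _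
    show f (φ i) (up u) = 0
    rw [hφ', sub_left hf, hf.smul_left, hwu, mul_one, sub_self]
  set α := f x (up u) with hα
  set v := α • up w with hv
  have hvC : v ∈ hCentres hf M := hCentres_smul hf (hC w hww) _
  have hvu : f v (up u) = α := by rw [hv, hf.smul_left, hwu, mul_one]
  set y := α⁻¹ • (x - v) with hy
  have hyu : f y (up u) = 0 := by rw [hy, hf.smul_left, sub_left hf, hvu, sub_self, mul_zero]
  obtain ⟨-, e, he, l, hel⟩ := Pall y hyu
  have hl : l + σ l + f y y = 0 := by
    have h := hgf he (up w) (up w)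
    rw [hel, hww, hwu] at h
    simp only [hf.add_left, add_right hf, hf.smul_left, smul_right hf, hww, huu, hwu,
      (hf.herm (up u) (up w)).trans (by rw [hwu, map_one] : σ (f (up w) (up u)) = 1), hyu,
      (f_eq_zero_comm hf).1 hyu, map_sub, map_mul, map_one] at h
    rw [hf.herm y (up w)] at h
    linear_combination h
  set m := f v x / (α * σ α) with hm
  have hσα : σ α ≠ 0 := fun h => hxu ((map_eq_zero_iff σ σ.injective).1 h)
  have hm' : m + σ m + f y y = 0 := by
    rw [hy, hf.smul_left, smul_right hf, sub_left hf, sub_right hf, sub_right hf, hxx, hvC.1, hm, map_div₀,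
      map_mul, hf.involutive, map_inv₀, hf.herm x v]
    field_simp
    ring
  have hcm : σ (m - l) = -(m - l) := by rw [map_sub]; linear_combination hm' - hl
  have hgM := M.mul_mem ((hC u huu).2 _ hcm) he
  have := hCentres_mv hf hMf hgM hvC
  have hgv : mv (htv hf (up u) (hC u huu).1 (m - l) * e) v = x := by
    have e1 : f (α • y) (up u) = 0 := by rw [hf.smul_left, hyu, mul_zero]
    have e2 : ∀ d : F, f (d • up u) (up u) = 0 := fun d => by rw [hf.smul_left, huu, mul_zero]
    rw [mv_mul, hel, hvu, mv_htv, hf.add_left, hf.add_left, hvu, e1, e2]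
    have hvy : f v y = (σ α)⁻¹ * f v x := by rw [hy, smul_right hf, sub_right hf, hvC.1, sub_zero, map_inv₀]
    have hy' : α • y = x - v := by rw [hy, smul_smul, mul_inv_cancel₀ hxu, one_smul]
    rw [hvy, hy', hm]
    simp only [mul_zero, add_zero]
    rw [show v + (x - v) = x by abel, add_assoc, ← add_smul,
      show l * α - (σ α)⁻¹ * f v x + (f v x / (α * σ α) - l) * α = 0 by field_simp; ring, zero_smul, add_zero]
  rwa [hgv] at this

theorem srat_of_conj (hB : ∀ (u : ι → F₀) (hu : f (up u) (up u) = 0), u ≠ 0 → ∀ c : F, σ c = -c →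
      htv hf (up u) hu c ∈ M → c ∈ F₀)
    {g x x' : GL ι F} (hg : g ∈ M) (hx : x ∈ M) (hx' : x' ∈ M) (hx'2 : x' * x' = 1)
    (hxR : RatM F₀ (x : Matrix ι ι F)) (hx'R : RatM F₀ (x' : Matrix ι ι F)) (hx1 : x ≠ 1)
    (hrank : ((x : Matrix ι ι F) - 1).rank + 2 ≤ Fintype.card ι) (hgx : g * x = x' * g) : SRat F₀ g := by
  have hf₀ := formDown_unitary hf hσ₀ hne hG
  set D₀ : Matrix ι ι F₀ := fun i j => ⟨_, ratM_sub hxR ratM_one i j⟩ with hD₀
  set E₀ : Matrix ι ι F₀ := fun i j => ⟨_, ratM_sub hx'R ratM_one i j⟩ with hE₀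
  have hDv : ∀ v : ι → F₀, up (D₀ *ᵥ v) = mv x (up v) - up v := fun v => by
    funext i
    show ((∑ k, D₀ i k * v k : F₀) : F) = _
    rw [AddSubmonoidClass.coe_finsetSum]
    show ∑ k, ((x : Matrix ι ι F) - 1) i k * up v k = _
    exact congrFun (show ((x : Matrix ι ι F) - 1) *ᵥ up v = mv x (up v) - up v by
      rw [Matrix.sub_mulVec, Matrix.one_mulVec]) i
  have hEv : ∀ v : ι → F₀, up (E₀ *ᵥ v) = mv x' (up v) - up v := fun v => by
    funext i
    show ((∑ k, E₀ i k * v k : F₀) : F) = _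
    rw [AddSubmonoidClass.coe_finsetSum]
    show ∑ k, ((x' : Matrix ι ι F) - 1) i k * up v k = _
    exact congrFun (show ((x' : Matrix ι ι F) - 1) *ᵥ up v = mv x' (up v) - up v by
      rw [Matrix.sub_mulVec, Matrix.one_mulVec]) i
  -- a rational isotropic vector fixed by x
  obtain ⟨v, hv0, hv, hvv⟩ := exists_isotropic_ker hf₀ D₀.mulVecLin.rangeRestrict (by
    have h := finrank_range_le_rank D₀
    rw [show D₀.map (Subtype.val : F₀ → F) = (x : Matrix ι ι F) - 1 from rfl] at h
    omega)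
  have hxv : mv x (up v) = up v := by
    have h := hDv v
    rw [show D₀ *ᵥ v = 0 from congrArg Subtype.val hv, up_zero] at h
    exact sub_eq_zero.1 h.symm
  have hx'v : mv x' (mv g (up v)) = mv g (up v) := by rw [← mv_mul, ← hgx, mv_mul, hxv]
  have horth : ∀ z, f (mv x' z - z) (mv g (up v)) = 0 := fun z => by
    have := (hMS hx').1 z (mv g (up v))
    change f (mv x' z) (mv x' (mv g (up v))) = _ at this
    rw [hx'v] at this
    rw [sub_left hf, this, sub_self]
  -- a rational isotropic vector in the image of x' - 1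
  obtain ⟨u, hu0, huu, ⟨z, hz⟩⟩ : ∃ u : ι → F₀, u ≠ 0 ∧ formDown hG u u = 0 ∧ u ∈ LinearMap.range E₀.mulVecLin := by
    by_cases h2 : 2 ≤ Module.finrank F₀ (LinearMap.range E₀.mulVecLin)
    · obtain ⟨u, hu, hu0, huu⟩ := exists_isotropic_submodule hf₀ h2
      exact ⟨u, hu0, huu, hu⟩
    -- x' is a transvection
    have hx'1 : x' ≠ 1 := fun h => hx1 (by rw [h, one_mul] at hgx; simpa using hgx)
    obtain ⟨j, hj⟩ : ∃ j, E₀ *ᵥ Pi.single j 1 ≠ 0 := by
      by_contra hc
      push Not at hc
      refine hx'1 (ext_mv fun z => ?_)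
      have hzero : ∀ j, ((x' : Matrix ι ι F) - 1) *ᵥ Pi.single j 1 = 0 := fun j => by
        rw [← up_single (F₀ := F₀) j, Matrix.sub_mulVec, Matrix.one_mulVec]
        show mv x' _ - _ = 0
        rw [← hEv, hc j, up_zero]
      have h0 : (x' : Matrix ι ι F) - 1 = 0 :=
        Matrix.ext_of_mulVec_single fun j => by rw [hzero j, Matrix.zero_mulVec]
      rw [mv_one, mv, sub_eq_zero.1 h0, Matrix.one_mulVec]
    set p := E₀ *ᵥ Pi.single j 1 with hp
    have hspan : ∀ k, ∃ a : F₀, a • p = E₀ *ᵥ Pi.single k 1 := by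
      intro k
      have hle : Submodule.span F₀ {p} ≤ LinearMap.range E₀.mulVecLin := by
        rw [Submodule.span_singleton_le_iff_mem]; exact ⟨_, rfl⟩
      have heq := Submodule.eq_of_le_of_finrank_le hle (by rw [finrank_span_singleton hj]; omega)
      exact Submodule.mem_span_singleton.1 (heq.ge ⟨_, rfl⟩)
    choose a ha using hspan
    set φ : Module.Dual F (ι → F) := dotDual fun k => (a k : F) with hφ
    have hA : (x' : Matrix ι ι F) = tvMat (up p) φ := by
      refine Matrix.ext_of_mulVec_single fun k => ?_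
      have h := hEv (Pi.single k 1)
      rw [← ha k, up_smul, up_single] at h
      rw [tvMat_mulVec, hφ, dotDual_single, h]
      show mv x' _ = _
      abel
    have hφp : φ (up p) = 0 := by
      have h := det_tvMat (up p) φ
      rw [← hA] at h
      have h' : (x' : Matrix ι ι F).det = 1 := congrArg Units.val (MonoidHom.mem_ker.1 (hMS hx').2)
      rw [h'] at h
      linear_combination -h
    have hmvx : ∀ z, mv x' z = z + φ z • up p := fun z => by rw [mv, hA, tvMat_mulVec]
    refine ⟨p, hj, ?_, ⟨_, rfl⟩⟩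
    have hej : φ (Pi.single j 1) = 1 := by
      have h := hEv (Pi.single j 1)
      rw [← hp, up_single, hmvx, add_sub_cancel_left] at h
      obtain ⟨k, hk⟩ := Function.ne_iff.1 (up_ne_zero (F := F) hj)
      have h' := congrFun h k
      simp only [Pi.smul_apply, smul_eq_mul] at h'
      exact (mul_right_cancel₀ hk ((one_mul _).trans h')).symm
    have h2 : (2 : F) = 0 := by
      have h := congrArg (fun g => mv g (Pi.single j 1)) hx'2
      simp only [mv_mul, mv_one, hmvx, map_add, map_smul, hφp, hej, smul_zero, add_zero, one_smul] at h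
      have h' : (2 : F) • up p = 0 := by linear_combination (norm := module) h
      exact (smul_eq_zero.1 h').resolve_right (up_ne_zero hj)
    have h := (hMS hx').1 (Pi.single j 1) (Pi.single j 1)
    change f (mv x' _) (mv x' _) = _ at h
    have hs := (hMS hx').1 (mv x' (Pi.single j 1)) (Pi.single j 1)
    change f (mv x' _) (mv x' _) = _ at hs
    rw [← mv_mul, hx'2, mv_one] at hs
    simp only [hmvx, hej, one_smul, hf.add_left, add_right hf] at h hs
    refine Subtype.ext ?_
    show f (up p) (up p) = 0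
    linear_combination h - hs - f (up p) (Pi.single j 1) * h2
  have huline : RatLine F₀ (mv g (up v)) := by
    obtain ⟨t, ht0, ht⟩ := exists_anti hf₀.ne_refl hf₀.involutive
    have ht' : σ (t : F) = -(t : F) := by rw [← hσ₀, ht]; rfl
    have hgf : ∀ a b, f (mv g a) (mv g b) = f a b := fun a b => (hMS hg).1 a b
    have hvv' : f (up v) (up v) = 0 := congrArg Subtype.val hvv
    refine ratLine_centre_herm hf hσ₀ hne hG hMS hH hn hB (x := mv g (up v)) (by rw [hgf, hvv'])
      (fun h => ht0 (Subtype.ext h)) ht' ?_ hu0 (congrArg Subtype.val huu) ?_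
    · rw [← htv_conj hf hgf (up v) hvv']
      exact M.mul_mem (M.mul_mem hg (htv_rat_mem hf hσ₀ hne hG hH hvv' t.2 ht')) (M.inv_mem hg)
    · rw [← hz, Matrix.mulVecLin_apply, hEv]
      exact horth _
  exact srat_of_one_line hf hσ₀ hne hG hMS hH hn hB hg hv0 (congrArg Subtype.val hvv) huline

omit hn in
/-- In odd characteristic an isotropic vector meets rational isotropic vectors in rational norms. -/
theorem norm_mem_of_centre {r : ℕ} (hr : r.Prime) (hr2 : r ≠ 2) (hcard : Fintype.card F = Nat.card F₀ ^ r)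
    (h2 : (2 : F) ≠ 0)
    (hB : ∀ (u : ι → F₀) (hu : f (up u) (up u) = 0), u ≠ 0 → ∀ c : F, σ c = -c →
      htv hf (up u) hu c ∈ M → c ∈ F₀)
    {x : ι → F} (hx : f x x = 0) (hxM : ∀ d : F₀, σ₀ d = -d → htv hf x hx (d : F) ∈ M)
    (u : ι → F₀) (hu : f (up u) (up u) = 0) : f x (up u) * σ (f x (up u)) ∈ F₀ := by
  have hf₀ := formDown_unitary hf hσ₀ hne hG
  obtain ⟨t, ht0, ht⟩ := exists_anti hf₀.ne_refl hf₀.involutive
  have ht' : σ (t : F) = -(t : F) := by rw [← hσ₀, ht]; rfl
  have ht0' : (t : F) ≠ 0 := fun h => ht0 (Subtype.ext h)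
  set δ := f x (up u) with hδ
  set N := δ * σ δ with hN
  by_contra hNF
  have hδ0 : δ ≠ 0 := fun h => hNF (by rw [hN, h, zero_mul]; exact F₀.zero_mem)
  have hu0 : u ≠ 0 := fun h => hδ0 (by rw [hδ, h, up_zero, zero_right hf])
  have hσδ : σ δ ≠ 0 := fun h => hδ0 ((map_eq_zero_iff σ σ.injective).1 h)
  have hN0 : N ≠ 0 := mul_ne_zero hδ0 hσδ
  have hxu : f (up u) x = σ δ := hf.herm _ _
  set w : ι → F := δ⁻¹ • x with hw
  set χ : Module.Dual F (ι → F) := formH hf w with hχ
  set ψ : Module.Dual F (ι → F) := formH hf (up u) with hψ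
  have h1 : χ (up u) = 1 := by
    rw [hχ, formH_apply, hw, smul_right hf, map_inv₀, hxu, inv_mul_cancel₀ hσδ]
  have h2' : χ w = 0 := by rw [hχ, formH_apply, hw, hf.smul_left, smul_right hf, hx, mul_zero, mul_zero]
  have h3 : ψ (up u) = 0 := by rw [hψ, formH_apply, hu]
  have h4 : ψ w = 1 := by rw [hψ, formH_apply, hw, hf.smul_left, ← hδ, inv_mul_cancel₀ hδ0]
  let e : Matrix (Fin 2) (Fin 2) (fixedField σ) → Matrix (Fin 2) (Fin 2) F :=
    fun B => !![(B 0 0 : F), (t : F) * (B 0 1 : F); (B 1 0 : F) / (t : F), (B 1 1 : F)]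
  have he : ∀ A B, e (A * B) = e A * e B := fun A B => by
    ext i j
    fin_cases i <;> fin_cases j <;>
      simp [e, Matrix.mul_apply, Fin.sum_univ_two] <;> field_simp <;> ring
  have he1 : e 1 = 1 := by
    ext i j
    fin_cases i <;> fin_cases j <;> simp [e]
  let Φ : Matrix.SpecialLinearGroup (Fin 2) (fixedField σ) →* GL ι F :=
    MonoidHom.toHomUnits
      { toFun := fun B => planeMap (up u) w χ ψ (e (B : Matrix (Fin 2) (Fin 2) (fixedField σ)))
        map_one' := by
          rw [Matrix.SpecialLinearGroup.coe_one, he1]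
          exact planeMap_one _ _ _ _
        map_mul' := fun A B => by
          rw [Matrix.SpecialLinearGroup.coe_mul, he, planeMap_mul h1 h2' h3 h4] }
  have hΦ : ∀ (B : Matrix.SpecialLinearGroup (Fin 2) (fixedField σ)) z,
      mv (Φ B) z = planeMap (up u) w χ ψ (e (B : Matrix (Fin 2) (Fin 2) (fixedField σ))) *ᵥ z :=
    fun B z => rfl
  have hupp : ∀ a : fixedField σ, Φ (PStable.upp a) = htv hf (up u) hu ((t : F) * (a : F)) :=
    fun a => ext_mv fun z => by
      rw [hΦ, planeMap_mulVec, mv_htv, PStable.upp_val]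
      simp [e, hψ, formH_apply]
  have hlow : ∀ a : fixedField σ, Φ (PStable.low a) = htv hf x hx ((a : F) / ((t : F) * N)) :=
    fun a => ext_mv fun z => by
      rw [hΦ, planeMap_mulVec, mv_htv, PStable.low_val]
      simp only [e, hχ, hw, formH_apply, smul_right hf, map_inv₀, Matrix.of_apply, Matrix.cons_val',
        Matrix.cons_val_zero, Matrix.cons_val_one, Matrix.cons_val_fin_one, ZeroMemClass.coe_zero,
        OneMemClass.coe_one, sub_self, zero_mul, mul_zero, add_zero, zero_smul, smul_smul, zero_div]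
      congr 2
      rw [hN]
      field_simp
  set k : Subfield (fixedField σ) := F₀.comap (fixedField σ).subtype with hk
  have hkmem : ∀ a : fixedField σ, a ∈ k ↔ (a : F) ∈ F₀ := fun a => Iff.rfl
  haveI : Fintype (fixedField σ) := Fintype.ofFinite _
  have hcardk : Fintype.card (fixedField σ) = Nat.card k ^ r := by
    have h := card_eq_sq hf.ne_refl hf.involutive
    have h₀ := card_eq_sq hf₀.ne_refl hf₀.involutive
    have hek : Nat.card k = Nat.card (fixedField σ₀) := Nat.card_congr
      { toFun := fun a => ⟨⟨((a : fixedField σ) : F), a.2⟩, Subtype.ext (by rw [hσ₀]; exact (a : fixedField σ).2)⟩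
        invFun := fun a => ⟨⟨((a : F₀) : F), by
          have := congrArg Subtype.val (a.2 : σ₀ (a : F₀) = a)
          rwa [hσ₀] at this⟩, (a : F₀).2⟩
        left_inv := fun a => rfl
        right_inv := fun a => rfl }
    rw [Nat.card_eq_fintype_card (α := F), hcard, h₀, ← pow_mul, mul_comm, pow_mul] at h
    rw [← Nat.card_eq_fintype_card, hek]
    exact (Nat.pow_left_injective (by norm_num) h).symm
  have htt : σ ((t : F) * t) = (t : F) * t := by rw [map_mul, ht', neg_mul_neg]
  have hNfix : σ N = N := by rw [hN, map_mul, hf.involutive, mul_comm]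
  let lam : fixedField σ :=
    ⟨(t : F) * t * N, show σ ((t : F) * t * N) = _ by rw [map_mul, htt, hNfix]⟩
  have hlam : lam ∉ k := fun h => hNF (by
    have := F₀.div_mem ((hkmem _).1 h) (F₀.mul_mem t.2 t.2)
    rwa [show (lam : F) / ((t : F) * t) = N from mul_div_cancel_left₀ _ (mul_ne_zero ht0' ht0')] at this)
  have hanti : ∀ a : k, σ₀ (⟨((a : fixedField σ) : F), a.2⟩ * t) = -(⟨((a : fixedField σ) : F), a.2⟩ * t) :=
    fun a => Subtype.ext (by
      show _ = -(((a : fixedField σ) : F) * (t : F))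
      rw [hσ₀]
      show σ (((a : fixedField σ) : F) * (t : F)) = _
      rw [map_mul, ht', show σ ((a : fixedField σ) : F) = (a : fixedField σ) from (a : fixedField σ).2, mul_neg])
  have hsub : DicksonAlpha.grp (k := k) lam ≤ M.comap Φ := by
    rw [DicksonAlpha.grp, Subgroup.closure_le]
    rintro _ (⟨c, rfl⟩ | ⟨c, rfl⟩) <;> rw [SetLike.mem_coe, Subgroup.mem_comap]
    · rw [hupp]
      refine htv_rat_mem hf hσ₀ hne hG hH hu (F₀.mul_mem t.2 c.2) ?_
      show σ ((t : F) * ((c : fixedField σ) : F)) = _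
      rw [map_mul, ht', show σ ((c : fixedField σ) : F) = (c : fixedField σ) from (c : fixedField σ).2, neg_mul]
      rfl
    · rw [hlow]
      have := hxM _ (hanti c)
      rwa [show ((algebraMap k (fixedField σ) c * lam : fixedField σ) : F) / ((t : F) * N) =
        (((⟨((c : fixedField σ) : F), c.2⟩ * t : F₀)) : F) by
          show ((c : fixedField σ) : F) * ((t : F) * t * N) / ((t : F) * N) = ((c : fixedField σ) : F) * (t : F)
          field_simp]
  have h2k : (2 : k) ≠ 0 := fun e' => h2 (by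
    have := congrArg ((fixedField σ).subtype.comp k.subtype) e'
    rwa [map_ofNat, map_zero] at this)
  rcases DicksonAlpha.finite_case' h2k (adjoin_eq_top hr hcardk hlam)
      (fun e' => hlam (e' ▸ k.zero_mem)) with htop | ⟨hk3, γ, -, hγ⟩
  · have := hsub (htop ▸ Subgroup.mem_top (PStable.upp lam))
    rw [Subgroup.mem_comap, hupp] at this
    refine hlam ((hkmem _).2 ?_)
    have h5 := F₀.div_mem (hB u hu hu0 _ (by
      rw [map_mul, ht', show σ (lam : F) = lam from lam.2, neg_mul]) this) t.2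
    rwa [mul_div_cancel_left₀ _ ht0'] at h5
  · have e' := congrArg (fun A : Matrix.SpecialLinearGroup (Fin 2) (fixedField σ) =>
      (A : Matrix (Fin 2) (Fin 2) (fixedField σ))) hγ
    simp only [Matrix.SpecialLinearGroup.coe_mul, PStable.upp_val] at e'
    have e00 := congrFun (congrFun e' 0) 0
    have e01 := congrFun (congrFun e' 0) 1
    have hd := PStable.det_one γ
    simp [Matrix.mul_apply, Fin.sum_univ_two] at e00 e01
    have hsq : (γ.1 0 0) ^ 2 = -1 := by
      linear_combination -hd + γ.1 0 0 * e01 - γ.1 0 1 * e00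
    have hm := sq_mem_imp hr hr2 hcardk (γ.1 0 0) (hsq ▸ k.neg_mem k.one_mem)
    haveI : Fintype k := Fintype.ofFinite _
    set y : k := ⟨_, hm⟩
    have hy : y ^ 2 = -1 := Subtype.ext (by simpa using hsq)
    have hy3 := FiniteField.pow_card y
    rw [← Nat.card_eq_fintype_card, hk3] at hy3
    have hy0 : y ≠ 0 := fun e0 => by simp [e0] at hy
    apply h2k
    have : y ^ 2 = 1 := mul_right_cancel₀ hy0 (by rw [one_mul, ← pow_succ, hy3])
    linear_combination hy - this

/-- In odd characteristic the centre of a rational family of transvections in M is a rational line. -/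
theorem ratLine_odd {r : ℕ} (hr : r.Prime) (hr2 : r ≠ 2) (hcard : Fintype.card F = Nat.card F₀ ^ r)
    (h2 : (2 : F) ≠ 0)
    (hB : ∀ (u : ι → F₀) (hu : f (up u) (up u) = 0), u ≠ 0 → ∀ c : F, σ c = -c →
      htv hf (up u) hu c ∈ M → c ∈ F₀)
    {x : ι → F} (hx : f x x = 0) (hxM : ∀ d : F₀, σ₀ d = -d → htv hf x hx (d : F) ∈ M) :
    RatLine F₀ x := by
  have hf₀ := formDown_unitary hf hσ₀ hne hG
  have hroot := sq_mem_imp hr hr2 hcard
  have norm_mem := norm_mem_of_centre hf hσ₀ hne hG hMS hH hr hr2 hcard h2 hB hx hxM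
  obtain ⟨t, ht0, ht⟩ := exists_anti hf₀.ne_refl hf₀.involutive
  have ht' : σ (t : F) = -(t : F) := by rw [← hσ₀, ht]; rfl
  have ht0' : (t : F) ≠ 0 := fun h => ht0 (Subtype.ext h)
  have h22 : (2 : F) ∈ F₀ := by simpa using natCast_mem F₀ 2
  -- values on a hyperbolic pair
  have pair : ∀ e d : ι → F₀, formDown hG e e = 0 → formDown hG d d = 0 → formDown hG e d = 1 →
      f x (up d) * σ (f x (up e)) ∈ F₀ := by
    intro e d hee hdd hed
    have hde : formDown hG d e = 1 := by rw [hf₀.herm, hed, map_one]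
    have hs : formDown hG (e + t • d) (e + t • d) = 0 := by
      simp only [hf₀.add_left, add_right hf₀, hf₀.smul_left, smul_right hf₀, hee, hdd, hed, hde, ht]
      ring
    have Na := norm_mem e (congrArg Subtype.val hee)
    have Nb := norm_mem d (congrArg Subtype.val hdd)
    have Ns := norm_mem (e + t • d) (congrArg Subtype.val hs)
    rw [up_add, up_smul, add_right hf, smul_right hf, map_add, map_mul, hf.involutive, ht'] at Ns
    set a := f x (up e) with ha
    set b := f x (up d) with hb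
    have hD : σ a * b - a * σ b ∈ F₀ := by
      have := F₀.div_mem (F₀.sub_mem Ns (F₀.sub_mem Na
        (F₀.mul_mem (F₀.mul_mem t.2 t.2) Nb))) (F₀.neg_mem t.2)
      refine (congrArg (· ∈ F₀) ?_).mp this
      field_simp
      ring
    have hS : σ a * b + a * σ b ∈ F₀ := hroot _ (by
      have := F₀.add_mem (F₀.mul_mem hD hD) (F₀.mul_mem (F₀.mul_mem h22 h22) (F₀.mul_mem Na Nb))
      refine (congrArg (· ∈ F₀) ?_).mp this
      ring)
    have := F₀.div_mem (F₀.add_mem hD hS) h22
    refine (congrArg (· ∈ F₀) ?_).mp this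
    field_simp
    ring
  by_cases hx0 : x = 0
  · exact ⟨1, one_ne_zero, fun i => by simp [hx0]⟩
  obtain ⟨e, hee, he⟩ : ∃ e : ι → F₀, formDown hG e e = 0 ∧ f x (up e) ≠ 0 := by
    by_contra h
    push Not at h
    obtain ⟨⟨y, hy⟩, -⟩ := hf.nondegenerate x hx0
    refine hy (LinearMap.congr_fun (dual_ext_zero (φ := formH hf x) fun i => ?_) y)
    have hmem := isotropic_span hf₀ (nondeg_top hf₀) (by rw [finrank_top, Module.finrank_pi]; omega)
      (Submodule.mem_top (x := Pi.single i (1 : F₀)))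
    rw [formH_apply, ← up_single (F₀ := F₀)]
    generalize (Pi.single i (1 : F₀) : ι → F₀) = w at hmem ⊢
    induction hmem using Submodule.span_induction with
    | mem v hv => exact (f_eq_zero_comm hf).1 (h v hv.2)
    | zero => rw [up_zero, zero_left hf]
    | add a b _ _ iha ihb => rw [up_add, hf.add_left, iha, ihb, add_zero]
    | smul a b _ ihb => rw [up_smul, hf.smul_left, ihb, mul_zero]
  have he0 : e ≠ 0 := fun h => he (by rw [h, up_zero, zero_right hf])
  obtain ⟨d, -, hed, hdd⟩ := exists_partner hf₀ (nondeg_top hf₀) (Submodule.mem_top (x := e)) he0 hee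
  have hde : formDown hG d e = 1 := by rw [hf₀.herm, hed, map_one]
  refine ⟨σ (f x (up e)), fun h => he ((map_eq_zero_iff σ σ.injective).1 h),
    ratV_of_herm hf hσ₀ hne hG fun w => ?_⟩
  rw [hf.smul_left]
  set v := w - formDown hG w d • e - formDown hG w e • d with hv
  have hve : formDown hG v e = 0 := by
    rw [hv, sub_left hf₀, sub_left hf₀, hf₀.smul_left, hf₀.smul_left, hee, hde]
    ring
  have hvd : formDown hG v d = 0 := by
    rw [hv, sub_left hf₀, sub_left hf₀, hf₀.smul_left, hf₀.smul_left, hed, hdd]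
    ring
  obtain ⟨c, hc⟩ := exists_trace hf₀.ne_refl hf₀.involutive (-formDown hG v v) (by rw [map_neg, self_fixed hf₀])
  have hd' : formDown hG (d + v + c • e) (d + v + c • e) = 0 := by
    simp only [hf₀.add_left, add_right hf₀, hf₀.smul_left, smul_right hf₀, hee, hdd, hde, hed, hve, hvd,
      (f_eq_zero_comm hf₀).1 hve, (f_eq_zero_comm hf₀).1 hvd]
    linear_combination hc
  have hed' : formDown hG e (d + v + c • e) = 1 := by
    simp only [add_right hf₀, smul_right hf₀, hed, hee, (f_eq_zero_comm hf₀).1 hve]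
    ring
  have p1 := pair e d hee hdd hed
  have p2 := pair e _ hee hd' hed'
  have Na := norm_mem e (congrArg Subtype.val hee)
  rw [up_add, up_add, up_smul, add_right hf, add_right hf, smul_right hf, ← hσ₀ c] at p2
  have hw' : w = v + formDown hG w d • e + formDown hG w e • d := by rw [hv]; abel
  rw [hw', up_add, up_add, up_smul, up_smul, add_right hf, add_right hf, smul_right hf, smul_right hf,
    ← hσ₀, ← hσ₀]
  have hmv : σ (f x (up e)) * f x (up v) ∈ F₀ := by
    have := F₀.sub_mem (F₀.sub_mem p2 p1) (F₀.mul_mem (σ₀ c).2 Na)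
    refine (congrArg (· ∈ F₀) ?_).mp this
    ring
  have := F₀.add_mem (F₀.add_mem hmv (F₀.mul_mem (σ₀ (formDown hG w d)).2 Na))
    (F₀.mul_mem (σ₀ (formDown hG w e)).2 p1)
  refine (congrArg (· ∈ F₀) ?_).mp this
  ring

end

theorem subfield_odd_maximal [Fintype F] {r : ℕ} (hr : r.Prime) (hr2 : r ≠ 2)
    (hcard : Fintype.card F = Nat.card F₀ ^ r) (hn : 6 ≤ Fintype.card ι)
    (hG : ∀ u v : ι → F, RatV F₀ u → RatV F₀ v → f u v ∈ F₀) :
    Geo.IsMaximalIn (preserving (Units.coeHom (Matrix ι ι F)) f ⊓ Geo.specialLinear ι F)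
      (((Matrix.GeneralLinearGroup.map (F₀.subtype : F₀ →+* F)).range ⊔ Geo.scalars ι F) ⊓
        (preserving (Units.coeHom (Matrix ι ι F)) f ⊓ Geo.specialLinear ι F)) := by
  have hmem : ∀ a ∈ F₀, σ a ∈ F₀ := fun a ha => by
    rw [apply_eq_pow hf.ne_refl hf.involutive]; exact F₀.pow_mem ha _
  let φ₀ : F₀ →+* F₀ := ((σ : F →+* F).comp F₀.subtype).codRestrict F₀ fun a => hmem a a.2
  let σ₀ : F₀ ≃+* F₀ := RingEquiv.ofRingHom φ₀ φ₀ (RingHom.ext fun a => Subtype.ext (hf.involutive a))
    (RingHom.ext fun a => Subtype.ext (hf.involutive a))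
  have hσ₀ : ∀ x : F₀, (σ₀ x : F) = σ x := fun x => rfl
  -- fixed elements outside F₀, and σ moves F₀
  have hex : ∃ θ : F, σ θ ≠ θ := by
    by_contra h
    push Not at h
    exact hf.ne_refl (RingEquiv.ext h)
  have hne : σ₀ ≠ RingEquiv.refl F₀ := fun h => by
    have hfix : ∀ a : F₀, σ (a : F) = a := fun a => by rw [← hσ₀, h]; rfl
    set K' : IntermediateField F₀ F := Subfield.toIntermediateField (fixedField σ) fun a => hfix a with hK'
    have : Fact (Module.finrank F₀ F).Prime := ⟨finrank_eq_of_card hcard ▸ hr⟩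
    rcases (IntermediateField.isSimpleOrder_of_finrank_prime F₀ F (finrank_eq_of_card hcard ▸ hr)).eq_bot_or_eq_top
        K' with hK | hK
    · have heq : fixedField σ = F₀ := by
        refine le_antisymm (fun a ha => ?_) fun a ha => hfix ⟨a, ha⟩
        have h' : a ∈ K' := ha
        rw [hK, IntermediateField.mem_bot] at h'
        obtain ⟨x, rfl⟩ := h'
        exact x.2
      have h' := card_eq_sq hf.ne_refl hf.involutive
      rw [heq, Nat.card_eq_fintype_card (α := F), hcard] at h'
      exact hr2 (Nat.pow_right_injective Finite.one_lt_card h')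
    · obtain ⟨θ, hθ⟩ := hex
      have : θ ∈ K' := hK ▸ IntermediateField.mem_top
      exact hθ this
  have hf₀ := formDown_unitary hf hσ₀ hne hG
  have : Nonempty ι := Fintype.card_pos_iff.1 (by omega)
  obtain ⟨t, ht0, ht⟩ := exists_anti hf₀.ne_refl hf₀.involutive
  have ht' : σ (t : F) = -(t : F) := by rw [← hσ₀, ht]; rfl
  have ht0' : (t : F) ≠ 0 := fun h => ht0 (Subtype.ext h)
  obtain ⟨k, hk, hkF⟩ : ∃ k : F, σ k = k ∧ k ∉ F₀ := by
    by_contra h
    push Not at h
    obtain ⟨θ, hθ⟩ : ∃ θ : F₀, σ₀ θ ≠ θ := by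
      by_contra h'
      push Not at h'
      exact hne (RingEquiv.ext h')
    have hall : ∀ a : F, a ∈ F₀ := fun a => by
      obtain ⟨b, hb, b', hb', rfl⟩ := exists_coord (F₀ := fixedField σ) hf.ne_refl hf.involutive
        (fun _ => mem_fixedField) (θ := (θ : F)) (fun h' => hθ (Subtype.ext (by rw [hσ₀]; exact h'))) a
      exact F₀.add_mem (h b hb) (F₀.mul_mem θ.2 (h b' hb'))
    have hc : Nat.card F₀ = Fintype.card F := by
      rw [← Nat.card_eq_fintype_card]
      exact Nat.card_congr ⟨fun x => x.1, fun x => ⟨x, hall x⟩, fun x => rfl, fun x => rfl⟩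
    rw [← hc] at hcard
    have h4 : Nat.card F₀ ^ 1 < Nat.card F₀ ^ r := Nat.pow_lt_pow_right Finite.one_lt_card hr.one_lt
    rw [pow_one, ← hcard] at h4
    exact lt_irrefl _ h4
  have hf₀top : 2 ≤ Module.finrank F₀ (⊤ : Submodule F₀ (ι → F₀)) := by
    rw [finrank_top, Module.finrank_pi]; omega
  obtain ⟨e₁, -, he₁0, he₁⟩ := exists_isotropic hf₀ (nondeg_top hf₀) hf₀top
  obtain ⟨d₁, -, hed₁, hdd₁⟩ := exists_partner hf₀ (nondeg_top hf₀) (Submodule.mem_top (x := e₁)) he₁0 he₁
  have he₁' : f (up e₁) (up e₁) = 0 := congrArg Subtype.val he₁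
  have hde₁ : f (up d₁) (up e₁) = 1 := by
    rw [hf.herm, show f (up e₁) (up d₁) = 1 from congrArg Subtype.val hed₁, map_one]
  refine ⟨lt_of_le_of_ne inf_le_right fun heq => ?_, fun M hHM hMS => ?_⟩
  · -- a transvection with parameter outside F₀
    have hc : σ ((t : F) * k) = -((t : F) * k) := by rw [map_mul, ht', hk, neg_mul]
    obtain ⟨a, ha, hA⟩ := (mem_subfield_one_iff _).1
      (heq.ge ⟨htv_mem hf _ he₁' hc, htv_mem_specialLinear hf _ he₁' _⟩).1
    have h1 : RatV F₀ (a • mv (htv hf _ he₁' ((t : F) * k)) (up e₁)) := by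
      rw [← Matrix.smul_mulVec]; exact ratV_mulVec hA (ratV_up e₁)
    rw [htv_fix hf _ _ _ he₁'] at h1
    have h3 : RatV F₀ (a • mv (htv hf _ he₁' ((t : F) * k)) (up d₁)) := by
      rw [← Matrix.smul_mulVec]; exact ratV_mulVec hA (ratV_up d₁)
    rw [mv_htv, hde₁, mul_one, smul_add, smul_smul] at h3
    obtain ⟨i, hi⟩ := Function.ne_iff.1 (up_ne_zero (F := F) he₁0)
    simp only [Pi.zero_apply] at hi
    have haF : a ∈ F₀ := by
      have := F₀.div_mem (h1 i) (ratV_up e₁ i)
      rwa [Pi.smul_apply, smul_eq_mul, mul_div_cancel_right₀ _ hi] at this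
    have h4 : a * ((t : F) * k) * up e₁ i ∈ F₀ := by
      have := F₀.sub_mem (h3 i) (F₀.mul_mem haF (d₁ i).2)
      simpa [up] using this
    refine hkF ?_
    have := F₀.div_mem h4 (F₀.mul_mem (F₀.mul_mem haF t.2) (ratV_up e₁ i))
    rwa [show a * ((t : F) * k) * up e₁ i / (a * (t : F) * up e₁ i) = k by field_simp] at this
  set S := preserving (Units.coeHom (Matrix ι ι F)) f ⊓ Geo.specialLinear ι F with hS
  have hH : ∀ g ∈ S, RatM F₀ (g : Matrix ι ι F) → g ∈ M := fun g hg hgR =>
    hHM ⟨(mem_subfield_one_iff g).2 (srat_of_ratM hgR), hg⟩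
  by_cases hB : ∀ (u : ι → F₀) (hu : f (up u) (up u) = 0), u ≠ 0 → ∀ c : F, σ c = -c →
      htv hf (up u) hu c ∈ M → c ∈ F₀
  swap
  · push Not at hB
    obtain ⟨u, hu, hu0, c, hc, hcM, hcF⟩ := hB
    exact Or.inr (all_htv_mem hf hσ₀ hne hG hMS hH hn hr hcard hu0 hu hc hcF hcM)
  refine Or.inl (le_antisymm (fun g hg => ⟨(mem_subfield_one_iff g).2 ?_, hMS hg⟩) hHM)
  have hroot := sq_mem_imp hr hr2 hcard
  have hrat : ∀ (v : ι → F₀) (hv : f (up v) (up v) = 0), htv hf (up v) hv t ∈ M :=
    fun v hv => htv_rat_mem hf hσ₀ hne hG hH hv t.2 ht'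
  have hK : ∀ {s z : GL ι F}, ((s : Matrix ι ι F) - 1).rank + ((z : Matrix ι ι F) - 1).rank + 2 ≤ Fintype.card ι →
      ∀ g ∈ M, ∀ x ∈ M, ∀ x' ∈ M, x * x = 1 → x' * x' = 1 → RatM F₀ (x : Matrix ι ι F) →
      RatM F₀ (x' : Matrix ι ι F) → x ≠ 1 → (x : Matrix ι ι F) ≠ -1 →
      ((x : Matrix ι ι F) - 1).rank ≤ ((s : Matrix ι ι F) - 1).rank + ((z : Matrix ι ι F) - 1).rank →
      g * x = x' * g → SRat F₀ g := by
    intro s z hsz g hg x hx x' hx' _ hx'2 hxR hx'R hx1 _ hle hgx
    exact srat_of_conj hf hσ₀ hne hG hMS hH hn hB hg hx hx' hx'2 hxR hx'R hx1 (by omega) hgx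
  have rank_le : ∀ (s : GL ι F) (W : Submodule F (ι → F)), (∀ z, mv s z - z ∈ W) →
      ((s : Matrix ι ι F) - 1).rank ≤ Module.finrank F W := fun s W h => Submodule.finrank_mono (by
    rintro _ ⟨z, rfl⟩
    rw [Matrix.mulVecLin_apply, Matrix.sub_mulVec, Matrix.one_mulVec]
    exact h z)
  have two_le : ∀ (s : GL ι F) (p q : ι → F), LinearIndependent F ![p, q] → (∃ y, mv s y - y = p) →
      (∃ y, mv s y - y = q) → 2 ≤ ((s : Matrix ι ι F) - 1).rank := by
    intro s p q hind ⟨y, hy⟩ ⟨y', hy'⟩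
    have := finrank_span_eq_card hind
    rw [Fintype.card_fin] at this
    refine this.symm.le.trans (Submodule.finrank_mono (Submodule.span_le.2 ?_))
    rintro _ ⟨i, rfl⟩
    fin_cases i
    · exact ⟨y, by rw [Matrix.mulVecLin_apply, Matrix.sub_mulVec, Matrix.one_mulVec]; exact hy⟩
    · exact ⟨y', by rw [Matrix.mulVecLin_apply, Matrix.sub_mulVec, Matrix.one_mulVec]; exact hy'⟩
  obtain ⟨hP₁, hP₁2⟩ := nondeg_pair hf₀ he₁ hdd₁ hed₁
  set X₁ := orth hf₀ (Submodule.span F₀ ({e₁, d₁} : Set (ι → F₀)))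
  have hX₁ := nondeg_orth hf₀ hP₁
  have hX₁2 : 4 ≤ Module.finrank F₀ X₁ := by
    have := finrank_orth_add hf₀ hP₁
    rw [hP₁2, Module.finrank_pi] at this
    change 2 + Module.finrank F₀ X₁ = _ at this
    omega
  by_cases h2 : (2 : F) = 0
  · have hneg : (-1 : F) = 1 := by linear_combination -h2
    have hn1 : (-1 : Matrix ι ι F) = 1 := by
      rw [← neg_one_smul F (1 : Matrix ι ι F), hneg, one_smul]
    obtain ⟨e₂, he₂X, he₂0, he₂⟩ := exists_isotropic hf₀ hX₁ (le_trans (by norm_num) hX₁2)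
    obtain ⟨d₂, hd₂X, hed₂, -⟩ := exists_partner hf₀ hX₁ he₂X he₂0 he₂
    have he₂' : f (up e₂) (up e₂) = 0 := congrArg Subtype.val he₂
    have hde₂ : f (up d₂) (up e₂) = 1 := by
      rw [hf.herm, show f (up e₂) (up d₂) = 1 from congrArg Subtype.val hed₂, map_one]
    have o1 : f (up e₁) (up e₂) = 0 := congrArg Subtype.val (he₂X e₁ (Submodule.subset_span (Set.mem_insert _ _)))
    have o2 : f (up d₁) (up e₂) = 0 :=
      congrArg Subtype.val (he₂X d₁ (Submodule.subset_span (Set.mem_insert_of_mem _ rfl)))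
    have o3 : f (up d₂) (up e₁) = 0 := (f_eq_zero_comm hf).1
      (congrArg Subtype.val (hd₂X e₁ (Submodule.subset_span (Set.mem_insert _ _))))
    set A := htv hf (up e₁) he₁' (t : F) with hA
    set B' := htv hf (up e₂) he₂' (t : F) with hB'
    have hAv : ∀ x, mv A x = x + ((t : F) * f x (up e₁)) • up e₁ := fun x => mv_htv hf _ _ _ _
    have hzv : ∀ x, mv (A * B') x = x + ((t : F) * f x (up e₂)) • up e₂ + ((t : F) * f x (up e₁)) • up e₁ :=
      fun x => by
        rw [mv_mul, hA, hB', mv_htv, mv_htv, hf.add_left, hf.smul_left, (f_eq_zero_comm hf).1 o1, mul_zero,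
          add_zero]
    have two0 : ∀ v : ι → F, v + v = 0 := fun v => by rw [← two_smul F v, h2, zero_smul]
    have hA2 : A * A = 1 := by rw [hA, htv_add, ← two_mul, h2, zero_mul, htv_zero]
    have hz2 : A * B' * (A * B') = 1 := ext_mv fun x => by
      rw [mv_mul, hzv, hzv, mv_one]
      simp only [hf.add_left, hf.smul_left, he₁', he₂', o1, (f_eq_zero_comm hf).1 o1, mul_zero, add_zero]
      linear_combination (norm := module) two0 (((t : F) * f x (up e₂)) • up e₂) +
        two0 (((t : F) * f x (up e₁)) • up e₁)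
    have hsA : ((A : Matrix ι ι F) - 1).rank ≤ 1 := by
      refine (rank_le A (Submodule.span F {up e₁}) fun z => ?_).trans
        (finrank_span_singleton (up_ne_zero he₁0)).le
      rw [hAv, add_sub_cancel_left]
      exact Submodule.smul_mem _ _ (Submodule.mem_span_singleton_self _)
    have hind : LinearIndependent F ![up e₁, up e₂] := by
      rw [LinearIndependent.pair_iff]
      intro a b hab
      constructor
      · have h := congrArg (fun v => f v (up d₁)) hab
        simpa [hf.add_left, hf.smul_left, zero_left hf, show f (up e₁) (up d₁) = 1 from congrArg Subtype.val hed₁,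
          (f_eq_zero_comm hf).1 o2] using h
      · have h := congrArg (fun v => f v (up d₂)) hab
        simpa [hf.add_left, hf.smul_left, zero_left hf, show f (up e₂) (up d₂) = 1 from congrArg Subtype.val hed₂,
          (f_eq_zero_comm hf).1 o3] using h
    have hsz : 2 ≤ (((A * B' : GL ι F) : Matrix ι ι F) - 1).rank := by
      refine two_le _ _ _ hind ⟨(t : F)⁻¹ • up d₁, ?_⟩ ⟨(t : F)⁻¹ • up d₂, ?_⟩
      · rw [hzv, hf.smul_left, hf.smul_left, hde₁, o2]
        simp [ht0']
      · rw [hzv, hf.smul_left, hf.smul_left, hde₂, o3]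
        simp [ht0']
    have hsz' : (((A * B' : GL ι F) : Matrix ι ι F) - 1).rank ≤ 2 := by
      refine (rank_le _ (Submodule.span F ({up e₁, up e₂} : Set (ι → F))) fun z => ?_).trans
        (finrank_pair_le _ _)
      rw [hzv, add_assoc, add_sub_cancel_left]
      exact Submodule.add_mem _ (Submodule.smul_mem _ _ (Submodule.subset_span (by simp)))
        (Submodule.smul_mem _ _ (Submodule.subset_span (by simp)))
    have hA1 : A ≠ 1 := fun h => up_ne_zero (F := F) he₁0 (by
      have h0 := congrArg (fun g => mv g (up d₁)) h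
      simp only [hAv, mv_one, hde₁, mul_one, add_eq_left] at h0
      exact (smul_eq_zero.1 h0).resolve_left ht0')
    have hz1 : A * B' ≠ 1 := fun h => by rw [h, Units.val_one, sub_self, Matrix.rank_zero] at hsz; omega
    exact srat_of_involution_conj hroot (hK (s := A) (z := A * B') (by omega)) (hrat _ _)
      (M.mul_mem (hrat _ _) (hrat _ _)) hA2 hz2 (ratM_htv hf hσ₀ hne hG he₁' t.2)
      (by rw [Units.val_mul]; exact ratM_mul (ratM_htv hf hσ₀ hne hG he₁' t.2) (ratM_htv hf hσ₀ hne hG he₂' t.2))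
      hA1 (fun h => hA1 (Units.ext ((h.trans hn1).trans Units.val_one.symm))) hz1
      (fun h => hz1 (Units.ext ((h.trans hn1).trans Units.val_one.symm))) (by omega) (Or.inl hneg) g hg
  · refine srat_of_one_line hf hσ₀ hne hG hMS hH hn hB hg he₁0 he₁' ?_
    have hgf : ∀ a b, f (mv g a) (mv g b) = f a b := fun a b => (hMS hg).1 a b
    refine ratLine_odd hf hσ₀ hne hG hMS hH hn hr hr2 hcard h2 hB
      (x := mv g (up e₁)) (by rw [hgf, he₁']) fun d hd => ?_
    rw [← htv_conj hf hgf (up e₁) he₁']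
    exact M.mul_mem (M.mul_mem hg (htv_rat_mem hf hσ₀ hne hG hH he₁' d.2
      (by rw [← hσ₀, hd]; rfl))) (M.inv_mem hg)

end Cfsg.Agent.Transvec.Herm
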