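/-
Maximality in the special unitary group of the stabiliser of an orthogonal decomposition into non-degenerate
subspaces of dimension at least two.
-/
import Cfsg.Agent.Lib.Transvec.HermWreathTools
set_option autoImplicit false
set_option maxHeartbeats 800000

namespace Cfsg.Agent.Transvec.Herm

open scoped Matrix
open Matrix Cfsg.Agent.Transvec

variable {ι : Type} [Fintype ι] [DecidableEq ι] {F : Type*} [Field F] [Finite F]
variable {σ : F ≃+* F} {f : (ι → F) → (ι → F) → F} (hf : Geo.IsUnitaryForm σ f)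
include hf

variable {t k : ℕ} {D : Fin t → Submodule F (ι → F)}
variable (hD : Geo.IsNondegenerateMDecomposition f k D)
include hD

omit [Finite F] in
theorem htv_block_mem {i : Fin t} {v : ι → F} (hv : v ∈ D i) (hvv : f v v = 0) {c : F} (hc : σ c = -c) :
    htv hf v hvv c ∈ Geo.decompositionStabilizer D ⊓
      (preserving (Units.coeHom (Matrix ι ι F)) f ⊓ Geo.specialLinear ι F) := by
  refine ⟨mem_decompositionStabilizer hf hD fun j => ⟨j, fun u hu => ?_⟩, htv_mem hf v hvv hc,
    htv_mem_specialLinear hf v hvv c⟩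
  by_cases hji : j = i
  · subst hji; rw [mv_htv]; exact Submodule.add_mem _ hu (Submodule.smul_mem _ _ hv)
  · rwa [htv_fix hf _ _ _ (f_block hD hji hu hv)]

/-- Isotropic vectors in a block are conjugate by an element of the wreath stabiliser fixing another block. -/
theorem exists_move_two (hk : 2 ≤ k) (hn : 6 ≤ Fintype.card ι) {a b : Fin t} (hab : a ≠ b) {u v : ι → F}
    (hu : u ∈ D a) (hv : v ∈ D a) (hu0 : u ≠ 0) (hv0 : v ≠ 0) (huu0 : f u u = 0) (h : f u u = f v v) :
    ∃ g ∈ Geo.decompositionStabilizer D ⊓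
      (preserving (Units.coeHom (Matrix ι ι F)) f ⊓ Geo.specialLinear ι F),
      mv g u = v ∧ ∀ z ∈ D b, mv g z = z := by
  classical
  set H := Geo.decompositionStabilizer D ⊓
    (preserving (Units.coeHom (Matrix ι ι F)) f ⊓ Geo.specialLinear ι F) with hH
  have hHf : H ≤ preserving (Units.coeHom (Matrix ι ι F)) f := fun g hg => hg.2.1
  have hNa := nondeg_block hf hD a
  by_cases hk4 : 4 ≤ k
  · obtain ⟨g, hg, hgu, hgf⟩ := exists_move_norm hf hNa (by rw [hD.decomp.finrank_eq]; exact hk4)
      (K := H) (fun w hw hww c hc => htv_block_mem hf hD hw hww hc) hHf hu hv hu0 hv0 h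
    exact ⟨g, hg, hgu, fun z hz => hgf z fun x hx => f_block hD hab.symm hz hx⟩
  -- a compensating anisotropic vector
  have comp : ∀ u ∈ D a, ∀ v ∈ D a, f u u = 0 → f v v = 0 → f u v ≠ 0 → ∃ c w', c ≠ b ∧ w' ∈ D c ∧
      f w' w' ≠ 0 ∧ f u w' = 0 ∧ f v w' = 0 := by
    intro u hu v hv huu hvv huv
    by_cases hk3 : k = 3
    · set d := (σ (f u v))⁻¹ • v with hd
      have hdd : f d d = 0 := by rw [hd, hf.smul_left, smul_right hf, hvv, mul_zero, mul_zero]
      have hud : f u d = 1 := by
        rw [hd, smul_right hf, map_inv₀, hf.involutive, inv_mul_cancel₀ huv]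
      obtain ⟨hP, hP2⟩ := nondeg_pair hf huu hdd hud
      have hle : Submodule.span F ({u, d} : Set (ι → F)) ≤ D a :=
        Submodule.span_le.2 (by rintro y (rfl | rfl) <;> first | exact hu | exact (D a).smul_mem _ hv)
      have hY := finrank_inf_orth_add hf hP hle
      rw [hP2, hD.decomp.finrank_eq] at hY
      obtain ⟨w', hw'Y, hw'⟩ := exists_anisotropic hf (nondeg_inf_orth hf hP hNa hle)
        (fun h0 => by rw [h0, finrank_bot] at hY; omega)
      refine ⟨a, w', hab, hw'Y.1, hw', hw'Y.2 u (Submodule.subset_span (Set.mem_insert _ _)), ?_⟩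
      have h1 := hw'Y.2 d (Submodule.subset_span (Set.mem_insert_of_mem _ rfl))
      rw [hd, hf.smul_left, mul_eq_zero] at h1
      exact h1.resolve_left (inv_ne_zero fun h0 => huv ((map_eq_zero_iff σ σ.injective).1 h0))
    have ht3 : 3 ≤ t := by
      by_contra ht
      have h1 := card_eq_mul hD
      have h2 : t * k ≤ 2 * 2 := Nat.mul_le_mul (by omega) (by omega)
      omega
    obtain ⟨c, hca, hcb⟩ : ∃ c, c ≠ a ∧ c ≠ b := by
      by_contra hcon
      push Not at hcon
      have : (Finset.univ : Finset (Fin t)) ⊆ {a, b} := fun c _ => by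
        by_cases hca : c = a <;> simp [hca]
        exact hcon c hca
      have h2 := (Finset.card_le_card this).trans Finset.card_le_two
      simp at h2
      omega
    obtain ⟨w', hw'D, hw'⟩ := exists_anisotropic hf (nondeg_block hf hD c) (fun h0 => by
      obtain ⟨y, hy, hy0⟩ := exists_nonzero_block hD c
      rw [h0, Submodule.mem_bot] at hy; exact hy0 hy)
    exact ⟨c, w', hcb, hw'D, hw', f_block hD hca.symm hu hw'D, f_block hD hca.symm hv hw'D⟩
  -- one quasi-reflection
  have one : ∀ u ∈ D a, ∀ v ∈ D a, f u u = 0 → f u u = f v v → f u (u - v) ≠ 0 →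
      ∃ g ∈ H, mv g u = v ∧ ∀ z ∈ D b, mv g z = z := by
    intro u hu v hv huu huv hA
    set r := u - v with hr
    have hrD : r ∈ D a := (D a).sub_mem hu hv
    have htr : f u r + σ (f u r) = f r r := by
      rw [hr, sub_left hf u v (u - v), sub_right hf, sub_right hf, map_sub, ← hf.herm v u,
        self_fixed hf u, huv]
      ring
    by_cases hrr : f r r = 0
    · have hanti : σ (-(f u r)⁻¹) = -(-(f u r)⁻¹) := by
        have : σ (f u r) = -f u r := by linear_combination htr.trans hrr
        rw [map_neg, map_inv₀, this, inv_neg]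
      refine ⟨_, htv_block_mem hf hD hrD hrr hanti, ?_, fun z hz => htv_fix hf _ _ _ (f_block hD hab.symm hz hrD)⟩
      rw [mv_htv, neg_mul, inv_mul_cancel₀ hA, hr]; module
    · set A := f u r with hAdef
      have hσA : σ A ≠ 0 := fun h => hA ((map_eq_zero_iff σ σ.injective).1 h)
      have hη : (-(σ A) / A) * σ (-(σ A) / A) = 1 := by
        rw [map_div₀, map_neg, hf.involutive]; field_simp
      obtain ⟨c, w', hcb, hw'D, hw', huw, hvw⟩ := comp u hu v hv huu (huv ▸ huu) (fun h0 => hA (by
        rw [hAdef, hr, sub_right hf, huu, h0, sub_zero]))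
      obtain ⟨g, hg, hgz⟩ := exists_double_refl hf hrr hw'
        (by rw [hr, sub_left hf, huw, hvw, sub_zero]) hη
      refine ⟨g, ⟨mem_decompositionStabilizer hf hD fun i => ⟨i, fun z hz => ?_⟩, hg⟩, ?_, fun z hz => ?_⟩
      · rw [hgz]
        refine Submodule.add_mem _ (Submodule.add_mem _ hz ?_) ?_
        · by_cases hia : i = a
          · subst hia; exact Submodule.smul_mem _ _ hrD
          · rw [f_block hD hia hz hrD, mul_zero, zero_smul]; exact Submodule.zero_mem _
        · by_cases hic : i = c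
          · subst hic; exact Submodule.smul_mem _ _ hw'D
          · rw [f_block hD hic hz hw'D, mul_zero, zero_smul]; exact Submodule.zero_mem _
      · rw [hgz, huw, mul_zero, zero_smul, add_zero, ← hAdef]
        have : (-(σ A) / A - 1) / f r r * A = -1 := by
          field_simp; linear_combination -htr
        rw [this, hr]; module
      · rw [hgz, f_block hD hab.symm hz hrD, f_block hD hcb.symm hz hw'D, mul_zero, mul_zero, zero_smul,
          zero_smul, add_zero, add_zero]
  by_cases hA : f u (u - v) ≠ 0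
  · exact one u hu v hv huu0 h hA
  push Not at hA
  rw [sub_right hf, sub_eq_zero] at hA
  -- an intermediate vector
  obtain ⟨z, hz, hzz, hz1, hz2⟩ : ∃ z ∈ D a, f z z = f u u ∧ f u (u - z) ≠ 0 ∧ f z (z - v) ≠ 0 := by
    have hN := huu0
    obtain ⟨d, hd, hud, hdd⟩ := exists_partner hf hNa hu hu0 hN
    refine ⟨d, hd, hdd.trans hN.symm, ?_, ?_⟩
    · rw [sub_right hf, hN, hud, zero_sub]; exact neg_ne_zero.2 one_ne_zero
    · rw [sub_right hf, hdd, zero_sub, neg_ne_zero]
      intro hdv
      refine hv0 ?_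
      obtain ⟨hP, hP2⟩ := nondeg_pair hf hN hdd hud
      have hle : Submodule.span F ({u, d} : Set (ι → F)) ≤ D a :=
        Submodule.span_le.2 (by rintro y (rfl | rfl) <;> assumption)
      have hY := finrank_inf_orth_add hf hP hle
      rw [hP2, hD.decomp.finrank_eq] at hY
      have hvY : v ∈ D a ⊓ orth hf (Submodule.span F ({u, d} : Set (ι → F))) := ⟨hv, fun y hy => by
        obtain ⟨p, q, rfl⟩ := Submodule.mem_span_pair.1 hy
        rw [hf.add_left, hf.smul_left, hf.smul_left, ← hA, hN, hdv, mul_zero, mul_zero, add_zero]⟩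
      by_contra hv0'
      refine hv0' ((nondeg_iff hf).1 (nondeg_inf_orth hf hP hNa hle) v hvY fun y hy => ?_)
      have hsp : Submodule.span F {v} = D a ⊓ orth hf (Submodule.span F ({u, d} : Set (ι → F))) := by
        refine Submodule.eq_of_le_of_finrank_le (by rwa [Submodule.span_singleton_le_iff_mem]) ?_
        rw [finrank_span_singleton hv0']; omega
      obtain ⟨p, rfl⟩ := Submodule.mem_span_singleton.1 (hsp.symm ▸ hy)
      rw [hf.smul_left, ← h, hN, mul_zero]
  obtain ⟨g, hg, hgu, hgb⟩ := one u hu z hz huu0 hzz.symm hz1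
  obtain ⟨g', hg', hgu', hgb'⟩ := one z hz v hv (hzz.trans huu0) (hzz.trans h) hz2
  exact ⟨g' * g, mul_mem hg' hg, by rw [mv_mul, hgu, hgu'], fun y hy => by rw [mv_mul, hgb y hy, hgb' y hy]⟩

/-- A block vector can be shifted by an orthogonal vector. -/
theorem exists_shift (hk : 3 ≤ k) (hq : Nat.card (fixedField σ) = 2) {a : Fin t} {x : ι → F} (hx : x ∈ D a)
    (hx0 : x ≠ 0) : ∃ g ∈ Geo.decompositionStabilizer D ⊓
      (preserving (Units.coeHom (Matrix ι ι F)) f ⊓ Geo.specialLinear ι F),
      mv g x ≠ x ∧ f (mv g x - x) x = 0 ∧ mv g x ∈ D a ∧ ∀ i, i ≠ a → ∀ z ∈ D i, mv g z = z := by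
  have hN := nondeg_block hf hD a
  by_cases hu : ∃ u ∈ D a, u ≠ 0 ∧ f u u = 0 ∧ f u x = 0 ∧ x ∉ Submodule.span F {u}
  · obtain ⟨u, huD, hu0, huu, hux, hxu⟩ := hu
    obtain ⟨y, hy, hyu, hyx⟩ : ∃ y ∈ D a, f y u = 0 ∧ f x y ≠ 0 := by
      by_contra hcon
      push Not at hcon
      exact hxu (mem_of_orth_orth hf hN (by rwa [Submodule.span_singleton_le_iff_mem]) hx fun y hy =>
        hcon y hy.1 ((f_eq_zero_comm hf).1 ((orth_span_single_mem hf).1 hy.2)))
    obtain ⟨l, hl⟩ := exists_trace hf.ne_refl hf.involutive (-f y y) (by rw [map_neg, self_fixed hf])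
    obtain ⟨g, hg, hgz⟩ := exists_eichler hf (l := l) huu hyu (by linear_combination hl)
    have hxu' : f x u = 0 := (f_eq_zero_comm hf).1 hux
    have hgx : mv g x = x + (-f x y) • u := by rw [hgz, hxu', mul_zero, zero_sub, zero_smul, add_zero]
    refine ⟨g, ⟨mem_decompositionStabilizer hf hD fun i => ⟨i, fun z hz => ?_⟩, hg⟩, ?_, ?_, ?_, fun i hia z hz => ?_⟩
    · rw [hgz]
      by_cases hia : i = a
      · subst hia
        exact Submodule.add_mem _ (Submodule.add_mem _ hz (Submodule.smul_mem _ _ hy)) (Submodule.smul_mem _ _ huD)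
      · rw [f_block hD hia hz huD, f_block hD hia hz hy, mul_zero, sub_zero, zero_smul, zero_smul, add_zero,
          add_zero]
        exact hz
    · rw [hgx]
      intro h
      rw [add_eq_left] at h
      exact hu0 ((smul_eq_zero.1 h).resolve_left (neg_ne_zero.2 hyx))
    · rw [hgx, add_sub_cancel_left, hf.smul_left, hux, mul_zero]
    · rw [hgx]; exact Submodule.add_mem _ hx (Submodule.smul_mem _ _ huD)
    · rw [hgz, f_block hD hia hz huD, f_block hD hia hz hy, mul_zero, sub_zero, zero_smul, zero_smul,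
        add_zero, add_zero]
  push Not at hu
  -- the block is three dimensional and x is isotropic
  have hxx : f x x = 0 := by
    by_contra hxx
    have hle : Submodule.span F {x} ≤ D a := by rwa [Submodule.span_singleton_le_iff_mem]
    have hdim := finrank_inf_orth_add hf (nondeg_span_single hf hxx) hle
    rw [finrank_span_single hf hxx, hD.decomp.finrank_eq] at hdim
    obtain ⟨u, hu', hu0, huu⟩ := exists_isotropic hf (nondeg_inf_orth hf (nondeg_span_single hf hxx) hN hle) (by omega)
    obtain ⟨c, hc⟩ := Submodule.mem_span_singleton.1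
      (hu u hu'.1 hu0 huu ((f_eq_zero_comm hf).1 ((orth_span_single_mem hf).1 hu'.2)))
    refine hxx ?_
    rw [← hc, hf.smul_left, smul_right hf, huu, mul_zero, mul_zero]
  have hk3 : k = 3 := by
    by_contra hk3
    obtain ⟨d, hd, hxd, hdd⟩ := exists_partner hf hN hx hx0 hxx
    obtain ⟨hP, hP2⟩ := nondeg_pair hf hxx hdd hxd
    have hle : Submodule.span F ({x, d} : Set (ι → F)) ≤ D a :=
      Submodule.span_le.2 (by rintro y (rfl | rfl) <;> assumption)
    have hdim := finrank_inf_orth_add hf hP hle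
    rw [hP2, hD.decomp.finrank_eq] at hdim
    obtain ⟨u, hu', hu0, huu⟩ := exists_isotropic hf (nondeg_inf_orth hf hP hN hle) (by omega)
    have h1 : f u x = 0 := (f_eq_zero_comm hf).1 (hu'.2 x (Submodule.subset_span (Set.mem_insert _ _)))
    have h2 : f u d = 0 :=
      (f_eq_zero_comm hf).1 (hu'.2 d (Submodule.subset_span (Set.mem_insert_of_mem _ rfl)))
    obtain ⟨c, hc⟩ := Submodule.mem_span_singleton.1 (hu u hu'.1 hu0 huu h1)
    rw [← hc, hf.smul_left, h2, mul_zero] at hxd
    exact zero_ne_one hxd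
  obtain ⟨η, hη, hη1⟩ := exists_norm_one_ne hf
  have hσ : σ η = η * η := by
    have := apply_eq_pow hf.ne_refl hf.involutive η
    rwa [hq, pow_two] at this
  have hη3 : η * (η * η) = 1 := by rw [← hσ]; exact hη
  obtain ⟨e, heD, hee, hex⟩ := exists_orthonormal hf 3 hN (hD.decomp.finrank_eq a ▸ hk3)
  have he1 : ∀ i, f (e i) (e i) ≠ 0 := fun i => by rw [hee, if_pos rfl]; exact one_ne_zero
  obtain ⟨g₁, hg₁, hg₁z⟩ := exists_double_refl hf (he1 0) (he1 2)
    (by rw [hee, if_neg (by decide)]) hη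
  obtain ⟨g₂, hg₂, hg₂z⟩ := exists_double_refl hf (he1 1) (he1 2)
    (by rw [hee, if_neg (by decide)]) hη
  have hgz : ∀ z, mv (g₁ * g₂) z = z + (η - 1) • ∑ i, f z (e i) • e i := by
    intro z
    rw [mv_mul, hg₂z, hg₁z, Fin.sum_univ_three]
    simp only [hf.add_left, hf.smul_left, hee, hσ]
    simp only [Fin.reduceEq, if_false, if_true, div_one, mul_zero, add_zero, zero_add, mul_one]
    match_scalars <;> first | ring1 | linear_combination (f z (e 2) * η) * hη3
  have hfix : ∀ i, i ≠ a → ∀ z ∈ D i, mv (g₁ * g₂) z = z := fun i hia z hz => by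
    rw [hgz, Finset.sum_eq_zero (fun j _ => by rw [f_block hD hia hz (heD j), zero_smul]), smul_zero, add_zero]
  have hgx : mv (g₁ * g₂) x = η • x := by rw [hgz, ← hex x hx]; module
  refine ⟨g₁ * g₂, ⟨mem_decompositionStabilizer hf hD fun i => ⟨i, fun z hz => ?_⟩, mul_mem hg₁ hg₂⟩, ?_, ?_, ?_, hfix⟩
  · by_cases hia : i = a
    · subst hia; rw [hgz, ← hex z hz]; exact Submodule.add_mem _ hz (Submodule.smul_mem _ _ hz)
    · rwa [hfix i hia z hz]
  · rw [hgx]
    intro h
    have h2 : (η - 1) • x = 0 := by rw [sub_smul, h, one_smul, sub_self]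
    exact hη1 (sub_eq_zero.1 ((smul_eq_zero.1 h2).resolve_right hx0))
  · rw [hgx, sub_left hf, hf.smul_left, hxx, mul_zero, sub_zero]
  · rw [hgx]; exact Submodule.smul_mem _ _ hx

theorem wreath_two_maximal (hk : 2 ≤ k) (hn : 6 ≤ Fintype.card ι)
    (hex : k ≠ 2 ∨ Nat.card (fixedField σ) ≠ 2) :
    Geo.IsMaximalIn (preserving (Units.coeHom (Matrix ι ι F)) f ⊓ Geo.specialLinear ι F)
      (Geo.decompositionStabilizer D ⊓
        (preserving (Units.coeHom (Matrix ι ι F)) f ⊓ Geo.specialLinear ι F)) := by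
  classical
  have hN := fun i => nondeg_block hf hD i
  have ht : 2 ≤ t := hD.decomp.two_le
  have hk2 : ∀ i, 2 ≤ Module.finrank F (D i) := fun i => by rw [hD.decomp.finrank_eq]; exact hk
  obtain ⟨τ, hτ0, hτ⟩ := exists_anti hf.ne_refl hf.involutive
  choose z hz hz0 hzz using fun i => exists_isotropic hf (hN i) (hk2 i)
  set a₀ : Fin t := ⟨0, by omega⟩
  set b₀ : Fin t := ⟨1, by omega⟩
  have hab₀ : a₀ ≠ b₀ := fun h => by simp [a₀, b₀, Fin.ext_iff] at h
  refine ⟨?_, fun M hHM hMS => ?_⟩
  · refine lt_of_le_of_ne inf_le_right fun he => ?_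
    obtain ⟨d, hd, hzd, hdd⟩ := exists_partner hf (hN a₀) (hz a₀) (hz0 a₀) (hzz a₀)
    have hiso : f (z a₀ + z b₀) (z a₀ + z b₀) = 0 := by
      rw [hf.add_left, add_right hf, add_right hf, hzz, hzz, f_block hD hab₀ (hz a₀) (hz b₀),
        f_block hD hab₀.symm (hz b₀) (hz a₀), add_zero, add_zero]
    obtain ⟨π, hπ⟩ := (he.ge (x := htv hf _ hiso τ)
      ⟨htv_mem hf _ hiso hτ, htv_mem_specialLinear hf _ hiso τ⟩).1
    have hmap : ∀ u ∈ D a₀, mv (htv hf _ hiso τ) u ∈ D (π a₀) := fun u hu => by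
      rw [← hπ a₀]; exact ⟨u, hu, Matrix.toLin'_apply _ _⟩
    have h1 := hmap _ (hz a₀)
    rw [htv_fix hf _ _ _ (by rw [add_right hf, hzz, f_block hD hab₀ (hz a₀) (hz b₀), add_zero])] at h1
    have hπa : π a₀ = a₀ := by
      by_contra hne
      exact hz0 a₀ (eq_zero_of_mem_two hf hD (Ne.symm hne) (hz a₀) h1)
    have h2 := hmap _ hd
    rw [hπa, mv_htv, add_right hf, f_block hD hab₀ hd (hz b₀), add_zero, hf.herm d, hzd, map_one, mul_one,
      smul_add, ← add_assoc] at h2
    have h3 : τ • z b₀ ∈ D a₀ := ((D a₀).add_mem_iff_right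
      ((D a₀).add_mem hd ((D a₀).smul_mem _ (hz a₀)))).1 h2
    exact smul_ne_zero hτ0 (hz0 b₀) (eq_zero_of_mem_two hf hD hab₀.symm ((D b₀).smul_mem _ (hz b₀)) h3)
  set C := hCentres hf M
  have hMf : M ≤ preserving (Units.coeHom (Matrix ι ι F)) f := fun g hg => (hMS hg).1
  have hC1 : ∀ i, ∀ v ∈ D i, f v v = 0 → v ∈ C := fun i v hv hvv =>
    ⟨hvv, fun c hc => hHM (htv_block_mem hf hD hv hvv hc)⟩
  by_cases hmix : ∃ v ∈ C, ∀ i, v ∉ D i
  swap
  · refine Or.inl (le_antisymm (fun g hg => ⟨mem_decompositionStabilizer hf hD fun i => ?_, hMS hg⟩) hHM)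
    push Not at hmix
    have himg : ∀ v ∈ D i, f v v = 0 → ∃ l, mv g v ∈ D l := fun v hv hvv =>
      hmix _ (hCentres_mv hf hMf hg (hC1 i v hv hvv))
    have hsame : ∀ u ∈ D i, ∀ v ∈ D i, f u v ≠ 0 → ∀ l l', mv g u ∈ D l → mv g v ∈ D l' → l = l' := by
      intro u _ v _ h l l' hl hl'
      by_contra hne
      exact h ((hMf hg u v).symm.trans (f_block hD hne hl hl'))
    obtain ⟨j, hj⟩ := himg _ (hz i) (hzz i)
    obtain ⟨d, hd, hzd, hdd⟩ := exists_partner hf (hN i) (hz i) (hz0 i) (hzz i)
    have hgd : mv g d ∈ D j := by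
      obtain ⟨l, hl⟩ := himg d hd hdd
      rwa [hsame _ (hz i) _ hd (by rw [hzd]; exact one_ne_zero) j l hj hl]
    have hdz : f d (z i) = 1 := by rw [hf.herm, hzd, map_one]
    have hiso : ∀ v ∈ D i, f v v = 0 → mv g v ∈ D j := by
      intro v hv hvv
      obtain ⟨l, hl⟩ := himg v hv hvv
      by_cases h1 : f d v ≠ 0
      · rwa [hsame _ hd _ hv h1 j l hgd hl]
      push Not at h1
      by_cases h2 : f (z i) v ≠ 0
      · rwa [hsame _ (hz i) _ hv h2 j l hj hl]
      push Not at h2
      obtain ⟨p, hp⟩ := himg (v + z i) ((D i).add_mem hv (hz i)) (by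
        rw [hf.add_left, add_right hf, add_right hf, hvv, hzz, h2, (f_eq_zero_comm hf).1 h2, add_zero, add_zero])
      have hjp := hsame _ hd _ ((D i).add_mem hv (hz i))
        (by rw [add_right hf, h1, hdz, zero_add]; exact one_ne_zero) j p hgd hp
      rw [← hjp, mv_add] at hp
      exact ((D j).add_mem_iff_left hj).1 hp
    refine ⟨j, fun u hu => ?_⟩
    have hle : Submodule.span F {v | v ∈ D i ∧ f v v = 0} ≤ (D j).comap (mvLin g) :=
      Submodule.span_le.2 fun v hv => by
        rw [SetLike.mem_coe, Submodule.mem_comap]; simpa using hiso v hv.1 hv.2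
    have := hle (isotropic_span hf (hN i) (hk2 i) hu)
    simpa using this
  refine Or.inr (eq_su hf (by omega) hMS ?_)
  -- a centre made of two isotropic block vectors
  obtain ⟨a, b, hab, v, hv, hv0, hvv, w, hw, hw0, hww, hvw⟩ : ∃ a b, a ≠ b ∧ ∃ v ∈ D a, v ≠ 0 ∧ f v v = 0 ∧
      ∃ w ∈ D b, w ≠ 0 ∧ f w w = 0 ∧ v + w ∈ C := by
    obtain ⟨x₀, hxC, hxD⟩ := hmix
    obtain ⟨x, hx, rfl⟩ := exists_sum_blocks hD x₀
    obtain ⟨a, b, hab, ha, hb⟩ : ∃ a b, a ≠ b ∧ x a ≠ 0 ∧ x b ≠ 0 := by
      by_contra hcon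
      push Not at hcon
      by_cases he : ∃ a, x a ≠ 0
      · obtain ⟨a, ha⟩ := he
        refine hxD a ?_
        rw [Finset.sum_eq_single a (fun b _ hba => hcon a b hba.symm ha) (by simp)]
        exact hx a
      · push Not at he
        exact hxD a₀ (by simp [he])
    set X := ∑ i, x i with hX
    have hXX : f X X = 0 := hxC.1
    have hnX : -X ∈ C := by have := hCentres_smul hf hxC (-1 : F); rwa [neg_one_smul] at this
    have hXb : ∀ i, ∀ u ∈ D i, f X u = f (x i) u := fun i u hu => by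
      rw [hX, sum_left hf]
      exact Finset.sum_eq_single i (fun j _ hji => f_block hD hji (hx j) hu) (by simp)
    obtain ⟨v, hv, hvv, hxv⟩ := exists_isotropic_not_orth hf (hN a) (hk2 a) (hx a) ha
    obtain ⟨w, hw, hww, hxw⟩ := exists_isotropic_not_orth hf (hN b) (hk2 b) (hx b) hb
    set α := f X v with hα
    set β := f X w with hβ
    have hα0 : α ≠ 0 := by
      rw [hα, hXb a v hv]; exact fun h => hxv ((f_eq_zero_comm hf).1 h)
    have hβ0 : β ≠ 0 := by
      rw [hβ, hXb b w hw]; exact fun h => hxw ((f_eq_zero_comm hf).1 h)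
    have hv0 : v ≠ 0 := fun h => hxv (by rw [h, zero_left hf])
    have hw0 : w ≠ 0 := fun h => hxw (by rw [h, zero_left hf])
    have hBf : β * σ β ≠ 0 := mul_ne_zero hβ0 fun h => hβ0 ((map_eq_zero_iff σ σ.injective).1 h)
    have hwM : ∀ c, σ c = -c → htv hf w hww c ∈ M := fun c hc => hHM (htv_block_mem hf hD hw hww hc)
    have hvwiso : ∀ (v' w' : ι → F), v' ∈ D a → w' ∈ D b → f v' v' = 0 → f w' w' = 0 →
        f (v' + w') (v' + w') = 0 := fun v' w' hv' hw' h1 h2 => by
      rw [hf.add_left, add_right hf, add_right hf, h1, h2, f_block hD hab hv' hw',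
        f_block hD hab.symm hw' hv', add_zero, add_zero]
    by_cases h3 : ∃ μ : F, σ μ = μ ∧ μ ≠ 0 ∧ α * σ α + μ * (β * σ β) ≠ 0
    · obtain ⟨μ, hμ, hμ0, hμn⟩ := h3
      have hc2 : σ (μ * τ) = -(μ * τ) := by rw [map_mul, hμ, hτ, mul_neg]
      have hy := hCentres_mv hf hMf (M.mul_mem (hwM _ hc2) (hHM (htv_block_mem hf hD hv hvv hτ))) hxC
      rw [mv_mul, mv_htv, mv_htv, hf.add_left, hf.smul_left, f_block hD hab hv hw, mul_zero, add_zero,
        ← hα, ← hβ, add_assoc] at hy
      set δ := (τ * α) • v + (μ * τ * β) • w with hδ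
      have hδiso : f δ δ = 0 := hvwiso _ _ ((D a).smul_mem _ hv) ((D b).smul_mem _ hw)
        (by rw [hf.smul_left, smul_right hf, hvv, mul_zero, mul_zero])
        (by rw [hf.smul_left, smul_right hf, hww, mul_zero, mul_zero])
      have := hCentres_add hf hMf hy hnX (by
        rw [neg_right hf, neg_ne_zero, hf.add_left, hXX, zero_add, hδ, hf.add_left, hf.smul_left, hf.smul_left,
          hf.herm v X, hf.herm w X, ← hα, ← hβ,
          show τ * α * σ α + μ * τ * β * σ β = τ * (α * σ α + μ * (β * σ β)) by ring]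
        exact mul_ne_zero hτ0 hμn) (by rw [show X + δ + -X = δ by abel]; exact hδiso)
      rw [show X + δ + -X = δ by abel] at this
      exact ⟨a, b, hab, _, (D a).smul_mem _ hv, smul_ne_zero (mul_ne_zero hτ0 hα0) hv0,
        by rw [hf.smul_left, smul_right hf, hvv, mul_zero, mul_zero], _, (D b).smul_mem _ hw,
        smul_ne_zero (mul_ne_zero (mul_ne_zero hμ0 hτ0) hβ0) hw0,
        by rw [hf.smul_left, smul_right hf, hww, mul_zero, mul_zero], this⟩
    push Not at h3
    have hone : ∀ μ : F, σ μ = μ → μ ≠ 0 → μ = 1 := fun μ hμ hμ0 => by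
      have e1 := h3 μ hμ hμ0
      have e2 := h3 1 (map_one σ) one_ne_zero
      exact mul_right_cancel₀ hBf (by linear_combination e1 - e2)
    have hq : Nat.card (fixedField σ) = 2 := by
      rw [Nat.card_eq_two_iff' (0 : fixedField σ)]
      exact ⟨1, one_ne_zero, fun y hy => Subtype.ext (hone _ y.2 fun h => hy (Subtype.ext h))⟩
    have hk3 : 3 ≤ k := by
      rcases hex with h | h
      · omega
      · exact absurd hq h
    obtain ⟨g, hg, hgx, hgo, hgD, hgf⟩ := exists_shift hf hD hk3 hq (hx a) ha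
    set δ := mv g (x a) - x a with hδdef
    have hgX : mv g X = X + δ := by
      rw [hX, mv_sum, ← Finset.add_sum_erase _ _ (Finset.mem_univ a),
        ← Finset.add_sum_erase _ x (Finset.mem_univ a),
        Finset.sum_congr rfl fun i hi => hgf i (Finset.ne_of_mem_erase hi) _ (hx i), hδdef]
      abel
    have hδD : δ ∈ D a := (D a).sub_mem hgD (hx a)
    have hδo : f δ (x a) = 0 := hgo
    have hδX : f δ X = 0 := by rw [hf.herm, hXb a δ hδD, ← hf.herm δ, hδo]
    have hδδ : f δ δ = 0 := by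
      have h1 : f (X + δ) (X + δ) = 0 := by rw [← hgX]; exact (hMS (hHM hg)).1 X X |>.trans hXX
      rwa [hf.add_left, add_right hf, add_right hf, hXX, (f_eq_zero_comm hf).1 hδX, hδX, zero_add, zero_add,
        zero_add] at h1
    have hy := hCentres_mv hf hMf (M.mul_mem (hwM τ hτ) (hHM hg)) hxC
    rw [mv_mul, hgX, mv_htv, hf.add_left, f_block hD hab hδD hw, add_zero, ← hβ, add_assoc] at hy
    have hwiso : f ((τ * β) • w) ((τ * β) • w) = 0 := by
      rw [hf.smul_left, smul_right hf, hww, mul_zero, mul_zero]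
    have := hCentres_add hf hMf hy hnX (by
      rw [neg_right hf, neg_ne_zero, hf.add_left, hXX, zero_add, hf.add_left, hδX, zero_add, hf.smul_left,
        hf.herm w X, ← hβ, mul_assoc]
      exact mul_ne_zero hτ0 hBf)
      (by rw [show X + (δ + (τ * β) • w) + -X = δ + (τ * β) • w by abel]
          exact hvwiso _ _ hδD ((D b).smul_mem _ hw) hδδ hwiso)
    rw [show X + (δ + (τ * β) • w) + -X = δ + (τ * β) • w by abel] at this
    exact ⟨a, b, hab, δ, hδD, sub_ne_zero.2 hgx, hδδ, _, (D b).smul_mem _ hw,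
      smul_ne_zero (mul_ne_zero hτ0 hβ0) hw0, hwiso, this⟩
  -- all isotropic pairs
  have hiso2 : ∀ v' ∈ D a, ∀ w' ∈ D b, f v' v' = 0 → f w' w' = 0 → v' + w' ∈ C := by
    intro v' hv' w' hw' h1 h2
    by_cases hv'0 : v' = 0
    · rw [hv'0, zero_add]; exact hC1 b w' hw' h2
    by_cases hw'0 : w' = 0
    · rw [hw'0, add_zero]; exact hC1 a v' hv' h1
    obtain ⟨g, hg, hgv, hgb⟩ := exists_move_two hf hD hk hn hab hv hv' hv0 hv'0 hvv (hvv.trans h1.symm)
    obtain ⟨g', hg', hgw, hga⟩ := exists_move_two hf hD hk hn hab.symm hw hw' hw0 hw'0 hww (hww.trans h2.symm)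
    have := hCentres_mv hf hMf (M.mul_mem (hHM hg') (hHM hg)) hvw
    rwa [mv_mul, mv_add, hgv, hgb w hw, mv_add, hga v' hv', hgw] at this
  have hP : ∀ v' ∈ D a, ∀ w' ∈ D b, f (v' + w') (v' + w') = 0 → v' + w' ∈ C := by
    intro v' hv' w' hw' h
    have hsum : f v' v' + f w' w' = 0 := by
      rwa [hf.add_left, add_right hf, add_right hf, f_block hD hab hv' hw', f_block hD hab.symm hw' hv',
        add_zero, zero_add] at h
    by_cases hN0 : f v' v' = 0
    · exact hiso2 v' hv' w' hw' hN0 (by rwa [hN0, zero_add] at hsum)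
    obtain ⟨β₁, hβ₁⟩ := exists_trace hf.ne_refl hf.involutive (f v' v') (self_fixed hf v')
    have hβ10 : β₁ ≠ 0 := fun h => hN0 (by rw [← hβ₁, h, map_zero, add_zero])
    obtain ⟨e, he, d, hd, hee, hdd, hed, rfl⟩ := exists_norm_pair hf (hN a) (hk2 a) hv' hN0 hβ₁ hβ10
    have hwN : f w' w' ≠ 0 := fun h0 => hN0 (by linear_combination hsum - h0)
    have hβ₂ : (-β₁ + τ) + σ (-β₁ + τ) = f w' w' := by
      rw [map_add, map_neg, hτ]; linear_combination -hβ₁ - hsum
    have hβ20 : -β₁ + τ ≠ 0 := fun h => hwN (by rw [← hβ₂, h, map_zero, add_zero])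
    obtain ⟨e', he', d', hd', hee', hdd', hed', rfl⟩ := exists_norm_pair hf (hN b) (hk2 b) hw' hwN hβ₂ hβ20
    have e1 : e + e' ∈ C := hiso2 e he e' he' hee hee'
    have e2 : β₁ • d + (-β₁ + τ) • d' ∈ C := hiso2 _ ((D a).smul_mem _ hd) _ ((D b).smul_mem _ hd')
      (by rw [hf.smul_left, smul_right hf, hdd, mul_zero, mul_zero])
      (by rw [hf.smul_left, smul_right hf, hdd', mul_zero, mul_zero])
    have hadd : e + β₁ • d + (e' + (-β₁ + τ) • d') = e + e' + (β₁ • d + (-β₁ + τ) • d') := by abel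
    rw [hadd] at h ⊢
    refine hCentres_add hf hMf e1 e2 ?_ h
    rw [hf.add_left, add_right hf, add_right hf, smul_right hf, smul_right hf, smul_right hf, smul_right hf,
      hed, hed', f_block hD hab he hd', f_block hD hab.symm he' hd, mul_one, mul_one, mul_zero, mul_zero,
      add_zero, zero_add, map_add, map_neg, hτ, add_neg_cancel_left, neg_ne_zero]
    exact hτ0
  have hall := pairs_of_one hf hD hMf hHM hab hP
  -- induction on the number of components
  have main : ∀ (m : ℕ) (x : Fin t → ι → F), (∀ i, x i ∈ D i) →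
      (Finset.univ.filter fun i => x i ≠ 0).card ≤ m → f (∑ i, x i) (∑ i, x i) = 0 → ∑ i, x i ∈ C := by
    intro m
    induction m with
    | zero =>
      intro x hx hS _
      have : ∑ i, x i = 0 := Finset.sum_eq_zero fun i _ => by
        by_contra hi
        have := Finset.card_pos.2 ⟨i, (Finset.mem_filter (p := fun j => x j ≠ 0)).2 ⟨Finset.mem_univ i, hi⟩⟩
        omega
      rw [this]; exact hC1 a₀ 0 (Submodule.zero_mem _) (zero_left hf 0)
    | succ m ih =>
      intro x hx hS hiso
      set S := Finset.univ.filter fun i => x i ≠ 0 with hSdef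
      have hsumS : ∑ i ∈ S, x i = ∑ i, x i := Finset.sum_filter_of_ne fun i _ h => h
      by_cases hS2 : S.card ≤ 2
      · rcases Nat.lt_or_ge S.card 2 with h1 | h1
        · rcases S.eq_empty_or_nonempty with he | ⟨i, hi⟩
          · rw [← hsumS, he, Finset.sum_empty]; exact hC1 a₀ 0 (Submodule.zero_mem _) (zero_left hf 0)
          · have hSi : S = {i} := Finset.eq_singleton_iff_unique_mem.2
              ⟨hi, fun j hj => Finset.card_le_one.1 (by omega) j hj i hi⟩
            rw [← hsumS, hSi, Finset.sum_singleton] at hiso ⊢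
            exact hC1 i _ (hx i) hiso
        · obtain ⟨c, d, hcd, hSeq⟩ := Finset.card_eq_two.1 (show S.card = 2 by omega)
          rw [← hsumS, hSeq, Finset.sum_pair hcd] at hiso ⊢
          exact hall c d hcd _ (hx c) _ (hx d) hiso
      obtain ⟨c, hc, d, hd, hcd⟩ := Finset.one_lt_card.1 (show 1 < S.card by omega)
      have hX := nondeg_two_blocks hf hD hcd
      have hu0 : x c + x d ≠ 0 := fun h0 => (Finset.mem_filter.1 hc).2
        (eq_zero_of_mem_two hf hD hcd (hx c) (by rw [eq_neg_of_add_eq_zero_left h0]; exact (D d).neg_mem (hx d)))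
      obtain ⟨y, hy, hy0, hyy⟩ := exists_norm_vector hf (hN c) (hk2 c) (self_fixed hf (x c + x d))
      obtain ⟨g, hg, hgu, hgfix⟩ := exists_move_norm hf hX.1 (by rw [hX.2]; omega) (K := M)
        (fun v' hv' hvv' cc hcc => by
          obtain ⟨p, hp, q, hq, rfl⟩ := Submodule.mem_sup.1 hv'
          exact (hall c d hcd p hp q hq hvv').2 cc hcc) hMf
        (Submodule.add_mem_sup (hx c) (hx d)) (Submodule.mem_sup_left hy) hu0 hy0 hyy.symm
      set x' : Fin t → ι → F := fun i => if i = c then y else if i = d then 0 else x i with hx'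
      have hgsum : mv g (∑ i, x i) = ∑ i, x' i := by
        rw [← Finset.add_sum_erase _ _ (Finset.mem_univ c), ← Finset.add_sum_erase _ x' (Finset.mem_univ c),
          ← Finset.add_sum_erase _ x (Finset.mem_erase.2 ⟨hcd.symm, Finset.mem_univ d⟩),
          ← Finset.add_sum_erase _ x' (Finset.mem_erase.2 ⟨hcd.symm, Finset.mem_univ d⟩), ← add_assoc, mv_add,
          hgu, hgfix _ (fun v' hv' => ?_)]
        · rw [show x' c = y from if_pos rfl, show x' d = 0 from (if_neg hcd.symm).trans (if_pos rfl), zero_add]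
          congr 1
          refine Finset.sum_congr rfl fun i hi => ?_
          simp only [Finset.mem_erase] at hi
          simp [hx', hi.1, hi.2.1]
        · obtain ⟨p, hp, q, hq, rfl⟩ := Submodule.mem_sup.1 hv'
          rw [sum_left hf]
          refine Finset.sum_eq_zero fun i hi => ?_
          simp only [Finset.mem_erase] at hi
          rw [add_right hf, f_block hD hi.2.1 (hx i) hp, f_block hD hi.1 (hx i) hq, add_zero]
      have hmem : ∀ i, x' i ∈ D i := fun i => by
        simp only [hx']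
        split_ifs with h1 h2
        · subst h1; exact hy
        · exact Submodule.zero_mem _
        · exact hx i
      have hsub : (Finset.univ.filter fun i => x' i ≠ 0) ⊆ S.erase d := fun i hi => by
        simp only [Finset.mem_filter, Finset.mem_univ, true_and, hx', ne_eq] at hi
        refine Finset.mem_erase.2 ⟨fun h => ?_, ?_⟩
        · subst h; exact hi (by rw [if_neg hcd.symm, if_pos rfl])
        · by_cases hic : i = c
          · subst hic; exact hc
          · by_cases hid : i = d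
            · subst hid; exact hd
            · exact Finset.mem_filter.2 ⟨Finset.mem_univ i, by simpa [hic, hid] using hi⟩
      have h1 := ih x' hmem ((Finset.card_le_card hsub).trans (by rw [Finset.card_erase_of_mem hd]; omega))
        (by rw [← hgsum]; exact (hMf hg _ _).trans hiso)
      rw [← hgsum] at h1
      have := hCentres_mv hf hMf (M.inv_mem hg) h1
      rwa [mv_inv_mv] at this
  intro v' hv'
  obtain ⟨x, hx, rfl⟩ := exists_sum_blocks hD v'
  exact main _ x hx le_rfl hv'

end Cfsg.Agent.Transvec.Herm
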