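/-
In characteristic two the group of a quadratic form polarising to an alternating form is maximal in the
symplectic group (dimension at least 6).
-/
import Cfsg.Agent.Lib.Transvec.AltMaximal
set_option autoImplicit false

namespace Cfsg.Agent.Transvec

open scoped Matrix
open Matrix

variable {ι : Type} [Fintype ι] [DecidableEq ι] {F : Type*} [Field F]
variable {f : (ι → F) → (ι → F) → F} (hf : Geo.IsSymplecticForm f)
variable {Q : (ι → F) → F} (hQs : ∀ (c : F) v, Q (c • v) = c ^ 2 * Q v)
  (hQa : ∀ u v, Q (u + v) = Q u + Q v + f u v)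
  (h2 : (2 : F) = 0) (hsq : ∀ a : F, ∃ b, b ^ 2 = a) (hn : 6 ≤ Fintype.card ι)

include hf in
theorem finrank_isotropic_le {T : Submodule F (ι → F)} (hT : ∀ x ∈ T, ∀ y ∈ T, f x y = 0) :
    2 * Module.finrank F T ≤ Fintype.card ι := by
  have hinj : Function.Injective (formR hf) := formR_injective hf
  have hle : T.map (formR hf) ≤ T.dualAnnihilator := by
    rintro _ ⟨y, hy, rfl⟩
    rw [Submodule.mem_dualAnnihilator]
    exact fun x hx => hT x hx y hy
  have h := Submodule.finrank_mono hle
  rw [← LinearEquiv.finrank_eq (Submodule.equivMapOfInjective (formR hf) hinj T)] at h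
  have := Subspace.finrank_add_finrank_dualAnnihilator_eq T
  rw [Module.finrank_pi] at this
  omega

theorem card_sub_le_finrank_ker {k : ℕ} (φ : Fin k → Module.Dual F (ι → F)) :
    Fintype.card ι ≤ Module.finrank F ↥(LinearMap.ker (LinearMap.pi φ)) + k := by
  have h := LinearMap.finrank_range_add_finrank_ker (LinearMap.pi φ)
  have h' := Submodule.finrank_le (LinearMap.range (LinearMap.pi φ))
  rw [Module.finrank_fin_fun] at h'
  rw [Module.finrank_pi] at h
  omega

include hf hQs hQa hsq in
theorem exists_value {T : Submodule F (ι → F)} (hT : Fintype.card ι < 2 * Module.finrank F T) (r : F) :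
    ∃ t ∈ T, Q t = r := by
  obtain ⟨t, ht, ht0⟩ : ∃ t ∈ T, Q t ≠ 0 := by
    by_contra h
    push Not at h
    refine absurd (finrank_isotropic_le hf (T := T) fun x hx y hy => ?_) (by omega)
    have := hQa x y
    rwa [h x hx, h y hy, h _ (T.add_mem hx hy), zero_add, zero_add, eq_comm] at this
  obtain ⟨b, hb⟩ := hsq (r / Q t)
  exact ⟨b • t, T.smul_mem _ ht, by rw [hQs, hb, div_mul_cancel₀ _ ht0]⟩

include hQs hQa h2 in
theorem refl_isometry {s : ι → F} (hs : Q s ≠ 0) (x : ι → F) :
    Q (mv (stv hf s (Q s)⁻¹) x) = Q x := by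
  rw [mv_stv, hQa, hQs, hf.bilinear.smul_right]
  calc Q x + ((Q s)⁻¹ * f x s) ^ 2 * Q s + (Q s)⁻¹ * f x s * f x s
      = Q x + 2 * ((Q s)⁻¹ * f x s * f x s) := by field_simp; ring
    _ = Q x := by rw [h2, zero_mul, add_zero]

include hQa in
theorem isometry_preserving {g : GL ι F} (hg : ∀ x, Q (mv g x) = Q x) :
    g ∈ preserving (Units.coeHom (Matrix ι ι F)) f := by
  show ∀ x y, f (mv g x) (mv g y) = f x y
  intro x y
  have := hQa (mv g x) (mv g y)
  rw [← mv_add, hg, hg, hg, hQa] at this
  linear_combination -this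

include hf hQs hQa h2 hsq hn in
/-- Vectors with the same value of Q are conjugate under the group generated by the reflections. -/
theorem exists_isometry_move {K : Subgroup (GL ι F)}
    (hK : ∀ g, (∀ x, Q (mv g x) = Q x) → g ∈ K) {u w : ι → F} (hu : u ≠ 0) (hw : w ≠ 0)
    (h : Q u = Q w) : ∃ g ∈ K, mv g u = w := by
  have hneg : ∀ a : F, -a = a := fun a => by linear_combination -a * h2
  have hQu : ∀ a b, Q a = Q b → f a b ≠ 0 → ∃ g ∈ K, mv g a = b := by
    intro a b hab hfab
    have hs : Q (b - a) = f a b := by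
      have e : b - a = a + b := by
        ext i; simp only [Pi.sub_apply, Pi.add_apply]; linear_combination (-(a i)) * h2
      rw [e, hQa, hab]
      linear_combination Q b * h2
    refine ⟨_, hK _ fun x => ?_, stv_map hf hfab⟩
    have := refl_isometry hf hQs hQa h2 (s := b - a) (by rwa [hs]) x
    rwa [hs] at this
  by_cases hfuw : f u w = 0
  · obtain ⟨y₀, -, hy1, hy2⟩ := exists_two hf (nondeg_top hf) Submodule.mem_top Submodule.mem_top hu hw
    set φ : Fin 2 → Module.Dual F (ι → F) := ![formR hf u, formR hf w]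
    obtain ⟨t, ht, hQt⟩ : ∃ t ∈ LinearMap.ker (LinearMap.pi φ), Q (y₀ + t) ≠ 0 := by
      by_contra hcon
      push Not at hcon
      have h0 := hcon 0 (Submodule.zero_mem _)
      rw [add_zero] at h0
      have hlin : ∀ t ∈ LinearMap.ker (LinearMap.pi φ), Q t = -f y₀ t := fun t ht => by
        have := hcon t ht
        rw [hQa, h0] at this
        linear_combination this
      have h3 := finrank_isotropic_le hf (T := LinearMap.ker (LinearMap.pi φ)) fun a ha b hb => by
        have := hQa a b
        rw [hlin a ha, hlin b hb, hlin _ (Submodule.add_mem _ ha hb), hf.bilinear.add_right] at this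
        linear_combination -this
      have := card_sub_le_finrank_ker φ
      omega
    have ht' := fun i => congrFun (LinearMap.mem_ker.1 ht) i
    have ht0 : f t u = 0 := ht' 0
    have ht1 : f t w = 0 := ht' 1
    obtain ⟨c, hc⟩ := hsq (Q (y₀ + t))⁻¹
    have hc0 : c ≠ 0 := fun h => hQt (inv_eq_zero.1 (by rw [← hc, h]; ring))
    obtain ⟨y, hy⟩ : ∃ y, y = c • (y₀ + t) := ⟨_, rfl⟩
    have hQy : Q y = 1 := by rw [hy, hQs, hc, inv_mul_cancel₀ hQt]
    have huy : f u y ≠ 0 := by
      rw [hy, hf.bilinear.smul_right, hf.bilinear.add_right, (f_eq_zero_comm hf).1 ht0, add_zero]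
      exact mul_ne_zero hc0 hy1
    have hwy : f w y ≠ 0 := by
      rw [hy, hf.bilinear.smul_right, hf.bilinear.add_right, (f_eq_zero_comm hf).1 ht1, add_zero]
      exact mul_ne_zero hc0 hy2
    set z := u + f u y • y with hz
    have hQz : Q z = Q u := by
      rw [hz, hQa, hQs, hQy, hf.bilinear.smul_right]
      linear_combination (f u y) ^ 2 * h2
    have huz : f u z ≠ 0 := by
      rw [hz, hf.bilinear.add_right, hf.bilinear.smul_right, hf.alternating, zero_add]
      exact mul_ne_zero huy huy
    have hwz : f z w ≠ 0 := by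
      rw [hz, hf.bilinear.add_left, hf.bilinear.smul_left, hfuw, zero_add, hf.skew y w, hneg]
      exact mul_ne_zero huy hwy
    obtain ⟨g₁, hg₁, e₁⟩ := hQu u z hQz.symm huz
    obtain ⟨g₂, hg₂, e₂⟩ := hQu z w (hQz.trans h) hwz
    exact ⟨g₂ * g₁, K.mul_mem hg₂ hg₁, by rw [mv_mul, e₁, e₂]⟩
  · exact hQu u w h hfuw

include hf hQs hQa h2 hsq hn in
theorem quad_maximal_sp :
    Geo.IsMaximalIn (preserving (Units.coeHom (Matrix ι ι F)) f)
      (Geo.quadSimilarityGroup Q ⊓ preserving (Units.coeHom (Matrix ι ι F)) f) := by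
  set H := Geo.quadSimilarityGroup Q ⊓ preserving (Units.coeHom (Matrix ι ι F)) f
  have hnz : ∃ e : ι → F, e ≠ 0 := by
    obtain ⟨i⟩ : Nonempty ι := Fintype.card_pos_iff.1 (by omega)
    exact ⟨Pi.single i 1, fun h => by simpa using congrFun h i⟩
  have hHiso : ∀ g ∈ H, ∀ x, Q (mv g x) = Q x := by
    rintro g ⟨⟨c, hc⟩, hg⟩ x
    obtain ⟨e, he⟩ := hnz
    obtain ⟨d, hd⟩ := (hf.nondegenerate e he).2
    have hc1 : (c : F) = 1 := by
      have := hQa (mv g e) (mv g d)
      rw [← mv_add] at this
      have hfgd : f (mv g e) (mv g d) = f e d := hg e d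
      rw [show Q (mv g (e + d)) = _ from hc _, show Q (mv g e) = _ from hc _,
        show Q (mv g d) = _ from hc _, hQa, hfgd] at this
      have h0 : ((c : F) - 1) * f e d = 0 := by linear_combination this
      rcases mul_eq_zero.1 h0 with h | h
      · exact sub_eq_zero.1 h
      · exact absurd h hd
    rw [show Q (mv g x) = _ from hc x, hc1, one_mul]
  have hisoH : ∀ g : GL ι F, (∀ x, Q (mv g x) = Q x) → g ∈ H := fun g hg =>
    ⟨⟨1, fun x => by rw [Units.val_one, one_mul]; exact hg x⟩, isometry_preserving hQa hg⟩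
  refine ⟨?_, fun M hHM hMS => ?_⟩
  · -- a transvection at a singular centre is not an isometry
    obtain ⟨y, hy⟩ := hnz
    obtain ⟨φ₀, hφ₀, hφ₀y⟩ := exists_dual (W := (⊥ : Submodule F (ι → F))) (u := y) (by simpa using hy)
    obtain ⟨t, ht, hQt⟩ := exists_value hf hQs hQa hsq
      (T := LinearMap.ker (LinearMap.pi ![φ₀, formR hf y]))
      (by have := card_sub_le_finrank_ker ![φ₀, formR hf y]; omega) (Q y)
    have ht0 : φ₀ t = 0 := congrFun (LinearMap.mem_ker.1 ht) 0
    have ht1 : f t y = 0 := congrFun (LinearMap.mem_ker.1 ht) 1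
    set u := y + t with hu
    have hu0 : u ≠ 0 := fun h => by
      have := congrArg φ₀ h
      rw [hu, map_add, hφ₀y, ht0, add_zero, map_zero] at this
      exact one_ne_zero this
    have hQu : Q u = 0 := by
      rw [hu, hQa, hQt, (f_eq_zero_comm hf).1 ht1, add_zero]; linear_combination Q y * h2
    obtain ⟨x, -, hux⟩ := exists_partner hf (nondeg_top hf) (e := u) Submodule.mem_top hu0
    refine lt_of_le_of_ne inf_le_right fun he => ?_
    have := hHiso _ (he.ge (stv_mem hf u 1)) x
    rw [mv_stv, hQa, hQs, hQu, hf.bilinear.smul_right, hf.skew x u, hux] at this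
    simp at this
  by_cases hM : ∀ g ∈ M, ∀ x, Q (mv g x) = Q x
  · exact Or.inl (le_antisymm (fun g hg => hisoH g (hM g hg)) hHM)
  refine Or.inr (sCentres_eq_univ hf hMS ?_)
  push Not at hM
  obtain ⟨g, hg, a, ha⟩ := hM
  have hiso : ∀ k : GL ι F, (∀ x, Q (mv k x) = Q x) → k ∈ M := fun k hk => hHM (hisoH k hk)
  set L : (ι → F) → F := fun x => Q (mv g x) - Q x with hL
  have hLa : ∀ x y, L (x + y) = L x + L y := fun x y => by
    have hfg : f (mv g x) (mv g y) = f x y := hMS hg x y
    simp only [hL, mv_add, hQa, hfg]; ring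
  have hLs : ∀ (c : F) x, L (c • x) = c ^ 2 * L x := fun c x => by
    simp only [hL, mv_smul, hQs]; ring
  let K₀ : Submodule F (ι → F) :=
    { carrier := {x | L x = 0}
      add_mem' := fun {x y} hx hy => by
        show L (x + y) = 0
        rw [hLa, show L x = 0 from hx, show L y = 0 from hy, add_zero]
      zero_mem' := by
        show L 0 = 0
        simpa using hLs 0 0
      smul_mem' := fun c x hx => by
        show L (c • x) = 0
        rw [hLs, show L x = 0 from hx, mul_zero] }
  have ha' : L a ≠ 0 := sub_ne_zero.2 ha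
  have hK₀ : Fintype.card ι ≤ Module.finrank F K₀ + 1 := by
    have htop : K₀ ⊔ Submodule.span F {a} = ⊤ := Submodule.eq_top_iff'.2 fun x => by
      obtain ⟨b, hb⟩ := hsq (L x / L a)
      rw [show x = (x + b • a) + -(b • a) by abel]
      refine Submodule.add_mem _ (Submodule.mem_sup_left ?_)
        (Submodule.mem_sup_right (Submodule.neg_mem _ (Submodule.smul_mem _ _ (Submodule.mem_span_singleton_self a))))
      show L (x + b • a) = 0
      rw [hLa, hLs, hb, div_mul_cancel₀ _ ha']
      linear_combination L x * h2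
    have h := Submodule.finrank_sup_add_finrank_inf_eq K₀ (Submodule.span F {a})
    have h1 : Module.finrank F ↥(Submodule.span F {a}) ≤ 1 := (finrank_span_singleton (by
      intro h0; exact ha' (by subst h0; simpa using hLs 0 0))).le
    rw [htop, finrank_top, Module.finrank_pi] at h
    omega
  have hval : ∀ s r, ∃ v, L v = s ∧ Q v = r := by
    intro s r
    obtain ⟨b, hb⟩ := hsq (s / L a)
    have hT : Fintype.card ι < 2 * Module.finrank F ↥(K₀ ⊓ LinearMap.ker (formR hf (b • a))) := by
      have h := Submodule.finrank_sup_add_finrank_inf_eq K₀ (LinearMap.ker (formR hf (b • a)))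
      have h' := Submodule.finrank_le (K₀ ⊔ LinearMap.ker (formR hf (b • a)))
      have h'' := card_sub_le_finrank_ker ![formR hf (b • a)]
      have heq : LinearMap.ker (LinearMap.pi ![formR hf (b • a)]) = LinearMap.ker (formR hf (b • a)) := by
        ext x; simp [funext_iff, Fin.forall_fin_one]
      rw [heq] at h''
      rw [Module.finrank_pi] at h'
      omega
    obtain ⟨t, ht, hQt⟩ := exists_value hf hQs hQa hsq hT (r - Q (b • a))
    refine ⟨b • a + t, ?_, ?_⟩
    · rw [hLa, show L t = 0 from ht.1, hLs, hb, div_mul_cancel₀ _ ha', add_zero]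
    · rw [hQa, hQt, (f_eq_zero_comm hf).1 (LinearMap.mem_ker.1 ht.2)]; ring
  -- transvections whose parameter is the reciprocal of Q ∘ g
  have htv : ∀ v, Q (mv g v) ≠ 0 → stv hf v (Q (mv g v))⁻¹ ∈ M := by
    intro v hv
    have h1 : stv hf (mv g v) (Q (mv g v))⁻¹ ∈ M := hiso _ (refl_isometry hf hQs hQa h2 hv)
    have := stv_conj hf (g := g⁻¹) one_ne_zero
      (fun x y => by rw [one_mul]; exact hMS (M.inv_mem hg) x y) (mv g v) (Q (mv g v))⁻¹
    rw [mv_inv_mv, div_one] at this
    rw [← this]
    exact M.mul_mem (M.mul_mem (M.inv_mem hg) h1) (M.inv_mem (M.inv_mem hg))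
  have transfer : ∀ {v v' : ι → F} (c : F), v ≠ 0 → v' ≠ 0 → Q v = Q v' → stv hf v c ∈ M →
      stv hf v' c ∈ M := by
    intro v v' c hv hv' hQ hm
    obtain ⟨k, hk, hkv⟩ := exists_isometry_move hf hQs hQa h2 hsq hn hiso hv hv' hQ
    have := stv_conj hf (g := k) one_ne_zero (fun x y => by rw [one_mul]; exact hMS hk x y) v c
    rw [hkv, div_one] at this
    rw [← this]
    exact M.mul_mem (M.mul_mem hk hm) (M.inv_mem hk)
  have hQ0 : Q 0 = 0 := by simpa using hQs 0 0
  intro v c
  rcases eq_or_ne c 0 with rfl | hc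
  · rw [stv_zero]; exact M.one_mem
  rcases eq_or_ne v 0 with rfl | hv0
  · rw [show stv hf (0 : ι → F) c = 1 from ext_mv fun x => by rw [mv_stv, mv_one, smul_zero, add_zero]]
    exact M.one_mem
  by_cases hv : Q v = 0
  · -- singular centre
    obtain ⟨u, hLu, hQu⟩ := hval 1 0
    have hgu : Q (mv g u) = 1 := by
      have : L u = 1 := hLu
      simp only [hL, hQu, sub_zero] at this
      exact this
    have hu0 : u ≠ 0 := fun h => by rw [h, mv_zero, hQ0] at hgu; exact zero_ne_one hgu
    obtain ⟨b, hb⟩ := hsq c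
    have hb0 : b ≠ 0 := fun h => hc (by rw [← hb, h]; ring)
    have h1 := htv u (by rw [hgu]; exact one_ne_zero)
    rw [hgu, inv_one] at h1
    have h2' := transfer 1 hu0 (smul_ne_zero hb0 hu0) (by rw [hQs, hQu, mul_zero]) h1
    rw [stv_smul, mul_one, ← pow_two, hb] at h2'
    exact transfer c hu0 hv0 (by rw [hQu, hv]) h2'
  · -- non-singular centre
    obtain ⟨b, hb⟩ := hsq (Q v)
    have hb0 : b ≠ 0 := fun h => hv (by rw [← hb, h]; ring)
    have hv1 : v = b • (b⁻¹ • v) := by rw [smul_smul, mul_inv_cancel₀ hb0, one_smul]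
    rw [hv1, stv_smul]
    set d := b * b * c with hd
    have hd0 : d ≠ 0 := mul_ne_zero (mul_ne_zero hb0 hb0) hc
    obtain ⟨u, hLu, hQu⟩ := hval (d⁻¹ - 1) 1
    have hgu : Q (mv g u) = d⁻¹ := by
      have : L u = d⁻¹ - 1 := hLu
      simp only [hL, hQu] at this
      linear_combination this
    have h1 := htv u (by rw [hgu]; exact inv_ne_zero hd0)
    rw [hgu, inv_inv] at h1
    refine transfer d (fun h => by rw [h, hQ0] at hQu; exact zero_ne_one hQu)
      (smul_ne_zero (inv_ne_zero hb0) hv0) ?_ h1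
    rw [hQu, hQs, inv_pow, hb, inv_mul_cancel₀ hv]

end Cfsg.Agent.Transvec
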