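/-
Maximality in the symplectic group of the stabiliser of two complementary totally singular subspaces.
-/
import Cfsg.Agent.Lib.Transvec.SubfieldSymp
set_option autoImplicit false

namespace Cfsg.Agent.Transvec

open scoped Matrix
open Matrix

variable {ι : Type} [Fintype ι] [DecidableEq ι] {F : Type*} [Field F]
variable {f : (ι → F) → (ι → F) → F} (hf : Geo.IsSymplecticForm f)
include hf

/-- The map z ↦ z + f(z,u) y + f(z,y) u. -/
def IsPairMap (g : GL ι F) (u y : ι → F) : Prop :=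
  ∀ z, mv g z = z + f z u • y + f z y • u

/-- The elements with vertices a and b lie in M for every parameter. -/
def PairMem (M : Subgroup (GL ι F)) (a b : ι → F) : Prop :=
  ∀ l : F, ∃ e ∈ M, IsPairMap (f := f) e a (l • b)

theorem pairMem_symm {M : Subgroup (GL ι F)} {a b : ι → F} (h : PairMem (f := f) M a b) :
    PairMem (f := f) M b a := by
  intro l
  obtain ⟨e, he, he'⟩ := h l
  refine ⟨e, he, fun z => ?_⟩
  rw [he', hf.bilinear.smul_right, hf.bilinear.smul_right]
  module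

theorem pairMap_conj {g e : GL ι F} (hg : ∀ x z, f (mv g x) (mv g z) = f x z) {u y : ι → F}
    (he : IsPairMap (f := f) e u y) : IsPairMap (f := f) (g * e * g⁻¹) (mv g u) (mv g y) := by
  intro z
  obtain ⟨w, rfl⟩ : ∃ w, z = mv g w := ⟨mv g⁻¹ z, (mv_mv_inv g z).symm⟩
  rw [mv_mul, mv_mul, mv_inv_mv, he w, hg, hg, mv_add, mv_add, mv_smul, mv_smul]

theorem pairMem_conj {M : Subgroup (GL ι F)} (hMf : M ≤ preserving (Units.coeHom (Matrix ι ι F)) f) {g : GL ι F}
    (hg : g ∈ M) {a b : ι → F} (h : PairMem (f := f) M a b) : PairMem (f := f) M (mv g a) (mv g b) := by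
  intro l
  obtain ⟨e, he, he'⟩ := h l
  exact ⟨_, M.mul_mem (M.mul_mem hg he) (M.inv_mem hg),
    mv_smul g l b ▸ pairMap_conj hf (fun x z => hMf hg x z) he'⟩

theorem exists_pairMap {u y : ι → F} (h : f y u = 0) :
    ∃ g ∈ preserving (Units.coeHom (Matrix ι ι F)) f, IsPairMap (f := f) g u y :=
  ⟨qv hf u y 0, Subgroup.mul_mem _ (Subgroup.mul_mem _ (stv_mem hf _ _) (stv_mem hf _ _)) (stv_mem hf _ _),
    fun z => by rw [mv_qv hf h, zero_mul, zero_smul, add_zero]⟩

/-- Two pairs with a common vertex and non-orthogonal second vertices give transvections at the vertex. -/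
theorem sCentre_of_two_pairs (h2 : (2 : F) ≠ 0) {M : Subgroup (GL ι F)} {a b b' : ι → F} (hba : f b a = 0)
    (hb'a : f b' a = 0) (h : PairMem (f := f) M a b) (h' : PairMem (f := f) M a b') (hbb : f b b' ≠ 0) :
    a ∈ sCentres hf M := by
  intro d
  obtain ⟨e, he, he'⟩ := h (-(d / (2 * f b b')))
  obtain ⟨e₂, he₂, he₂'⟩ := h' 1
  have hab := (f_eq_zero_comm hf).1 hba
  have hab' := (f_eq_zero_comm hf).1 hb'a
  have key : e * e₂ = stv hf a d * (e₂ * e) := ext_mv fun z => by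
    simp only [mv_mul, he' _, he₂' _, mv_stv, hf.bilinear.add_left, hf.bilinear.add_right,
      hf.bilinear.smul_left, hf.bilinear.smul_right, hf.alternating, hba, hb'a, hab, hab', hf.skew b' b,
      mul_zero, add_zero, one_mul, one_smul]
    match_scalars <;> field_simp <;> ring
  have := M.mul_mem (M.mul_mem he he₂) (M.inv_mem (M.mul_mem he₂ he))
  rwa [key, mul_inv_cancel_right] at this

variable {W W' : Submodule F (ι → F)} (hW : ∀ u ∈ W, ∀ v ∈ W, f u v = 0) (hW' : ∀ u ∈ W', ∀ v ∈ W', f u v = 0)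
  (hc : IsCompl W W')
include hW hW' hc

omit hf hW hW' in
theorem exists_pair_split (v : ι → F) : ∃ p ∈ W, ∃ w ∈ W', v = p + w := by
  have hv : v ∈ W ⊔ W' := by rw [hc.sup_eq_top]; exact Submodule.mem_top
  obtain ⟨p, hp, w, hw, h⟩ := Submodule.mem_sup.1 hv
  exact ⟨p, hp, w, hw, h.symm⟩

theorem exists_pair_dual (φ : Module.Dual F (ι → F)) : ∃ w ∈ W', ∀ x ∈ W, φ x = f x w := by
  obtain ⟨z, hz⟩ := exists_eq_f hf φ
  obtain ⟨p, hp, w, hw, rfl⟩ := exists_pair_split hc z
  exact ⟨w, hw, fun x hx => by rw [hz, hf.bilinear.add_right, hW x hx p hp, zero_add]⟩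

theorem exists_pair_avoid {U : Submodule F (ι → F)} (hU : Module.finrank F U + 2 < Module.finrank F W)
    (y y' : ι → F) : ∃ z ∈ W, f z y = 0 ∧ f z y' = 0 ∧ z ∉ U := by
  by_contra h
  push Not at h
  set L := ((formR hf y).prod (formR hf y')).comp W.subtype
  have h1 := LinearMap.finrank_range_add_finrank_ker L
  have h2 := Submodule.finrank_le (LinearMap.range L)
  rw [Module.finrank_prod, Module.finrank_self] at h2
  have h3 : (LinearMap.ker L).map W.subtype ≤ U := by
    rintro _ ⟨z, hz, rfl⟩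
    have hz' := LinearMap.mem_ker.1 hz
    exact h z z.2 (congrArg Prod.fst hz') (congrArg Prod.snd hz')
  have h4 := Submodule.finrank_mono h3
  rw [Submodule.finrank_map_subtype_eq] at h4
  omega

theorem exists_pair_avoid₁ {U : Submodule F (ι → F)} (hU : Module.finrank F U + 1 < Module.finrank F W)
    (y : ι → F) : ∃ z ∈ W, f z y = 0 ∧ f z y = 0 ∧ z ∉ U := by
  by_contra h
  push Not at h
  set L := (formR hf y).comp W.subtype
  have h1 := LinearMap.finrank_range_add_finrank_ker L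
  have h2 := Submodule.finrank_le (LinearMap.range L)
  rw [Module.finrank_self] at h2
  have h3 : (LinearMap.ker L).map W.subtype ≤ U := by
    rintro _ ⟨z, hz, rfl⟩
    have hz' := LinearMap.mem_ker.1 hz
    exact h z z.2 hz' hz'
  have h4 := Submodule.finrank_mono h3
  rw [Submodule.finrank_map_subtype_eq] at h4
  omega

variable {M : Subgroup (GL ι F)} (h2 : (2 : F) ≠ 0)
  (hMf : M ≤ preserving (Units.coeHom (Matrix ι ι F)) f)
  (hH : ∀ g ∈ preserving (Units.coeHom (Matrix ι ι F)) f,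
    (∀ u ∈ W, mv g u ∈ W) → (∀ u ∈ W', mv g u ∈ W') → g ∈ M)
  (hk : 3 ≤ Module.finrank F W)

include hH in
theorem exists_pair_std {p w : ι → F} (hp : p ∈ W) (hw : w ∈ W') (h : f w p = 0) :
    ∃ e ∈ M, IsPairMap (f := f) e p w := by
  obtain ⟨e, he, he'⟩ := exists_pairMap hf h
  refine ⟨e, hH e he (fun u hu => ?_) (fun u hu => ?_), he'⟩
  · rw [he', hW u hu p hp, zero_smul, add_zero]
    exact W.add_mem hu (W.smul_mem _ hp)
  · rw [he', hW' u hu w hw, zero_smul, add_zero]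
    exact W'.add_mem hu (W'.smul_mem _ hw)

include hH in
theorem pairMem_std {p w : ι → F} (hp : p ∈ W) (hw : w ∈ W') (h : f w p = 0) : PairMem (f := f) M p w := fun l =>
  exists_pair_std hf hW hW' hc hH hp (W'.smul_mem l hw) (by rw [hf.bilinear.smul_left, h, mul_zero])

include h2 hH in
/-- A pair with one vertex in W whose other vertex is not in W' gives transvections. -/
theorem sCentre_of_pure {a b : ι → F} (ha : a ∈ W) (hba : f b a = 0) (h : PairMem (f := f) M a b)
    {p w : ι → F} (hp : p ∈ W) (hp0 : p ≠ 0) (hw : w ∈ W') (hb : b = p + w) : a ∈ sCentres hf M := by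
  have hwa : f w a = 0 := by
    rw [hb, hf.bilinear.add_left, hW p hp a ha, zero_add] at hba
    exact hba
  by_cases hpa : p ∈ Submodule.span F {a}
  · obtain ⟨m, rfl⟩ := Submodule.mem_span_singleton.1 hpa
    have hm : m ≠ 0 := fun h => hp0 (by rw [h, zero_smul])
    intro d
    set l := d / (2 * m) with hl
    obtain ⟨e, he, he'⟩ := h l
    obtain ⟨e₂, he₂, he₂'⟩ := exists_pair_std hf hW hW' hc hH ha (W'.smul_mem (-l) hw)
      (by rw [hf.bilinear.smul_left, hwa, mul_zero])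
    refine (congrArg (· ∈ M) (ext_mv fun z => ?_)).mp (M.mul_mem he he₂)
    rw [show d = 2 * l * m by rw [hl]; field_simp, mv_stv, mv_mul, he' _, he₂' _, hb]
    simp only [hf.bilinear.add_left, hf.bilinear.add_right, hf.bilinear.smul_left, hf.bilinear.smul_right,
      hwa, (f_eq_zero_comm hf).1 hwa, hW a ha a ha, hW' w hw w hw, mul_zero, add_zero]
    module
  · obtain ⟨φ, hφ, hφp⟩ := exists_dual hpa
    obtain ⟨y, hy, hy'⟩ := exists_pair_dual hf hW hW' hc φ
    have hay : f a y = 0 := by rw [← hy' a ha, hφ a (Submodule.mem_span_singleton_self a)]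
    have hpy : f p y = 1 := by rw [← hy' p hp, hφp]
    refine sCentre_of_two_pairs hf h2 hba ((f_eq_zero_comm hf).1 hay) h
      (pairMem_std hf hW hW' hc hH ha hy ((f_eq_zero_comm hf).1 hay)) ?_
    rw [hb, hf.bilinear.add_left, hpy, hW' w hw y hy, add_zero]
    exact one_ne_zero

omit hW hW' hc in
/-- The second difference of three products of transvections. -/
theorem exists_pair_cross {v z z' : ι → F} (hvz : f v z = 0) (hvz' : f v z' = 0) (hzz : f z z' = 0) {c : F}
    (h : ∀ s, (s = z ∨ s = z' ∨ s = z + z') → stv hf (v + s) c * stv hf v (-c) ∈ M) :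
    ∃ e ∈ M, IsPairMap (f := f) e z ((-c) • z') := by
  have hzv := (f_eq_zero_comm hf).1 hvz
  have hz'v := (f_eq_zero_comm hf).1 hvz'
  have hz'z := (f_eq_zero_comm hf).1 hzz
  obtain ⟨e, -, he'⟩ := exists_pairMap hf (u := z) (y := (-c) • z') (by rw [hf.bilinear.smul_left, hz'z, mul_zero])
  refine ⟨e, ?_, he'⟩
  have key : stv hf (v + z) c * stv hf v (-c) * (stv hf (v + z') c * stv hf v (-c)) =
      e * (stv hf (v + (z + z')) c * stv hf v (-c)) := ext_mv fun x => by
    simp only [mv_mul, mv_stv, he' _, hf.bilinear.add_left, hf.bilinear.add_right, hf.bilinear.smul_left,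
      hf.bilinear.smul_right, hf.alternating, hvz, hzv, hvz', hz'v, hzz, hz'z, mul_zero, add_zero]
    module
  have := M.mul_mem (M.mul_mem (h z (Or.inl rfl)) (h z' (Or.inr (Or.inl rfl))))
    (M.inv_mem (h (z + z') (Or.inr (Or.inr rfl))))
  rwa [key, mul_inv_cancel_right] at this

include h2 hH hk in
theorem sCentre_of_shift {x y v : ι → F}
    (hvW : ∀ z ∈ W, f z y = 0 → f v z = 0) {c : F} (hc0 : c ≠ 0)
    (h : ∀ z ∈ W, f z y = 0 → z ∉ Submodule.span F {x} → stv hf (v + z) c * stv hf v (-c) ∈ M) :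
    ∃ a ∈ W, a ≠ 0 ∧ a ∈ sCentres hf M := by
  classical
  obtain ⟨z, hz, hzy, -, hzx⟩ := exists_pair_avoid₁ hf hW hW' hc (U := Submodule.span F {x})
    (by have := (finrank_span_le_card (R := F) ({x} : Set (ι → F))).trans (by simp : _ ≤ 1); omega) y
  have hz0 : z ≠ 0 := fun h => hzx (h ▸ Submodule.zero_mem _)
  refine ⟨z, hz, hz0, sCentre_of_pure hf hW hW' hc h2 hH hz (hW z hz z hz) (fun l => ?_) hz hz0
    W'.zero_mem (add_zero z).symm⟩
  rcases eq_or_ne l 0 with rfl | hl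
  · exact ⟨1, M.one_mem, fun w => by rw [mv_one, zero_smul, f_zero_right hf]; simp⟩
  set κ := l / (-c)
  have hκy : f (κ • z) y = 0 := by rw [hf.bilinear.smul_left, hzy, mul_zero]
  have hmul : ∀ s : F, stv hf (v + s • z) c * stv hf v (-c) ∈ M := by
    intro s
    rcases eq_or_ne s 0 with rfl | hs
    · rw [zero_smul, add_zero, stv_add, add_neg_cancel, stv_zero]; exact M.one_mem
    exact h _ (W.smul_mem s hz) (by rw [hf.bilinear.smul_left, hzy, mul_zero]) fun hm =>
      hzx ((Submodule.smul_mem_iff _ hs).1 hm)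
  have hA : ∀ s, (s = z ∨ s = κ • z ∨ s = z + κ • z) → stv hf (v + s) c * stv hf v (-c) ∈ M := by
    rintro s (rfl | rfl | rfl)
    · simpa using hmul 1
    · exact hmul κ
    · rw [show z + κ • z = (1 + κ) • z by module]; exact hmul _
  obtain ⟨e, he, he'⟩ := exists_pair_cross hf (hvW z hz hzy) (hvW _ (W.smul_mem κ hz) hκy)
    (hW z hz _ (W.smul_mem κ hz)) hA
  refine ⟨e, he, ?_⟩
  rwa [smul_smul, mul_div_cancel₀ _ (neg_ne_zero.2 hc0)] at he'

include hH in
/-- The element shifting x by z. -/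
theorem exists_pair_shift {x z : ι → F} (hx : x ∈ W) (hz : z ∈ W) (hzx : z ∉ Submodule.span F {x}) (hx0 : x ≠ 0) :
    ∃ h ∈ M, mv h x = x + z ∧ ∀ y ∈ W', f y z = 0 → mv h y = y := by
  have hxz : x ∉ Submodule.span F {z} := fun h => by
    obtain ⟨m, rfl⟩ := Submodule.mem_span_singleton.1 h
    have hm : m ≠ 0 := fun h => hx0 (by rw [h, zero_smul])
    exact hzx (Submodule.mem_span_singleton.2 ⟨m⁻¹, by rw [smul_smul, inv_mul_cancel₀ hm, one_smul]⟩)
  obtain ⟨φ, hφ, hφx⟩ := exists_dual hxz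
  obtain ⟨w, hw, hw'⟩ := exists_pair_dual hf hW hW' hc φ
  have hwz : f w z = 0 := (f_eq_zero_comm hf).1 (by
    rw [← hw' z hz, hφ z (Submodule.mem_span_singleton_self z)])
  have hxw : f x w = 1 := by rw [← hw' x hx, hφx]
  obtain ⟨e, he, he'⟩ := exists_pair_std hf hW hW' hc hH hz hw hwz
  refine ⟨e, he, ?_, fun y hy hyz => ?_⟩
  · rw [he', hW x hx z hz, hxw]; module
  · rw [he', hyz, hW' y hy w hw]; module

include h2 hMf hH in
/-- A pair with a shear fixing one vertex and moving the other. -/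
theorem sCentre_of_star {a b x y x' y' z : ι → F} (hx : x ∈ W) (hy : y ∈ W') (hx' : x' ∈ W) (hy' : y' ∈ W')
    (ha0 : a ≠ 0) (ha : a = x + y) (hb : b = x' + y') (hba : f b a = 0) (h : PairMem (f := f) M a b)
    (hz : z ∈ W) (hzy : f y z = 0) (hzy' : f y' z = 1) (hzx : x' ∉ Submodule.span F ({x, z} : Set (ι → F))) :
    ∃ v, v ≠ 0 ∧ v ∈ sCentres hf M := by
  obtain ⟨ψ, hψ, hψx⟩ := exists_dual hzx
  obtain ⟨w, hw, hw'⟩ := exists_pair_dual hf hW hW' hc ψ
  have hwx : f x w = 0 := by rw [← hw' x hx, hψ x (Submodule.subset_span (by simp))]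
  have hwz : f w z = 0 := (f_eq_zero_comm hf).1 (by rw [← hw' z hz, hψ z (Submodule.subset_span (by simp))])
  have hwx' : f x' w = 1 := by rw [← hw' x' hx', hψx]
  obtain ⟨g, hg, hg'⟩ := exists_pair_std hf hW hW' hc hH hz hw hwz
  have hga : mv g a = a := by
    rw [hg', ha, hf.bilinear.add_left, hf.bilinear.add_left, hW x hx z hz, hzy, hwx, hW' y hy w hw]
    module
  have hbz : f b z = 1 := by rw [hb, hf.bilinear.add_left, hW x' hx' z hz, hzy', zero_add]
  have hbw : f b w = 1 := by rw [hb, hf.bilinear.add_left, hwx', hW' y' hy' w hw, add_zero]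
  have h' : PairMem (f := f) M a (mv g b) := by
    have := pairMem_conj hf hMf hg h
    rwa [hga] at this
  refine ⟨a, ha0, sCentre_of_two_pairs hf h2 hba ?_ h h' ?_⟩
  · conv_lhs => rw [← hga]
    exact (hMf hg b a).trans hba
  · rw [hg', hbz, hbw, one_smul, one_smul, hf.bilinear.add_right, hf.bilinear.add_right, hf.alternating,
      hbz, hbw, zero_add, one_add_one_eq_two]
    exact h2

include h2 hMf hH hk in
/-- A pair of which both vertices are mixed gives transvections. -/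
theorem sCentre_of_mixed {a b x y x' y' : ι → F} (hx : x ∈ W) (hy : y ∈ W') (hx' : x' ∈ W) (hy' : y' ∈ W')
    (hx0 : x ≠ 0) (hy0 : y ≠ 0) (hk' : 3 ≤ Module.finrank F W') (ha : a = x + y) (hb : b = x' + y')
    (hba : f b a = 0) (hab : b ∉ Submodule.span F {a}) (h : PairMem (f := f) M a b)
    (hsymm : y' ∈ Submodule.span F {y} → x' ∈ Submodule.span F {x}) : ∃ v, v ≠ 0 ∧ v ∈ sCentres hf M := by
  classical
  have ha0 : a ≠ 0 := fun h0 => hx0 (by
    have : x ∈ W ⊓ W' := ⟨hx, by rw [show x = a - y by rw [ha]; abel, h0, zero_sub]; exact W'.neg_mem hy⟩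
    rwa [hc.inf_eq_bot, Submodule.mem_bot] at this)
  have hxx := hW x hx x hx
  by_cases hyy : y' ∈ Submodule.span F {y}
  · -- both vertices on one standard line
    obtain ⟨m, rfl⟩ := Submodule.mem_span_singleton.1 (hsymm hyy)
    obtain ⟨m', rfl⟩ := Submodule.mem_span_singleton.1 hyy
    have hmm : m' - m ≠ 0 := fun h0 => hab (Submodule.mem_span_singleton.2 ⟨m, by
      rw [hb, ha, sub_eq_zero.1 h0, smul_add]⟩)
    have hxy : f x y = 0 := by
      have h1 : f a b = 0 := (f_eq_zero_comm hf).1 hba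
      rw [ha, hb] at h1
      simp only [hf.bilinear.add_left, hf.bilinear.add_right, hf.bilinear.smul_right, hxx, hW' y hy y hy,
        mul_zero, add_zero, zero_add, hf.skew y x] at h1
      have h2' : (m' - m) * f x y = 0 := by linear_combination h1
      exact (mul_eq_zero.1 h2').resolve_left hmm
    have hyx := (f_eq_zero_comm hf).1 hxy
    by_cases hm : m = 0
    · have hbeq : b = m' • y := by rw [hb, hm, zero_smul, zero_add]
      have hy'0 : m' • y ≠ 0 := fun h0 => hab (by rw [hbeq, h0]; exact Submodule.zero_mem _)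
      exact ⟨m' • y, hy'0, sCentre_of_pure hf hW' hW hc.symm h2 (fun g hg h1 h2 => hH g hg h2 h1) (b := a)
        (W'.smul_mem _ hy) (hbeq ▸ (f_eq_zero_comm hf).1 hba) (hbeq ▸ pairMem_symm hf h)
        hy hy0 hx (by rw [ha, add_comm])⟩
    set c₁ := 2 * m with hc₁
    set c₂ := 2 * m' with hc₂
    have hc₁0 : c₁ ≠ 0 := mul_ne_zero h2 hm
    obtain ⟨e, he, he'⟩ := h 1
    obtain ⟨q, hq, hq'⟩ := pairMem_std hf hW hW' hc hH hx hy hyx (-(m + m'))
    have hyy0 := hW' y hy y hy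
    have hP : q * e = stv hf x c₁ * stv hf y c₂ := ext_mv fun z => by
      simp only [mv_mul, he' _, hq' _, mv_stv, ha, hb, one_smul, hf.bilinear.add_left, hf.bilinear.add_right,
        hf.bilinear.smul_left, hf.bilinear.smul_right, hxx, hyy0, hxy, hyx, mul_zero, add_zero, hc₁, hc₂]
      module
    have hPM := M.mul_mem hq he
    rw [hP] at hPM
    obtain ⟨u, -, hu0, huC⟩ := sCentre_of_shift hf hW hW' hc h2 hH hk (x := x) (y := y) (v := x)
      (fun z hz _ => hW x hx z hz) hc₁0 (fun z hz hzy hzx => by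
        obtain ⟨g, hg, hgx, hgy⟩ := exists_pair_shift hf hW hW' hc hH hx hz hzx hx0
        have hg' : ∀ a b, f (mv g a) (mv g b) = (1 : F) * f a b := fun a b => by rw [one_mul]; exact hMf hg a b
        have h1 := M.mul_mem (M.mul_mem hg hPM) (M.inv_mem hg)
        rw [show g * (stv hf x c₁ * stv hf y c₂) * g⁻¹ =
          g * stv hf x c₁ * g⁻¹ * (g * stv hf y c₂ * g⁻¹) by group,
          stv_conj hf one_ne_zero hg', stv_conj hf one_ne_zero hg', div_one, div_one, hgx,
          hgy y hy ((f_eq_zero_comm hf).1 hzy)] at h1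
        have h3 := M.mul_mem h1 (M.inv_mem hPM)
        rwa [_root_.mul_inv_rev, ← mul_assoc, mul_inv_cancel_right,
          inv_eq_of_mul_eq_one_right (by rw [stv_add, add_neg_cancel, stv_zero] :
            stv hf x c₁ * stv hf x (-c₁) = 1)] at h3)
    exact ⟨u, hu0, huC⟩
  obtain ⟨φ, hφ, hφy⟩ := exists_dual hyy
  obtain ⟨z₀, hz₀, hz₀'⟩ := exists_pair_dual hf hW' hW hc.symm φ
  have hy₀ : f y z₀ = 0 := by rw [← hz₀' y hy, hφ y (Submodule.mem_span_singleton_self y)]
  have hy₁ : f y' z₀ = 1 := by rw [← hz₀' y' hy', hφy]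
  by_cases hxx' : x' ∈ Submodule.span F {x}
  · -- the line contains a vertex in W'
    obtain ⟨m, rfl⟩ := Submodule.mem_span_singleton.1 hxx'
    obtain ⟨w, hw, hwx, hwz, hw0⟩ := exists_pair_avoid hf hW' hW hc.symm (U := (⊥ : Submodule F (ι → F)))
      (by rw [finrank_bot]; omega) x z₀
    have hwx' : f x w = 0 := (f_eq_zero_comm hf).1 hwx
    obtain ⟨g, hg, hg'⟩ := exists_pair_std hf hW hW' hc hH hz₀ hw hwz
    have hga : mv g a = a := by
      rw [hg', ha, hf.bilinear.add_left, hf.bilinear.add_left, hW x hx z₀ hz₀, hy₀, hwx', hW' y hy w hw]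
      module
    have hgb : mv g b = b + w := by
      rw [hg', hb, hf.bilinear.add_left, hf.bilinear.add_left, hW _ hx' z₀ hz₀, hy₁, hf.bilinear.smul_left,
        hwx', hW' y' hy' w hw]
      module
    have hbw : f b w = 0 := by
      rw [hb, hf.bilinear.add_left, hf.bilinear.smul_left, hwx', hW' y' hy' w hw, mul_zero, add_zero]
    have hwa : f w a = 0 := by rw [ha, hf.bilinear.add_right, hwx, hW' w hw y hy, add_zero]
    have h' : PairMem (f := f) M a (b + w) := by
      have := pairMem_conj hf hMf hg h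
      rwa [hga, hgb] at this
    have hP : PairMem (f := f) M a w := by
      intro l
      obtain ⟨e, he, he'⟩ := h (-l)
      obtain ⟨e₂, he₂, he₂'⟩ := h' l
      refine ⟨_, M.mul_mem he₂ he, fun z => ?_⟩
      simp only [mv_mul, he' _, he₂' _, hf.bilinear.add_left, hf.bilinear.add_right, hf.bilinear.smul_left,
        hf.bilinear.smul_right, hf.alternating, hba, (f_eq_zero_comm hf).1 hba, hbw, hwa,
        (f_eq_zero_comm hf).1 hwa, mul_zero, add_zero]
      module
    have hw0' : w ≠ 0 := fun h0 => hw0 (h0 ▸ Submodule.zero_mem _)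
    exact ⟨w, hw0', sCentre_of_pure hf hW' hW hc.symm h2 (fun g hg h1 h2 => hH g hg h2 h1) hw
      ((f_eq_zero_comm hf).1 hwa) (pairMem_symm hf hP) hy hy0 hx (by rw [ha, add_comm])⟩
  -- the general case
  obtain ⟨r, hr, hry, hry', hr0⟩ := exists_pair_avoid hf hW hW' hc (U := (⊥ : Submodule F (ι → F)))
    (by rw [finrank_bot]; omega) y y'
  have hr0' : r ≠ 0 := fun h => hr0 (h ▸ Submodule.zero_mem _)
  have hyr := (f_eq_zero_comm hf).1 hry
  have hy'r := (f_eq_zero_comm hf).1 hry'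
  by_cases h1 : x' ∈ Submodule.span F ({x, z₀} : Set (ι → F))
  swap
  · exact sCentre_of_star hf hW hW' hc h2 hMf hH hx hy hx' hy' ha0 ha hb hba h hz₀ hy₀ hy₁ h1
  by_cases h1' : x' ∈ Submodule.span F ({x, z₀ + r} : Set (ι → F))
  swap
  · exact sCentre_of_star hf hW hW' hc h2 hMf hH hx hy hx' hy' ha0 ha hb hba h (W.add_mem hz₀ hr)
      (by rw [hf.bilinear.add_right, hy₀, hyr, add_zero]) (by rw [hf.bilinear.add_right, hy₁, hy'r, add_zero]) h1'
  -- both standard vertices are then orthogonal to y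
  obtain ⟨p₁, q₁, hpq₁⟩ := Submodule.mem_span_pair.1 h1
  obtain ⟨p₂, q₂, hpq₂⟩ := Submodule.mem_span_pair.1 h1'
  have hq₂ : q₂ ≠ 0 := fun h0 => hxx' (Submodule.mem_span_singleton.2 ⟨p₂, by
    rw [← hpq₂, h0, zero_smul, add_zero]⟩)
  have hr' : q₂ • r = (p₁ - p₂) • x + (q₁ - q₂) • z₀ := by
    linear_combination (norm := module) hpq₂ - hpq₁
  have hyx : f y x = 0 := by
    by_contra hne
    have e1 := congrArg (f y) hr'
    simp only [hf.bilinear.add_right, hf.bilinear.smul_right, hyr, hy₀, mul_zero, add_zero] at e1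
    have e2 := congrArg (f y') hr'
    have hp : p₁ - p₂ = 0 := (mul_eq_zero.1 e1.symm).resolve_right hne
    simp only [hf.bilinear.add_right, hf.bilinear.smul_right, hy'r, hy₁, hp, mul_zero, zero_mul, zero_add,
      mul_one] at e2
    rw [hp, ← e2, zero_smul, zero_smul, add_zero] at hr'
    exact hr0' ((smul_eq_zero.1 hr').resolve_left hq₂)
  have hyx' : f y x' = 0 := by
    rw [← hpq₁, hf.bilinear.add_right, hf.bilinear.smul_right, hf.bilinear.smul_right, hyx, hy₀]
    ring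
  have hy'0 : y' ≠ 0 := fun h0 => hyy (h0 ▸ Submodule.zero_mem _)
  have hyy' : y ∉ Submodule.span F {y'} := fun h0 => hyy (by
    obtain ⟨t, ht⟩ := Submodule.mem_span_singleton.1 h0
    have ht0 : t ≠ 0 := fun h => hy0 (by rw [← ht, h, zero_smul])
    exact Submodule.mem_span_singleton.2 ⟨t⁻¹, by rw [← ht, smul_smul, inv_mul_cancel₀ ht0, one_smul]⟩)
  obtain ⟨φ', hφ', hφ'y⟩ := exists_dual hyy'
  obtain ⟨z₁, hz₁, hz₁'⟩ := exists_pair_dual hf hW' hW hc.symm φ'
  have hy₂ : f y' z₁ = 0 := by rw [← hz₁' y' hy', hφ' y' (Submodule.mem_span_singleton_self y')]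
  have hy₃ : f y z₁ = 1 := by rw [← hz₁' y hy, hφ'y]
  refine sCentre_of_star hf hW hW' hc h2 hMf hH hx' hy' hx hy (fun h0 => hab (by rw [h0]; exact Submodule.zero_mem _))
    hb ha ((f_eq_zero_comm hf).1 hba) (pairMem_symm hf h) hz₁ hy₂ hy₃ fun hmem => ?_
  obtain ⟨p, q, hpq⟩ := Submodule.mem_span_pair.1 hmem
  have hq : q = 0 := by
    have := congrArg (f y) hpq
    simpa only [hf.bilinear.add_right, hf.bilinear.smul_right, hyx, hyx', hy₃, mul_zero, zero_add, mul_one] using this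
  rw [hq, zero_smul, add_zero] at hpq
  have hp0 : p ≠ 0 := fun h0 => hx0 (by rw [← hpq, h0, zero_smul])
  exact hxx' (Submodule.mem_span_singleton.2 ⟨p⁻¹, by rw [← hpq, smul_smul, inv_mul_cancel₀ hp0, one_smul]⟩)

omit hc in
theorem exists_pair_swap : ∀ (U U' : Submodule F (ι → F)), U ≤ W → U' ≤ W' →
    (∀ u ∈ U, (∀ v ∈ U', f u v = 0) → u = 0) → (∀ v ∈ U', (∀ u ∈ U, f v u = 0) → v = 0) →
    ∃ g ∈ preserving (Units.coeHom (Matrix ι ι F)) f,
      (∀ u ∈ U, mv g u ∈ U') ∧ (∀ v ∈ U', mv g v ∈ U) ∧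
      ∀ z, (∀ u ∈ U, f z u = 0) → (∀ v ∈ U', f z v = 0) → mv g z = z := by
  intro U
  generalize hd : Module.finrank F U = d
  induction d using Nat.strong_induction_on generalizing U with
  | _ d ih =>
    intro U' hUW hU'W hn hn'
    by_cases hU : U = ⊥
    · refine ⟨1, one_mem _, fun u hu => ?_, fun v hv => ?_, fun z _ _ => mv_one z⟩
      · rw [hU, Submodule.mem_bot] at hu; rw [hu, mv_one]; exact U'.zero_mem
      · rw [mv_one, hn' v hv fun u hu => by rw [hU, Submodule.mem_bot] at hu; rw [hu, f_zero_right hf]]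
        exact U.zero_mem
    obtain ⟨e, he, he0⟩ := U.ne_bot_iff.1 hU
    obtain ⟨d₀, hd₀, hed₀⟩ : ∃ d₀ ∈ U', f e d₀ ≠ 0 := by
      by_contra h
      push Not at h
      exact he0 (hn e he h)
    set p := (f e d₀)⁻¹ • d₀ with hp
    have hpU : p ∈ U' := U'.smul_mem _ hd₀
    have hep : f e p = 1 := by rw [hp, hf.bilinear.smul_right, inv_mul_cancel₀ hed₀]
    have hpe : f p e = -1 := by rw [hf.skew, hep]
    set U₁ := U ⊓ LinearMap.ker (formR hf p)
    set U₁' := U' ⊓ LinearMap.ker (formR hf e)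
    have hlt : U₁ < U := lt_of_le_of_ne inf_le_left fun h => one_ne_zero (α := F) (by
      rw [← hep]
      exact LinearMap.mem_ker.1 (h.ge he).2)
    have hmem₁ : ∀ u ∈ U, u - f u p • e ∈ U₁ := fun u hu =>
      ⟨U.sub_mem hu (U.smul_mem _ he), LinearMap.mem_ker.2 (by
        rw [formR_apply, f_sub_left hf, hf.bilinear.smul_left, hep, mul_one, sub_self])⟩
    have hmem₁' : ∀ v ∈ U', v + f v e • p ∈ U₁' := fun v hv =>
      ⟨U'.add_mem hv (U'.smul_mem _ hpU), LinearMap.mem_ker.2 (by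
        rw [formR_apply, hf.bilinear.add_left, hf.bilinear.smul_left, hpe]; ring)⟩
    obtain ⟨g, hg, hgU, hgU', hgf⟩ := ih _ (hd ▸ Submodule.finrank_lt_finrank_of_lt hlt) U₁ rfl U₁'
      (inf_le_left.trans hUW) (inf_le_left.trans hU'W)
      (fun u hu h => hn u hu.1 fun v hv => by
        have h1 := h _ (hmem₁' v hv)
        rwa [hf.bilinear.add_right, hf.bilinear.smul_right, show f u p = 0 from LinearMap.mem_ker.1 hu.2,
          mul_zero, add_zero] at h1)
      (fun v hv h => hn' v hv.1 fun u hu => by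
        have h1 := h _ (hmem₁ u hu)
        rwa [f_sub_right hf, hf.bilinear.smul_right, show f v e = 0 from LinearMap.mem_ker.1 hv.2, mul_zero,
          sub_zero] at h1)
    set s := stv hf p 1 * stv hf e 1 * stv hf p 1 with hs
    have hsS : s ∈ preserving (Units.coeHom (Matrix ι ι F)) f :=
      Subgroup.mul_mem _ (Subgroup.mul_mem _ (stv_mem hf _ _) (stv_mem hf _ _)) (stv_mem hf _ _)
    have hsv : ∀ z, f z e = 0 → f z p = 0 → mv s z = z := fun z h1 h2 => by
      rw [hs, mv_mul, mv_mul, stv_fix hf _ _ h2, stv_fix hf _ _ h1, stv_fix hf _ _ h2]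
    have hse : mv s e = p := by
      rw [hs, mv_mul, mv_mul, mv_stv, mv_stv, mv_stv]
      simp only [hf.bilinear.add_left, hf.bilinear.smul_left, hep, hpe, hf.alternating, one_mul, mul_one,
        mul_zero, add_zero, zero_add]
      module
    have hsp : mv s p = -e := by
      rw [hs, mv_mul, mv_mul, mv_stv, mv_stv, mv_stv]
      simp only [hf.bilinear.add_left, hf.bilinear.smul_left, hep, hpe, hf.alternating, one_mul, mul_one,
        mul_zero, add_zero, zero_add, zero_smul]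
      module
    have hge : mv g e = e := hgf e (fun u hu => hW e (hUW he) u (hUW hu.1))
      (fun v hv => (f_eq_zero_comm hf).1 (LinearMap.mem_ker.1 hv.2))
    have hgp : mv g p = p := hgf p (fun u hu => (f_eq_zero_comm hf).1 (LinearMap.mem_ker.1 hu.2))
      (fun v hv => hW' p (hU'W hpU) v (hU'W hv.1))
    refine ⟨s * g, Subgroup.mul_mem _ hsS hg, fun u hu => ?_, fun v hv => ?_, fun z h1 h2 => ?_⟩
    · have h₂ := hgU _ (hmem₁ u hu)
      rw [show u = (u - f u p • e) + f u p • e by abel, mv_mul, mv_add, mv_smul, hge, mv_add, mv_smul, hse,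
        hsv _ (LinearMap.mem_ker.1 h₂.2) (hW' _ (hU'W h₂.1) p (hU'W hpU))]
      exact U'.add_mem h₂.1 (U'.smul_mem _ hpU)
    · have h₂ := hgU' _ (hmem₁' v hv)
      rw [show v = (v + f v e • p) + (-f v e) • p by module, mv_mul, mv_add, mv_smul, hgp, mv_add, mv_smul, hsp,
        hsv _ (hW _ (hUW h₂.1) e (hUW he)) (LinearMap.mem_ker.1 h₂.2)]
      exact U.add_mem h₂.1 (U.smul_mem _ (U.neg_mem he))
    · rw [mv_mul, hgf z (fun u hu => h1 u hu.1) (fun v hv => h2 v hv.1), hsv z (h1 e he) (h2 p hpU)]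

include h2 in
theorem alt_pair_stab_maximal (hk : 3 ≤ Module.finrank F W) (hk' : 3 ≤ Module.finrank F W')
    {H : Subgroup (GL ι F)}
    (hHdef : ∀ g, g ∈ H ↔ g ∈ preserving (Units.coeHom (Matrix ι ι F)) f ∧
      ((∀ u ∈ W, mv g u ∈ W) ∧ (∀ u ∈ W', mv g u ∈ W') ∨ (∀ u ∈ W, mv g u ∈ W') ∧ (∀ u ∈ W', mv g u ∈ W))) :
    Geo.IsMaximalIn (preserving (Units.coeHom (Matrix ι ι F)) f) H := by
  classical
  have hbot : ∀ {v : ι → F}, v ∈ W → v ∈ W' → v = 0 := fun h1 h2 => by
    have : _ ∈ W ⊓ W' := ⟨h1, h2⟩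
    rwa [hc.inf_eq_bot, Submodule.mem_bot] at this
  have hn : ∀ u ∈ W, (∀ v ∈ W', f u v = 0) → u = 0 := fun u hu h => by
    by_contra hu0
    obtain ⟨-, ⟨z, hz⟩⟩ := hf.nondegenerate u hu0
    obtain ⟨p, hp, w, hw, rfl⟩ := exists_pair_split hc z
    exact hz (by rw [hf.bilinear.add_right, hW u hu p hp, h w hw, add_zero])
  have hn' : ∀ u ∈ W', (∀ v ∈ W, f u v = 0) → u = 0 := fun u hu h => by
    by_contra hu0
    obtain ⟨-, ⟨z, hz⟩⟩ := hf.nondegenerate u hu0
    obtain ⟨p, hp, w, hw, rfl⟩ := exists_pair_split hc z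
    exact hz (by rw [hf.bilinear.add_right, hW' u hu w hw, h p hp, add_zero])
  refine ⟨lt_of_le_of_ne (fun g hg => ((hHdef g).1 hg).1) fun heq => ?_, fun M hHM hMf => ?_⟩
  · obtain ⟨p, hp, hp0⟩ := W.ne_bot_iff.1 (fun h => by rw [h, finrank_bot] at hk; omega)
    obtain ⟨w, hw, hpw⟩ : ∃ w ∈ W', f p w ≠ 0 := by
      by_contra h
      push Not at h
      exact hp0 (hn p hp h)
    have hwp : f w p ≠ 0 := fun h => hpw ((f_eq_zero_comm hf).1 h)
    rcases ((hHdef _).1 (heq.ge (stv_mem hf p 1))).2 with ⟨-, h⟩ | ⟨h, -⟩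
    · have h1 := W'.sub_mem (h w hw) hw
      rw [mv_stv, add_sub_cancel_left, one_mul] at h1
      exact hp0 (hbot hp ((Submodule.smul_mem_iff _ hwp).1 h1))
    · have h1 := h p hp
      rw [stv_fix hf _ _ (hf.alternating p)] at h1
      exact hp0 (hbot hp h1)
  have hH : ∀ g ∈ preserving (Units.coeHom (Matrix ι ι F)) f, (∀ u ∈ W, mv g u ∈ W) → (∀ u ∈ W', mv g u ∈ W') →
      g ∈ M := fun g hg h1 h2 => hHM ((hHdef g).2 ⟨hg, Or.inl ⟨h1, h2⟩⟩)
  have hH' : ∀ g ∈ preserving (Units.coeHom (Matrix ι ι F)) f, (∀ u ∈ W', mv g u ∈ W') → (∀ u ∈ W, mv g u ∈ W) →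
      g ∈ M := fun g hg h1 h2 => hH g hg h2 h1
  by_cases hC : ∃ v, v ≠ 0 ∧ v ∈ sCentres hf M
  · refine Or.inr (sCentres_eq_univ hf hMf ?_)
    obtain ⟨sw, hsw, hsW, hsW', -⟩ := exists_pair_swap hf hW hW' W W' le_rfl le_rfl hn hn'
    have hswM : sw ∈ M := hHM ((hHdef sw).2 ⟨hsw, Or.inr ⟨hsW, hsW'⟩⟩)
    have hswn : ∀ {u : ι → F}, u ≠ 0 → mv sw u ≠ 0 := fun hu h => hu (mv_inj sw (h.trans (mv_zero sw).symm))
    obtain ⟨a, ha, ha0, haC⟩ : ∃ a ∈ W, a ≠ 0 ∧ a ∈ sCentres hf M := by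
      obtain ⟨v, hv0, hvC⟩ := hC
      obtain ⟨x, hx, y, hy, rfl⟩ := exists_pair_split hc v
      by_cases hy0 : y = 0
      · rw [hy0, add_zero] at hv0 hvC; exact ⟨x, hx, hv0, hvC⟩
      by_cases hx0 : x = 0
      · rw [hx0, zero_add] at hv0 hvC
        exact ⟨mv sw y, hsW' y hy, hswn hv0, sCentres_mv hf hMf hswM hvC⟩
      refine sCentre_of_shift hf hW hW' hc h2 hH hk (x := x) (y := y) (v := x + y) (fun z hz hzy => ?_) one_ne_zero
        (fun z hz hzy hzx => ?_)
      · rw [hf.bilinear.add_left, hW x hx z hz, (f_eq_zero_comm hf).1 hzy, add_zero]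
      · obtain ⟨g, hg, hgx, hgy⟩ := exists_pair_shift hf hW hW' hc hH hx hz hzx hx0
        have h1 := sCentres_mv hf hMf hg hvC
        rw [mv_add, hgx, hgy y hy ((f_eq_zero_comm hf).1 hzy), show x + z + y = x + y + z by abel] at h1
        exact M.mul_mem (h1 1) (hvC (-1))
    have hWC : ∀ u ∈ W, u ∈ sCentres hf M := by
      intro u hu
      by_cases hua : u ∈ Submodule.span F {a}
      · obtain ⟨m, rfl⟩ := Submodule.mem_span_singleton.1 hua
        exact sCentres_smul hf haC m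
      obtain ⟨g, hg, hga, -⟩ := exists_pair_shift hf hW hW' hc hH ha (W.sub_mem hu ha) (fun h => hua (by
        have := Submodule.add_mem _ h (Submodule.mem_span_singleton_self a)
        rwa [sub_add_cancel] at this)) ha0
      have h1 := sCentres_mv hf hMf hg haC
      rwa [hga, add_sub_cancel] at h1
    have hW'C : ∀ u ∈ W', u ∈ sCentres hf M := by
      intro u hu
      have h1 := sCentres_mv hf hMf (M.inv_mem hswM) (hWC _ (hsW' u hu))
      rwa [mv_inv_mv] at h1
    intro v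
    obtain ⟨x, hx, y, hy, rfl⟩ := exists_pair_split hc v
    by_cases hx0 : x = 0
    · rw [hx0, zero_add]; exact hW'C y hy
    by_cases hxy : f x y = 0
    swap
    · exact sCentres_add hf hMf (hWC x hx) (hW'C y hy) hxy
    obtain ⟨φ, -, hφ⟩ := exists_dual (W := (⊥ : Submodule F (ι → F))) (u := x) (by simpa using hx0)
    obtain ⟨y₁, hy₁, hy₁'⟩ := exists_pair_dual hf hW hW' hc φ
    have hxy₁ : f x y₁ = 1 := by rw [← hy₁' x hx, hφ]
    have h3 := sCentres_add hf hMf (sCentres_add hf hMf (hWC x hx) (hW'C y₁ hy₁) (hxy₁ ▸ one_ne_zero))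
      (hW'C _ (W'.sub_mem hy hy₁)) (by
        rw [hf.bilinear.add_left, f_sub_right hf, f_sub_right hf, hxy, hxy₁, hW' y₁ hy₁ y hy, hf.alternating]
        simp)
    rwa [show x + y₁ + (y - y₁) = x + y by abel] at h3
  refine Or.inl (le_antisymm (fun g hg => (hHdef g).2 ⟨hMf hg, ?_⟩) hHM)
  push Not at hC
  have nc : ∀ {v : ι → F}, v ≠ 0 → v ∈ sCentres hf M → False := fun h1 h2 => hC _ h1 h2
  have gn : ∀ {u : ι → F}, u ≠ 0 → mv g u ≠ 0 := fun hu h => hu (mv_inj g (h.trans (mv_zero g).symm))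
  have std : ∀ p ∈ W, p ≠ 0 → ∀ w ∈ W', w ≠ 0 → f w p = 0 →
      mv g p ∈ W ∧ mv g w ∈ W' ∨ mv g p ∈ W' ∧ mv g w ∈ W := by
    intro p hp hp0 w hw hw0 hwp
    have hP := pairMem_conj hf hMf hg (pairMem_std hf hW hW' hc hH hp hw hwp)
    have e2 : f (mv g w) (mv g p) = 0 := (hMf hg w p).trans hwp
    obtain ⟨x, hx, y, hy, hxy⟩ := exists_pair_split hc (mv g p)
    obtain ⟨x', hx', y', hy', hxy'⟩ := exists_pair_split hc (mv g w)
    by_cases hy0 : y = 0
    · rw [hy0, add_zero] at hxy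
      by_cases hx'0 : x' = 0
      · exact Or.inl ⟨hxy ▸ hx, by rw [hxy', hx'0, zero_add]; exact hy'⟩
      exact (nc (gn hp0) (sCentre_of_pure hf hW hW' hc h2 hH (hxy ▸ hx) e2 hP hx' hx'0 hy' hxy')).elim
    by_cases hx0 : x = 0
    · rw [hx0, zero_add] at hxy
      by_cases hy'0 : y' = 0
      · exact Or.inr ⟨hxy ▸ hy, by rw [hxy', hy'0, add_zero]; exact hx'⟩
      exact (nc (gn hp0) (sCentre_of_pure hf hW' hW hc.symm h2 hH' (hxy ▸ hy) e2 hP hy' hy'0 hx'
        (by rw [hxy', add_comm]))).elim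
    have hind : mv g w ∉ Submodule.span F {mv g p} := fun h => by
      obtain ⟨m, hm⟩ := Submodule.mem_span_singleton.1 h
      have hm' : m • p = w := mv_inj g (by rw [mv_smul, hm])
      exact hw0 (hbot (hm' ▸ W.smul_mem m hp) hw)
    exfalso
    by_cases hyy : y' ∈ Submodule.span F {y} → x' ∈ Submodule.span F {x}
    · obtain ⟨v, hv0, hv⟩ := sCentre_of_mixed hf hW hW' hc h2 hMf hH hk hx hy hx' hy' hx0 hy0 hk' hxy hxy' e2
        hind hP hyy
      exact nc hv0 hv
    · rw [Classical.not_imp] at hyy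
      obtain ⟨v, hv0, hv⟩ := sCentre_of_mixed hf hW' hW hc.symm h2 hMf hH' hk' hy hx hy' hx' hy0 hx0 hk
        (by rw [hxy, add_comm]) (by rw [hxy', add_comm]) e2 hind hP (fun _ => hyy.1)
      exact nc hv0 hv
  have himage : ∀ p ∈ W, mv g p ∈ W ∨ mv g p ∈ W' := by
    intro p hp
    rcases eq_or_ne p 0 with rfl | hp0
    · left; rw [mv_zero]; exact W.zero_mem
    obtain ⟨w, hw, hwp, -, hw0⟩ := exists_pair_avoid hf hW' hW hc.symm (U := (⊥ : Submodule F (ι → F)))
      (by rw [finrank_bot]; omega) p p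
    exact (std p hp hp0 w hw (fun h => hw0 (h ▸ Submodule.zero_mem _)) hwp).imp And.left And.left
  have partner' : ∀ w ∈ W', w ≠ 0 → ∃ p ∈ W, p ≠ 0 ∧ f w p = 0 := by
    intro w hw hw0
    obtain ⟨p, hp, hpw, -, hp0⟩ := exists_pair_avoid hf hW hW' hc (U := (⊥ : Submodule F (ι → F)))
      (by rw [finrank_bot]; omega) w w
    exact ⟨p, hp, fun h => hp0 (h ▸ Submodule.zero_mem _), (f_eq_zero_comm hf).1 hpw⟩
  have dich : (∀ p ∈ W, mv g p ∈ W) ∨ (∀ p ∈ W, mv g p ∈ W') := by
    by_contra h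
    push Not at h
    obtain ⟨⟨p, hp, hp'⟩, q, hq, hq'⟩ := h
    have hp'' := (himage p hp).resolve_left hp'
    have hq'' := (himage q hq).resolve_right hq'
    rcases himage (p + q) (W.add_mem hp hq) with h1 | h1
    · rw [mv_add] at h1
      exact hp' ((add_sub_cancel_right (mv g p) (mv g q)) ▸ W.sub_mem h1 hq'')
    · rw [mv_add] at h1
      exact hq' ((add_sub_cancel_left (mv g p) (mv g q)) ▸ W'.sub_mem h1 hp'')
  rcases dich with hgW | hgW
  · refine Or.inl ⟨hgW, fun w hw => ?_⟩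
    rcases eq_or_ne w 0 with rfl | hw0
    · rw [mv_zero]; exact W'.zero_mem
    obtain ⟨p, hp, hp0, hwp⟩ := partner' w hw hw0
    rcases std p hp hp0 w hw hw0 hwp with ⟨-, h2⟩ | ⟨h1, -⟩
    · exact h2
    · exact absurd (hbot (hgW p hp) h1) (gn hp0)
  · refine Or.inr ⟨hgW, fun w hw => ?_⟩
    rcases eq_or_ne w 0 with rfl | hw0
    · rw [mv_zero]; exact W.zero_mem
    obtain ⟨p, hp, hp0, hwp⟩ := partner' w hw hw0
    rcases std p hp hp0 w hw hw0 hwp with ⟨h1, -⟩ | ⟨-, h2⟩
    · exact absurd (hbot h1 (hgW p hp)) (gn hp0)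
    · exact h2

end Cfsg.Agent.Transvec
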