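/-
Maximality in the symplectic group of the normaliser of a quadratic extension field whose generator is skew for
the form.
-/
import Cfsg.Agent.Lib.Transvec.AltPair
import Cfsg.Agent.Lib.Transvec.Quad
set_option autoImplicit false

namespace Cfsg.Agent.Transvec

open scoped Matrix
open Matrix
open Orth (pol pol_self pol_comm q_add q_sub q_smul pol_add_left pol_sub_left pol_sub_right pol_smul_left
  pol_smul_right formQ exists_singular finrank_add_le_of_orth finrank_totally_orth_le)

variable {ι : Type} [Fintype ι] [DecidableEq ι] {F : Type*} [Field F]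

theorem le_finrank_inf_ker_add (X : Submodule F (ι → F)) {k : ℕ} (φ : Fin k → Module.Dual F (ι → F)) :
    Module.finrank F X ≤ Module.finrank F ↥(X ⊓ LinearMap.ker (LinearMap.pi φ)) + k := by
  have h1 := LinearMap.finrank_range_add_finrank_ker ((LinearMap.pi φ).comp X.subtype)
  have h2 := Submodule.finrank_le (LinearMap.range ((LinearMap.pi φ).comp X.subtype))
  rw [Module.finrank_pi, Fintype.card_fin] at h2
  have h3 : (LinearMap.ker ((LinearMap.pi φ).comp X.subtype)).map X.subtype ≤ X ⊓ LinearMap.ker (LinearMap.pi φ) := by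
    rintro _ ⟨x, hx, rfl⟩
    exact ⟨x.2, hx⟩
  have h4 := Submodule.finrank_mono h3
  rw [Submodule.finrank_map_subtype_eq] at h4
  omega

section Quad
variable {Q : (ι → F) → F} (hQ : Geo.IsNondegenerateQuadraticForm Q)
include hQ

/-- A large subspace has a singular vector off any hyperplane. -/
theorem exists_singular_off [Finite F] {X : Submodule F (ι → F)}
    (hX : Module.finrank F (ι → F) + 3 ≤ 2 * Module.finrank F X) (φ : Module.Dual F (ι → F)) {x : ι → F}
    (hx : x ∈ X) (hφ : φ x ≠ 0) : ∃ v ∈ X, Q v = 0 ∧ φ v ≠ 0 := by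
  set R := X ⊓ Orth.orth hQ X with hR
  have hRd : Module.finrank F X + Module.finrank F R ≤ Module.finrank F (ι → F) := by
    have := finrank_add_le_of_orth hQ (Orth.nondeg_top hQ) (le_top (a := X)) (le_top (a := R))
      (fun a ha b hb => hb.2 a ha)
    rwa [finrank_top] at this
  obtain ⟨C, hC⟩ := R.exists_isCompl
  have hXC : 3 ≤ Module.finrank F ↥(X ⊓ C) := by
    have h1 := Submodule.finrank_sup_add_finrank_inf_eq X C
    have h2 := Submodule.finrank_add_eq_of_isCompl hC
    have h3 := Submodule.finrank_le (X ⊔ C)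
    omega
  obtain ⟨e, he, he0, hee⟩ := exists_singular hQ hXC
  obtain ⟨z, hz, hez⟩ : ∃ z ∈ X, pol Q e z ≠ 0 := by
    by_contra h
    push Not at h
    have : e ∈ R ⊓ C := ⟨⟨he.1, fun u hu => by rw [pol_comm]; exact h u hu⟩, he.2⟩
    rw [hC.inf_eq_bot, Submodule.mem_bot] at this
    exact he0 this
  set d := (pol Q e z)⁻¹ • z - Q ((pol Q e z)⁻¹ • z) • e with hd
  have hdX : d ∈ X := X.sub_mem (X.smul_mem _ hz) (X.smul_mem _ he.1)
  have e1 : pol Q e e = 0 := by rw [pol_self hQ, hee, mul_zero]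
  have hed : pol Q e d = 1 := by
    rw [hd, pol_sub_right hQ, pol_smul_right hQ, pol_smul_right hQ, e1, mul_zero, sub_zero, inv_mul_cancel₀ hez]
  have hdd : Q d = 0 := by
    rw [hd, q_sub hQ, q_smul hQ _ e, hee, pol_smul_right hQ, pol_smul_left hQ, pol_comm z e, inv_mul_cancel₀ hez]
    ring
  by_contra hcon
  push Not at hcon
  have hφe := hcon e he.1 hee
  have hφd := hcon d hdX hdd
  have main : ∀ s ∈ X, Q s = 0 → φ s = 0 → pol Q x s = 0 := by
    intro s hs hss hφs
    by_contra hxs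
    have h := hcon (x - (Q x / pol Q x s) • s) (X.sub_mem hx (X.smul_mem _ hs))
      (by rw [q_sub hQ, q_smul hQ, hss, pol_smul_right hQ, div_mul_cancel₀ _ hxs]; ring)
    rw [map_sub, map_smul, hφs, smul_zero, sub_zero] at h
    exact hφ h
  have hxe := main e he.1 hee hφe
  have hxd := main d hdX hdd hφd
  have h := hcon (e - Q x • d + x) (X.add_mem (X.sub_mem he.1 (X.smul_mem _ hdX)) hx) (by
    rw [q_add hQ, q_sub hQ, q_smul hQ, pol_sub_left hQ, pol_smul_left hQ, pol_smul_right hQ, hee, hdd, hed,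
      pol_comm e x, pol_comm d x, hxe, hxd]
    ring)
  rw [map_add, map_sub, map_smul, hφe, hφd, smul_zero, sub_zero, zero_add] at h
  exact hφ h

/-- A non-degenerate subspace of dimension at least three has a singular vector off any hyperplane. -/
theorem exists_singular_off_nondeg [Finite F] {X : Submodule F (ι → F)} (hX : 3 ≤ Module.finrank F X)
    (hnd : ∀ e ∈ X, (∀ z ∈ X, pol Q e z = 0) → e = 0) (φ : Module.Dual F (ι → F)) {x : ι → F}
    (hx : x ∈ X) (hφ : φ x ≠ 0) : ∃ v ∈ X, Q v = 0 ∧ φ v ≠ 0 := by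
  obtain ⟨e, he, he0, hee⟩ := exists_singular hQ hX
  obtain ⟨z, hz, hez⟩ : ∃ z ∈ X, pol Q e z ≠ 0 := by
    by_contra h
    push Not at h
    exact he0 (hnd e he h)
  set d := (pol Q e z)⁻¹ • z - Q ((pol Q e z)⁻¹ • z) • e with hd
  have hdX : d ∈ X := X.sub_mem (X.smul_mem _ hz) (X.smul_mem _ he)
  have e1 : pol Q e e = 0 := by rw [pol_self hQ, hee, mul_zero]
  have hed : pol Q e d = 1 := by
    rw [hd, pol_sub_right hQ, pol_smul_right hQ, pol_smul_right hQ, e1, mul_zero, sub_zero, inv_mul_cancel₀ hez]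
  have hdd : Q d = 0 := by
    rw [hd, q_sub hQ, q_smul hQ _ e, hee, pol_smul_right hQ, pol_smul_left hQ, pol_comm z e, inv_mul_cancel₀ hez]
    ring
  by_contra hcon
  push Not at hcon
  have hφe := hcon e he hee
  have hφd := hcon d hdX hdd
  have main : ∀ s ∈ X, Q s = 0 → φ s = 0 → pol Q x s = 0 := by
    intro s hs hss hφs
    by_contra hxs
    have h := hcon (x - (Q x / pol Q x s) • s) (X.sub_mem hx (X.smul_mem _ hs))
      (by rw [q_sub hQ, q_smul hQ, hss, pol_smul_right hQ, div_mul_cancel₀ _ hxs]; ring)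
    rw [map_sub, map_smul, hφs, smul_zero, sub_zero] at h
    exact hφ h
  have hxe := main e he hee hφe
  have hxd := main d hdX hdd hφd
  have h := hcon (e - Q x • d + x) (X.add_mem (X.sub_mem he (X.smul_mem _ hdX)) hx) (by
    rw [q_add hQ, q_sub hQ, q_smul hQ, pol_sub_left hQ, pol_smul_left hQ, pol_smul_right hQ, hee, hdd, hed,
      pol_comm e x, pol_comm d x, hxe, hxd]
    ring)
  rw [map_add, map_sub, map_smul, hφe, hφd, smul_zero, sub_zero, zero_add] at h
  exact hφ h

/-- A large subspace has a singular vector off any two hyperplanes. -/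
theorem exists_singular_off₂ [Finite F] (h2 : (2 : F) ≠ 0) {X : Submodule F (ι → F)}
    (hX : Module.finrank F (ι → F) + 5 ≤ 2 * Module.finrank F X) (φ ψ : Module.Dual F (ι → F)) {x y : ι → F}
    (hx : x ∈ X) (hφ : φ x ≠ 0) (hy : y ∈ X) (hψ : ψ y ≠ 0) : ∃ v ∈ X, Q v = 0 ∧ φ v ≠ 0 ∧ ψ v ≠ 0 := by
  obtain ⟨u₁, hu₁, h₁, a₁⟩ := exists_singular_off hQ (by omega) φ hx hφ
  obtain ⟨u₂, hu₂, h₂, a₂⟩ := exists_singular_off hQ (by omega) ψ hy hψ
  by_cases c₁ : ψ u₁ = 0
  swap
  · exact ⟨u₁, hu₁, h₁, a₁, c₁⟩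
  by_cases c₂ : φ u₂ = 0
  swap
  · exact ⟨u₂, hu₂, h₂, c₂, a₂⟩
  by_cases hb : pol Q u₁ u₂ = 0
  · exact ⟨u₁ + u₂, X.add_mem hu₁ hu₂, by rw [q_add hQ, h₁, h₂, hb, add_zero, add_zero],
      by rwa [map_add, c₂, add_zero], by rwa [map_add, c₁, zero_add]⟩
  set Y := X ⊓ LinearMap.ker (LinearMap.pi ![φ, formQ hQ u₁, formQ hQ u₂]) with hY
  have hYd : Module.finrank F X ≤ Module.finrank F Y + 3 := le_finrank_inf_ker_add X _
  obtain ⟨w, hw, hw0⟩ : ∃ w ∈ Y, Q w ≠ 0 := by
    -- otherwise adding u₁ gives a totally singular subspace which is too large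
    by_contra h
    push Not at h
    have hperp : ∀ a ∈ Y, ∀ b ∈ Y, pol Q a b = 0 := fun a ha b hb' => by
      have h' := h _ (Y.add_mem ha hb')
      rwa [q_add hQ, h a ha, h b hb', zero_add, zero_add] at h'
    have hu : ∀ a ∈ Y, pol Q a u₁ = 0 := fun a ha => congrFun (LinearMap.mem_ker.1 ha.2) 1
    have hlt : Y < Y ⊔ Submodule.span F {u₁} := lt_of_le_of_ne le_sup_left fun he => a₁
      (congrFun (LinearMap.mem_ker.1 (he.ge (Submodule.mem_sup_right (Submodule.mem_span_singleton_self u₁))).2) 0)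
    have h3 := Submodule.finrank_lt_finrank_of_lt hlt
    have h4 := finrank_totally_orth_le hQ (Orth.nondeg_top hQ) (le_top (a := Y ⊔ Submodule.span F {u₁}))
      fun a ha b hb' => by
        obtain ⟨p, hp, m, hm, rfl⟩ := Submodule.mem_sup.1 ha
        obtain ⟨p', hp', m', hm', rfl⟩ := Submodule.mem_sup.1 hb'
        obtain ⟨s, rfl⟩ := Submodule.mem_span_singleton.1 hm
        obtain ⟨t, rfl⟩ := Submodule.mem_span_singleton.1 hm'
        rw [pol_add_left hQ, Orth.pol_add_right hQ, Orth.pol_add_right hQ, pol_smul_left hQ, pol_smul_right hQ,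
          pol_smul_left hQ, pol_smul_right hQ, hperp p hp p' hp', hu p hp, pol_comm u₁ p', hu p' hp', pol_self hQ, h₁]
        simp
    rw [finrank_top] at h4
    omega
  have hwk := LinearMap.mem_ker.1 hw.2
  have w1 : φ w = 0 := congrFun hwk 0
  have w3 : pol Q w u₁ = 0 := congrFun hwk 1
  have w4 : pol Q w u₂ = 0 := congrFun hwk 2
  obtain ⟨c, hc, hcψ⟩ : ∃ c : F, c ≠ 0 ∧ -(c * Q w / pol Q u₁ u₂) * ψ u₂ + ψ w ≠ 0 := by
    by_contra hcon
    push Not at hcon
    have e1 := hcon 1 one_ne_zero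
    have e2 := hcon (-1) (neg_ne_zero.2 one_ne_zero)
    exact mul_ne_zero (mul_ne_zero h2 (div_ne_zero hw0 hb)) a₂ (by linear_combination e2 - e1)
  refine ⟨u₁ + (-(c * c * Q w / pol Q u₁ u₂)) • u₂ + c • w,
    X.add_mem (X.add_mem hu₁ (X.smul_mem _ hu₂)) (X.smul_mem _ hw.1), ?_, ?_, ?_⟩
  · rw [q_add hQ, q_add hQ, q_smul hQ, q_smul hQ, pol_add_left hQ, pol_smul_left hQ, pol_smul_right hQ, h₁, h₂,
      pol_smul_right hQ, pol_smul_right hQ, pol_comm u₁ w, pol_comm u₂ w, w3, w4]
    field_simp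
    ring
  · rwa [map_add, map_add, map_smul, map_smul, c₂, w1, smul_zero, add_zero, smul_zero, add_zero]
  · rw [map_add, map_add, map_smul, map_smul, c₁, zero_add, smul_eq_mul, smul_eq_mul,
      show -(c * c * Q w / pol Q u₁ u₂) * ψ u₂ + c * ψ w = c * (-(c * Q w / pol Q u₁ u₂) * ψ u₂ + ψ w) by ring]
    exact mul_ne_zero hc hcψ

end Quad

/-- A skew endomorphism squaring to the scalar δ. -/
structure IsSkewStruct (f : (ι → F) → (ι → F) → F) (δ : F) (J : (ι → F) →ₗ[F] ι → F) : Prop where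
  sq : ∀ x, J (J x) = δ • x
  skew : ∀ x y, f (J x) y = -f x (J y)

variable {f : (ι → F) → (ι → F) → F} (hf : Geo.IsSymplecticForm f) {δ : F} {J : (ι → F) →ₗ[F] ι → F}

/-- The quadratic form attached to a skew endomorphism. -/
def skewQ (f : (ι → F) → (ι → F) → F) (J : (ι → F) →ₗ[F] ι → F) (x : ι → F) : F := f (J x) x

/-- The unitary transvection at an isotropic vector. -/
noncomputable def ust (δ : F) (J : (ι → F) →ₗ[F] ι → F) (v : ι → F) (a : F) : GL ι F :=
  stv hf v (a * δ) * stv hf (J v) (-a)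

theorem not_square_eq {s t : F} (hns : ¬ IsSquare δ) (h : s * s - δ * (t * t) = 0) : s = 0 ∧ t = 0 := by
  have ht : t = 0 := by
    by_contra ht
    exact hns ⟨s / t, by field_simp; linear_combination -h⟩
  subst ht
  exact ⟨mul_self_eq_zero.1 (by linear_combination h), rfl⟩

section Skew
variable (hJ : IsSkewStruct f δ J)
include hf hJ

theorem f_J_J (x y : ι → F) : f (J x) (J y) = -δ * f x y := by
  rw [hJ.skew, hJ.sq, hf.bilinear.smul_right, neg_mul]

theorem f_J_comm (x y : ι → F) : f (J x) y = f (J y) x := by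
  rw [hJ.skew, hf.skew x (J y), neg_neg]

theorem pol_skewQ (x y : ι → F) : pol (skewQ f J) x y = 2 * f (J x) y := by
  show QuadraticMap.polar (skewQ f J) x y = _
  simp only [QuadraticMap.polar, skewQ, map_add, hf.bilinear.add_left, hf.bilinear.add_right,
    f_J_comm hf hJ y x]
  ring

theorem skewQ_nondeg (h2 : (2 : F) ≠ 0) (hδ : δ ≠ 0) : Geo.IsNondegenerateQuadraticForm (skewQ f J) where
  smul c v := by
    simp only [skewQ, map_smul, hf.bilinear.smul_left, hf.bilinear.smul_right]; ring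
  polar_bilinear :=
    { add_left := fun x y v => by
        change pol _ _ _ = pol _ _ _ + pol _ _ _
        simp only [pol_skewQ hf hJ, map_add, hf.bilinear.add_left]; ring
      smul_left := fun c x v => by
        change pol _ _ _ = c * pol _ _ _
        simp only [pol_skewQ hf hJ, map_smul, hf.bilinear.smul_left]; ring
      add_right := fun v x y => by
        change pol _ _ _ = pol _ _ _ + pol _ _ _
        simp only [pol_skewQ hf hJ, hf.bilinear.add_right]; ring
      smul_right := fun c v x => by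
        change pol _ _ _ = c * pol _ _ _
        simp only [pol_skewQ hf hJ, hf.bilinear.smul_right]; ring }
  nondegenerate v hv := by
    have hJv : J v ≠ 0 := fun h => hv (by
      have := hJ.sq v
      rw [h, map_zero] at this
      exact (smul_eq_zero.1 this.symm).resolve_left hδ)
    obtain ⟨-, x, hx⟩ := hf.nondegenerate (J v) hJv
    refine ⟨⟨x, ?_⟩, ⟨x, ?_⟩⟩
    · show pol (skewQ f J) x v ≠ 0
      rw [pol_skewQ hf hJ, f_J_comm hf hJ]
      exact mul_ne_zero h2 hx
    · show pol (skewQ f J) v x ≠ 0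
      rw [pol_skewQ hf hJ]
      exact mul_ne_zero h2 hx

theorem skewQ_J (x : ι → F) : skewQ f J (J x) = -δ * skewQ f J x := by
  rw [skewQ, skewQ, f_J_J hf hJ]

theorem skewQ_comb (s t : F) (x : ι → F) :
    skewQ f J (s • x + t • J x) = (s * s - δ * (t * t)) * skewQ f J x := by
  simp only [skewQ, map_add, map_smul, hJ.sq, hf.bilinear.add_left, hf.bilinear.add_right, hf.bilinear.smul_left,
    hf.bilinear.smul_right, f_J_J hf hJ, hf.alternating]
  rw [hf.skew x (J x)]
  ring

omit hf in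
/-- A subspace stable under J containing a non-trivial combination of u and J u contains u. -/
theorem mem_of_comb (hns : ¬ IsSquare δ) {L : Submodule F (ι → F)} (hL : ∀ x ∈ L, J x ∈ L) {u : ι → F} {s t : F}
    (h : s • u + t • J u ∈ L) : (s = 0 ∧ t = 0) ∨ u ∈ L := by
  by_cases h0 : s * s - δ * (t * t) = 0
  · exact Or.inl (not_square_eq hns h0)
  refine Or.inr ((L.smul_mem_iff h0).1 ?_)
  have := L.sub_mem (L.smul_mem s h) (L.smul_mem t (hL _ h))
  rw [map_add, map_smul, map_smul, hJ.sq] at this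
  convert this using 1
  module

omit hf in
theorem J_mem_line (u : ι → F) : ∀ x ∈ Submodule.span F ({u, J u} : Set (ι → F)),
    J x ∈ Submodule.span F ({u, J u} : Set (ι → F)) := by
  intro x hx
  obtain ⟨s, t, rfl⟩ := Submodule.mem_span_pair.1 hx
  rw [map_add, map_smul, map_smul, hJ.sq, smul_smul]
  exact Submodule.mem_span_pair.2 ⟨t * δ, s, by abel⟩

omit hf in
theorem mem_line_symm (hns : ¬ IsSquare δ) {u v : ι → F} (hv : v ≠ 0)
    (h : v ∈ Submodule.span F ({u, J u} : Set (ι → F))) : u ∈ Submodule.span F ({v, J v} : Set (ι → F)) := by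
  obtain ⟨s, t, rfl⟩ := Submodule.mem_span_pair.1 h
  exact (mem_of_comb hJ hns (J_mem_line hJ _) (Submodule.subset_span (Set.mem_insert _ _))).resolve_left
    (fun h => hv (by rw [h.1, h.2, zero_smul, zero_smul, add_zero]))

theorem mv_ust {v : ι → F} (hv : skewQ f J v = 0) (a : F) (x : ι → F) :
    mv (ust hf δ J v a) x = x + (a * δ * f x v) • v + (-a * f x (J v)) • J v := by
  rw [ust, mv_mul, mv_stv, mv_stv, hf.bilinear.add_left, hf.bilinear.smul_left, show f (J v) v = 0 from hv,
    mul_zero, add_zero]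
  abel

theorem ust_comm {v : ι → F} (hv : skewQ f J v = 0) (a : F) (x : ι → F) :
    mv (ust hf δ J v a) (J x) = J (mv (ust hf δ J v a) x) := by
  rw [mv_ust hf hJ hv, mv_ust hf hJ hv, map_add, map_add, map_smul, map_smul, hJ.sq, hJ.skew x v,
    f_J_J hf hJ]
  module

omit hJ in
theorem ust_mem (v : ι → F) (a : F) : ust hf δ J v a ∈ preserving (Units.coeHom (Matrix ι ι F)) f :=
  Subgroup.mul_mem _ (stv_mem hf _ _) (stv_mem hf _ _)

omit hJ in
/-- A vector separated from a finite family by the form. -/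
theorem exists_sep {W : Submodule F (ι → F)} {v : ι → F} (hv : v ∉ W) :
    ∃ x, (∀ w ∈ W, f x w = 0) ∧ f x v ≠ 0 := by
  obtain ⟨φ, h1, h2⟩ := exists_dual hv
  obtain ⟨z, hz⟩ := exists_eq_f hf φ
  refine ⟨z, fun w hw => (f_eq_zero_comm hf).1 (by rw [← hz, h1 w hw]), fun h => ?_⟩
  rw [hz, (f_eq_zero_comm hf).1 h] at h2
  exact zero_ne_one h2

variable [Finite F] (h2 : (2 : F) ≠ 0) (hns : ¬ IsSquare δ) (hN : 6 ≤ Module.finrank F (ι → F))

omit hJ in
/-- An isotropic vector of the second structure orthogonal to a line of it and meeting v. -/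
theorem exists_partner_off {J' : (ι → F) →ₗ[F] ι → F} (hJ' : IsSkewStruct f δ J') (h2 : (2 : F) ≠ 0)
    (hδ : δ ≠ 0) {v w x : ι → F}
    (hcase : 7 ≤ Module.finrank F (ι → F) ∨ f (J' w) w ≠ 0 ∨ f (J' w) v ≠ 0)
    (hN : 6 ≤ Module.finrank F (ι → F)) (hvw : f v w = 0)
    (hxw : f x w = 0) (hxJw : f x (J' w) = 0) (hxv : f x v ≠ 0) :
    ∃ p, skewQ f J' p = 0 ∧ f p w = 0 ∧ f (J' p) w = 0 ∧ f p v ≠ 0 := by
  have hQ' := skewQ_nondeg hf hJ' h2 hδ
  set X := (⊤ : Submodule F (ι → F)) ⊓ LinearMap.ker (LinearMap.pi ![formR hf w, formR hf (J' w)]) with hX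
  have hXd : Module.finrank F (ι → F) ≤ Module.finrank F X + 2 := by
    have := le_finrank_inf_ker_add ⊤ ![formR hf w, formR hf (J' w)]
    rwa [finrank_top] at this
  have memX : ∀ z, f z w = 0 → f z (J' w) = 0 → z ∈ X := fun z h1 h2' =>
    ⟨Submodule.mem_top, LinearMap.mem_ker.2 (by ext i; fin_cases i <;> assumption)⟩
  have fin : ∀ p ∈ X, skewQ f J' p = 0 → f p v ≠ 0 →
      ∃ p, skewQ f J' p = 0 ∧ f p w = 0 ∧ f (J' p) w = 0 ∧ f p v ≠ 0 := fun p hp hpQ hpv =>
    ⟨p, hpQ, congrFun (LinearMap.mem_ker.1 hp.2) 0, by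
      rw [hJ'.skew, show f p (J' w) = 0 from congrFun (LinearMap.mem_ker.1 hp.2) 1, neg_zero], hpv⟩
  rcases hcase with h7 | hcase
  · obtain ⟨p, hp, hpQ, hpv⟩ := exists_singular_off hQ' (X := X) (by omega) (formR hf v) (memX x hxw hxJw) hxv
    exact fin p hp hpQ hpv
  by_cases hw : f (J' w) w = 0
  · have hv' : f (J' w) v ≠ 0 := hcase.resolve_left (fun h => h hw)
    exact fin (J' w) (memX _ hw (hf.alternating _)) (by rw [skewQ_J hf hJ', skewQ, hw, mul_zero]) hv'
  have hw' : f w (J' w) = -f (J' w) w := hf.skew _ _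
  have hnd : ∀ e ∈ X, (∀ z ∈ X, pol (skewQ f J') e z = 0) → e = 0 := fun e he h => by
    have e0 : f e w = 0 := congrFun (LinearMap.mem_ker.1 he.2) 0
    have e1 : f e (J' w) = 0 := congrFun (LinearMap.mem_ker.1 he.2) 1
    by_contra he0
    have hJe : J' e ≠ 0 := fun h0 => he0 (by
      have := hJ'.sq e
      rw [h0, map_zero] at this
      exact (smul_eq_zero.1 this.symm).resolve_left hδ)
    obtain ⟨-, z, hz⟩ := hf.nondegenerate (J' e) hJe
    apply hz
    obtain ⟨t, ht⟩ : ∃ t, t = f z w / f (J' w) w := ⟨_, rfl⟩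
    obtain ⟨s, hs⟩ : ∃ s, s = -(f z (J' w) / f (J' w) w) := ⟨_, rfl⟩
    have hz' : z - s • w - t • J' w ∈ X := memX _ (by
        rw [f_sub_left hf, f_sub_left hf, hf.bilinear.smul_left, hf.bilinear.smul_left, hf.alternating, ht,
          div_mul_cancel₀ _ hw]
        ring) (by
        rw [f_sub_left hf, f_sub_left hf, hf.bilinear.smul_left, hf.bilinear.smul_left, hf.alternating, hw', hs,
          neg_mul_neg, div_mul_cancel₀ _ hw]
        ring)
    have h' := h _ hz'
    rw [pol_skewQ hf hJ'] at h'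
    have h'' := (mul_eq_zero.1 h').resolve_left h2
    rw [f_sub_right hf, f_sub_right hf, hf.bilinear.smul_right, hf.bilinear.smul_right, f_J_J hf hJ', e0,
      hJ'.skew e w, e1] at h''
    linear_combination h''
  obtain ⟨p, hp, hpQ, hpv⟩ := exists_singular_off_nondeg hQ' (X := X) (by omega) hnd (formR hf v)
    (memX x hxw hxJw) hxv
  exact fin p hp hpQ hpv

include h2 hns hN in
/-- From two unitary structures which differ on some isotropic line, a transvection. -/
theorem exists_sCentre {J' : (ι → F) →ₗ[F] ι → F} (hJ' : IsSkewStruct f δ J') {M : Subgroup (GL ι F)}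
    (hC : ∀ g ∈ preserving (Units.coeHom (Matrix ι ι F)) f, (∀ x, mv g (J x) = J (mv g x)) → g ∈ M)
    (hU' : ∀ v, skewQ f J' v = 0 → ∀ a, ust hf δ J' v a ∈ M)
    {v : ι → F} (hv : skewQ f J v = 0) (hvL : v ∉ Submodule.span F ({J v, J' (J v)} : Set (ι → F))) :
    ∃ y, y ≠ 0 ∧ y ∈ sCentres hf M := by
  have hδ : δ ≠ 0 := fun h => hns (h ▸ IsSquare.zero)
  have hQ := skewQ_nondeg hf hJ h2 hδ
  have hQ' := skewQ_nondeg hf hJ' h2 hδ
  -- a point of the line which is usable
  obtain ⟨v, hv, hvL, hcase⟩ : ∃ v, skewQ f J v = 0 ∧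
      v ∉ Submodule.span F ({J v, J' (J v)} : Set (ι → F)) ∧
      (7 ≤ Module.finrank F (ι → F) ∨ f (J' (J v)) (J v) ≠ 0 ∨ f (J' (J v)) v ≠ 0) := by
    by_cases hgood : 7 ≤ Module.finrank F (ι → F) ∨ f (J' (J v)) (J v) ≠ 0 ∨ f (J' (J v)) v ≠ 0
    · exact ⟨v, hv, hvL, hgood⟩
    push Not at hgood
    obtain ⟨hsmall, hw, hwv⟩ := hgood
    have hJJ : J (J v) = δ • v := hJ.sq v
    have hJv : J v ≠ 0 := fun h => hvL (by
      rw [h, map_zero] at hJJ
      rw [(smul_eq_zero.1 hJJ.symm).resolve_left hδ]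
      exact Submodule.zero_mem _)
    by_cases hv' : f (J' v) v = 0
    · -- two lines spanning a totally isotropic subspace of dimension four
      exfalso
      have hvw : f (J v) v = 0 := hv
      have hwv' : f v (J v) = 0 := (f_eq_zero_comm hf).1 hvw
      have c1 : f (J' v) (J v) = 0 := by rw [f_J_comm hf hJ']; exact hwv
      have hind : LinearIndependent F ![v, J' v, J v, J' (J v)] := by
        rw [Fintype.linearIndependent_iff]
        intro g hg
        simp [Fin.sum_univ_four] at hg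
        have hmem : g 0 • v + g 1 • J' v ∈ Submodule.span F ({J v, J' (J v)} : Set (ι → F)) :=
          Submodule.mem_span_pair.2 ⟨-g 2, -g 3, by linear_combination (norm := module) -hg⟩
        obtain ⟨g0, g1⟩ := (mem_of_comb hJ' hns (J_mem_line hJ' (J v)) hmem).resolve_right hvL
        rw [g0, g1, zero_smul, zero_smul, zero_add, zero_add] at hg
        obtain ⟨g2, g3⟩ := (mem_of_comb hJ' hns (L := ⊥)
          (fun x hx => by rw [Submodule.mem_bot] at hx ⊢; rw [hx, map_zero]) ((Submodule.mem_bot F).2 hg)).resolve_right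
          fun h => hJv ((Submodule.mem_bot F).1 h)
        intro i; fin_cases i <;> assumption
      have hgen : ∀ a ∈ Set.range ![v, J' v, J v, J' (J v)], ∀ b ∈ Set.range ![v, J' v, J v, J' (J v)],
          f a b = 0 := by
        rintro _ ⟨i, rfl⟩ _ ⟨j, rfl⟩
        fin_cases i <;> fin_cases j <;>
          simp [hf.alternating, hv', hw, hwv, hvw, hwv', c1, (f_eq_zero_comm hf).1 hv', (f_eq_zero_comm hf).1 hw,
            (f_eq_zero_comm hf).1 hwv, (f_eq_zero_comm hf).1 c1, f_J_J hf hJ']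
      set T := Submodule.span F (Set.range ![v, J' v, J v, J' (J v)]) with hT
      have hTf : ∀ a ∈ T, ∀ b ∈ T, f a b = 0 := fun a ha b hb => by
        have h1 : T ≤ LinearMap.ker (formR hf b) := Submodule.span_le.2 fun a' ha' =>
          LinearMap.mem_ker.2 ((f_eq_zero_comm hf).1 (LinearMap.mem_ker.1
            ((Submodule.span_le (p := LinearMap.ker (formR hf a'))).2
              (fun b' hb' => LinearMap.mem_ker.2 (hgen b' hb' a' ha')) hb)))
        exact LinearMap.mem_ker.1 (h1 ha)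
      have hTJ : ∀ a ∈ T, J' a ∈ T := by
        have : T ≤ T.comap J' := Submodule.span_le.2 (by
          rintro _ ⟨i, rfl⟩
          fin_cases i
          · exact Submodule.subset_span ⟨1, rfl⟩
          · simpa [hJ'.sq] using T.smul_mem δ (Submodule.subset_span ⟨0, rfl⟩)
          · exact Submodule.subset_span ⟨3, rfl⟩
          · simpa [hJ'.sq] using T.smul_mem δ (Submodule.subset_span ⟨2, rfl⟩))
        exact this
      have h4 : Module.finrank F T = 4 := by rw [hT, finrank_span_eq_card hind, Fintype.card_fin]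
      have := finrank_totally_orth_le hQ' (Orth.nondeg_top hQ') (le_top (a := T)) fun a ha b hb => by
        rw [pol_skewQ hf hJ', hTf _ (hTJ a ha) b hb, mul_zero]
      rw [finrank_top] at this
      omega
    · refine ⟨J v, by rw [skewQ_J hf hJ, hv, mul_zero], fun h => ?_, Or.inr (Or.inl ?_)⟩
      · rw [hJJ] at h
        have hle : Submodule.span F ({δ • v, J' (δ • v)} : Set (ι → F)) ≤
            Submodule.span F ({v, J' v} : Set (ι → F)) := by
          rw [Submodule.span_le, Set.insert_subset_iff, Set.singleton_subset_iff, map_smul]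
          exact ⟨Submodule.smul_mem _ _ (Submodule.subset_span (Set.mem_insert _ _)),
            Submodule.smul_mem _ _ (Submodule.subset_span (Set.mem_insert_of_mem _ rfl))⟩
        exact hvL (mem_line_symm hJ' hns hJv (hle h))
      · rw [hJJ, map_smul, hf.bilinear.smul_left, hf.bilinear.smul_right]
        exact mul_ne_zero hδ (mul_ne_zero hδ hv')
  obtain ⟨w, hwdef⟩ : ∃ w, w = J v := ⟨_, rfl⟩
  rw [← hwdef] at hvL hcase
  have hwv : f w v = 0 := hwdef ▸ hv
  have hvw : f v w = 0 := (f_eq_zero_comm hf).1 hwv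
  have hJw : J w = δ • v := by rw [hwdef, hJ.sq]
  obtain ⟨x, hx, hxv⟩ := exists_sep hf hvL
  obtain ⟨p₀, hp₀, hp1, hp2, hp₀v⟩ := exists_partner_off hf hJ' h2 hδ hcase hN hvw
    (hx _ (Submodule.subset_span (Set.mem_insert _ _))) (hx _ (Submodule.subset_span (Set.mem_insert_of_mem _ rfl))) hxv
  obtain ⟨p, hp⟩ : ∃ p, p = (δ * f v p₀) • p₀ + (-f v (J' p₀)) • J' p₀ := ⟨_, rfl⟩
  have hpQ : skewQ f J' p = 0 := by rw [hp, skewQ_comb hf hJ', hp₀, mul_zero]
  have hJp : J' p = (δ * f v p₀) • J' p₀ + (-f v (J' p₀) * δ) • p₀ := by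
    rw [hp, map_add, map_smul, map_smul, hJ'.sq, smul_smul]
  have hvJp : f v (J' p) = 0 := by
    rw [hJp, hf.bilinear.add_right, hf.bilinear.smul_right, hf.bilinear.smul_right]; ring
  have hpw : f p w = 0 := by
    rw [hp, hf.bilinear.add_left, hf.bilinear.smul_left, hf.bilinear.smul_left, hp1, hp2]; ring
  have hJpw : f (J' p) w = 0 := by
    rw [hJp, hf.bilinear.add_left, hf.bilinear.smul_left, hf.bilinear.smul_left, hp1, hp2]; ring
  have hvp : f v p ≠ 0 := by
    rw [hp, hf.bilinear.add_right, hf.bilinear.smul_right, hf.bilinear.smul_right]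
    intro h
    have h0 : f v p₀ ≠ 0 := fun h' => hp₀v ((f_eq_zero_comm hf).1 h')
    exact h0 (not_square_eq hns (s := f v (J' p₀)) (t := f v p₀) (by linear_combination -h)).2
  obtain ⟨ν, hν⟩ : ∃ ν, ν = f p v := ⟨_, rfl⟩
  have hν0 : ν ≠ 0 := fun h => hvp ((f_eq_zero_comm hf).1 (hν ▸ h))
  have hfvp : f v p = -ν := by rw [hν, hf.skew]
  have hwp : f w p = 0 := (f_eq_zero_comm hf).1 hpw
  have hpv' : f p v = ν := hν.symm
  have hwJp : f w (J' p) = 0 := (f_eq_zero_comm hf).1 hJpw
  have hU : ∀ a, ust hf δ J v a ∈ M := fun a => hC _ (ust_mem hf v a) (ust_comm hf hJ hv a)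
  -- move v to p
  obtain ⟨k, hk⟩ : ∃ k, k = ust hf δ J v (-1 / (δ * ν)) * ust hf δ J' p (-1 / (δ * ν)) := ⟨_, rfl⟩
  have hkM : k ∈ M := hk ▸ M.mul_mem (hU _) (hU' p hpQ _)
  have hkf : k ∈ preserving (Units.coeHom (Matrix ι ι F)) f :=
    hk ▸ Subgroup.mul_mem _ (ust_mem hf _ _) (ust_mem hf _ _)
  have hkv : mv k v = p := by
    rw [hk, mv_mul, mv_ust hf hJ' hpQ, mv_ust hf hJ hv, ← hwdef]
    simp only [hf.bilinear.add_left, hf.bilinear.smul_left, hvJp, hfvp, hpv', hpw, hvw, hf.alternating,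
      mul_zero, add_zero, zero_add, zero_smul]
    match_scalars <;> field_simp <;> ring
  have hkw : mv k w = w := by
    rw [hk, mv_mul, mv_ust hf hJ' hpQ, mv_ust hf hJ hv, ← hwdef]
    simp only [hwp, hwJp, hwv, hf.alternating, hf.bilinear.add_left, hf.bilinear.smul_left, mul_zero, add_zero,
      zero_smul]
  have pair : ∀ (g : GL ι F), g ∈ preserving (Units.coeHom (Matrix ι ι F)) f → ∀ (u : ι → F) (c : F),
      g * stv hf u c * g⁻¹ = stv hf (mv g u) c := fun g hg u c => by
    rw [stv_conj hf one_ne_zero (fun x y => by rw [one_mul]; exact hg x y), div_one]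
  have hS : ∀ c, stv hf p c * stv hf w (-(c / δ)) ∈ M := by
    intro c
    have h1 := M.mul_mem (M.mul_mem hkM (hU (c / δ))) (M.inv_mem hkM)
    rwa [ust, ← hwdef, div_mul_cancel₀ _ hδ, show k * (stv hf v c * stv hf w (-(c / δ))) * k⁻¹ =
      k * stv hf v c * k⁻¹ * (k * stv hf w (-(c / δ)) * k⁻¹) by group, pair k hkf, pair k hkf, hkv, hkw] at h1
  -- an anisotropic vector orthogonal to the line
  set B := (⊤ : Submodule F (ι → F)) ⊓ LinearMap.ker (LinearMap.pi ![formR hf v, formR hf w]) with hB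
  obtain ⟨b, hbB, hbQ⟩ : ∃ b ∈ B, skewQ f J b ≠ 0 := by
    by_contra hcon
    push Not at hcon
    have h1 := finrank_totally_orth_le hQ (Orth.nondeg_top hQ) (le_top (a := B)) fun a ha c hc => by
      have := hcon _ (B.add_mem ha hc)
      rwa [q_add hQ, hcon a ha, hcon c hc, zero_add, zero_add] at this
    have h3 := le_finrank_inf_ker_add ⊤ ![formR hf v, formR hf w]
    rw [finrank_top] at h1 h3
    rw [← hB] at h3
    omega
  have hbv : f b v = 0 := congrFun (LinearMap.mem_ker.1 hbB.2) 0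
  have hbw : f b w = 0 := congrFun (LinearMap.mem_ker.1 hbB.2) 1
  -- translations of p
  let ζ : (ι → F) → ι → F := fun b => ν • J b + (-f p (J b)) • v + (-f p b) • w
  let Y : F → ι → F := fun κ => p + (-(κ * ν / 2)) • w
  have key : ∀ b, f b v = 0 → f b w = 0 →
      ∀ c, stv hf (Y (skewQ f J b) + ζ b) c * stv hf p (-c) ∈ M ∧ f (ζ b) p = 0 ∧ f (ζ b) w = 0 := by
    intro b hbv hbw c
    have hJbv : f (J b) v = 0 := by rw [hJ.skew, ← hwdef, hbw, neg_zero]
    have hJbw : f (J b) w = 0 := by rw [hJ.skew, hJw, hf.bilinear.smul_right, hbv, mul_zero, neg_zero]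
    have hbw' : f (-b) w = 0 := by rw [f_neg_left hf, hbw, neg_zero]
    obtain ⟨g, hg⟩ : ∃ g, g = ust hf δ J v (-(2 * f p (J b)) / (δ * ν)) *
        (qv hf v ((-(skewQ f J b) / 2) • w) 0 * (qv hf v (J b) 0 * qv hf w (-b) 0)) := ⟨_, rfl⟩
    have hqf : ∀ (u y : ι → F), qv hf u y 0 ∈ preserving (Units.coeHom (Matrix ι ι F)) f := fun u y =>
      Subgroup.mul_mem _ (Subgroup.mul_mem _ (stv_mem hf _ _) (stv_mem hf _ _)) (stv_mem hf _ _)
    have hgf : g ∈ preserving (Units.coeHom (Matrix ι ι F)) f :=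
      hg ▸ Subgroup.mul_mem _ (ust_mem hf _ _) (Subgroup.mul_mem _ (hqf _ _) (Subgroup.mul_mem _ (hqf _ _) (hqf _ _)))
    have hin : ∀ x, mv (qv hf v ((-(skewQ f J b) / 2) • w) 0 * (qv hf v (J b) 0 * qv hf w (-b) 0)) x =
        x + f x v • J b + (-f x w) • b + f x (J b) • v + (-f x b) • w +
          (skewQ f J b / 2 * f x w) • v + (-(skewQ f J b) / 2 * f x v) • w := fun x => by
      rw [mv_mul, mv_mul, mv_qv hf hbw', mv_qv hf hJbv,
        mv_qv hf (show f ((-(skewQ f J b) / 2) • w) v = 0 by rw [hf.bilinear.smul_left, hwv, mul_zero])]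
      simp only [hf.bilinear.add_left, hf.bilinear.add_right, hf.bilinear.smul_left, hf.bilinear.smul_right,
        f_neg_left hf, f_neg_right hf, hf.alternating, hwv, hvw, hbv, hbw, hJbv, hJbw,
        (f_eq_zero_comm hf).1 hJbv, (f_eq_zero_comm hf).1 hJbw,
        show f b (J b) = -skewQ f J b from hf.skew _ _, zero_mul, mul_zero, neg_zero, add_zero, zero_add]
      match_scalars <;> field_simp <;> ring
    have hgM : g ∈ M := hg ▸ M.mul_mem (hU _) (hC _
      (Subgroup.mul_mem _ (hqf _ _) (Subgroup.mul_mem _ (hqf _ _) (hqf _ _))) fun x => by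
        rw [hin, hin]
        simp only [map_add, map_smul, hJ.sq, hJw, ← hwdef]
        rw [show f (J x) v = -f x w by rw [hJ.skew, ← hwdef],
          show f (J x) w = -(δ * f x v) by rw [hJ.skew, hJw, hf.bilinear.smul_right],
          f_J_J hf hJ x b, show f (J x) b = -f x (J b) from hJ.skew x b]
        match_scalars <;> field_simp <;> ring)
    have hgw : mv g w = w := by
      rw [hg, mv_mul, hin, mv_ust hf hJ hv, ← hwdef]
      simp only [hf.bilinear.add_left, hf.bilinear.smul_left, hwv, (f_eq_zero_comm hf).1 hJbw,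
        (f_eq_zero_comm hf).1 hbw, hf.alternating, mul_zero, neg_zero, zero_smul, add_zero]
    have hgp : mv g p = Y (skewQ f J b) + ζ b := by
      rw [hg, mv_mul, hin, mv_ust hf hJ hv, ← hwdef]
      simp only [hf.bilinear.add_left, hf.bilinear.smul_left, hf.alternating, hpv', hpw, hJbv, hJbw, hbv, hbw,
        hwv, hvw, mul_zero, zero_mul, neg_zero, zero_smul, add_zero, Y, ζ]
      match_scalars <;> field_simp <;> ring
    refine ⟨?_, ?_, ?_⟩
    · have h1 := M.mul_mem (M.mul_mem (M.mul_mem hgM (hS c)) (M.inv_mem hgM)) (M.inv_mem (hS c))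
      rwa [show g * (stv hf p c * stv hf w (-(c / δ))) * g⁻¹ =
        g * stv hf p c * g⁻¹ * (g * stv hf w (-(c / δ)) * g⁻¹) by group, pair g hgf, pair g hgf, hgp, hgw,
        _root_.mul_inv_rev, ← mul_assoc, mul_inv_cancel_right,
        inv_eq_of_mul_eq_one_right (by rw [stv_add, add_neg_cancel, stv_zero] : stv hf p c * stv hf p (-c) = 1)]
        at h1
    · simp only [ζ, hf.bilinear.add_left, hf.bilinear.smul_left, hfvp, hwp, mul_zero, add_zero,
        show f (J b) p = -f p (J b) from hf.skew _ _]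
      ring
    · simp only [ζ, hf.bilinear.add_left, hf.bilinear.smul_left, hJbw, hvw, hf.alternating, mul_zero, add_zero]
  have hneg : skewQ f J (-b) = skewQ f J b := by
    simp [skewQ, f_neg_left hf, f_neg_right hf]
  have hmkPair : ∀ b, f b v = 0 → f b w = 0 →
      f (ζ b) (Y (skewQ f J b)) = 0 ∧ PairMem (f := f) M (Y (skewQ f J b)) (ζ b) := by
    intro b hbv hbw
    obtain ⟨-, e1, e2⟩ := key b hbv hbw 0
    have hζY : f (ζ b) (Y (skewQ f J b)) = 0 := by
      simp only [Y, hf.bilinear.add_right, hf.bilinear.smul_right, e1, e2, mul_zero, add_zero]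
    refine ⟨hζY, fun l => ⟨_, M.mul_mem (key b hbv hbw (l / 2)).1
      (M.inv_mem (key (-b) (by rw [f_neg_left hf, hbv, neg_zero]) (by rw [f_neg_left hf, hbw, neg_zero]) (l / 2)).1),
      fun z => ?_⟩⟩
    have hsk : skewQ f J (-b) = skewQ f J b := by simp [skewQ, f_neg_left hf, f_neg_right hf]
    have hζn : ζ (-b) = -ζ b := by
      simp only [ζ, map_neg, f_neg_right hf, neg_neg]; module
    have hinv : ∀ (u : ι → F) (c : F), (stv hf u c)⁻¹ = stv hf u (-c) := fun u c =>
      inv_eq_of_mul_eq_one_right (by rw [stv_add, add_neg_cancel, stv_zero])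
    rw [_root_.mul_inv_rev, hinv, hinv, neg_neg, ← mul_assoc, mul_assoc _ (stv hf p (-(l / 2))), stv_add,
      neg_add_cancel, stv_zero, mul_one, hsk, hζn]
    simp only [mv_mul, mv_stv, hf.bilinear.add_left, hf.bilinear.add_right, hf.bilinear.smul_left,
      hf.bilinear.smul_right, f_neg_left hf, f_neg_right hf, hf.alternating, hζY, (f_eq_zero_comm hf).1 hζY,
      mul_zero, neg_zero, add_zero]
    match_scalars <;> field_simp <;> ring
  obtain ⟨r, t, ht, hrt⟩ : ∃ r t : F, t ≠ 0 ∧ r * r - δ * (t * t) = 1 := by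
    have h1 : (1 : F) - δ ≠ 0 := fun h => hns (sub_eq_zero.1 h ▸ IsSquare.one)
    exact ⟨(1 + δ) / (1 - δ), 2 / (1 - δ), div_ne_zero h2 h1, by field_simp; ring⟩
  obtain ⟨b', hb'⟩ : ∃ b', b' = r • b + t • J b := ⟨_, rfl⟩
  have hJbv : f (J b) v = 0 := by rw [hJ.skew, ← hwdef, hbw, neg_zero]
  have hJbw : f (J b) w = 0 := by rw [hJ.skew, hJw, hf.bilinear.smul_right, hbv, mul_zero, neg_zero]
  have hb'v : f b' v = 0 := by
    rw [hb', hf.bilinear.add_left, hf.bilinear.smul_left, hf.bilinear.smul_left, hbv, hJbv]; ring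
  have hb'w : f b' w = 0 := by
    rw [hb', hf.bilinear.add_left, hf.bilinear.smul_left, hf.bilinear.smul_left, hbw, hJbw]; ring
  have hsame : skewQ f J b' = skewQ f J b := by rw [hb', skewQ_comb hf hJ, hrt, one_mul]
  obtain ⟨o1, P1⟩ := hmkPair b hbv hbw
  obtain ⟨o2, P2⟩ := hmkPair b' hb'v hb'w
  rw [hsame] at o2 P2
  refine ⟨Y (skewQ f J b), fun h0 => hν0 ?_, sCentre_of_two_pairs hf h2 o1 o2 P1 P2 ?_⟩
  · have := congrArg (fun y => f y v) h0
    simpa [Y, hf.bilinear.add_left, hf.bilinear.smul_left, f_neg_left hf, hwv, hpv', f_zero_left hf] using this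
  · have hJb'v : f (J b') v = 0 := by rw [hJ.skew, ← hwdef, hb'w, neg_zero]
    have hJb'w : f (J b') w = 0 := by rw [hJ.skew, hJw, hf.bilinear.smul_right, hb'v, mul_zero, neg_zero]
    have hval : f (ζ b) (ζ b') = ν * (ν * (-δ * f b b')) := by
      simp only [ζ, hf.bilinear.add_left, hf.bilinear.add_right, hf.bilinear.smul_left, hf.bilinear.smul_right,
        hJbv, hJbw, (f_eq_zero_comm hf).1 hJb'v, (f_eq_zero_comm hf).1 hJb'w, hvw, hwv, hf.alternating,
        f_J_J hf hJ, mul_zero, add_zero]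
    rw [hval]
    refine mul_ne_zero hν0 (mul_ne_zero hν0 (mul_ne_zero (neg_ne_zero.2 hδ) ?_))
    rw [hb', hf.bilinear.add_right, hf.bilinear.smul_right, hf.bilinear.smul_right, hf.alternating, mul_zero,
      zero_add, hf.skew]
    exact mul_ne_zero ht (neg_ne_zero.2 hbQ)

include h2 hns hN in
/-- Two unitary structures with the same isotropic lines agree up to sign. -/
theorem eq_or_neg_of_lines {J' : (ι → F) →ₗ[F] ι → F} (hJ' : IsSkewStruct f δ J')
    (h : ∀ v, skewQ f J v = 0 → v ∈ Submodule.span F ({J v, J' (J v)} : Set (ι → F))) :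
    (∀ x, J' x = J x) ∨ (∀ x, J' x = -J x) := by
  have hδ : δ ≠ 0 := fun h => hns (h ▸ IsSquare.zero)
  have hQ := skewQ_nondeg hf hJ h2 hδ
  have coef : ∀ u, skewQ f J u = 0 → ∃ γ κ : F, J' u = γ • u + κ • J u := by
    intro u hu
    obtain ⟨α, β, hab⟩ := Submodule.mem_span_pair.1 (h (δ⁻¹ • J u) (by
      simp only [skewQ, map_smul, hJ.sq, hf.bilinear.smul_left, hf.bilinear.smul_right]
      rw [(f_eq_zero_comm hf).1 hu]; ring))
    rw [map_smul, hJ.sq, inv_smul_smul₀ hδ] at hab
    rcases eq_or_ne β 0 with rfl | hβ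
    · rcases eq_or_ne u 0 with rfl | hu0
      · exact ⟨0, 0, by simp⟩
      have h0 : α • u + (-δ⁻¹) • J u = 0 := by linear_combination (norm := module) hab
      have := mem_of_comb hJ hns (L := ⊥) (fun x hx => by rw [Submodule.mem_bot] at hx ⊢; rw [hx, map_zero])
        ((Submodule.mem_bot F).2 h0)
      rcases this with ⟨-, h1⟩ | h1
      · exact absurd h1 (neg_ne_zero.2 (inv_ne_zero hδ))
      · exact absurd ((Submodule.mem_bot F).1 h1) hu0
    · refine ⟨-α / β, δ⁻¹ / β, ?_⟩
      apply smul_right_injective (ι → F) hβ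
      show β • _ = β • _
      rw [smul_add, smul_smul, smul_smul, mul_div_cancel₀ _ hβ, mul_div_cancel₀ _ hβ]
      linear_combination (norm := module) hab
  have hzero : ∀ u, skewQ f J u = 0 → u ≠ 0 → ∀ a b : F, J' u = a • u + b • J u → a = 0 := by
    intro u hu hu0 a b hab
    obtain ⟨x, hx, hxu⟩ := exists_sep hf (v := u) (W := Submodule.span F ({J u} : Set (ι → F))) fun hmem => by
      obtain ⟨s, hs⟩ := Submodule.mem_span_singleton.1 hmem
      rcases mem_of_comb hJ hns (L := ⊥) (fun x hx => by rw [Submodule.mem_bot] at hx ⊢; rw [hx, map_zero])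
          (u := u) (s := 1) (t := -s) ((Submodule.mem_bot F).2 (by linear_combination (norm := module) -hs))
        with ⟨h1, -⟩ | h1
      · exact one_ne_zero h1
      · exact hu0 ((Submodule.mem_bot F).1 h1)
    set X := (⊤ : Submodule F (ι → F)) ⊓ LinearMap.ker (LinearMap.pi ![formR hf (J u)]) with hX
    have hXd := le_finrank_inf_ker_add ⊤ ![formR hf (J u)]
    rw [finrank_top, ← hX] at hXd
    obtain ⟨w, hw, hwQ, hwu⟩ := exists_singular_off hQ (X := X) (by omega) (formR hf u) (x := x)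
      ⟨Submodule.mem_top, LinearMap.mem_ker.2 (by
        ext i; fin_cases i; exact hx _ (Submodule.mem_span_singleton_self _))⟩ hxu
    have hw1 : f (J u) w = 0 := (f_eq_zero_comm hf).1 (congrFun (LinearMap.mem_ker.1 hw.2) 0)
    have hJuw : f u (J w) = 0 := by
      have := hJ.skew u w
      rw [hw1] at this
      linear_combination this
    have huw : f u w ≠ 0 := fun h => hwu ((f_eq_zero_comm hf).1 h)
    obtain ⟨a', b', hab'⟩ := coef w hwQ
    obtain ⟨c, d, hcd⟩ := coef (u + w) (by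
      simp only [skewQ, map_add, hf.bilinear.add_left, hf.bilinear.add_right] at hu hwQ ⊢
      rw [hu, hwQ, f_J_comm hf hJ w u, hw1]; ring)
    have hs := hJ'.skew u w
    rw [hab, hab', hf.bilinear.add_left, hf.bilinear.add_right, hf.bilinear.smul_left, hf.bilinear.smul_left,
      hf.bilinear.smul_right, hf.bilinear.smul_right, hw1, hJuw] at hs
    rw [map_add, map_add, hab, hab'] at hcd
    have e1 := congrArg (fun z => f z w) hcd
    have e2 := congrArg (f u) hcd
    simp only [hf.bilinear.add_left, hf.bilinear.smul_left, hf.alternating, hw1,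
      show f (J w) w = 0 from hwQ, mul_zero, add_zero] at e1
    simp only [hf.bilinear.add_right, hf.bilinear.smul_right, hf.alternating, hJuw,
      show f u (J u) = 0 from (f_eq_zero_comm hf).1 hu, mul_zero, add_zero, zero_add] at e2
    have hsum : (2 * a) * f u w = 0 := by linear_combination hs + e1 - e2
    exact (mul_eq_zero.1 ((mul_eq_zero.1 hsum).resolve_right huw)).resolve_left h2
  have hline : ∀ u, skewQ f J u = 0 → u ≠ 0 → ∃ b : F, J' u = b • J u := by
    intro u hu hu0
    obtain ⟨a, b, hab⟩ := coef u hu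
    exact ⟨b, by rw [hab, hzero u hu hu0 a b hab, zero_smul, zero_add]⟩
  have hlink : ∀ u w, skewQ f J u = 0 → skewQ f J w = 0 → f (J u) w ≠ 0 → ∀ b c : F,
      J' u = b • J u → J' w = c • J w → b = c := by
    intro u w hu hw hne b c hb hc
    have hs := hJ'.skew u w
    rw [hb, hc, hf.bilinear.smul_left, hf.bilinear.smul_right, show f u (J w) = -f (J u) w by
      rw [hJ.skew u w, neg_neg]] at hs
    exact mul_right_cancel₀ hne (by linear_combination hs)
  obtain ⟨u₀, -, hu₀, hu₀Q⟩ := exists_singular hQ (X := ⊤) (by rw [finrank_top]; omega)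
  obtain ⟨κ, h₀⟩ := hline u₀ hu₀Q hu₀
  have hJne : ∀ {u : ι → F}, u ≠ 0 → J u ≠ 0 := fun hu h => hu (by
    have := congrArg J h
    rw [hJ.sq] at this
    rw [map_zero] at this
    exact (smul_eq_zero.1 this).resolve_left hδ)
  have hall : ∀ u, skewQ f J u = 0 → J' u = κ • J u := by
    intro u hu
    rcases eq_or_ne u 0 with rfl | hu0
    · simp
    obtain ⟨b, hb⟩ := hline u hu hu0
    obtain ⟨x1, hx1⟩ := (hf.nondegenerate (J u₀) (hJne hu₀)).1
    obtain ⟨x2, hx2⟩ := (hf.nondegenerate (J u) (hJne hu0)).1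
    obtain ⟨z, -, hzQ, hz1, hz2⟩ := exists_singular_off₂ hQ h2 (X := ⊤) (by rw [finrank_top]; omega)
      (formR hf (J u₀)) (formR hf (J u)) (x := x1) (y := x2) Submodule.mem_top hx1 Submodule.mem_top hx2
    have hz0 : z ≠ 0 := fun h => hz1 (by rw [h, map_zero])
    obtain ⟨c, hc⟩ := hline z hzQ hz0
    rw [hb, hlink u z hu hzQ (fun h => hz2 ((f_eq_zero_comm hf).1 h)) b c hb hc,
      ← hlink u₀ z hu₀Q hzQ (fun h => hz1 ((f_eq_zero_comm hf).1 h)) κ c h₀ hc]
  have h1 := hJ'.sq u₀
  rw [h₀, map_smul, hall (J u₀) (by rw [skewQ_J hf hJ, hu₀Q, mul_zero]), hJ.sq, smul_smul, smul_smul,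
    ← sub_eq_zero, ← sub_smul] at h1
  have e1 : κ * κ * δ - δ = 0 := (smul_eq_zero.1 h1).resolve_right hu₀
  have hker : LinearMap.ker (J' - κ • J) = ⊤ := by
    by_contra hne
    obtain ⟨x, hx⟩ : ∃ x, x ∉ LinearMap.ker (J' - κ • J) := by
      by_contra hc
      push Not at hc
      exact hne (Submodule.eq_top_iff'.2 hc)
    obtain ⟨φ, hφk, hφx⟩ := exists_dual hx
    obtain ⟨z, -, hzQ, hzφ⟩ := exists_singular_off hQ (X := ⊤) (by rw [finrank_top]; omega) φ
      Submodule.mem_top (hφx ▸ one_ne_zero)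
    exact hzφ (hφk z (LinearMap.mem_ker.2 (by
      rw [LinearMap.sub_apply, LinearMap.smul_apply, hall z hzQ, sub_self])))
  have hfin : ∀ x, J' x = κ • J x := fun x => sub_eq_zero.1 (by
    have hx : x ∈ LinearMap.ker (J' - κ • J) := hker ▸ Submodule.mem_top
    simpa using hx)
  have hk1 : (κ - 1) * (κ + 1) * δ = 0 := by linear_combination e1
  rcases mul_eq_zero.1 hk1 with h4 | h4
  · rcases mul_eq_zero.1 h4 with h5 | h5
    · exact Or.inl fun x => by rw [hfin, sub_eq_zero.1 h5, one_smul]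
    · exact Or.inr fun x => by rw [hfin, eq_neg_of_add_eq_zero_left h5, neg_one_smul]
  · exact absurd h4 hδ

include h2 hns hN in
/-- A group containing the unitary transvections and one transvection is the isometry group. -/
theorem eq_preserving_of_sCentre {M : Subgroup (GL ι F)}
    (hMf : M ≤ preserving (Units.coeHom (Matrix ι ι F)) f) (hC' : ∀ g ∈ preserving (Units.coeHom (Matrix ι ι F)) f, (∀ x, mv g (J x) = J (mv g x)) → g ∈ M)
    {v₀ : ι → F} (hv₀ : v₀ ≠ 0) (hC : v₀ ∈ sCentres hf M) : M = preserving (Units.coeHom (Matrix ι ι F)) f := by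
  have hδ : δ ≠ 0 := fun h => hns (h ▸ IsSquare.zero)
  have hQ := skewQ_nondeg hf hJ h2 hδ
  have hU : ∀ v, skewQ f J v = 0 → ∀ a, ust hf δ J v a ∈ M := fun v hv a =>
    hC' _ (ust_mem hf v a) (ust_comm hf hJ hv a)
  have step : ∀ v ∈ sCentres hf M, ∀ u, skewQ f J u = 0 → f v (J u) = 0 → f v u ≠ 0 → u ∈ sCentres hf M := by
    intro v hv u hu hvJu hvu
    have hne : f u v ≠ 0 := fun h => hvu ((f_eq_zero_comm hf).1 h)
    have h1 : v + (δ * f v u) • u ∈ sCentres hf M := by
      have := sCentres_mv hf hMf (hU u hu 1) hv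
      rwa [mv_ust hf hJ hu, hvJu, mul_zero, zero_smul, add_zero, one_mul] at this
    have h3 := sCentres_add hf hMf h1 (sCentres_smul hf hv (-1)) (by
      rw [hf.bilinear.add_left, hf.bilinear.smul_left, hf.bilinear.smul_right, hf.bilinear.smul_right,
        hf.alternating, mul_zero, zero_add]
      exact mul_ne_zero (mul_ne_zero hδ hvu) (mul_ne_zero (by norm_num) hne))
    rw [show v + (δ * f v u) • u + (-1 : F) • v = (δ * f v u) • u by module] at h3
    have := sCentres_smul hf h3 (δ * f v u)⁻¹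
    rwa [smul_smul, inv_mul_cancel₀ (mul_ne_zero hδ hvu), one_smul] at this
  obtain ⟨r, t, ht, hrt⟩ : ∃ r t : F, t ≠ 0 ∧ r * r - δ * (t * t) = 1 := by
    have h1 : (1 : F) - δ ≠ 0 := fun h => hns (sub_eq_zero.1 h ▸ IsSquare.one)
    exact ⟨(1 + δ) / (1 - δ), 2 / (1 - δ), div_ne_zero h2 h1, by field_simp; ring⟩
  -- multiplication by the scalars of norm one
  obtain ⟨σ, hσ⟩ : ∃ σ : GL ι F, ∀ x, mv σ x = r • x + t • J x := by
    have hJ2 : LinearMap.toMatrix' J * LinearMap.toMatrix' J = δ • (1 : Matrix ι ι F) := by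
      rw [← LinearMap.toMatrix'_comp, show J.comp J = δ • LinearMap.id from LinearMap.ext hJ.sq, map_smul,
        LinearMap.toMatrix'_id]
    refine ⟨⟨r • 1 + t • LinearMap.toMatrix' J, r • 1 - t • LinearMap.toMatrix' J, ?_, ?_⟩, fun x => ?_⟩
    · simp only [add_mul, mul_sub, smul_mul_assoc, mul_smul_comm, one_mul, mul_one, hJ2, smul_smul]
      match_scalars <;> first | linear_combination hrt | linear_combination -hrt | ring
    · simp only [sub_mul, mul_add, smul_mul_assoc, mul_smul_comm, one_mul, mul_one, hJ2, smul_smul]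
      match_scalars <;> first | linear_combination hrt | linear_combination -hrt | ring
    · show (r • 1 + t • LinearMap.toMatrix' J) *ᵥ x = _
      rw [Matrix.add_mulVec, Matrix.smul_mulVec, Matrix.smul_mulVec, Matrix.one_mulVec, LinearMap.toMatrix'_mulVec]
  have hσM : σ ∈ M := hC' σ (fun x y => by
      show f (mv σ x) (mv σ y) = f x y
      rw [hσ, hσ]
      simp only [hf.bilinear.add_left, hf.bilinear.add_right, hf.bilinear.smul_left, hf.bilinear.smul_right,
        f_J_J hf hJ, hJ.skew x y]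
      linear_combination f x y * hrt) fun x => by
    rw [hσ, hσ, map_add, map_smul, map_smul]
  -- an isotropic centre and a second one
  have mk : ∀ v ∈ sCentres hf M, v ∉ Submodule.span F ({J v} : Set (ι → F)) →
      ∃ u, skewQ f J u = 0 ∧ f v (J u) = 0 ∧ f v u ≠ 0 ∧ u ∈ sCentres hf M := by
    intro v hv hvJ
    obtain ⟨x, hx, hxv⟩ := exists_sep hf hvJ
    set X := (⊤ : Submodule F (ι → F)) ⊓ LinearMap.ker (LinearMap.pi ![formR hf (J v)]) with hX
    have hXd := le_finrank_inf_ker_add ⊤ ![formR hf (J v)]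
    rw [finrank_top, ← hX] at hXd
    obtain ⟨u, hu, huQ, huv⟩ := exists_singular_off hQ (X := X) (by omega) (formR hf v) (x := x)
      ⟨Submodule.mem_top, LinearMap.mem_ker.2 (by
        ext i; fin_cases i; exact hx _ (Submodule.mem_span_singleton_self _))⟩ hxv
    have h1 : f (J v) u = 0 := (f_eq_zero_comm hf).1 (congrFun (LinearMap.mem_ker.1 hu.2) 0)
    have h3 : f v (J u) = 0 := by
      have := hJ.skew v u
      rw [h1] at this
      linear_combination this
    have h4 : f v u ≠ 0 := fun h => huv ((f_eq_zero_comm hf).1 h)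
    exact ⟨u, huQ, h3, h4, step v hv u huQ h3 h4⟩
  have hnJ : ∀ {v : ι → F}, v ≠ 0 → v ∉ Submodule.span F ({J v} : Set (ι → F)) := fun {v} hv hmem => by
    obtain ⟨s, hs⟩ := Submodule.mem_span_singleton.1 hmem
    rcases mem_of_comb hJ hns (L := ⊥) (fun x hx => by rw [Submodule.mem_bot] at hx ⊢; rw [hx, map_zero])
        (u := v) (s := 1) (t := -s) ((Submodule.mem_bot F).2 (by linear_combination (norm := module) -hs))
      with ⟨h1, -⟩ | h1
    · exact one_ne_zero h1
    · exact hv ((Submodule.mem_bot F).1 h1)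
  obtain ⟨u, huQ, -, hvu, huC⟩ := mk v₀ hC (hnJ hv₀)
  have hu0 : u ≠ 0 := fun h => hvu (by rw [h, f_zero_right hf])
  obtain ⟨w, hwQ, huJw, huw, hwC⟩ := mk u huC (hnJ hu0)
  have hw0 : w ≠ 0 := fun h => huw (by rw [h, f_zero_right hf])
  -- the sum of a second and a third one is anisotropic
  obtain ⟨v, hv, hvQ⟩ : ∃ v ∈ sCentres hf M, skewQ f J v ≠ 0 := by
    have hJuw : f (J u) w = 0 := by rw [hJ.skew, huJw, neg_zero]
    have hwu : f w u ≠ 0 := fun h => huw ((f_eq_zero_comm hf).1 h)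
    have hJwu : f (J w) u = 0 := by rw [f_J_comm hf hJ]; exact hJuw
    set B := (⊤ : Submodule F (ι → F)) ⊓
      LinearMap.ker (LinearMap.pi ![formR hf u, formR hf (J u), formR hf w, formR hf (J w)]) with hB
    have memB : ∀ z, f z u = 0 → f z (J u) = 0 → f z w = 0 → f z (J w) = 0 → z ∈ B := fun z h1 h2' h3 h4 =>
      ⟨Submodule.mem_top, LinearMap.mem_ker.2 (by ext i; fin_cases i <;> assumption)⟩
    obtain ⟨e, heB, heQ⟩ : ∃ e ∈ B, skewQ f J e ≠ 0 := by
      by_contra hcon
      push Not at hcon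
      have hBd := le_finrank_inf_ker_add ⊤ ![formR hf u, formR hf (J u), formR hf w, formR hf (J w)]
      rw [finrank_top, ← hB] at hBd
      obtain ⟨e, he, he0⟩ := B.ne_bot_iff.1 fun h => by rw [h, finrank_bot] at hBd; omega
      have e1 : f e u = 0 := congrFun (LinearMap.mem_ker.1 he.2) 0
      have e2 : f e (J u) = 0 := congrFun (LinearMap.mem_ker.1 he.2) 1
      have e3 : f e w = 0 := congrFun (LinearMap.mem_ker.1 he.2) 2
      have e4 : f e (J w) = 0 := congrFun (LinearMap.mem_ker.1 he.2) 3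
      have hJe : J e ∈ B := memB _ (by rw [hJ.skew, e2, neg_zero])
        (by rw [f_J_J hf hJ, e1, mul_zero]) (by rw [hJ.skew, e4, neg_zero]) (by rw [f_J_J hf hJ, e3, mul_zero])
      obtain ⟨-, y, hy⟩ := hf.nondegenerate e he0
      obtain ⟨a, ha⟩ : ∃ a, a = f y w / f u w := ⟨_, rfl⟩
      obtain ⟨a', ha'⟩ : ∃ a', a' = f y (J w) / (-δ * f u w) := ⟨_, rfl⟩
      obtain ⟨c, hc⟩ : ∃ c, c = f y u / f w u := ⟨_, rfl⟩
      obtain ⟨c', hc'⟩ : ∃ c', c' = f y (J u) / (-δ * f w u) := ⟨_, rfl⟩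
      have hwJu : f w (J u) = 0 := (f_eq_zero_comm hf).1 hJuw
      have huu : f (J u) u = 0 := huQ
      have hww : f (J w) w = 0 := hwQ
      have hy' : y - a • u - a' • J u - c • w - c' • J w ∈ B := by
        refine memB _ ?_ ?_ ?_ ?_ <;>
        · simp only [f_sub_left hf, hf.bilinear.smul_left, hf.alternating, huu, hww, hJuw, hJwu, huJw, hwJu,
            f_J_J hf hJ, (f_eq_zero_comm hf).1 huu, (f_eq_zero_comm hf).1 hww, ha, ha', hc, hc', mul_zero, sub_zero]
          field_simp
          ring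
      apply hy
      have h1 := hcon _ (B.add_mem hJe hy')
      have h2' : pol (skewQ f J) (J e) (y - a • u - a' • J u - c • w - c' • J w) = 0 := by
        rw [q_add hQ, hcon _ hJe, hcon _ hy', zero_add, zero_add] at h1
        exact h1
      rw [pol_skewQ hf hJ, hJ.sq, hf.bilinear.smul_left] at h2'
      simp only [f_sub_right hf, hf.bilinear.smul_right, e1, e2, e3, e4, mul_zero, sub_zero] at h2'
      exact (mul_eq_zero.1 ((mul_eq_zero.1 h2').resolve_left h2)).resolve_left hδ
    have e1 : f e u = 0 := congrFun (LinearMap.mem_ker.1 heB.2) 0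
    have e2 : f e (J u) = 0 := congrFun (LinearMap.mem_ker.1 heB.2) 1
    have e3 : f e w = 0 := congrFun (LinearMap.mem_ker.1 heB.2) 2
    have e4 : f e (J w) = 0 := congrFun (LinearMap.mem_ker.1 heB.2) 3
    have huu : f (J u) u = 0 := huQ
    have hww : f (J w) w = 0 := hwQ
    have hwJu : f w (J u) = 0 := (f_eq_zero_comm hf).1 hJuw
    obtain ⟨τ, hτ⟩ : ∃ τ, τ = -(skewQ f J e) / (2 * (δ * f u w)) := ⟨_, rfl⟩
    have hτ0 : τ ≠ 0 := hτ ▸ div_ne_zero (neg_ne_zero.2 heQ) (mul_ne_zero h2 (mul_ne_zero hδ huw))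
    obtain ⟨z, hz⟩ : ∃ z, z = u + τ • J u + w + e := ⟨_, rfl⟩
    have q1 : f (J e) u = 0 := by rw [hJ.skew, e2, neg_zero]
    have q2 : f (J e) (J u) = 0 := by rw [f_J_J hf hJ, e1, mul_zero]
    have q3 : f (J e) w = 0 := by rw [hJ.skew, e4, neg_zero]
    have hzQ : skewQ f J z = 0 := by
      simp only [skewQ, hz, map_add, map_smul, hJ.sq, hf.bilinear.add_left, hf.bilinear.add_right,
        hf.bilinear.smul_left, hf.bilinear.smul_right, hf.alternating, huu, hww, hJuw, hJwu, huJw,
        f_J_J hf hJ, (f_eq_zero_comm hf).1 huu, (f_eq_zero_comm hf).1 e1, (f_eq_zero_comm hf).1 e2,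
        (f_eq_zero_comm hf).1 e3, (f_eq_zero_comm hf).1 e4, e1, e2, e3, e4, q1, q2, q3, mul_zero, add_zero, zero_add,
        show f (J u) e = 0 from (f_eq_zero_comm hf).1 e2, show f (J w) e = 0 from (f_eq_zero_comm hf).1 e4]
      rw [show f (J e) e = skewQ f J e from rfl, hf.skew w u, hτ]
      field_simp
      ring
    have hzC : z ∈ sCentres hf M := by
      refine step u huC z hzQ ?_ ?_
      · simp only [hz, map_add, map_smul, hJ.sq, hf.bilinear.add_right, hf.bilinear.smul_right, hf.alternating,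
          huJw, (f_eq_zero_comm hf).1 huu, show f u (J e) = 0 from (f_eq_zero_comm hf).1 q1, mul_zero, add_zero]
      · simp only [hz, hf.bilinear.add_right, hf.bilinear.smul_right, hf.alternating, (f_eq_zero_comm hf).1 huu,
          (f_eq_zero_comm hf).1 e1, mul_zero, add_zero, zero_add]
        exact huw
    have hwz : f w z = f w u := by
      simp only [hz, hf.bilinear.add_right, hf.bilinear.smul_right, hf.alternating, hwJu,
        (f_eq_zero_comm hf).1 e3, mul_zero, add_zero]
    have hJwz : f (J w) z = τ * (-δ * f w u) := by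
      simp only [hz, hf.bilinear.add_right, hf.bilinear.smul_right, hJwu, hww, f_J_J hf hJ,
        show f (J w) e = 0 from (f_eq_zero_comm hf).1 e4, add_zero, zero_add]
    refine ⟨w + z, sCentres_add hf hMf hwC hzC (hwz ▸ hwu), ?_⟩
    rw [skewQ, map_add, hf.bilinear.add_left, hf.bilinear.add_right, hf.bilinear.add_right, hww,
      show f (J z) z = 0 from hzQ, f_J_comm hf hJ z w, hJwz, zero_add, add_zero, ← two_mul]
    exact mul_ne_zero h2 (mul_ne_zero hτ0 (mul_ne_zero (neg_ne_zero.2 hδ) hwu))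
  -- transvection conjugation gives a point on every line meeting a centre
  let y : (ι → F) → (ι → F) → ι → F := fun x v => (δ * f v x) • x + (-f v (J x)) • J x
  have gstep : ∀ x, skewQ f J x = 0 → ∀ v ∈ sCentres hf M, y x v ∈ sCentres hf M := by
    intro x hx v hv
    by_cases h0 : δ * (f v x * f v x) - f v (J x) * f v (J x) = 0
    · obtain ⟨a1, a2⟩ := not_square_eq hns (s := f v (J x)) (t := f v x) (by linear_combination -h0)
      have := sCentres_smul hf hv (0 : F)
      simpa [y, a1, a2] using this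
    have h1 := sCentres_mv hf hMf (hU x hx 1) hv
    rw [mv_ust hf hJ hx, one_mul, show (-1 : F) * f v (J x) = -f v (J x) by ring, add_assoc] at h1
    have h3 := sCentres_add hf hMf h1 (sCentres_smul hf hv (-1)) (by
      rw [hf.bilinear.smul_right, hf.bilinear.add_left, hf.bilinear.add_left, hf.bilinear.smul_left,
        hf.bilinear.smul_left, hf.alternating, zero_add, hf.skew x v, hf.skew (J x) v]
      exact mul_ne_zero (neg_ne_zero.2 one_ne_zero) fun h => h0 (by linear_combination -h))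
    rwa [show v + ((δ * f v x) • x + (-f v (J x)) • J x) + (-1 : F) • v = y x v by simp only [y]; module] at h3
  have ylin : ∀ x a b (c : F), y x (a + c • b) = y x a + c • y x b := fun x a b c => by
    simp only [y, hf.bilinear.add_left, hf.bilinear.smul_left]; module
  obtain ⟨v', hv'⟩ : ∃ v', v' = mv σ v := ⟨_, rfl⟩
  have hv'C : v' ∈ sCentres hf M := hv' ▸ sCentres_mv hf hMf hσM hv
  have hvv' : f v v' ≠ 0 := by
    rw [hv', hσ, hf.bilinear.add_right, hf.bilinear.smul_right, hf.bilinear.smul_right, hf.alternating, mul_zero,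
      zero_add, hf.skew v (J v)]
    exact mul_ne_zero ht (neg_ne_zero.2 hvQ)
  have off : ∀ x, skewQ f J x = 0 → δ * (f v x * f v x) - f v (J x) * f v (J x) ≠ 0 → x ∈ sCentres hf M := by
    intro x hx hne
    have hA : f v' x = r * f v x - t * f v (J x) := by
      rw [hv', hσ, hf.bilinear.add_left, hf.bilinear.smul_left, hf.bilinear.smul_left, hJ.skew v x]; ring
    have hB : f v' (J x) = r * f v (J x) - t * δ * f v x := by
      rw [hv', hσ, hf.bilinear.add_left, hf.bilinear.smul_left, hf.bilinear.smul_left, f_J_J hf hJ]; ring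
    obtain ⟨k, hk⟩ : ∃ k, k = (δ * (-t) * (δ * (f v x * f v x) - f v (J x) * f v (J x)))⁻¹ := ⟨_, rfl⟩
    have hk' : k * (δ * (-t) * (δ * (f v x * f v x) - f v (J x) * f v (J x))) = 1 := by
      rw [hk]; exact inv_mul_cancel₀ (mul_ne_zero (mul_ne_zero hδ (neg_ne_zero.2 ht)) hne)
    have hx' : x = (k * f v' (J x)) • y x v + (-(k * f v (J x))) • y x v' := by
      simp only [y, hA, hB]
      match_scalars
      · linear_combination -hk'
      · ring
    rw [hx']
    by_cases hp : k * f v' (J x) = 0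
    · rw [hp, zero_smul, zero_add]
      exact sCentres_smul hf (gstep x hx v' hv'C) _
    rw [show (k * f v' (J x)) • y x v + (-(k * f v (J x))) • y x v' =
      (k * f v' (J x)) • y x (v + (-(k * f v (J x)) / (k * f v' (J x))) • v') by
        have e : ∀ (a b : ι → F) (s c : F), s ≠ 0 → s • a + c • b = s • (a + (c / s) • b) := fun a b s c hs => by
          rw [smul_add, smul_smul, mul_div_cancel₀ _ hs]
        rw [ylin]
        exact e _ _ _ _ hp]
    refine sCentres_smul hf (gstep x hx _ ?_) _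
    generalize -(k * f v (J x)) / (k * f v' (J x)) = c
    rcases eq_or_ne c 0 with rfl | hc
    · rw [zero_smul, add_zero]; exact hv
    exact sCentres_add hf hMf hv (sCentres_smul hf hv'C c)
      (by rw [hf.bilinear.smul_right]; exact mul_ne_zero hc hvv')
  have iso : ∀ x, skewQ f J x = 0 → x ∈ sCentres hf M := by
    intro x hx
    by_cases hne : δ * (f v x * f v x) - f v (J x) * f v (J x) = 0
    swap
    · exact off x hx hne
    rcases eq_or_ne x 0 with rfl | hx0
    · simpa using sCentres_smul hf hC (0 : F)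
    have hv0 : v ≠ 0 := fun h => hvQ (by rw [h, skewQ, map_zero, f_zero_left hf])
    obtain ⟨x1, hx1⟩ := (hf.nondegenerate v hv0).1
    obtain ⟨x2, hx2⟩ := (hf.nondegenerate x hx0).1
    obtain ⟨z, -, hzQ, hz1, hz2⟩ := exists_singular_off₂ hQ h2 (X := ⊤) (by rw [finrank_top]; omega)
      (formR hf v) (formR hf x) (x := x1) (y := x2) Submodule.mem_top hx1 Submodule.mem_top hx2
    have hzline : ∀ a b : F, a • z + b • J z ∈ sCentres hf M := fun a b => by
      by_cases hab0 : a = 0 ∧ b = 0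
      · rw [hab0.1, hab0.2, zero_smul, zero_smul, add_zero]
        simpa using sCentres_smul hf hC (0 : F)
      refine off _ (by rw [skewQ_comb hf hJ, hzQ, mul_zero]) fun h0 => ?_
      obtain ⟨a1, a2⟩ := not_square_eq hns (s := f v (J (a • z + b • J z))) (t := f v (a • z + b • J z))
        (by linear_combination -h0)
      simp only [map_add, map_smul, hJ.sq, hf.bilinear.add_right, hf.bilinear.smul_right] at a1 a2
      have hnz : f v z ≠ 0 := fun h => hz1 ((f_eq_zero_comm hf).1 h)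
      have hab : (a * a - δ * (b * b)) * f v z = 0 := by linear_combination a * a2 - b * a1
      exact hab0 (not_square_eq hns ((mul_eq_zero.1 hab).resolve_right hnz))
    obtain ⟨z', hz'⟩ : ∃ z', z' = (f (J z) (J x)) • z + (-f z (J x)) • J z := ⟨_, rfl⟩
    refine step z' (hz' ▸ hzline _ _) x hx ?_ ?_
    · rw [hz', hf.bilinear.add_left, hf.bilinear.smul_left, hf.bilinear.smul_left]; ring
    · rw [hz', hf.bilinear.add_left, hf.bilinear.smul_left, hf.bilinear.smul_left, f_J_J hf hJ, hJ.skew z x]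
      intro h0
      have h1 : f z (J x) * f z (J x) - δ * (f z x * f z x) = 0 := by linear_combination h0
      exact hz2 (not_square_eq hns h1).2
  refine sCentres_eq_univ hf hMf fun x => ?_
  by_cases hx : skewQ f J x = 0
  · exact iso x hx
  have hx0 : x ≠ 0 := fun h => hx (by rw [h, skewQ, map_zero, f_zero_left hf])
  have hJx0 : f (J x) x ≠ 0 := hx
  obtain ⟨a, ha⟩ : ∃ a, f a x ≠ 0 := (hf.nondegenerate x hx0).1
  obtain ⟨w, -, hwQ, hwx, hwJ⟩ := exists_singular_off₂ hQ h2 (X := ⊤) (by rw [finrank_top]; omega)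
    (formR hf x) (formR hf (J x)) (x := a) (y := x) Submodule.mem_top ha Submodule.mem_top
    (by rw [formR_apply, hf.skew]; exact neg_ne_zero.2 hJx0)
  rw [formR_apply] at hwx hwJ
  have hβ : pol (skewQ f J) x w ≠ 0 := by
    rw [pol_skewQ hf hJ, hf.skew]
    exact mul_ne_zero h2 (neg_ne_zero.2 hwJ)
  set w' := (skewQ f J x / pol (skewQ f J) x w) • w with hw'
  have hw'Q : skewQ f J w' = 0 := by rw [hw', q_smul hQ, hwQ, mul_zero]
  have hrest : skewQ f J (x - w') = 0 := by
    rw [q_sub hQ, hw'Q, hw', pol_smul_right hQ, div_mul_cancel₀ _ hβ]; ring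
  have h3 := sCentres_add hf hMf (iso w' hw'Q) (iso _ hrest) (by
    rw [f_sub_right hf, hf.alternating, sub_zero, hw', hf.bilinear.smul_left]
    exact mul_ne_zero (div_ne_zero hx hβ) hwx)
  rwa [add_sub_cancel] at h3

include h2 hns hN in
theorem alt_skew_normalizer_maximal {H : Subgroup (GL ι F)}
    (hHdef : ∀ g, g ∈ H ↔ g ∈ preserving (Units.coeHom (Matrix ι ι F)) f ∧
      ((∀ x, mv g (J x) = J (mv g x)) ∨ ∀ x, mv g (J x) = -J (mv g x))) :
    Geo.IsMaximalIn (preserving (Units.coeHom (Matrix ι ι F)) f) H := by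
  have hδ : δ ≠ 0 := fun h => hns (h ▸ IsSquare.zero)
  have hle : H ≤ preserving (Units.coeHom (Matrix ι ι F)) f := fun g hg => ((hHdef g).1 hg).1
  refine ⟨lt_of_le_of_ne hle fun heq => ?_, fun M hHM hMf => ?_⟩
  · obtain ⟨p, -, hp⟩ : ∃ p ∈ (⊤ : Submodule F (ι → F)), p ≠ 0 :=
      (⊤ : Submodule F (ι → F)).ne_bot_iff.1 fun h => by
        rw [← finrank_top, h, finrank_bot] at hN; omega
    have hJp : p ∉ Submodule.span F ({J p} : Set (ι → F)) := fun hmem => by
      obtain ⟨s, hs⟩ := Submodule.mem_span_singleton.1 hmem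
      have h0 : (1 : F) • p + (-s) • J p = 0 := by linear_combination (norm := module) -hs
      rcases mem_of_comb hJ hns (L := ⊥) (fun x hx => by rw [Submodule.mem_bot] at hx ⊢; rw [hx, map_zero])
          ((Submodule.mem_bot F).2 h0) with ⟨h1, -⟩ | h1
      · exact one_ne_zero h1
      · exact hp ((Submodule.mem_bot F).1 h1)
    obtain ⟨y, hy, hyp⟩ := exists_sep hf hJp
    have hyJ : f (J y) p = 0 := by rw [hJ.skew, hy _ (Submodule.mem_span_singleton_self _), neg_zero]
    obtain ⟨x, hx, hx0⟩ := ((⊤ : Submodule F (ι → F)) ⊓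
      LinearMap.ker (LinearMap.pi ![formR hf p, formR hf (J p)])).ne_bot_iff.1 (fun h => by
        have := le_finrank_inf_ker_add ⊤ ![formR hf p, formR hf (J p)]
        rw [h, finrank_top, finrank_bot] at this
        omega)
    have x1 : f x p = 0 := congrFun (LinearMap.mem_ker.1 hx.2) 0
    have x2 : f x (J p) = 0 := congrFun (LinearMap.mem_ker.1 hx.2) 1
    have x3 : f (J x) p = 0 := by rw [hJ.skew, x2, neg_zero]
    rcases ((hHdef _).1 (heq.ge (stv_mem hf p 1))).2 with hc | hc
    · have h := hc y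
      rw [stv_fix hf _ _ hyJ, mv_stv, map_add, map_smul, one_mul, left_eq_add, smul_eq_zero] at h
      rcases h with h | h
      · exact hyp h
      · have := hJ.sq p
        rw [h, map_zero] at this
        exact hp ((smul_eq_zero.1 this.symm).resolve_left hδ)
    · have h := hc x
      rw [stv_fix hf _ _ x3, stv_fix hf _ _ x1] at h
      have h4 : (2 : F) • J x = 0 := by linear_combination (norm := module) h
      have h5 := hJ.sq x
      rw [(smul_eq_zero.1 h4).resolve_left h2, map_zero] at h5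
      exact hx0 ((smul_eq_zero.1 h5.symm).resolve_left hδ)
  by_cases hMH : M ≤ H
  · exact Or.inl (le_antisymm hMH hHM)
  obtain ⟨g, hgM, hgH⟩ := SetLike.not_le_iff_exists.1 hMH
  refine Or.inr ?_
  have hU : ∀ v, skewQ f J v = 0 → ∀ a, ust hf δ J v a ∈ M := fun v hv a =>
    hHM ((hHdef _).2 ⟨ust_mem hf v a, Or.inl (ust_comm hf hJ hv a)⟩)
  have hC : ∀ g ∈ preserving (Units.coeHom (Matrix ι ι F)) f, (∀ x, mv g (J x) = J (mv g x)) → g ∈ M :=
    fun g hg hcomm => hHM ((hHdef g).2 ⟨hg, Or.inl hcomm⟩)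
  set J' := (mvLin g).comp (J.comp (mvLin g⁻¹)) with hJ'def
  have hJ'a : ∀ x, J' x = mv g (J (mv g⁻¹ x)) := fun x => by
    simp [hJ'def, Matrix.toLin'_apply, mv]
  have hg : ∀ x y, f (mv g x) (mv g y) = f x y := fun x y => hMf hgM x y
  have hg' : ∀ x y, f (mv g x) y = f x (mv g⁻¹ y) := fun x y => by
    conv_lhs => rw [← mv_mv_inv g y]
    exact hg _ _
  have hJ' : IsSkewStruct f δ J' := by
    refine ⟨fun x => ?_, fun x y => ?_⟩
    · rw [hJ'a, hJ'a, mv_inv_mv, hJ.sq, mv_smul, mv_mv_inv]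
    · rw [hJ'a, hJ'a, hg', hJ.skew, hf.skew x (mv g _), hg', ← hf.skew, neg_neg]
  have hU' : ∀ v, skewQ f J' v = 0 → ∀ a, ust hf δ J' v a ∈ M := by
    intro v hv a
    have hv' : skewQ f J (mv g⁻¹ v) = 0 := by
      rw [skewQ, hJ'a, hg'] at hv
      exact hv
    have hk : ∀ x y, f (mv g x) (mv g y) = 1 * f x y := fun x y => by rw [one_mul]; exact hg x y
    have h := congrArg₂ (· * ·) (stv_conj hf one_ne_zero hk (mv g⁻¹ v) (a * δ))
      (stv_conj hf one_ne_zero hk (J (mv g⁻¹ v)) (-a))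
    simp only [div_one, mv_mv_inv, ← hJ'a] at h
    rw [ust, ← h]
    have := M.mul_mem (M.mul_mem hgM (hU _ hv' a)) (M.inv_mem hgM)
    rw [ust] at this
    simpa [mul_assoc] using this
  by_cases hlines : ∀ v, skewQ f J v = 0 → v ∈ Submodule.span F ({J v, J' (J v)} : Set (ι → F))
  · exfalso
    apply hgH
    refine (hHdef g).2 ⟨hMf hgM, ?_⟩
    refine (eq_or_neg_of_lines hf hJ h2 hns hN hJ' hlines).imp (fun h x => ?_) (fun h x => ?_) <;>
      · have := h (mv g x)
        rwa [hJ'a, mv_inv_mv] at this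
  push Not at hlines
  obtain ⟨v, hv, hvL⟩ := hlines
  obtain ⟨y, hy0, hy⟩ := exists_sCentre hf hJ h2 hns hN hJ' hC hU' hv hvL
  exact eq_preserving_of_sCentre hf hJ h2 hns hN hMf hC hy0 hy

end Skew

end Cfsg.Agent.Transvec
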