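/-
Maximality of the subfield subgroups of the orthogonal groups.
-/
import Cfsg.Agent.Lib.Transvec.OrthSubfield
set_option autoImplicit false

namespace Cfsg.Agent.Transvec.Orth

open scoped Matrix commutatorElement
open Matrix Cfsg.Agent.Transvec

variable {ι : Type} [Fintype ι] [DecidableEq ι] {F : Type*} [Field F] {F₀ : Subfield F} {Q : (ι → F) → F}

/-- The coordinatewise inclusion, linear over the subfield. -/
def upLin : (ι → F₀) →ₗ[F₀] (ι → F) := (Algebra.linearMap F₀ F).compLeft ι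

theorem upLin_apply (q : ι → F₀) : upLin q = up q := rfl

theorem linear_ext_up {W : Type*} [AddCommGroup W] [Module F W] {A B : (ι → F) →ₗ[F] W}
    (h : ∀ q : ι → F₀, A (up q) = B (up q)) (z : ι → F) : A z = B z := by
  rw [pi_eq_sum_univ' z, map_sum, map_sum]
  refine Finset.sum_congr rfl fun i _ => ?_
  rw [map_smul, map_smul, ← up_single (F₀ := F₀) i, h]

/-- The range of a rational map over the subfield. -/
def ratRange (g : GL ι F) : Submodule F₀ (ι → F₀) :=
  Submodule.comap upLin ((LinearMap.range (moveLin g)).restrictScalars F₀)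

theorem mem_ratRange {g : GL ι F} {q : ι → F₀} :
    q ∈ ratRange (F₀ := F₀) g ↔ ∃ z, mv g z - z = up q :=
  ⟨fun ⟨z, hz⟩ => ⟨z, (moveLin_apply g z).symm.trans hz⟩, fun ⟨z, hz⟩ => ⟨z, (moveLin_apply g z).trans hz⟩⟩

theorem exists_down {g : GL ι F} (hg : RatM F₀ (g : Matrix ι ι F)) :
    ∃ D₀ : Matrix ι ι F₀, D₀.map (Subtype.val : F₀ → F) = (g : Matrix ι ι F) - 1 ∧
      ∀ v, up (D₀ *ᵥ v) = mv g (up v) - up v := by
  refine ⟨fun i j => ⟨_, ratM_sub hg ratM_one i j⟩, rfl, fun v => funext fun i => ?_⟩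
  show ((∑ k, _ * v k : F₀) : F) = _
  rw [AddSubmonoidClass.coe_finsetSum]
  show ∑ k, ((g : Matrix ι ι F) - 1) i k * up v k = _
  exact congrFun (show ((g : Matrix ι ι F) - 1) *ᵥ up v = mv g (up v) - up v by
    rw [Matrix.sub_mulVec, Matrix.one_mulVec]) i

theorem moveRank_le_ratRange {g : GL ι F} (hg : RatM F₀ (g : Matrix ι ι F)) :
    moveRank g ≤ Module.finrank F₀ (ratRange (F₀ := F₀) g) := by
  set R := ratRange (F₀ := F₀) g
  set b := Module.finBasis F₀ R
  refine (Submodule.finrank_mono (t := Submodule.span F (Set.range fun i => up (b i : ι → F₀))) ?_).trans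
    ((finrank_range_le_card _).trans (by rw [Fintype.card_fin]))
  rintro _ ⟨z, rfl⟩
  rw [pi_eq_sum_univ' z, map_sum]
  refine Submodule.sum_mem _ fun j _ => ?_
  rw [map_smul]
  refine Submodule.smul_mem _ _ ?_
  obtain ⟨D₀, -, hD⟩ := exists_down hg
  have hv : moveLin g (Pi.single j 1) = up (D₀ *ᵥ Pi.single j 1) := by rw [hD, moveLin_apply, up_single]
  have hmem : D₀ *ᵥ Pi.single j 1 ∈ R := ⟨_, hv⟩
  have hs := congrArg (fun q : R => upLin (q : ι → F₀)) (b.sum_repr ⟨_, hmem⟩)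
  simp only [Submodule.coe_sum, map_sum, SetLike.val_smul, map_smul, upLin_apply] at hs
  rw [hv, ← hs]
  exact Submodule.sum_mem _ fun i _ =>
    Submodule.smul_of_tower_mem _ _ (Submodule.subset_span ⟨i, rfl⟩)

theorem finrank_ratKer {g : GL ι F} (hg : RatM F₀ (g : Matrix ι ι F)) :
    ∃ K : Submodule F₀ (ι → F₀), (∀ q ∈ K, mv g (up q) = up q) ∧
      Fintype.card ι ≤ Module.finrank F₀ K + moveRank g ∧ ∀ q, mv g (up q) = up q → q ∈ K := by
  obtain ⟨D₀, hD, hDv⟩ := exists_down hg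
  refine ⟨LinearMap.ker D₀.mulVecLin, fun q hq => ?_, ?_, fun q hq => ?_⟩
  rotate_left 2
  · refine LinearMap.mem_ker.2 (up_injective (F := F) ?_)
    rw [Matrix.mulVecLin_apply, hDv, hq, sub_self, up_zero]
  · have := hDv q
    rw [show D₀ *ᵥ q = 0 from hq, up_zero] at this
    exact sub_eq_zero.1 this.symm
  · have h1 := LinearMap.finrank_range_add_finrank_ker D₀.mulVecLin
    have h2 := finrank_range_le_rank₀ D₀
    rw [hD, ← moveRank_eq_rank] at h2
    rw [Module.finrank_pi] at h1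
    omega

theorem moveRank_conj {g x x' : GL ι F} (h : g * x = x' * g) : moveRank x = moveRank x' := by
  rw [moveRank_eq_rank, moveRank_eq_rank, ← rank_conj g ((x : Matrix ι ι F) - 1)]
  congr 1
  rw [mul_sub, sub_mul, mul_one, ← Units.val_mul, ← Units.val_mul, ← Units.val_mul, h, mul_inv_cancel_right,
    mul_inv_cancel]
  rfl

theorem moveRank_mul_le (a b : GL ι F) : moveRank (a * b) ≤ moveRank a + moveRank b := by
  simp only [moveRank_eq_rank]
  rw [Units.val_mul, show (a : Matrix ι ι F) * b - 1 =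
    (a : Matrix ι ι F) * ((b : Matrix ι ι F) - 1) + ((a : Matrix ι ι F) - 1) by rw [mul_sub, mul_one]; abel]
  exact (rank_add_le' _ _).trans (by
    have := Matrix.rank_mul_le_right (a : Matrix ι ι F) ((b : Matrix ι ι F) - 1)
    omega)

variable (hQ : Geo.IsNondegenerateQuadraticForm Q) (hV : ∀ x : ι → F, RatV F₀ x → Q x ∈ F₀)

/-- An element with a rational singular vector among its displacements. -/
def GoodInv (F₀ : Subfield F) (Q : (ι → F) → F) (g : GL ι F) : Prop :=
  ∃ u ∈ ratRange (F₀ := F₀) g, u ≠ 0 ∧ Q (up u) = 0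

include hQ hV

theorem ratRange_invol {g : GL ι F} (hgI : g ∈ isometryGroup F Q) (h2 : g * g = 1) {p q : ι → F₀}
    (hp : p ∈ ratRange (F₀ := F₀) g) (hq : q ∈ ratRange (F₀ := F₀) g) :
    mv g (up p) = -up p ∧ pol Q (up p) (up q) + pol Q (up p) (up q) = pol Q (up p) (up q) * 2 ∧
      ∀ k, mv g k = k → pol Q (up p) k = 0 := by
  obtain ⟨z, hz⟩ := mem_ratRange.1 hp
  refine ⟨by rw [← hz, mv_sub, ← mv_mul, h2, mv_one]; abel, by ring, fun k hk => ?_⟩
  rw [← hz, pol_sub_left hQ]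
  conv_lhs => arg 1; rw [← hk, pol_mv hQ hgI]
  exact sub_self _

variable {M : Subgroup (GL ι F)} [Finite F] (hn7 : 7 ≤ Fintype.card ι) (hn : 10 ≤ Fintype.card ι)
  (hMS : M ≤ Geo.omegaGL Q)
  (hH : ∀ g ∈ Geo.omegaGL Q, RatM F₀ (g : Matrix ι ι F) → g ∈ M)

/-- An orthogonal pair of a singular and an anisotropic vector inside a space of dimension at least four. -/
theorem exists_pair_of_four {K : Submodule F₀ (ι → F₀)} (hK : 4 ≤ Module.finrank F₀ K)
    (hani : ∃ y ∈ K, qDown hV y ≠ 0) :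
    ∃ v ∈ K, ∃ y ∈ K, v ≠ 0 ∧ qDown hV v = 0 ∧ qDown hV y ≠ 0 ∧ pol (qDown hV) v y = 0 := by
  have h₀ := qDown_nondegenerate hQ hV
  obtain ⟨y, hy, hyq⟩ := hani
  obtain ⟨v, hv, hv0, hvv⟩ := exists_singular h₀ (X := K ⊓ orth h₀ (Submodule.span F₀ {y})) (by
    have h1 := le_finrank_orth h₀ (Submodule.span F₀ {y})
    have h2 := Submodule.finrank_sup_add_finrank_inf_eq K (orth h₀ (Submodule.span F₀ {y}))
    have h3 := Submodule.finrank_le (K ⊔ orth h₀ (Submodule.span F₀ {y}))
    rw [finrank_span_singleton (fun h => hyq (by rw [h, q_zero h₀]))] at h1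
    rw [Module.finrank_pi] at h3
    omega)
  exact ⟨v, hv.1, y, hy, hv0, hvv, hyq, by rw [pol_comm]; exact hv.2 y (Submodule.mem_span_singleton_self y)⟩

include hn in
theorem exists_pair_in {K : Submodule F₀ (ι → F₀)} (hK : Fintype.card ι ≤ Module.finrank F₀ K + 6)
    (hani : ∃ y ∈ K, qDown hV y ≠ 0) :
    ∃ v ∈ K, ∃ y ∈ K, v ≠ 0 ∧ qDown hV v = 0 ∧ qDown hV y ≠ 0 ∧ pol (qDown hV) v y = 0 :=
  exists_pair_of_four hQ hV (by omega) hani

/-- The fixed vectors of an involution contain an anisotropic one, unless two vanishes in small dimension. -/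
theorem exists_anisotropic_fix (h2 : (2 : F) ≠ 0 ∨ Fintype.card ι = 10 ∨ 13 ≤ Fintype.card ι) {x : GL ι F}
    (hxI : x ∈ isometryGroup F Q) (hev : Even (moveRank x))
    (hxR : RatM F₀ (x : Matrix ι ι F)) (hx2 : x * x = 1) {K : Submodule F₀ (ι → F₀)}
    (hKf : ∀ q ∈ K, mv x (up q) = up q) (hKm : ∀ q, mv x (up q) = up q → q ∈ K) (hK : 0 < Module.finrank F₀ K)
    (hK' : Fintype.card ι ≤ Module.finrank F₀ K + 6) (hKd : Fintype.card ι ≤ Module.finrank F₀ K + moveRank x) :
    ∃ y ∈ K, qDown hV y ≠ 0 := by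
  have h₀ := qDown_nondegenerate hQ hV
  by_cases h2' : (2 : F) = 0
  · rcases h2.resolve_left (not_not.2 h2') with h10 | h13
    · refine exists_anisotropic_big h₀ (L := K) ?_
      have hRK : ratRange (F₀ := F₀) x ≤ K := fun r hr => by
        obtain ⟨w, hw⟩ := mem_ratRange.1 hr
        refine hKm r ?_
        have h0 : mv x (mv x w) = w := by rw [← mv_mul, hx2, mv_one]
        have hneg : (-1 : F) = 1 := by linear_combination -h2'
        rw [← hw, mv_sub, h0, ← neg_sub (mv x w) w, ← neg_one_smul F, hneg, one_smul]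
      have h1 := moveRank_le_ratRange hxR
      have h3 := Submodule.finrank_mono hRK
      obtain ⟨j, hj⟩ := hev
      omega
    · exact exists_anisotropic_big h₀ (L := K) (by omega)
  replace h2 := h2'
  by_contra hc
  push Not at hc
  obtain ⟨u, hu, hu0⟩ := K.ne_bot_iff.1 fun h => by rw [h, finrank_bot] at hK; omega
  obtain ⟨D₀, -, hD⟩ := exists_down hxR
  refine hu0 (nondeg_top h₀ u Submodule.mem_top fun q _ => ?_)
  have hw : q + q + D₀ *ᵥ q ∈ K := hKm _ (by
    have e : mv x (mv x (up q)) = up q := by rw [← mv_mul, hx2, mv_one]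
    rw [up_add, up_add, hD, mv_add, mv_add, mv_sub, e]; abel)
  have h0 := up_pol_zero hV (pol_eq_zero_of_singular h₀ hc hu hw)
  rw [up_add, up_add, hD, show up q + up q + (mv x (up q) - up q) = up q + mv x (up q) by abel,
    pol_add_right hQ] at h0
  have h1 : pol Q (up u) (mv x (up q)) = pol Q (up u) (up q) := by
    conv_lhs => rw [← hKf u hu]
    exact pol_mv hQ hxI _ _
  rw [h1, ← two_mul, mul_eq_zero, or_iff_right h2] at h0
  refine Subtype.ext ?_
  rw [qDown_pol hV, pol_comm, h0]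
  rfl

include hn hMS hH in
theorem srat_of_good (hB : NoMix F₀ Q M) (hroot : (2 : F) = 0 → ∀ a : F, a ^ 2 ∈ F₀ → a ∈ F₀)
    {g x x' : GL ι F} (hg : g ∈ M) (hx' : x' ∈ M) (hxR : RatM F₀ (x : Matrix ι ι F))
    (hrank : moveRank x ≤ 6) (hx2 : x * x = 1) (h2 : (2 : F) ≠ 0 ∨ Fintype.card ι = 10 ∨ 13 ≤ Fintype.card ι) (hxM : x ∈ M) (hgx : g * x = x' * g) (hgood : GoodInv F₀ Q x') : SRat F₀ g := by
  have hMO : M ≤ isometryGroup F Q := hMS.trans (omega_le_isometry hQ)
  obtain ⟨K, hKf, hKd, hKm⟩ := finrank_ratKer hxR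
  obtain ⟨v, hv, y, hy, hv0, hvv, hyy, hvy⟩ := exists_pair_in hQ hV hn (K := K) (by omega)
    (exists_anisotropic_fix hQ hV h2 (hMO hxM) (even_moveRank_omega hQ (by omega) (hMS hxM)) hxR hx2 hKf hKm (by omega) (by omega) hKd)
  obtain ⟨u, hur, hu0, huu⟩ := hgood
  obtain ⟨w, hw⟩ := mem_ratRange.1 hur
  have hfix : ∀ q ∈ K, mv x' (mv g (up q)) = mv g (up q) := fun q hq => by
    rw [← mv_mul, ← hgx, mv_mul, hKf q hq]
  have horth : ∀ q ∈ K, pol Q (up u) (mv g (up q)) = 0 := fun q hq => by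
    rw [← hw, pol_sub_left hQ]
    conv_lhs => arg 1; rw [← hfix q hq, pol_mv hQ (hMO hx')]
    exact sub_self _
  obtain ⟨h, hh, hhs⟩ := siegel_rat_mem hQ hV (by omega) hH (congrArg Subtype.val hvv) (up_pol_zero hV hvy)
  have hgI := hMO hg
  exact srat_of_one_line_orth hQ hV (by omega) hMS hH hB hroot hg hv0 (congrArg Subtype.val hvv)
    (ratLine_centre_orth hQ hV (by omega) hMS hH hB hroot (M.mul_mem (M.mul_mem hg hh) (M.inv_mem hg))
      (by rw [mem_isometry.1 hgI]; exact congrArg Subtype.val hvv)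
      (by rw [pol_mv hQ hgI]; exact up_pol_zero hV hvy) (isSiegel_conj hQ hgI hhs)
      (by rw [mem_isometry.1 hgI]; exact (qDown hV y).2)
      (by rw [mem_isometry.1 hgI]; exact fun h0 => hyy (Subtype.ext h0))
      hu0 huu (horth v hv) (horth y hy))

include hn7 hMS in
/-- A rational involution without a singular displacement moves exactly a small space. -/
theorem bad_invol {g : GL ι F} (hg : g ∈ M) (hg2 : g * g = 1) (hgR : RatM F₀ (g : Matrix ι ι F)) (hg1 : g ≠ 1)
    (hbad : ¬ GoodInv F₀ Q g) :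
    (2 : F) ≠ 0 ∧ moveRank g ≤ 2 ∧ 2 ≤ Module.finrank F₀ (ratRange (F₀ := F₀) g) ∧
      Module.finrank F₀ (ratRange (F₀ := F₀) g) ≤ 2 := by
  have h₀ := qDown_nondegenerate hQ hV
  have hgI := hMS.trans (omega_le_isometry hQ) hg
  have hr := moveRank_le_ratRange hgR
  have hev := even_moveRank_omega hQ (by omega) (hMS hg)
  have hne : moveRank g ≠ 0 := fun h => hg1 (ext_mv fun z => by
    have h' : LinearMap.range (moveLin g) = ⊥ := Submodule.finrank_eq_zero.1 h
    have := h' ▸ LinearMap.mem_range_self (moveLin g) z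
    rw [Submodule.mem_bot, moveLin_apply, sub_eq_zero] at this
    rw [this, mv_one])
  have hle : Module.finrank F₀ (ratRange (F₀ := F₀) g) ≤ 2 := by
    by_contra h
    obtain ⟨u, hu, hu0, huu⟩ := exists_singular h₀ (X := ratRange (F₀ := F₀) g) (by omega)
    exact hbad ⟨u, hu, hu0, congrArg Subtype.val huu⟩
  have h2r : 2 ≤ Module.finrank F₀ (ratRange (F₀ := F₀) g) := by
    obtain ⟨j, hj⟩ := hev
    omega
  refine ⟨fun h2 => hbad ?_, by omega, h2r, hle⟩
  -- characteristic two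
  obtain ⟨a, ha, ha0⟩ := (ratRange (F₀ := F₀) g).ne_bot_iff.1 fun h => by rw [h, finrank_bot] at h2r; omega
  obtain ⟨b, hb, hbs⟩ := SetLike.exists_of_lt (lt_of_le_of_ne
    ((Submodule.span_singleton_le_iff_mem _ _).2 ha) fun h => by
      rw [← h, finrank_span_singleton ha0] at h2r; omega)
  by_cases hbb : Q (up b) = 0
  · exact ⟨b, hb, fun h => hbs (h ▸ Submodule.zero_mem _), hbb⟩
  obtain ⟨z, hz⟩ := mem_ratRange.1 hb
  have hab : pol Q (up a) (up b) = 0 := by
    refine (ratRange_invol hQ hV hgI hg2 ha ha).2.2 _ ?_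
    rw [(ratRange_invol hQ hV hgI hg2 hb hb).1, ← neg_one_smul F (up b), show (-1 : F) = 1 by linear_combination -h2,
      one_smul]
  have h2' : (2 : F₀) = 0 := Subtype.ext h2
  obtain ⟨c, hc⟩ := FiniteField.isSquare_of_char_two
    (ringChar.eq_iff.2 (CharTwo.of_one_ne_zero_of_two_eq_zero one_ne_zero h2')) (qDown hV a / qDown hV b)
  refine ⟨a + c • b, Submodule.add_mem _ ha (Submodule.smul_mem _ c hb), fun h => ?_, ?_⟩
  · rcases eq_or_ne c 0 with rfl | hc0
    · rw [zero_smul, add_zero] at h; exact ha0 h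
    · refine hbs (Submodule.mem_span_singleton.2 ⟨-c⁻¹, ?_⟩)
      rw [show a = -(c • b) from eq_neg_of_add_eq_zero_left h, smul_neg, neg_smul, neg_neg, smul_smul,
        inv_mul_cancel₀ hc0, one_smul]
  · have hc' : Q (up a) / Q (up b) = (c : F) * c := congrArg Subtype.val hc
    rw [div_eq_iff hbb] at hc'
    rw [up_add, up_smul, q_add hQ, q_smul hQ, pol_smul_right hQ, hab, hc']
    linear_combination ((c : F) ^ 2 * Q (up b)) * h2

include hn7 hH in
theorem map_omega_mem {e : GL ι F₀} (he : e ∈ Geo.omegaGL (qDown hV)) :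
    Matrix.GeneralLinearGroup.map (F₀.subtype : F₀ →+* F) e ∈ M := by
  have h₀ := qDown_nondegenerate hQ hV
  rw [omegaGL_eq h₀ (by omega)] at he
  induction he using Subgroup.closure_induction with
  | mem x hx =>
    obtain ⟨u, y, hu, hy, hs⟩ := hx
    obtain ⟨e', he', hm⟩ := siegel_rat hQ hV hn7 hH hu hy
    rwa [isSiegel_unique hs he']
  | one => rw [map_one]; exact M.one_mem
  | mul x y _ _ ihx ihy => rw [map_mul]; exact M.mul_mem ihx ihy
  | inv x _ ihx => rw [map_inv]; exact M.inv_mem ihx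

include hn7 hH in
/-- Two rational involutions of small rank inside a given rational subspace. -/
theorem exists_invols {X : Submodule F₀ (ι → F₀)} (hX : Nondeg (qDown hV) X) (hX11 : 8 ≤ Module.finrank F₀ X)
    (hX9 : (2 : F) = 0 → 9 ≤ Module.finrank F₀ X) :
    ∃ s z : GL ι F, s ∈ M ∧ z ∈ M ∧ s * s = 1 ∧ z * z = 1 ∧ RatM F₀ (s : Matrix ι ι F) ∧
      RatM F₀ (z : Matrix ι ι F) ∧
      (∀ q : ι → F₀, (∀ x ∈ X, pol (qDown hV) x q = 0) → mv s (up q) = up q ∧ mv z (up q) = up q) ∧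
      moveRank s ≤ 2 ∧ 1 ≤ moveRank s ∧ 3 ≤ moveRank z ∧ moveRank z ≤ 4 ∧
      ((-1 : F) = 1 ∨ Fintype.card ι ≤ ((s : Matrix ι ι F) + 1).rank + 2) := by
  have h₀ := qDown_nondegenerate hQ hV
  have upz : ∀ {a b : ι → F₀}, pol (qDown hV) a b = 0 → pol Q (up a) (up b) = 0 := fun h => up_pol_zero hV h
  have rankle : ∀ (s : GL ι F) (S : Finset (ι → F)), (∀ z, mv s z - z ∈ Submodule.span F (S : Set (ι → F))) →
      moveRank s ≤ S.card := fun s S h => by
    refine (Submodule.finrank_mono ?_).trans (finrank_span_finset_le_card S)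
    rintro _ ⟨z, rfl⟩
    rw [moveLin_apply]; exact h z
  have rankge : ∀ {k : ℕ} (s : GL ι F) (p q : Fin k → ι → F) (_ : ∀ i j, pol Q (p i) (q j) = if i = j then 1 else 0),
      (∀ i, ∃ z, mv s z - z = p i) → k ≤ moveRank s := by
    intro k s p q hpq hz
    have hind : LinearIndependent F p := by
      rw [Fintype.linearIndependent_iff]
      intro c hc j
      have := congrArg (fun v => formQ hQ (q j) v) hc
      simpa [map_sum, formQ_apply, hpq, pol_zero_left hQ] using this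
    have h := finrank_span_eq_card hind
    rw [Fintype.card_fin] at h
    refine h.symm.le.trans (Submodule.finrank_mono (Submodule.span_le.2 ?_))
    rintro _ ⟨i, rfl⟩
    obtain ⟨z, hz⟩ := hz i
    exact ⟨z, (moveLin_apply s z).trans hz⟩
  by_cases h2 : (2 : F) = 0
  · -- two commuting Siegel elements
    replace hX11 := hX9 h2
    have hneg : (-1 : F) = 1 := by linear_combination -h2
    have next' : ∀ {Y : Submodule F₀ (ι → F₀)}, Nondeg (qDown hV) Y → 3 ≤ Module.finrank F₀ Y →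
        ∃ e ∈ Y, ∃ f ∈ Y, ∃ Y' : Submodule F₀ (ι → F₀), Y' ≤ Y ∧ qDown hV e = 0 ∧ qDown hV f = 0 ∧
          pol (qDown hV) e f = 1 ∧ Nondeg (qDown hV) Y' ∧ 2 + Module.finrank F₀ Y' = Module.finrank F₀ Y ∧
          ∀ q ∈ Y', pol (qDown hV) e q = 0 ∧ pol (qDown hV) f q = 0 := by
      intro Y hY hY3
      obtain ⟨e, he, he0, hee⟩ := exists_singular h₀ hY3
      obtain ⟨f, hf, hff, hef⟩ := exists_partner h₀ hY he he0 hee
      obtain ⟨hPn, hP2⟩ := nondeg_pair h₀ hee hff hef
      have hle : Submodule.span F₀ ({e, f} : Set (ι → F₀)) ≤ Y :=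
        Submodule.span_le.2 (by rintro x (rfl | rfl) <;> assumption)
      have hd := finrank_inf_orth_add h₀ hPn hle
      rw [hP2] at hd
      exact ⟨e, he, f, hf, _, inf_le_left, hee, hff, hef, nondeg_inf_orth h₀ hPn hY hle, hd, fun q hq =>
        ⟨hq.2 e (Submodule.subset_span (Set.mem_insert _ _)),
          hq.2 f (Submodule.subset_span (Set.mem_insert_of_mem _ rfl))⟩⟩
    obtain ⟨e₁, me₁, f₁, mf₁, Y₁, l₁, a₁, b₁, c₁, hY₁, d₁, o₁⟩ := next' hX (by omega)
    obtain ⟨e₂, me₂, f₂, mf₂, Y₂, l₂, a₂, b₂, c₂, hY₂, d₂, o₂⟩ := next' hY₁ (by omega)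
    obtain ⟨e₃, me₃, f₃, mf₃, Y₃, l₃, a₃, b₃, c₃, hY₃, d₃, o₃⟩ := next' hY₂ (by omega)
    obtain ⟨e₄, me₄, f₄, mf₄, Y₄, -, a₄, b₄, c₄, -, -, -⟩ := next' hY₃ (by omega)
    have A := fun {a b : ι → F₀} (h : pol (qDown hV) a b = 0) => And.intro (upz h) ((pol_comm _ _).trans (upz h))
    have p12 := A (o₁ e₂ me₂).1
    have p12' := A (o₁ f₂ mf₂).1
    have q12 := A (o₁ e₂ me₂).2
    have p13 := A (o₁ e₃ (l₂ me₃)).1
    have p13' := A (o₁ f₃ (l₂ mf₃)).1
    have q13 := A (o₁ e₃ (l₂ me₃)).2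
    have p14 := A (o₁ e₄ (l₂ (l₃ me₄))).1
    have p14' := A (o₁ f₄ (l₂ (l₃ mf₄))).1
    have q14 := A (o₁ e₄ (l₂ (l₃ me₄))).2
    have p23 := A (o₂ e₃ me₃).1
    have p23' := A (o₂ f₃ mf₃).1
    have q23 := A (o₂ e₃ me₃).2
    have p24 := A (o₂ e₄ (l₃ me₄)).1
    have p24' := A (o₂ f₄ (l₃ mf₄)).1
    have q24 := A (o₂ e₄ (l₃ me₄)).2
    have p34 := A (o₃ e₄ me₄).1
    have p34' := A (o₃ f₄ mf₄).1
    have q34 := A (o₃ e₄ me₄).2
    have up1 : ∀ {a b : ι → F₀}, pol (qDown hV) a b = 1 → pol Q (up a) (up b) = 1 ∧ pol Q (up b) (up a) = 1 :=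
      fun h => by
        have h' := (qDown_pol hV _ _).symm.trans (congrArg Subtype.val h)
        exact ⟨h', (pol_comm _ _).trans h'⟩
    have k1 := up1 c₁
    have k2 := up1 c₂
    have k3 := up1 c₃
    have k4 := up1 c₄
    have z1 : Q (up e₁) = 0 := congrArg Subtype.val a₁
    have z2 : Q (up e₂) = 0 := congrArg Subtype.val a₂
    have z3 : Q (up e₃) = 0 := congrArg Subtype.val a₃
    have z4 : Q (up e₄) = 0 := congrArg Subtype.val a₄
    obtain ⟨s₁, hs₁e, hs₁⟩ := siegel_rat hQ hV hn7 hH (u := e₁) (y := e₂) a₁ (o₁ e₂ me₂).1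
    obtain ⟨s₂, hs₂e, hs₂⟩ := siegel_rat hQ hV hn7 hH (u := e₃) (y := e₄) a₃ (o₃ e₄ me₄).1
    set s := Matrix.GeneralLinearGroup.map (F₀.subtype : F₀ →+* F) s₁
    set t := Matrix.GeneralLinearGroup.map (F₀.subtype : F₀ →+* F) s₂
    have hs := isSiegel_up hQ hV z1 p12.1 hs₁e
    have ht := isSiegel_up hQ hV z3 p34.1 hs₂e
    have hzv : ∀ z, mv (s * t) z = z + pol Q z (up e₁) • up e₂ - pol Q z (up e₂) • up e₁ +
        pol Q z (up e₃) • up e₄ - pol Q z (up e₄) • up e₃ := fun z => by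
      rw [mv_mul, ht z, hs]
      simp only [z2, z4, zero_mul, add_zero, pol_add_left hQ, pol_sub_left hQ, pol_smul_left hQ, p13.2, p14.2,
        p23.2, p24.2, mul_zero, sub_zero]
      abel
    have two0 : ∀ v : ι → F, v + v = 0 := fun v => by rw [← two_smul F v, h2, zero_smul]
    have sq1 : ∀ {g : GL ι F} {u y : ι → F}, Q u = 0 → pol Q u y = 0 → IsSiegel Q g u y → g * g = 1 := by
      intro g u y hu hy h
      refine isSiegel_unique (isSiegel_mul hQ hu hy hy h h) ?_
      rw [two0]; exact isSiegel_zero hQ u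
    refine ⟨s, s * t, hs₁, M.mul_mem hs₁ hs₂, sq1 z1 p12.1 hs, ?_, ratM_map _,
      by rw [Units.val_mul]; exact ratM_mul (ratM_map _) (ratM_map _), fun q hq => ?_, ?_, ?_, ?_, ?_, Or.inl hneg⟩
    · refine ext_mv fun z => ?_
      rw [mv_mul, hzv, hzv, mv_one]
      simp only [pol_add_left hQ, pol_sub_left hQ, pol_smul_left hQ, pol_self hQ, z1, z2, z3, z4, p12.1, p12.2,
        p13.1, p13.2, p14.1, p14.2, p23.1, p23.2, p24.1, p24.2, p34.1, p34.2, mul_zero, add_zero, sub_zero]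
      linear_combination (norm := module) two0 (pol Q z (up e₁) • up e₂) - two0 (pol Q z (up e₂) • up e₁) +
        two0 (pol Q z (up e₃) • up e₄) - two0 (pol Q z (up e₄) • up e₃)
    · have k : ∀ {e : ι → F₀}, e ∈ X → pol Q (up q) (up e) = 0 := fun he =>
        (pol_comm _ _).trans (upz (hq _ he))
      refine ⟨isSiegel_fix hQ hs (k me₁) (k (l₁ me₂)), ?_⟩
      rw [hzv, k me₁, k (l₁ me₂), k (l₁ (l₂ me₃)), k (l₁ (l₂ (l₃ me₄)))]
      simp
    · classical
      refine (rankle s {up e₁, up e₂} fun z => ?_).trans Finset.card_le_two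
      rw [hs, show ∀ p q r : ι → F, p + q - r - p = q - r from fun p q r => by abel]
      exact Submodule.sub_mem _ (Submodule.smul_mem _ _ (Submodule.subset_span (by simp)))
        (Submodule.smul_mem _ _ (Submodule.subset_span (by simp)))
    · exact rankge (k := 1) s ![up e₂] ![up f₂] (fun i j => by fin_cases i; fin_cases j; simp [k2.1])
        fun i => ⟨up f₁, by fin_cases i; show mv s (up f₁) - up f₁ = up e₂; rw [hs, k1.2, q12.1]; simp [z2]⟩
    · refine rankge (k := 3) (s * t) ![up e₂, up e₁, up e₄] ![up f₂, up f₁, up f₄] (fun i j => ?_) fun i => ?_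
      · fin_cases i <;> fin_cases j <;> simp [k1.1, k2.1, k4.1, q12.2, p12'.1, q14.2, p14'.1, q24.2, p24'.1]
      · fin_cases i
        · exact ⟨up f₁, by simp [hzv, k1.2, q12.1, q13.1, q14.1]⟩
        · exact ⟨-up f₂, by simp [hzv, pol_neg_left hQ, k2.2, p12'.2, q23.1, q24.1]⟩
        · exact ⟨up f₃, by simp [hzv, k3.2, p13'.2, p23'.2, q34.1]⟩
    · classical
      refine (rankle (s * t) {up e₁, up e₂, up e₃, up e₄} fun z => ?_).trans Finset.card_le_four
      rw [hzv, show ∀ p a b c d : ι → F, p + a - b + c - d - p = a - b + c - d from fun p a b c d => by abel]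
      refine Submodule.sub_mem _ (Submodule.add_mem _ (Submodule.sub_mem _ ?_ ?_) ?_) ?_ <;>
        refine Submodule.smul_mem _ _ (Submodule.subset_span (by simp))
  · -- two products of two reflections
    have h20 : (2 : F₀) ≠ 0 := fun h => h2 (congrArg Subtype.val h)
    have next' : ∀ {Y : Submodule F₀ (ι → F₀)}, Nondeg (qDown hV) Y → 3 ≤ Module.finrank F₀ Y →
        ∃ a ∈ Y, ∃ Y' : Submodule F₀ (ι → F₀), Y' ≤ Y ∧ qDown hV a = 1 ∧ Nondeg (qDown hV) Y' ∧
          1 + Module.finrank F₀ Y' = Module.finrank F₀ Y ∧ ∀ q ∈ Y', pol (qDown hV) a q = 0 := by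
      intro Y hY hY3
      obtain ⟨a, ha, haq⟩ := exists_value_nondeg h₀ hY hY3 1
      have hline : Nondeg (qDown hV) (Submodule.span F₀ {a}) := fun w hw h => by
        obtain ⟨k, rfl⟩ := Submodule.mem_span_singleton.1 hw
        have := h a (Submodule.mem_span_singleton_self a)
        rw [pol_smul_right h₀, pol_self h₀, haq, mul_one, mul_eq_zero, or_iff_left h20] at this
        rw [this, zero_smul]
      have hle : Submodule.span F₀ {a} ≤ Y := (Submodule.span_singleton_le_iff_mem _ _).2 ha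
      have hd := finrank_inf_orth_add h₀ hline hle
      rw [finrank_span_singleton (fun h => by rw [h, q_zero h₀] at haq; exact zero_ne_one haq)] at hd
      exact ⟨a, ha, _, inf_le_left, haq, nondeg_inf_orth h₀ hline hY hle, hd,
        fun q hq => hq.2 a (Submodule.mem_span_singleton_self a)⟩
    obtain ⟨a₁, m₁, Y₁, l₁, q₁, hY₁, d₁, o₁⟩ := next' hX (by omega)
    obtain ⟨a₂, m₂, Y₂, l₂, q₂, hY₂, d₂, o₂⟩ := next' hY₁ (by omega)
    obtain ⟨a₃, m₃, Y₃, l₃, q₃, hY₃, d₃, o₃⟩ := next' hY₂ (by omega)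
    obtain ⟨a₄, m₄, Y₄, -, q₄, -, -, -⟩ := next' hY₃ (by omega)
    have dbl : ∀ {a b : ι → F₀}, qDown hV a = 1 → qDown hV b = 1 → pol (qDown hV) a b = 0 →
        ∃ g ∈ M, RatM F₀ (g : Matrix ι ι F) ∧
          ∀ z, mv g z = z - pol Q z (up a) • up a - pol Q z (up b) • up b := by
      intro a b ha hb hab
      obtain ⟨e, he, hev⟩ := exists_double h₀ (by omega) (a := a) (b := b) (by rw [ha]; exact one_ne_zero)
        (ha.trans hb.symm) hab
      refine ⟨_, map_omega_mem hQ hV hn7 hH he, ratM_map e, fun z => ?_⟩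
      have := linear_ext_up (F₀ := F₀) (A := mvLin (Matrix.GeneralLinearGroup.map (F₀.subtype : F₀ →+* F) e))
        (B := LinearMap.id - (formQ hQ (up a)).smulRight (up a) - (formQ hQ (up b)).smulRight (up b)) (fun q => by
          simp only [Matrix.toLin'_apply, LinearMap.sub_apply, LinearMap.id_apply, LinearMap.smulRight_apply,
            formQ_apply]
          show mv _ (up q) = _
          rw [mv_map, hev, ha, hb, div_one, div_one, ← qDown_pol hV, ← qDown_pol hV]
          rfl) z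
      simp only [Matrix.toLin'_apply, LinearMap.sub_apply, LinearMap.id_apply, LinearMap.smulRight_apply,
        formQ_apply] at this
      exact this
    obtain ⟨R₁, hR₁, hR₁r, hR₁v⟩ := dbl q₁ q₂ (o₁ a₂ m₂)
    obtain ⟨R₂, hR₂, hR₂r, hR₂v⟩ := dbl q₃ q₄ (o₃ a₄ m₄)
    have A := fun {a b : ι → F₀} (h : pol (qDown hV) a b = 0) => And.intro (upz h) ((pol_comm _ _).trans (upz h))
    have p12 := A (o₁ a₂ m₂)
    have p13 := A (o₁ a₃ (l₂ m₃))
    have p14 := A (o₁ a₄ (l₂ (l₃ m₄)))
    have p23 := A (o₂ a₃ m₃)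
    have p24 := A (o₂ a₄ (l₃ m₄))
    have p34 := A (o₃ a₄ m₄)
    have z1 : Q (up a₁) = 1 := congrArg Subtype.val q₁
    have z2 : Q (up a₂) = 1 := congrArg Subtype.val q₂
    have z3 : Q (up a₃) = 1 := congrArg Subtype.val q₃
    have z4 : Q (up a₄) = 1 := congrArg Subtype.val q₄
    have hzv : ∀ z, mv (R₁ * R₂) z = z - pol Q z (up a₁) • up a₁ - pol Q z (up a₂) • up a₂ -
        pol Q z (up a₃) • up a₃ - pol Q z (up a₄) • up a₄ := fun z => by
      rw [mv_mul, hR₂v, hR₁v]
      simp only [pol_sub_left hQ, pol_smul_left hQ, p13.2, p14.2, p23.2, p24.2, mul_zero, sub_zero]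
      abel
    refine ⟨R₁, R₁ * R₂, hR₁, M.mul_mem hR₁ hR₂, ext_mv fun z => ?_, ext_mv fun z => ?_, hR₁r,
      by rw [Units.val_mul]; exact ratM_mul hR₁r hR₂r, fun q hq => ?_, ?_, ?_, ?_, ?_, Or.inr ?_⟩
    · rw [mv_mul, hR₁v, hR₁v, mv_one]
      simp only [pol_sub_left hQ, pol_smul_left hQ, pol_self hQ, z1, z2, p12.1, p12.2, mul_zero, mul_one, sub_zero]
      module
    · rw [mv_mul, hzv, hzv, mv_one]
      simp only [pol_sub_left hQ, pol_smul_left hQ, pol_self hQ, z1, z2, z3, z4, p12.1, p12.2, p13.1, p13.2, p14.1,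
        p14.2, p23.1, p23.2, p24.1, p24.2, p34.1, p34.2, mul_zero, mul_one, sub_zero]
      module
    · have k : ∀ {e : ι → F₀}, e ∈ X → pol Q (up q) (up e) = 0 := fun he =>
        (pol_comm _ _).trans (upz (hq _ he))
      rw [hR₁v, hzv, k m₁, k (l₁ m₂), k (l₁ (l₂ m₃)), k (l₁ (l₂ (l₃ m₄)))]
      simp
    · classical
      refine (rankle R₁ {up a₁, up a₂} fun z => ?_).trans Finset.card_le_two
      rw [hR₁v, show ∀ p a b : ι → F, p - a - b - p = -a - b from fun p a b => by abel]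
      exact Submodule.sub_mem _ (Submodule.neg_mem _ (Submodule.smul_mem _ _ (Submodule.subset_span (by simp))))
        (Submodule.smul_mem _ _ (Submodule.subset_span (by simp)))
    · exact rankge (k := 1) R₁ ![up a₁] ![(2 : F)⁻¹ • up a₁] (fun i j => by
        fin_cases i; fin_cases j; simp [pol_smul_right hQ, pol_self hQ, z1, h2])
        fun i => ⟨-(2 : F)⁻¹ • up a₁, by
          fin_cases i; simp [hR₁v, pol_smul_left hQ, pol_neg_left hQ, pol_self hQ, z1, h2, p12.1]⟩
    · refine rankge (k := 3) (R₁ * R₂) ![up a₁, up a₂, up a₃]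
        ![(2 : F)⁻¹ • up a₁, (2 : F)⁻¹ • up a₂, (2 : F)⁻¹ • up a₃] (fun i j => ?_) fun i => ?_
      · fin_cases i <;> fin_cases j <;>
          simp [pol_smul_right hQ, pol_self hQ, z1, z2, z3, h2, p12.1, p12.2, p13.1, p13.2, p23.1, p23.2]
      · fin_cases i
        · exact ⟨-(2 : F)⁻¹ • up a₁, by
            simp [hzv, pol_smul_left hQ, pol_neg_left hQ, pol_self hQ, z1, h2, p12.1, p13.1, p14.1]⟩
        · exact ⟨-(2 : F)⁻¹ • up a₂, by
            simp [hzv, pol_smul_left hQ, pol_neg_left hQ, pol_self hQ, z2, h2, p12.2, p23.1, p24.1]⟩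
        · exact ⟨-(2 : F)⁻¹ • up a₃, by
            simp [hzv, pol_smul_left hQ, pol_neg_left hQ, pol_self hQ, z3, h2, p13.2, p23.2, p34.1]⟩
    · classical
      refine (rankle (R₁ * R₂) {up a₁, up a₂, up a₃, up a₄} fun z => ?_).trans Finset.card_le_four
      rw [hzv, show ∀ p a b c d : ι → F, p - a - b - c - d - p = -a - b - c - d from fun p a b c d => by abel]
      refine Submodule.sub_mem _ (Submodule.sub_mem _ (Submodule.sub_mem _ (Submodule.neg_mem _ ?_) ?_) ?_) ?_ <;>
        refine Submodule.smul_mem _ _ (Submodule.subset_span (by simp))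
    · let T : (ι → F) →ₗ[F] (Fin 2 → F) := LinearMap.pi ![formQ hQ (up a₁), formQ hQ (up a₂)]
      have h1 := LinearMap.finrank_range_add_finrank_ker T
      have h3 := Submodule.finrank_le (LinearMap.range T)
      rw [Module.finrank_fin_fun] at h3
      rw [Module.finrank_pi] at h1
      have h4 : LinearMap.ker T ≤ LinearMap.range (((R₁ : Matrix ι ι F) + 1).mulVecLin) := by
        intro y hy
        have b1 : pol Q y (up a₁) = 0 := congrFun (LinearMap.mem_ker.1 hy) 0
        have b2 : pol Q y (up a₂) = 0 := congrFun (LinearMap.mem_ker.1 hy) 1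
        refine ⟨(2 : F)⁻¹ • y, ?_⟩
        rw [Matrix.mulVecLin_apply, Matrix.add_mulVec, Matrix.one_mulVec]
        show mv R₁ _ + _ = _
        rw [hR₁v, pol_smul_left hQ, pol_smul_left hQ, b1, b2]
        simp only [mul_zero, zero_smul, sub_zero, ← add_smul]
        rw [show (2 : F)⁻¹ + (2 : F)⁻¹ = 1 by field_simp; ring, one_smul]
      have := Submodule.finrank_mono h4
      change _ ≤ ((R₁ : Matrix ι ι F) + 1).rank at this
      omega

omit hQ hV in
theorem invol_ne_neg_one {g : GL ι F} (hg1 : g ≠ 1) (hr : moveRank g < Fintype.card ι) :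
    (g : Matrix ι ι F) ≠ -1 := by
  intro h
  by_cases h2 : (2 : F) = 0
  · refine hg1 (Units.ext (h.trans ?_))
    rw [Units.val_one, ← neg_one_smul F (1 : Matrix ι ι F), show (-1 : F) = 1 by linear_combination -h2, one_smul]
  rw [moveRank_eq_rank, h, show (-1 : Matrix ι ι F) - 1 = (-2 : F) • 1 by module, Matrix.smul_one_eq_diagonal,
    Matrix.rank_of_isUnit] at hr
  · omega
  · rw [Matrix.isUnit_iff_isUnit_det, Matrix.det_diagonal, isUnit_iff_ne_zero, Finset.prod_ne_zero_iff]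
    exact fun i _ => neg_ne_zero.2 h2

include hn hMS hH in
/-- Without mixing, and with odd degree, every element is rational up to scalars. -/
theorem srat_all_odd (hbig : (2 : F) ≠ 0 ∨ Fintype.card ι = 10 ∨ 13 ≤ Fintype.card ι) (hB : NoMix F₀ Q M) (hroot : ∀ a : F, a ^ 2 ∈ F₀ → a ∈ F₀) : ∀ g ∈ M, SRat F₀ g := by
  have h₀ := qDown_nondegenerate hQ hV
  have hMO : M ≤ isometryGroup F Q := hMS.trans (omega_le_isometry hQ)
  have hne : Nonempty ι := Fintype.card_pos_iff.1 (by omega)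
  have hroot' : (2 : F) = 0 → ∀ a : F, a ^ 2 ∈ F₀ → a ∈ F₀ := fun _ => hroot
  have cases' : ∀ (N : Subgroup (GL ι F)), N ≤ M → ∀ {X : Submodule F₀ (ι → F₀)}, Nondeg (qDown hV) X →
      8 ≤ Module.finrank F₀ X → ((2 : F) = 0 → 9 ≤ Module.finrank F₀ X) →
      (∀ k ∈ M, (∀ q : ι → F₀, (∀ x ∈ X, pol (qDown hV) x q = 0) → mv k (up q) = up q) → k ∈ N) →
      (∀ g ∈ N, ∀ x ∈ N, ∀ x' ∈ N, x * x = 1 → x' * x' = 1 → RatM F₀ (x : Matrix ι ι F) →
        RatM F₀ (x' : Matrix ι ι F) → x ≠ 1 → moveRank x ≤ 6 → g * x = x' * g → ¬ GoodInv F₀ Q x' → SRat F₀ g) →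
      ∀ g ∈ N, SRat F₀ g := by
    intro N hNM X hX hX11 hX9 hN hbad
    obtain ⟨s, z, hs, hz, hs2, hz2, hsR, hzR, hfix, s2, s1, z3, z4, hneg⟩ := exists_invols hQ hV (by omega) hH hX hX11 hX9
    have hs1 : s ≠ 1 := fun h => by rw [h, moveRank_one] at s1; omega
    have hz1 : z ≠ 1 := fun h => by rw [h, moveRank_one] at z3; omega
    refine srat_of_involution_conj hroot ?_ (hN s hs fun q hq => (hfix q hq).1) (hN z hz fun q hq => (hfix q hq).2)
      hs2 hz2 hsR hzR hs1 (invol_ne_neg_one hs1 (by omega)) hz1 (invol_ne_neg_one hz1 (by omega))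
      (by rw [← moveRank_eq_rank, ← moveRank_eq_rank]; omega) ?_
    · intro g hg x hx x' hx' hx2 hx'2 hxR hx'R hx1 _ hle hgx
      rw [← moveRank_eq_rank, ← moveRank_eq_rank, ← moveRank_eq_rank] at hle
      by_cases hgood : GoodInv F₀ Q x'
      · exact srat_of_good hQ hV hn hMS hH hB hroot' (hNM hg) (hNM hx') hxR (by omega) hx2 hbig (hNM hx) hgx hgood
      · exact hbad g hg x hx x' hx' hx2 hx'2 hxR hx'R hx1 (by omega) hgx hgood
    · rcases hneg with h | h
      · exact Or.inl h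
      · refine Or.inr ?_
        rw [← moveRank_eq_rank, ← moveRank_eq_rank]
        exact ⟨by omega, by omega⟩
  have ne_one : ∀ {g x x' : GL ι F}, g * x = x' * g → x ≠ 1 → x' ≠ 1 := fun {g x x'} h hx1 h1 => hx1 (by
    rw [h1, one_mul] at h; simpa using h)
  refine fun g hg => cases' M le_rfl (X := ⊤) (nondeg_top h₀)
    (by rw [finrank_top, Module.finrank_pi]; omega)
    (fun _ => by rw [finrank_top, Module.finrank_pi]; omega) (fun k hk _ => hk) ?_ g hg
  intro g hg x hx x' hx' hx2 hx'2 hxR hx'R hx1 hle hgx hbad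
  obtain ⟨h2, hr2, hR2, hR2'⟩ := bad_invol hQ hV (by omega) hMS hx' hx'2 hx'R (ne_one hgx hx1) hbad
  set R := ratRange (F₀ := F₀) x'
  have hRneg : ∀ r ∈ R, mv x' (up r) = -up r := fun r hr => (ratRange_invol hQ hV (hMO hx') hx'2 hr hr).1
  have hRn : Nondeg (qDown hV) R := fun r hr h => by
    have hfix : mv x' (up r) = up r := by
      refine sub_eq_zero.1 ((moveLin_apply x' (up r)).symm.trans (linear_ext_up (F₀ := F₀)
        (A := 0) (B := formQ hQ (moveLin x' (up r))) (fun q => ?_) |> fun h' => nondeg_top hQ _ Submodule.mem_top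
          fun w _ => (h' w).symm))
      show (0 : F) = pol Q (up q) (moveLin x' (up r))
      obtain ⟨D₀, -, hD⟩ := exists_down hx'R
      have hmem : D₀ *ᵥ q ∈ R := mem_ratRange.2 ⟨up q, (hD q).symm⟩
      have h0 := up_pol_zero hV (h _ hmem)
      rw [hD, pol_sub_left hQ] at h0
      rw [moveLin_apply, pol_sub_right hQ, ← pol_mv hQ (hMO hx') (up q) (mv x' (up r)), ← mv_mul, hx'2, mv_one]
      exact h0.symm
    rw [hRneg r hr] at hfix
    have h3 : (2 : F) • up r = 0 := by linear_combination (norm := module) -hfix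
    exact up_injective (((smul_eq_zero.1 h3).resolve_left h2).trans up_zero.symm)
  obtain ⟨hXn, hXd⟩ := orth_nondeg h₀ hRn
  let N : Subgroup (GL ι F) :=
    { carrier := {k | k ∈ M ∧ ∀ r ∈ R, mv k (up r) = up r}
      mul_mem' := fun {a b} ha hb => ⟨M.mul_mem ha.1 hb.1, fun r hr => by rw [mv_mul, hb.2 r hr, ha.2 r hr]⟩
      one_mem' := ⟨M.one_mem, fun r _ => mv_one _⟩
      inv_mem' := fun {a} ha => ⟨M.inv_mem ha.1, fun r hr => mv_inj a (by rw [mv_mv_inv, ha.2 r hr])⟩ }
  -- elements of N commute with x'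
  have hcomm : ∀ k ∈ N, k * x' = x' * k := fun k hk => ext_mv fun w => by
    rw [mv_mul, mv_mul]
    have hR' : ∀ t, mv k (mv x' t - t) = mv x' t - t := fun t => by
      obtain ⟨D₀, -, hD⟩ := exists_down hx'R
      have := linear_ext_up (F₀ := F₀) (A := (mvLin k).comp (moveLin x')) (B := moveLin x') (fun q => by
        show Matrix.toLin' _ (moveLin x' (up q)) = moveLin x' (up q)
        rw [Matrix.toLin'_apply, moveLin_apply, ← hD]
        exact hk.2 _ (mem_ratRange.2 ⟨up q, (hD q).symm⟩)) t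
      rw [LinearMap.comp_apply, moveLin_apply] at this
      simpa [mvLin, mv] using this
    have hD0 : mv x' (mv k w - w) = mv k w - w := by
      refine sub_eq_zero.1 (nondeg_top hQ _ Submodule.mem_top fun t _ => ?_)
      have e1 : pol Q t (mv x' (mv k w - w)) = pol Q (mv x' t) (mv k w - w) := by
        conv_lhs => rw [← pol_mv hQ (hMO hx'), ← mv_mul, hx'2, mv_one]
      rw [pol_sub_right hQ, e1, ← pol_sub_left hQ, pol_sub_right hQ]
      conv_lhs => arg 1; rw [← hR' t, pol_mv hQ (hMO hk.1)]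
      exact sub_self _
    rw [mv_sub] at hD0
    have h5 := hR' w
    rw [mv_sub] at h5
    linear_combination (norm := module) h5 - hD0
  have hN : ∀ k ∈ N, SRat F₀ k := by
    refine cases' N (fun k hk => hk.1) hXn (by omega) (fun h => absurd h h2) (fun k hk hkf => ⟨hk, fun r hr => hkf r fun w hw => ?_⟩) ?_
    · rw [pol_comm]; exact hw r hr
    intro k hk x₁ hx₁ x₁' hx₁' hx₁2 hx₁'2 hx₁R hx₁'R hx₁1 _ hkx hbad₁
    obtain ⟨-, hr₁, hR₁, -⟩ := bad_invol hQ hV (by omega) hMS hx₁'.1 hx₁'2 hx₁'R (ne_one hkx hx₁1) hbad₁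
    have hkx' : k * (x₁ * x') = x₁' * x' * k := by
      rw [← mul_assoc, hkx, mul_assoc, hcomm k hk, mul_assoc]
    refine srat_of_good hQ hV hn hMS hH hB hroot' hk.1 (M.mul_mem hx₁'.1 hx') (x := x₁ * x')
      (by rw [Units.val_mul]; exact ratM_mul hx₁R hx'R) ?_ ?_ hbig (M.mul_mem hx₁.1 hx') hkx' ?_
    · have := moveRank_mul_le x₁ x'
      have := moveRank_conj hkx
      omega
    · rw [show x₁ * x' * (x₁ * x') = x₁ * (x' * x₁) * x' by group, ← hcomm x₁ hx₁, ← mul_assoc, hx₁2, one_mul,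
        hx'2]
    set R₁ := ratRange (F₀ := F₀) x₁'
    have hneg₁ : ∀ r ∈ R₁, mv x₁' (up r) = -up r := fun r hr =>
      (ratRange_invol hQ hV (hMO hx₁'.1) hx₁'2 hr hr).1
    have two_cancel : ∀ r : ι → F₀, up r = -up r → r = 0 := fun r h => by
      have h3 : (2 : F) • up r = 0 := by linear_combination (norm := module) h
      exact up_injective (((smul_eq_zero.1 h3).resolve_left h2).trans up_zero.symm)
    have hle : R₁ ⊔ R ≤ ratRange (F₀ := F₀) (x₁' * x') := by
      refine sup_le (fun r hr => ?_) fun r hr => ?_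
      · have hfix : mv x' (up r) = up r := by
          refine sub_eq_zero.1 (nondeg_top hQ _ Submodule.mem_top fun t _ => ?_)
          have e1 : pol Q t (mv x' (up r)) = pol Q (mv x' t) (up r) := by
            conv_lhs => rw [← pol_mv hQ (hMO hx'), ← mv_mul, hx'2, mv_one]
          rw [pol_sub_right hQ, e1, ← pol_sub_left hQ, pol_comm]
          refine (ratRange_invol hQ hV (hMO hx₁'.1) hx₁'2 hr hr).2.2 _ ?_
          have := linear_ext_up (F₀ := F₀) (A := (mvLin x₁').comp (moveLin x')) (B := moveLin x') (fun q => by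
            obtain ⟨D₀, -, hD⟩ := exists_down hx'R
            show Matrix.toLin' _ (moveLin x' (up q)) = moveLin x' (up q)
            rw [Matrix.toLin'_apply, moveLin_apply, ← hD]
            exact hx₁'.2 _ (mem_ratRange.2 ⟨up q, (hD q).symm⟩)) t
          rw [LinearMap.comp_apply, moveLin_apply] at this
          simpa [mvLin, mv] using this
        refine mem_ratRange.2 ⟨-(2 : F)⁻¹ • up r, ?_⟩
        rw [mv_mul, mv_smul, mv_smul, hfix, hneg₁ r hr]
        match_scalars
        field_simp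
        ring
      · refine mem_ratRange.2 ⟨-(2 : F)⁻¹ • up r, ?_⟩
        rw [mv_mul, mv_smul, mv_smul, hRneg r hr, mv_neg, hx₁'.2 r hr]
        match_scalars
        field_simp
        ring
    have hinf : R₁ ⊓ R = ⊥ := eq_bot_iff.2 fun r hr =>
      (Submodule.mem_bot _).2 (two_cancel r ((hx₁'.2 r hr.2).symm.trans (hneg₁ r hr.1)))
    have hd := Submodule.finrank_sup_add_finrank_inf_eq R₁ R
    rw [hinf, finrank_bot, add_zero] at hd
    have h4 : 2 ≤ Module.finrank F₀ R₁ := hR₁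
    have h5 : 2 ≤ Module.finrank F₀ R := hR2
    have := Submodule.finrank_mono hle
    obtain ⟨u, hu, hu0, huu⟩ := exists_singular h₀ (X := ratRange (F₀ := F₀) (x₁' * x')) (by omega)
    exact ⟨u, hu, hu0, congrArg Subtype.val huu⟩
  -- back to g
  obtain ⟨K, hKf, hKd, hKm⟩ := finrank_ratKer hxR
  obtain ⟨v, hv, y, hy, hv0, hvv, hyy, hvy⟩ := exists_pair_in hQ hV hn (K := K) (by omega)
    (exists_anisotropic_fix hQ hV hbig (hMO hx) (even_moveRank_omega hQ (by omega) (hMS hx)) hxR hx2 hKf hKm (by omega) (by omega) hKd)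
  obtain ⟨h, hh, hhs⟩ := siegel_rat_mem hQ hV (by omega) hH (congrArg Subtype.val hvv) (up_pol_zero hV hvy)
  have hgI := hMO hg
  have hE := isSiegel_conj hQ hgI hhs
  set E := g * h * g⁻¹
  have hEM : E ∈ M := M.mul_mem (M.mul_mem hg hh) (M.inv_mem hg)
  have horth : ∀ q ∈ K, ∀ r ∈ R, pol Q (up r) (mv g (up q)) = 0 := fun q hq r hr =>
    (ratRange_invol hQ hV (hMO hx') hx'2 hr hr).2.2 _ (by rw [← mv_mul, ← hgx, mv_mul, hKf q hq])
  have hEN : E ∈ N := ⟨hEM, fun r hr => isSiegel_fix hQ hE (horth v hv r hr) (horth y hy r hr)⟩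
  obtain ⟨a, ha, haR⟩ := hN E hEN
  obtain ⟨r, hr, hr0⟩ := R.ne_bot_iff.1 fun h => by rw [h, finrank_bot] at hR2; omega
  have hER : RatM F₀ (E : Matrix ι ι F) := by
    obtain ⟨i, hi⟩ := Function.ne_iff.1 (up_ne_zero (F := F) hr0)
    have h1 := ratV_mulVec haR (ratV_up r)
    rw [Matrix.smul_mulVec] at h1
    have h1' : RatV F₀ (a • mv E (up r)) := h1
    rw [hEN.2 r hr] at h1'
    have haF : a ∈ F₀ := by
      have := F₀.div_mem (h1' i) (r i).2
      rwa [Pi.smul_apply, smul_eq_mul, show (r i : F) = up r i from rfl, mul_div_cancel_right₀ _ hi] at this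
    intro i j
    have := F₀.mul_mem (F₀.inv_mem haF) (haR i j)
    rwa [Matrix.smul_apply, smul_eq_mul, inv_mul_cancel_left₀ ha] at this
  obtain ⟨K', hK'f, hK'd, -⟩ := finrank_ratKer hER
  have hrk : moveRank E ≤ 2 := by
    classical
    refine (Submodule.finrank_mono (t := Submodule.span F ({mv g (up v), mv g (up y)} : Set (ι → F))) ?_).trans
      ((finrank_span_le_card _).trans (by rw [Set.toFinset_insert, Set.toFinset_singleton]; exact Finset.card_le_two))
    rintro _ ⟨w, rfl⟩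
    rw [moveLin_apply, hE, show ∀ p q r : ι → F, p + q - r - p = q - r from fun p q r => by abel]
    exact Submodule.sub_mem _ (Submodule.smul_mem _ _ (Submodule.subset_span (Set.mem_insert_of_mem _ rfl)))
      (Submodule.smul_mem _ _ (Submodule.subset_span (Set.mem_insert _ _)))
  obtain ⟨u, hu, hu0, huu⟩ := exists_singular h₀ (X := K') (by omega)
  have hxx : Q (mv g (up v)) = 0 := by rw [mem_isometry.1 hgI]; exact congrArg Subtype.val hvv
  have hxz : pol Q (mv g (up v)) (mv g (up y)) = 0 := by rw [pol_mv hQ hgI]; exact up_pol_zero hV hvy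
  have hzz : Q (mv g (up y)) ≠ 0 := by rw [mem_isometry.1 hgI]; exact fun h0 => hyy (Subtype.ext h0)
  have hfixu := hK'f u hu
  rw [hE] at hfixu
  have e0 : pol Q (up u) (mv g (up v)) • mv g (up y) -
      (pol Q (up u) (mv g (up y)) + Q (mv g (up y)) * pol Q (up u) (mv g (up v))) • mv g (up v) = 0 := by
    linear_combination (norm := module) hfixu
  have hux : pol Q (up u) (mv g (up v)) = 0 := by
    by_contra hne
    have h1 : mv g (up y) = ((pol Q (up u) (mv g (up v)))⁻¹ * (pol Q (up u) (mv g (up y)) +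
        Q (mv g (up y)) * pol Q (up u) (mv g (up v)))) • mv g (up v) := by
      rw [← smul_smul, ← sub_eq_zero.1 e0, smul_smul, inv_mul_cancel₀ hne, one_smul]
    exact hzz (by rw [h1, q_smul hQ, hxx, mul_zero])
  rw [hux, zero_smul, mul_zero, add_zero, zero_sub, neg_eq_zero, smul_eq_zero] at e0
  have huz := e0.resolve_right fun h0 => up_ne_zero (F := F) hv0 (mv_inj g (h0.trans (mv_zero g).symm))
  exact srat_of_one_line_orth hQ hV (by omega) hMS hH hB hroot' hg hv0 (congrArg Subtype.val hvv)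
    (ratLine_centre_orth hQ hV (by omega) hMS hH hB hroot' hEM hxx hxz hE
      (by rw [mem_isometry.1 hgI]; exact (qDown hV y).2) hzz hu0 (congrArg Subtype.val huu) hux huz)

omit hn7 hn in
/-- Maximality of a subfield subgroup, given that overgroups without mixing are rational in odd degree. -/
theorem orth_subfield_maximal' [Fintype F] {r : ℕ} (hr : r.Prime) (hcard : Fintype.card F = Nat.card F₀ ^ r)
    (hn : 7 ≤ Fintype.card ι)
    (hsrat : r ≠ 2 → ∀ M : Subgroup (GL ι F), M ≤ Geo.omegaGL Q →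
      (∀ g ∈ Geo.omegaGL Q, RatM F₀ (g : Matrix ι ι F) → g ∈ M) → NoMix F₀ Q M → ∀ g ∈ M, SRat F₀ g) :
    Geo.IsMaximalIn (Geo.omegaGL Q)
      (((Matrix.GeneralLinearGroup.map (F₀.subtype : F₀ →+* F)).range ⊔ Geo.scalars ι F) ⊓ Geo.omegaGL Q) := by
  have h₀ := qDown_nondegenerate hQ hV
  have hroot₂ : (2 : F) = 0 → ∀ a : F, a ^ 2 ∈ F₀ → a ∈ F₀ := by
    intro h2 a ha
    have h2' : (2 : F₀) = 0 := Subtype.ext h2
    obtain ⟨b, hb⟩ := FiniteField.isSquare_of_char_two
      (ringChar.eq_iff.2 (CharTwo.of_one_ne_zero_of_two_eq_zero one_ne_zero h2')) (⟨a ^ 2, ha⟩ : F₀)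
    have hb' : a * a = (b : F) * b := by rw [← pow_two]; exact congrArg Subtype.val hb
    rcases mul_self_eq_mul_self_iff.1 hb' with h | h
    · exact h ▸ b.2
    · exact h ▸ F₀.neg_mem b.2
  refine ⟨lt_of_le_of_ne inf_le_right fun heq => ?_, fun M hHM hMS => ?_⟩
  · obtain ⟨c, hc⟩ : ∃ c : F, c ∉ F₀ := by
      by_contra hall
      push Not at hall
      have : Nat.card F₀ = Fintype.card F := by
        rw [← Nat.card_eq_fintype_card]
        exact Nat.card_congr ⟨fun x => x.1, fun x => ⟨x, hall x⟩, fun x => rfl, fun x => rfl⟩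
      rw [← this] at hcard
      have h4 : Nat.card F₀ ^ 1 < Nat.card F₀ ^ r := Nat.pow_lt_pow_right Finite.one_lt_card hr.one_lt
      rw [pow_one, ← hcard] at h4
      exact lt_irrefl _ h4
    obtain ⟨u, -, hu0, huu⟩ := exists_singular h₀ (X := (⊤ : Submodule F₀ (ι → F₀)))
      (by rw [finrank_top, Module.finrank_pi]; omega)
    obtain ⟨d, -, hdd, hud⟩ := exists_partner h₀ (nondeg_top h₀) (Submodule.mem_top (x := u)) hu0 huu
    obtain ⟨hPn, hP2⟩ := nondeg_pair h₀ huu hdd hud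
    obtain ⟨hXn, hXd⟩ := orth_nondeg h₀ hPn
    rw [hP2] at hXd
    obtain ⟨p, hp, hp0, hpp⟩ := exists_singular h₀
      (X := orth h₀ (Submodule.span F₀ ({u, d} : Set (ι → F₀)))) (by omega)
    have hup : pol Q (up u) (up p) = 0 := up_pol_zero hV (hp u (Submodule.subset_span (Set.mem_insert _ _)))
    have hdp : pol Q (up d) (up p) = 0 :=
      up_pol_zero hV (hp d (Submodule.subset_span (Set.mem_insert_of_mem _ rfl)))
    have hu' : Q (up u) = 0 := congrArg Subtype.val huu
    obtain ⟨g, -, hg⟩ := exists_siegel hQ hu' (y := c • up p) (by rw [pol_smul_right hQ, hup, mul_zero])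
    obtain ⟨a, ha, hA⟩ := (mem_subfield_one_iff _).1
      (heq.ge (siegel_mem_omega hQ (by omega) hu' (by rw [pol_smul_right hQ, hup, mul_zero]) hg)).1
    have h1 : RatV F₀ (a • mv g (up u)) := by rw [← Matrix.smul_mulVec]; exact ratV_mulVec hA (ratV_up u)
    have h3 : RatV F₀ (a • mv g (up d)) := by rw [← Matrix.smul_mulVec]; exact ratV_mulVec hA (ratV_up d)
    rw [isSiegel_fix hQ hg (by rw [pol_self hQ, hu', mul_zero]) (by rw [pol_smul_right hQ, hup, mul_zero])] at h1
    have hdu : pol Q (up d) (up u) = 1 := by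
      rw [pol_comm]; exact (qDown_pol hV _ _).symm.trans (congrArg Subtype.val hud)
    rw [hg, hdu, pol_smul_right hQ, hdp, q_smul hQ, show Q (up p) = 0 from congrArg Subtype.val hpp, one_smul,
      mul_zero, mul_zero, zero_mul, add_zero, zero_smul, sub_zero, smul_add, smul_smul] at h3
    obtain ⟨i, hi⟩ := Function.ne_iff.1 (up_ne_zero (F := F) hu0)
    obtain ⟨j, hj⟩ := Function.ne_iff.1 (up_ne_zero (F := F) hp0)
    simp only [Pi.zero_apply] at hi hj
    have haF : a ∈ F₀ := by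
      have := F₀.div_mem (h1 i) (u i).2
      rwa [Pi.smul_apply, smul_eq_mul, show (u i : F) = up u i from rfl, mul_div_cancel_right₀ _ hi] at this
    have h4 : a * c * up p j ∈ F₀ := by
      have := F₀.sub_mem (h3 j) (F₀.mul_mem haF (d j).2)
      simpa [up] using this
    have := F₀.div_mem h4 (F₀.mul_mem haF (p j).2)
    rw [show (p j : F) = up p j from rfl, mul_div_mul_right _ _ hj, mul_div_cancel_left₀ _ ha] at this
    exact hc this
  have hH' : ∀ g ∈ Geo.omegaGL Q, RatM F₀ (g : Matrix ι ι F) → g ∈ M := fun g hg hgR =>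
    hHM ⟨(mem_subfield_one_iff _).2 (srat_of_ratM hgR), hg⟩
  by_cases hB : NoMix F₀ Q M
  swap
  · unfold NoMix at hB
    push Not at hB
    obtain ⟨u, p, hu, hu0, hp, hup, hind, c, hcM, hc⟩ := hB
    exact Or.inr (all_of_mix hQ hV hn hMS hH' hr hcard hu hu0 hp hup hind hc hcM)
  refine Or.inl (le_antisymm (fun g hg => ⟨(mem_subfield_one_iff g).2 ?_, hMS hg⟩) hHM)
  by_cases hr2 : r = 2
  swap
  · exact hsrat hr2 M hMS hH' hB g hg
  -- degree two: count rational conditions
  have hgI := hMS.trans (omega_le_isometry hQ) hg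
  obtain ⟨v, -, y, -, hv0, hvv, hyy, hvy⟩ := exists_pair_of_four hQ hV (K := (⊤ : Submodule F₀ (ι → F₀)))
    (by rw [finrank_top, Module.finrank_pi]; omega)
    (exists_anisotropic_big h₀ (by rw [finrank_top, Module.finrank_pi]; omega))
  set L : (ι → F₀) →ₗ[F₀] (F × F) :=
    (((formQ hQ (mv g (up v))).restrictScalars F₀).comp upLin).prod
      (((formQ hQ (mv g (up y))).restrictScalars F₀).comp upLin)
  obtain ⟨u, hu, hu0, huu⟩ := exists_singular h₀ (X := LinearMap.ker L) (by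
    have h1 := LinearMap.finrank_range_add_finrank_ker L
    have h2 := Submodule.finrank_le (LinearMap.range L)
    rw [Module.finrank_prod, finrank_eq_of_card hcard, hr2] at h2
    rw [Module.finrank_pi] at h1
    omega)
  obtain ⟨h, hh, hhs⟩ := siegel_rat_mem hQ hV hn hH' (congrArg Subtype.val hvv) (up_pol_zero hV hvy)
  exact srat_of_one_line_orth hQ hV hn hMS hH' hB hroot₂ hg hv0 (congrArg Subtype.val hvv)
    (ratLine_centre_orth hQ hV hn hMS hH' hB hroot₂ (M.mul_mem (M.mul_mem hg hh) (M.inv_mem hg))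
      (by rw [mem_isometry.1 hgI]; exact congrArg Subtype.val hvv)
      (by rw [pol_mv hQ hgI]; exact up_pol_zero hV hvy) (isSiegel_conj hQ hgI hhs)
      (by rw [mem_isometry.1 hgI]; exact (qDown hV y).2)
      (by rw [mem_isometry.1 hgI]; exact fun h0 => hyy (Subtype.ext h0))
      hu0 (congrArg Subtype.val huu) (congrArg Prod.fst hu) (congrArg Prod.snd hu))

omit hn7 hn in
/-- Subfield subgroups of the orthogonal group are maximal. -/
theorem orth_subfield_maximal [Fintype F] {r : ℕ} (hr : r.Prime) (hcard : Fintype.card F = Nat.card F₀ ^ r)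
    (hn : 10 ≤ Fintype.card ι) (hbig : (2 : F) ≠ 0 ∨ Fintype.card ι = 10 ∨ 13 ≤ Fintype.card ι) :
    Geo.IsMaximalIn (Geo.omegaGL Q)
      (((Matrix.GeneralLinearGroup.map (F₀.subtype : F₀ →+* F)).range ⊔ Geo.scalars ι F) ⊓ Geo.omegaGL Q) :=
  orth_subfield_maximal' hQ hV hr hcard (by omega) fun hr2 _ hMS hH hB =>
    srat_all_odd hQ hV hn hMS hH hbig hB (sq_mem_imp hr hr2 hcard)

end Cfsg.Agent.Transvec.Orth

namespace Cfsg.Agent.Transvec.Orth

open scoped Matrix commutatorElement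
open Matrix Cfsg.Agent.Transvec

variable {ι : Type} [Fintype ι] [DecidableEq ι] {F : Type*} [Field F]

theorem omegaGL_eq_commutator (Q : (ι → F) → F) :
    Geo.omegaGL Q = ⁅isometryGroup F Q, isometryGroup F Q⁆ := by
  rw [Geo.omegaGL, Omega, commutator_def, Subgroup.map_commutator, ← MonoidHom.range_eq_map, Subgroup.range_subtype]

/-- Transport of the standard case along a rational structure. -/
theorem subfield_maximal_transport' [Fintype F] {F₀ : Subfield F} {Q : (ι → F) → F}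
    (hQ : Geo.IsNondegenerateQuadraticForm Q) (P : GL ι F) {ζ : F} (hζ : ζ ≠ 0)
    (hP : Geo.IsQuadFormRationalStructure (fun v => ζ * Q v) F₀ P)
    (hmax : ∀ Q' : (ι → F) → F, Geo.IsNondegenerateQuadraticForm Q' → (∀ x : ι → F, RatV F₀ x → Q' x ∈ F₀) →
      (∀ v, Q' v = ζ * Q (mv P v)) → Geo.IsMaximalIn (Geo.omegaGL Q')
        (((Matrix.GeneralLinearGroup.map (F₀.subtype : F₀ →+* F)).range ⊔ Geo.scalars ι F) ⊓ Geo.omegaGL Q')) :
    Geo.IsMaximalIn (Geo.omegaGL Q) (Geo.subfieldSubgroup F₀ P ⊓ Geo.omegaGL Q) := by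
  set Q' : (ι → F) → F := fun v => ζ * Q (mv P v) with hQ'
  have hpol : ∀ x y, QuadraticMap.polar Q' x y = ζ * pol Q (mv P x) (mv P y) := fun x y => by
    simp only [QuadraticMap.polar, hQ', pol, mv_add]; ring
  have hQn : Geo.IsNondegenerateQuadraticForm Q' :=
    { smul := fun c v => by simp only [hQ', mv_smul, q_smul hQ]; ring
      polar_bilinear :=
        { add_left := fun x y v => by simp only [hpol, mv_add, pol_add_left hQ, mul_add]
          smul_left := fun c x v => by simp only [hpol, mv_smul, pol_smul_left hQ]; ring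
          add_right := fun v x y => by simp only [hpol, mv_add, pol_add_right hQ, mul_add]
          smul_right := fun c v x => by simp only [hpol, mv_smul, pol_smul_right hQ]; ring }
      nondegenerate := fun v hv => by
        obtain ⟨⟨x, hx⟩, -⟩ := hQ.nondegenerate (mv P v) fun h => hv (mv_inj P (h.trans (mv_zero P).symm))
        refine ⟨⟨mv P⁻¹ x, ?_⟩, ⟨mv P⁻¹ x, ?_⟩⟩
        · rw [hpol, mv_mv_inv]; exact mul_ne_zero hζ hx
        · rw [hpol, mv_mv_inv, pol_comm]; exact mul_ne_zero hζ hx }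
  have h := isMaximalIn_map (MulAut.conj P)
    (hmax Q' hQn (fun x hx => hP x hx) fun _ => rfl)
  have hiso : (isometryGroup F Q').map (MulAut.conj P).toMonoidHom = isometryGroup F Q := by
    ext x
    constructor
    · rintro ⟨y, hy, rfl⟩
      refine mem_isometry.2 fun z => ?_
      show Q (mv (P * y * P⁻¹) z) = Q z
      have h1 := mem_isometry.1 hy (mv P⁻¹ z)
      simp only [hQ', mv_mv_inv] at h1
      rw [mv_mul, mv_mul]
      exact mul_left_cancel₀ hζ h1
    · intro hx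
      refine ⟨P⁻¹ * x * P, mem_isometry.2 fun z => ?_, by simp [mul_assoc]⟩
      simp only [hQ', mv_mul, mv_mv_inv]
      rw [mem_isometry.1 hx]
  rw [Subgroup.map_inf _ _ _ (MulAut.conj P).injective] at h
  have hΩ : (Geo.omegaGL Q').map (MulAut.conj P).toMonoidHom = Geo.omegaGL Q := by
    rw [omegaGL_eq_commutator, omegaGL_eq_commutator, Subgroup.map_commutator, hiso]
  rw [hΩ] at h
  exact h

theorem subfield_maximal_transport [Fintype F] {F₀ : Subfield F} {r : ℕ} (hr : r.Prime)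
    (hcard : Fintype.card F = Nat.card F₀ ^ r) (hn : 10 ≤ Fintype.card ι) (hbig : (2 : F) ≠ 0 ∨ Fintype.card ι = 10 ∨ 13 ≤ Fintype.card ι) {Q : (ι → F) → F}
    (hQ : Geo.IsNondegenerateQuadraticForm Q) (P : GL ι F) {ζ : F} (hζ : ζ ≠ 0)
    (hP : Geo.IsQuadFormRationalStructure (fun v => ζ * Q v) F₀ P) :
    Geo.IsMaximalIn (Geo.omegaGL Q) (Geo.subfieldSubgroup F₀ P ⊓ Geo.omegaGL Q) :=
  subfield_maximal_transport' hQ P hζ hP fun _ hQn hV _ => orth_subfield_maximal hQn hV hr hcard hn hbig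

end Cfsg.Agent.Transvec.Orth
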