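/-
Orthonormal frames of lines of an orthogonal space in odd characteristic: coordinates, reflections, monomial
elements, and the set of reflection centres of an overgroup of the monomial group.
-/
import Cfsg.Agent.Lib.Transvec.OrthWreathTools
import Cfsg.Agent.Lib.Transvec.OrthMaximal
set_option autoImplicit false
set_option linter.unusedSectionVars false

namespace Cfsg.Agent.Transvec.OFr

open scoped Matrix
open Matrix Cfsg.Agent.Transvec Cfsg.Agent.Transvec.Orth

variable {ι : Type} [Fintype ι] [DecidableEq ι] {F : Type*} [Field F] {Q : (ι → F) → F}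
variable {t : ℕ} {e : Fin t → ι → F} {c : F}

/-- The symmetric form normalised so that vectors of value c have square one. -/
def bf (Q : (ι → F) → F) (c : F) (x y : ι → F) : F := pol Q x y / (2 * c)

open scoped Classical in
/-- The reflection with centre a. -/
noncomputable def R (Q : (ι → F) → F) (a : ι → F) : GL ι F :=
  if h : ∃ g, g ∈ isometryGroup F Q ∧ IsRefl Q g a then h.choose else 1

/-- A frame of orthogonal vectors of one value. -/
structure Fr (Q : (ι → F) → F) {t : ℕ} (e : Fin t → ι → F) (c : F) : Prop where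
  nd : Geo.IsNondegenerateQuadraticForm Q
  two : (2 : F) ≠ 0
  c0 : c ≠ 0
  orth : ∀ i j, pol Q (e i) (e j) = if i = j then 2 * c else 0
  expand : ∀ x, x = ∑ i, bf Q c x (e i) • e i

/-- The element maps every frame line to a frame line. -/
def FMon (e : Fin t → ι → F) (g : GL ι F) : Prop := ∀ k, ∃ l, ∃ a : F, mv g (e k) = a • e l

/-- The element negates the frame vectors indexed by W and fixes the others. -/
def Signs (e : Fin t → ι → F) (W : Finset (Fin t)) (g : GL ι F) : Prop :=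
  ∀ k, mv g (e k) = if k ∈ W then -e k else e k

variable (hfr : Fr Q e c)
include hfr

/-! ### The form -/

theorem two_c_ne : 2 * c ≠ 0 := mul_ne_zero hfr.two hfr.c0

omit hfr in
theorem bf_comm (x y : ι → F) : bf Q c x y = bf Q c y x := by rw [bf, bf, pol_comm]

theorem bf_add_left (x y z : ι → F) : bf Q c (x + y) z = bf Q c x z + bf Q c y z := by
  rw [bf, bf, bf, pol_add_left hfr.nd, add_div]

theorem bf_add_right (z x y : ι → F) : bf Q c z (x + y) = bf Q c z x + bf Q c z y := by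
  rw [bf_comm, bf_add_left hfr, bf_comm x, bf_comm y]

theorem bf_smul_left (a : F) (x z : ι → F) : bf Q c (a • x) z = a * bf Q c x z := by
  rw [bf, bf, pol_smul_left hfr.nd, mul_div_assoc]

theorem bf_smul_right (a : F) (z x : ι → F) : bf Q c z (a • x) = a * bf Q c z x := by
  rw [bf_comm, bf_smul_left hfr, bf_comm x]

theorem bf_neg_left (x z : ι → F) : bf Q c (-x) z = -bf Q c x z := by
  rw [← neg_one_smul F x, bf_smul_left hfr, neg_one_mul]

theorem bf_neg_right (z x : ι → F) : bf Q c z (-x) = -bf Q c z x := by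
  rw [bf_comm, bf_neg_left hfr, bf_comm x]

theorem bf_sub_left (x y z : ι → F) : bf Q c (x - y) z = bf Q c x z - bf Q c y z := by
  rw [sub_eq_add_neg, bf_add_left hfr, bf_neg_left hfr, ← sub_eq_add_neg]

theorem bf_sub_right (z x y : ι → F) : bf Q c z (x - y) = bf Q c z x - bf Q c z y := by
  rw [bf_comm, bf_sub_left hfr, bf_comm x, bf_comm y]

theorem bf_zero_left (z : ι → F) : bf Q c 0 z = 0 := by rw [bf, pol_zero_left hfr.nd, zero_div]

theorem bf_zero_right (z : ι → F) : bf Q c z 0 = 0 := by rw [bf_comm, bf_zero_left hfr]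

theorem bf_sum_left {κ : Type*} (s : Finset κ) (x : κ → ι → F) (z : ι → F) :
    bf Q c (∑ i ∈ s, x i) z = ∑ i ∈ s, bf Q c (x i) z := by
  rw [bf, show pol Q (∑ i ∈ s, x i) z = ∑ i ∈ s, pol Q (x i) z from map_sum (formQ hfr.nd z) x s,
    Finset.sum_div]
  rfl

theorem q_bf (x : ι → F) : Q x = c * bf Q c x x := by
  have := hfr.two
  have := hfr.c0
  rw [bf, pol_self hfr.nd]
  field_simp

theorem value_iff (x : ι → F) : Q x = c ↔ bf Q c x x = 1 := by
  rw [q_bf hfr]
  refine ⟨fun h => mul_left_cancel₀ hfr.c0 (by rw [h, mul_one]), fun h => by rw [h, mul_one]⟩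

theorem bf_mv {g : GL ι F} (hg : g ∈ isometryGroup F Q) (x y : ι → F) :
    bf Q c (mv g x) (mv g y) = bf Q c x y := by rw [bf, bf, pol_mv hfr.nd hg]

theorem pol_bf (x y : ι → F) : pol Q x y = 2 * c * bf Q c x y := by
  rw [bf, mul_div_cancel₀ _ (two_c_ne hfr)]

/-! ### Coordinates -/

theorem frame_self (i : Fin t) : bf Q c (e i) (e i) = 1 := by
  rw [bf, hfr.orth, if_pos rfl, div_self (two_c_ne hfr)]

theorem frame_other {i j : Fin t} (h : i ≠ j) : bf Q c (e i) (e j) = 0 := by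
  rw [bf, hfr.orth, if_neg h, zero_div]

theorem frame_eq (i j : Fin t) : bf Q c (e i) (e j) = if i = j then 1 else 0 := by
  split_ifs with h
  · rw [h, frame_self hfr]
  · exact frame_other hfr h

theorem q_frame (i : Fin t) : Q (e i) = c := (value_iff hfr _).2 (frame_self hfr i)

theorem frame_ne (i : Fin t) : e i ≠ 0 := fun h => hfr.c0 (by rw [← q_frame hfr i, h, q_zero hfr.nd])

theorem coord_ext {x y : ι → F} (h : ∀ i, bf Q c x (e i) = bf Q c y (e i)) : x = y := by
  rw [hfr.expand x, hfr.expand y]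
  simp [h]

theorem eq_zero_of_coord {x : ι → F} (h : ∀ i, bf Q c x (e i) = 0) : x = 0 :=
  coord_ext hfr fun i => by rw [h i, bf_zero_left hfr]

theorem bf_coord (x y : ι → F) : bf Q c x y = ∑ i, bf Q c x (e i) * bf Q c y (e i) := by
  conv_lhs => rw [hfr.expand x]
  rw [bf_sum_left hfr]
  exact Finset.sum_congr rfl fun i _ => by rw [bf_smul_left hfr, bf_comm (e i) y]

theorem coord_smul (a : F) (i j : Fin t) : bf Q c (a • e i) (e j) = if i = j then a else 0 := by
  rw [bf_smul_left hfr, frame_eq hfr, mul_ite, mul_one, mul_zero]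

theorem coord_sum (s : Finset (Fin t)) (a : Fin t → F) (k : Fin t) :
    bf Q c (∑ i ∈ s, a i • e i) (e k) = if k ∈ s then a k else 0 := by
  rw [bf_sum_left hfr]
  simp only [coord_smul hfr]
  rw [Finset.sum_ite_eq' s k a]

theorem mem_span_of_coord {x : ι → F} {s : Finset (Fin t)} (h : ∀ k, k ∉ s → bf Q c x (e k) = 0) :
    x = ∑ i ∈ s, bf Q c x (e i) • e i :=
  coord_ext hfr fun k => by
    rw [coord_sum hfr]
    split_ifs with hk
    · rfl
    · exact h k hk

theorem ext_frame {g h : GL ι F} (H : ∀ i, mv g (e i) = mv h (e i)) : g = h :=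
  ext_mv fun x => by
    rw [hfr.expand x, mv_sum, mv_sum]
    exact Finset.sum_congr rfl fun i _ => by rw [mv_smul, mv_smul, H]

theorem orth_family_card {κ : Type*} [Fintype κ] (y : κ → ι → F) (hy : ∀ a, bf Q c (y a) (y a) ≠ 0)
    (ho : ∀ a b, a ≠ b → bf Q c (y a) (y b) = 0) (s : Finset (Fin t))
    (hs : ∀ a, ∀ k, k ∉ s → bf Q c (y a) (e k) = 0) : Fintype.card κ ≤ s.card := by
  classical
  have hli : LinearIndependent F y := by
    rw [Fintype.linearIndependent_iff]
    intro g hg a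
    have h1 := congrArg (fun z => bf Q c z (y a)) hg
    simp only [bf_sum_left hfr, bf_smul_left hfr, bf_zero_left hfr] at h1
    rw [Finset.sum_eq_single a (fun b _ hba => by rw [ho b a hba, mul_zero]) (by simp)] at h1
    exact (mul_eq_zero.1 h1).resolve_right (hy a)
  have hle : Submodule.span F (Set.range y) ≤ Submodule.span F ((s.image e : Finset (ι → F)) : Set (ι → F)) :=
    Submodule.span_le.2 (by
      rintro z ⟨a, rfl⟩
      rw [SetLike.mem_coe, mem_span_of_coord hfr (hs a)]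
      exact Submodule.sum_mem _ fun i hi => Submodule.smul_mem _ _
        (Submodule.subset_span (Finset.mem_coe.2 (Finset.mem_image_of_mem _ hi))))
  have h1 := Submodule.finrank_mono hle
  rw [finrank_span_eq_card hli] at h1
  exact h1.trans ((finrank_span_finset_le_card _).trans Finset.card_image_le)

/-! ### Reflections -/

theorem R_spec {a : ι → F} (ha : Q a ≠ 0) : R Q a ∈ isometryGroup F Q ∧ IsRefl Q (R Q a) a := by
  classical
  rw [R, dif_pos (exists_refl hfr.nd ha)]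
  exact (exists_refl hfr.nd ha).choose_spec

theorem R_spec_c {a : ι → F} (ha : Q a = c) : R Q a ∈ isometryGroup F Q ∧ IsRefl Q (R Q a) a :=
  R_spec hfr (ha ▸ hfr.c0)

theorem mv_R {a : ι → F} (ha : Q a = c) (z : ι → F) : mv (R Q a) z = z - (2 * bf Q c z a) • a := by
  rw [(R_spec_c hfr ha).2.2, ha, pol_bf hfr]
  congr 2
  field_simp [hfr.c0]

theorem R_sq {a : ι → F} (ha : Q a ≠ 0) : R Q a * R Q a = 1 := isRefl_sq hfr.nd (R_spec hfr ha).2

theorem R_inv {a : ι → F} (ha : Q a ≠ 0) : (R Q a)⁻¹ = R Q a :=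
  inv_eq_of_mul_eq_one_right (R_sq hfr ha)

theorem R_conj {g : GL ι F} (hg : g ∈ isometryGroup F Q) {a : ι → F} (ha : Q a ≠ 0) :
    g * R Q a * g⁻¹ = R Q (mv g a) :=
  isRefl_unique (isRefl_conj hfr.nd hg (R_spec hfr ha).2)
    (R_spec hfr (by rw [mem_isometry.1 hg]; exact ha)).2

theorem R_smul {a : ι → F} (ha : Q a ≠ 0) {l : F} (hl : l ≠ 0) : R Q (l • a) = R Q a := by
  have h' : Q (l • a) ≠ 0 := by rw [q_smul hfr.nd]; exact mul_ne_zero (pow_ne_zero 2 hl) ha
  refine ext_mv fun z => ?_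
  rw [(R_spec hfr h').2.2, (R_spec hfr ha).2.2, q_smul hfr.nd, pol_smul_right hfr.nd, smul_smul]
  congr 2
  field_simp

theorem R_neg {a : ι → F} (ha : Q a ≠ 0) : R Q (-a) = R Q a := by
  rw [← neg_one_smul F a, R_smul hfr ha (neg_ne_zero.2 one_ne_zero)]

theorem R_omega [Finite F] (hn : 7 ≤ Fintype.card ι) {a b : ι → F} (ha : Q a ≠ 0) (hab : Q a = Q b) :
    R Q a * R Q b ∈ Geo.omegaGL Q :=
  refl_pair_mem hfr.nd hn (R_spec hfr ha).1 (R_spec hfr ha).2 (R_spec hfr (hab ▸ ha)).2 hab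

/-- Equal reflections have equal centres up to sign. -/
theorem eq_or_neg_of_R_eq {a b : ι → F} (ha : Q a = c) (hb : Q b = c) (h : R Q a = R Q b) : a = b ∨ a = -b := by
  have h1 : mv (R Q a) a = mv (R Q b) a := by rw [h]
  rw [mv_R hfr ha, mv_R hfr hb, (value_iff hfr a).1 ha, mul_one] at h1
  have h2 : a = bf Q c a b • b := by
    have h3 : (2 : F) • a = (2 : F) • (bf Q c a b • b) := by
      rw [smul_smul]
      exact sub_right_injective h1
    exact smul_right_injective _ hfr.two h3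
  have h4 : bf Q c a b * bf Q c a b = 1 := by
    have := (value_iff hfr a).1 ha
    rw [h2, bf_smul_left hfr, bf_smul_right hfr, (value_iff hfr b).1 hb] at this
    linear_combination this
  rcases mul_self_eq_one_iff.1 h4 with h5 | h5 <;> rw [h5] at h2
  · exact Or.inl (by rw [h2, one_smul])
  · exact Or.inr (by rw [h2, neg_one_smul])

theorem q_diff {i j : Fin t} (h : i ≠ j) {ε : F} (hε : ε * ε = 1) : Q (e i - ε • e j) = 2 * c := by
  rw [q_sub hfr.nd, q_smul hfr.nd, pol_smul_right hfr.nd, hfr.orth, if_neg h, q_frame hfr, q_frame hfr]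
  linear_combination c * hε

theorem mv_R_diff {i j : Fin t} (h : i ≠ j) {ε : F} (hε : ε * ε = 1) (z : ι → F) :
    mv (R Q (e i - ε • e j)) z = z - (bf Q c z (e i) - ε * bf Q c z (e j)) • (e i - ε • e j) := by
  have hq := q_diff hfr h hε
  rw [(R_spec hfr (hq ▸ two_c_ne hfr)).2.2, hq, ← bf, bf_sub_right hfr, bf_smul_right hfr]

theorem R_diff_spec {i j : Fin t} (h : i ≠ j) {ε : F} (hε : ε * ε = 1) :
    mv (R Q (e i - ε • e j)) (e i) = ε • e j ∧ mv (R Q (e i - ε • e j)) (e j) = ε • e i ∧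
      (∀ k, k ≠ i → k ≠ j → mv (R Q (e i - ε • e j)) (e k) = e k) ∧ FMon e (R Q (e i - ε • e j)) := by
  have h1 : mv (R Q (e i - ε • e j)) (e i) = ε • e j := by
    rw [mv_R_diff hfr h hε, frame_self hfr, frame_other hfr h]; module
  have h2 : mv (R Q (e i - ε • e j)) (e j) = ε • e i := by
    rw [mv_R_diff hfr h hε, frame_self hfr, frame_other hfr h.symm, mul_one, zero_sub, neg_smul, sub_neg_eq_add,
      smul_sub, smul_smul, hε, one_smul]
    abel
  have h3 : ∀ k, k ≠ i → k ≠ j → mv (R Q (e i - ε • e j)) (e k) = e k := fun k hk hk' => by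
    rw [mv_R_diff hfr h hε, frame_other hfr hk, frame_other hfr hk']; module
  refine ⟨h1, h2, h3, fun k => ?_⟩
  rcases eq_or_ne k i with rfl | hki
  · exact ⟨j, ε, h1⟩
  rcases eq_or_ne k j with rfl | hkj
  · exact ⟨i, ε, h2⟩
  exact ⟨k, 1, by rw [h3 k hki hkj, one_smul]⟩

theorem R_frame_spec (i : Fin t) : mv (R Q (e i)) (e i) = -e i ∧ ∀ k, k ≠ i → mv (R Q (e i)) (e k) = e k := by
  refine ⟨?_, fun k hk => ?_⟩
  · rw [mv_R hfr (q_frame hfr i), frame_self hfr]; module
  · rw [mv_R hfr (q_frame hfr i), frame_other hfr hk]; module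

theorem R_frame_mon (i : Fin t) : FMon e (R Q (e i)) := fun k => by
  rcases eq_or_ne k i with rfl | hk
  · exact ⟨k, -1, by rw [(R_frame_spec hfr k).1, neg_one_smul]⟩
  · exact ⟨k, 1, by rw [(R_frame_spec hfr i).2 k hk, one_smul]⟩

/-! ### Monomial elements -/

theorem FMon.perm {g : GL ι F} (hg : FMon e g) (hgI : g ∈ isometryGroup F Q) :
    ∃ (π : Equiv.Perm (Fin t)) (a : Fin t → F), (∀ k, a k * a k = 1) ∧ ∀ k, mv g (e k) = a k • e (π k) := by
  choose π a ha using hg
  have ha1 : ∀ k, a k * a k = 1 := fun k => by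
    have h := bf_mv hfr hgI (e k) (e k)
    rwa [ha, bf_smul_left hfr, bf_smul_right hfr, frame_self hfr, frame_self hfr, mul_one] at h
  have hinj : Function.Injective π := fun k k' h => by
    by_contra hne
    have h' := bf_mv hfr hgI (e k) (e k')
    rw [ha, ha, h, bf_smul_left hfr, bf_smul_right hfr, frame_self hfr, frame_other hfr hne, mul_one] at h'
    rcases mul_eq_zero.1 h' with h1 | h1
    · exact left_ne_zero_of_mul_eq_one (ha1 k) h1
    · exact left_ne_zero_of_mul_eq_one (ha1 k') h1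
  exact ⟨Equiv.ofBijective π (Finite.injective_iff_bijective.1 hinj), a, ha1, ha⟩

theorem FMon.inv {g : GL ι F} (hg : FMon e g) (hgI : g ∈ isometryGroup F Q) : FMon e g⁻¹ := by
  obtain ⟨π, a, ha1, ha⟩ := FMon.perm hfr hg hgI
  intro k
  refine ⟨π.symm k, a (π.symm k), ?_⟩
  have h := ha (π.symm k)
  rw [Equiv.apply_symm_apply, mv_eq_iff] at h
  rw [h, mv_smul, smul_smul, ha1, one_smul]

omit hfr in
theorem FMon.mul {g h : GL ι F} (hg : FMon e g) (hh : FMon e h) : FMon e (g * h) := fun k => by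
  obtain ⟨l, a, ha⟩ := hh k
  obtain ⟨m, b, hb⟩ := hg l
  exact ⟨m, a * b, by rw [mv_mul, ha, mv_smul, hb, smul_smul]⟩

omit hfr in
theorem Signs.fmon {W : Finset (Fin t)} {g : GL ι F} (hg : Signs e W g) : FMon e g := fun k => by
  by_cases hk : k ∈ W
  · exact ⟨k, -1, by rw [hg, if_pos hk, neg_one_smul]⟩
  · exact ⟨k, 1, by rw [hg, if_neg hk, one_smul]⟩

theorem Signs.coord {W : Finset (Fin t)} {g : GL ι F} (hg : Signs e W g) (x : ι → F) (k : Fin t) :
    bf Q c (mv g x) (e k) = if k ∈ W then -bf Q c x (e k) else bf Q c x (e k) := by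
  have h : mv g x = ∑ i, (if i ∈ W then -bf Q c x (e i) else bf Q c x (e i)) • e i := by
    conv_lhs => rw [hfr.expand x, mv_sum]
    refine Finset.sum_congr rfl fun i _ => ?_
    rw [mv_smul, hg]
    split_ifs <;> module
  rw [h, coord_sum hfr, if_pos (Finset.mem_univ k)]

theorem Signs.mul_self {W : Finset (Fin t)} {g : GL ι F} (hg : Signs e W g) : g * g = 1 :=
  ext_frame hfr fun k => by
    rw [mv_mul, mv_one, hg]
    split_ifs with hk
    · rw [mv_neg, hg, if_pos hk, neg_neg]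
    · rw [hg, if_neg hk]

theorem signs_pair {a b : Fin t} (hab : a ≠ b) : Signs e {a, b} (R Q (e a) * R Q (e b)) := fun k => by
  simp only [Finset.mem_insert, Finset.mem_singleton]
  rw [mv_mul]
  rcases eq_or_ne k b with rfl | hkb
  · rw [if_pos (Or.inr rfl), (R_frame_spec hfr k).1, mv_neg, (R_frame_spec hfr a).2 k hab.symm]
  rw [(R_frame_spec hfr b).2 k hkb]
  rcases eq_or_ne k a with rfl | hka
  · rw [if_pos (Or.inl rfl), (R_frame_spec hfr k).1]
  rw [if_neg (by tauto), (R_frame_spec hfr a).2 k hka]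

/-! ### Overgroups of the monomial group and their centres -/

omit hfr in
/-- An overgroup of the monomial group inside the commutator subgroup. -/
structure Ctx (Q : (ι → F) → F) {t : ℕ} (e : Fin t → ι → F) (c : F) (M : Subgroup (GL ι F)) : Prop where
  fr : Fr Q e c
  hn : 7 ≤ Fintype.card ι
  ht : 7 ≤ t
  hodd : 10 ≤ t ∨ Odd t
  le : M ≤ Geo.omegaGL Q
  mon : ∀ g ∈ Geo.omegaGL Q, FMon e g → g ∈ M

end Cfsg.Agent.Transvec.OFr

namespace Cfsg.Agent.Transvec.OFr

open scoped Matrix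
open Matrix Cfsg.Agent.Transvec Cfsg.Agent.Transvec.Orth

variable {ι : Type} [Fintype ι] [DecidableEq ι] {F : Type*} [Field F] {Q : (ι → F) → F}
variable {t : ℕ} {e : Fin t → ι → F} {c : F} {M : Subgroup (GL ι F)}

/-- The vectors x of value c with R(e a) R(x) in M for the frame vectors e a. -/
def Cen (Q : (ι → F) → F) (e : Fin t → ι → F) (c : F) (M : Subgroup (GL ι F)) : Set (ι → F) :=
  {x | Q x = c ∧ ∀ a, R Q (e a) * R Q x ∈ M}

variable [Fintype F]

/-- The elements of M preserving the centres. -/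
def cenStab (Q : (ι → F) → F) (e : Fin t → ι → F) (c : F) (M : Subgroup (GL ι F)) : Subgroup (GL ι F) where
  carrier := {g | g ∈ M ∧ ∀ x ∈ Cen Q e c M, mv g x ∈ Cen Q e c M}
  one_mem' := ⟨M.one_mem, fun x hx => by rwa [mv_one]⟩
  mul_mem' := by
    rintro a b ⟨ha, ha'⟩ ⟨hb, hb'⟩
    exact ⟨M.mul_mem ha hb, fun x hx => by rw [mv_mul]; exact ha' _ (hb' x hx)⟩
  inv_mem' := by
    rintro a ⟨ha, ha'⟩
    refine ⟨M.inv_mem ha, fun x hx => ?_⟩
    have hS : (Cen Q e c M).Finite := Set.toFinite _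
    have himg : mv a '' Cen Q e c M = Cen Q e c M :=
      Set.eq_of_subset_of_ncard_le (Set.image_subset_iff.2 ha')
        (le_of_eq (Set.ncard_image_of_injective _ fun p q h => mv_inj a h).symm) hS
    obtain ⟨w, hw, rfl⟩ := himg.ge hx
    rwa [mv_inv_mv]

variable (hC : Ctx Q e c M)
include hC

theorem le_isometry : M ≤ isometryGroup F Q := hC.le.trans (omega_le_isometry hC.fr.nd)

theorem hn11 : 7 ≤ Fintype.card ι := le_trans (by norm_num) hC.hn

theorem pair_frame_mem (a b : Fin t) : R Q (e a) * R Q (e b) ∈ M :=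
  hC.mon _ (R_omega hC.fr (hn11 hC) (by rw [q_frame hC.fr]; exact hC.fr.c0) (by rw [q_frame hC.fr, q_frame hC.fr]))
    (FMon.mul (R_frame_mon hC.fr a) (R_frame_mon hC.fr b))

theorem cen_of_one {x : ι → F} (hx : Q x = c) {a : Fin t} (h : R Q (e a) * R Q x ∈ M) : x ∈ Cen Q e c M :=
  ⟨hx, fun b => by
    have := M.mul_mem (pair_frame_mem hC b a) h
    rwa [mul_assoc, ← mul_assoc (R Q (e a)), R_sq hC.fr (by rw [q_frame hC.fr]; exact hC.fr.c0), one_mul] at this⟩

theorem cen_frame (a : Fin t) : e a ∈ Cen Q e c M := ⟨q_frame hC.fr a, fun b => pair_frame_mem hC b a⟩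

theorem cen_neg {x : ι → F} (hx : x ∈ Cen Q e c M) : -x ∈ Cen Q e c M :=
  ⟨by rw [q_neg hC.fr.nd, hx.1], fun b => by rw [R_neg hC.fr (hx.1 ▸ hC.fr.c0)]; exact hx.2 b⟩

theorem cen_pair {x y : ι → F} (hx : x ∈ Cen Q e c M) (hy : y ∈ Cen Q e c M) : R Q x * R Q y ∈ M := by
  have a : Fin t := ⟨0, lt_of_lt_of_le (by norm_num) hC.ht⟩
  have := M.mul_mem (M.inv_mem (hx.2 a)) (hy.2 a)
  rwa [_root_.mul_inv_rev, R_inv hC.fr (hx.1 ▸ hC.fr.c0), mul_assoc, inv_mul_cancel_left] at this

theorem cen_refl {x y : ι → F} (hx : x ∈ Cen Q e c M) (hy : y ∈ Cen Q e c M) :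
    mv (R Q x) y ∈ Cen Q e c M := by
  have hI := (R_spec_c hC.fr hx.1).1
  refine ⟨by rw [mem_isometry.1 hI, hy.1], fun b => ?_⟩
  rw [← R_conj hC.fr hI (hy.1 ▸ hC.fr.c0), R_inv hC.fr (hx.1 ▸ hC.fr.c0), ← mul_assoc, ← mul_assoc, mul_assoc]
  exact M.mul_mem (hx.2 b) (cen_pair hC hy hx)

/-- An element of M carrying one centre to a centre carries all centres to centres. -/
theorem cen_mv {g : GL ι F} (hg : g ∈ M) {x : ι → F} (hx : x ∈ Cen Q e c M) (hgx : mv g x ∈ Cen Q e c M)
    {y : ι → F} (hy : y ∈ Cen Q e c M) : mv g y ∈ Cen Q e c M := by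
  have hI := le_isometry hC hg
  have h := M.mul_mem (M.mul_mem hg (cen_pair hC hx hy)) (M.inv_mem hg)
  rw [show g * (R Q x * R Q y) * g⁻¹ = (g * R Q x * g⁻¹) * (g * R Q y * g⁻¹) by group,
    R_conj hC.fr hI (hx.1 ▸ hC.fr.c0), R_conj hC.fr hI (hy.1 ▸ hC.fr.c0)] at h
  refine ⟨by rw [mem_isometry.1 hI, hy.1], fun b => ?_⟩
  have := M.mul_mem (hgx.2 b) h
  rwa [mul_assoc, ← mul_assoc (R Q (mv g x)), R_sq hC.fr (hgx.1 ▸ hC.fr.c0), one_mul] at this

theorem mon_cenStab {g : GL ι F} (hg : g ∈ Geo.omegaGL Q) (hgm : FMon e g) : g ∈ cenStab Q e c M := by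
  have hgM := hC.mon g hg hgm
  refine ⟨hgM, fun x hx => ?_⟩
  obtain ⟨π, a, ha1, ha⟩ := FMon.perm hC.fr hgm (le_isometry hC hgM)
  let o : Fin t := ⟨0, lt_of_lt_of_le (by norm_num) hC.ht⟩
  refine cen_mv hC hgM (cen_frame hC o) ?_ hx
  rw [ha]
  rcases mul_self_eq_one_iff.1 (ha1 o) with h | h <;> rw [h]
  · rw [one_smul]; exact cen_frame hC _
  · rw [neg_one_smul]; exact cen_neg hC (cen_frame hC _)

theorem pair_cenStab {x y : ι → F} (hx : x ∈ Cen Q e c M) (hy : y ∈ Cen Q e c M) :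
    R Q x * R Q y ∈ cenStab Q e c M :=
  ⟨cen_pair hC hx hy, fun z hz => by rw [mv_mul]; exact cen_refl hC hx (cen_refl hC hy hz)⟩

/-- A double transposition of the frame. -/
theorem double_cenStab {i j k l : Fin t} (hij : i ≠ j) (hkl : k ≠ l) {ε ε' : F} (hε : ε * ε = 1)
    (hε' : ε' * ε' = 1) : R Q (e i - ε • e j) * R Q (e k - ε' • e l) ∈ cenStab Q e c M :=
  mon_cenStab hC (R_omega hC.fr (hn11 hC) (by rw [q_diff hC.fr hij hε]; exact two_c_ne hC.fr)
    (by rw [q_diff hC.fr hij hε, q_diff hC.fr hkl hε']))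
    (FMon.mul (R_diff_spec hC.fr hij hε).2.2.2 (R_diff_spec hC.fr hkl hε').2.2.2)

/-- Two roots on a pair of frame vectors are centres. -/
theorem cen_root {p q : Fin t} (hpq : p ≠ q) {α β : F} (hα : 2 * (α * α) = 1) (hβ : 2 * (β * β) = 1) :
    α • e p + β • e q ∈ Cen Q e c M := by
  have hα0 : α ≠ 0 := fun h => by rw [h] at hα; simp at hα
  set ε := -(β / α) with hεdef
  have hε : ε * ε = 1 := by
    rw [hεdef]
    field_simp
    have := hC.fr.two
    exact mul_left_cancel₀ this (by linear_combination hβ - hα)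
  have hv : α • e p + β • e q = α • (e p - ε • e q) := by
    rw [hεdef, smul_sub, smul_smul, mul_neg, mul_div_cancel₀ _ hα0, neg_smul, sub_neg_eq_add]
  have hq0 : Q (e p - ε • e q) ≠ 0 := by rw [q_diff hC.fr hpq hε]; exact two_c_ne hC.fr
  have hQv : Q (α • e p + β • e q) = c := by
    rw [hv, q_smul hC.fr.nd, q_diff hC.fr hpq hε]; linear_combination c * hα
  refine ⟨hQv, fun a => hC.mon _ (R_omega hC.fr (hn11 hC) (by rw [q_frame hC.fr]; exact hC.fr.c0)
    (by rw [q_frame hC.fr, hQv])) ?_⟩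
  rw [hv, R_smul hC.fr hq0 hα0]
  exact FMon.mul (R_frame_mon hC.fr a) (R_diff_spec hC.fr hpq hε).2.2.2

end Cfsg.Agent.Transvec.OFr
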