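/-
Overgroups of the monomial group in the orthogonal group: either monomial or some centre is neither a frame vector
nor a root.
-/
import Cfsg.Agent.Lib.Transvec.OrthFrameBasic
import Cfsg.Agent.Lib.Transvec.HermFrameOddA
set_option autoImplicit false
set_option linter.unusedSectionVars false
set_option maxHeartbeats 800000

namespace Cfsg.Agent.Transvec.OFr

open scoped Matrix
open Matrix Cfsg.Agent.Transvec Cfsg.Agent.Transvec.Orth

variable {ι : Type} [Fintype ι] [DecidableEq ι] {F : Type*} [Field F] {Q : (ι → F) → F}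
variable {t : ℕ} {e : Fin t → ι → F} {c : F}

/-- A multiple of a frame vector or a root on two frame vectors. -/
def Small (e : Fin t → ι → F) (v : ι → F) : Prop :=
  (∃ l, ∃ a : F, v = a • e l) ∨
    ∃ p q, ∃ α β : F, p ≠ q ∧ v = α • e p + β • e q ∧ 2 * (α * α) = 1 ∧ 2 * (β * β) = 1

open scoped Classical in
/-- The support of a vector with respect to the frame. -/
noncomputable def supp (Q : (ι → F) → F) (e : Fin t → ι → F) (c : F) (v : ι → F) : Finset (Fin t) :=
  Finset.univ.filter fun k => bf Q c v (e k) ≠ 0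

theorem mem_supp {v : ι → F} {k : Fin t} : k ∈ supp Q e c v ↔ bf Q c v (e k) ≠ 0 := by
  classical
  simp [supp]

variable (hfr : Fr Q e c)
include hfr

theorem not_small_of {v : ι → F} {p q : Fin t} (hpq : p ≠ q) (hp : bf Q c v (e p) ≠ 0)
    (hq : bf Q c v (e q) ≠ 0)
    (h : (∃ r, r ≠ p ∧ r ≠ q ∧ bf Q c v (e r) ≠ 0) ∨ 2 * (bf Q c v (e p) * bf Q c v (e p)) ≠ 1) :
    ¬ Small e v := by
  rintro (⟨l, a, rfl⟩ | ⟨p', q', α, β, hne, rfl, hα, hβ⟩)
  · rw [coord_smul hfr, ne_eq, ite_eq_right_iff, Classical.not_imp] at hp hq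
    exact hpq (hp.1.symm.trans hq.1)
  · have hz : ∀ k, bf Q c (α • e p' + β • e q') (e k) ≠ 0 → k = p' ∨ k = q' := by
      intro k hk
      by_contra hcon
      push Not at hcon
      exact hk (by rw [bf_add_left hfr, coord_smul hfr, coord_smul hfr, if_neg hcon.1.symm, if_neg hcon.2.symm,
        add_zero])
    rcases h with ⟨r, hrp, hrq, hr⟩ | h
    · rcases hz r hr with rfl | rfl <;> rcases hz p hp with rfl | rfl <;> rcases hz q hq with rfl | rfl <;>
        first | exact hrp rfl | exact hrq rfl | exact hpq rfl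
    · rcases hz p hp with rfl | rfl <;>
        rw [bf_add_left hfr, coord_smul hfr, coord_smul hfr] at h
      · rw [if_pos rfl, if_neg hne.symm, add_zero] at h; exact h hα
      · rw [if_pos rfl, if_neg hne, zero_add] at h; exact h hβ

open scoped Classical in
/-- A monomial involution moves at most twice as many frame vectors as the dimension of its displacement. -/
theorem moved_le {g : GL ι F} (hg : FMon e g) (hgI : g ∈ isometryGroup F Q) (hg2 : g * g = 1)
    {W : Submodule F (ι → F)} (hW : ∀ k, mv g (e k) - e k ∈ W) {r : ℕ} (hr : Module.finrank F W ≤ r) :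
    (Finset.univ.filter fun k => mv g (e k) ≠ e k).card ≤ 2 * r := by
  obtain ⟨π, a, ha1, ha⟩ := FMon.perm hfr hg hgI
  have hππ : ∀ k, π (π k) = k := fun k => by
    have h : mv g (mv g (e k)) = e k := by rw [← mv_mul, hg2, mv_one]
    rw [ha, mv_smul, ha, smul_smul] at h
    by_contra hne
    have h' := congrArg (fun z => bf Q c z (e k)) h
    simp only [coord_smul hfr, if_neg hne, frame_self hfr] at h'
    exact zero_ne_one h'
  set Mv := Finset.univ.filter fun k => mv g (e k) ≠ e k with hMv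
  set R := Mv.filter fun k => k ≤ π k with hR
  have hcover : Mv ⊆ R ∪ R.image π := by
    intro k hk
    by_cases hle : k ≤ π k
    · exact Finset.mem_union_left _ (Finset.mem_filter.2 ⟨hk, hle⟩)
    · refine Finset.mem_union_right _ (Finset.mem_image.2 ⟨π k, Finset.mem_filter.2 ⟨?_, ?_⟩, hππ k⟩)
      · refine Finset.mem_filter.2 ⟨Finset.mem_univ _, fun h => ?_⟩
        rw [ha, hππ] at h
        have h' := congrArg (fun z => bf Q c z (e (π k))) h
        simp only [coord_smul hfr, if_neg (fun h'' : k = π k => hle h''.le), frame_self hfr] at h'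
        exact zero_ne_one h'
      · rw [hππ]; exact (not_le.1 hle).le
  have hR' : R.card ≤ r := by
    have hli : LinearIndependent F fun k : R => (⟨mv g (e k.1) - e k.1, hW k.1⟩ : W) := by
      refine LinearIndependent.of_comp W.subtype ?_
      rw [Fintype.linearIndependent_iff]
      intro a' hc k
      have h := congrArg (fun z => bf Q c z (e k.1)) hc
      simp only [Function.comp_apply, Submodule.coe_subtype, bf_sum_left hfr, bf_smul_left hfr,
        bf_zero_left hfr] at h
      rw [Finset.sum_eq_single k] at h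
      · refine (mul_eq_zero.1 h).resolve_right fun h0 => ?_
        rw [ha, bf_sub_left hfr, coord_smul hfr, frame_self hfr] at h0
        split_ifs at h0 with hfix
        · have hmv := (Finset.mem_filter.1 (Finset.mem_filter.1 k.2).1).2
          rw [ha, hfix, sub_eq_zero.1 h0, one_smul] at hmv
          exact hmv rfl
        · rw [zero_sub, neg_eq_zero] at h0
          exact one_ne_zero h0
      · intro l _ hlk
        have hne : l.1 ≠ k.1 := fun h' => hlk (Subtype.ext h')
        have hne' : π l.1 ≠ k.1 := by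
          intro h'
          have h1 := (Finset.mem_filter.1 l.2).2
          have h2 := (Finset.mem_filter.1 k.2).2
          rw [← h', hππ] at h2
          exact hne (by rw [← h']; exact le_antisymm h1 h2)
        rw [ha, bf_sub_left hfr, coord_smul hfr, if_neg hne', frame_other hfr hne, sub_zero, mul_zero]
      · simp
    have := hli.fintype_card_le_finrank
    rw [Fintype.card_coe] at this
    omega
  calc Mv.card ≤ (R ∪ R.image π).card := Finset.card_le_card hcover
    _ ≤ R.card + (R.image π).card := Finset.card_union_le _ _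
    _ ≤ R.card + R.card := Nat.add_le_add_left Finset.card_image_le _
    _ ≤ 2 * r := by omega

/-- A monomial conjugate of a sign element forces sparse columns. -/
theorem sparse_of_conj {x w : GL ι F} (hxI : x ∈ isometryGroup F Q) (hwI : w ∈ isometryGroup F Q)
    {W : Finset (Fin t)} (hw : Signs e W w) (hmon : FMon e (x * w * x⁻¹)) :
    ∃ S : Finset (Fin t), S.card ≤ 2 * W.card ∧ ∀ k ∈ W, ∀ l, l ∉ S → bf Q c (mv x (e k)) (e l) = 0 := by
  classical
  have hgI : x * w * x⁻¹ ∈ isometryGroup F Q :=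
    Subgroup.mul_mem _ (Subgroup.mul_mem _ hxI hwI) (Subgroup.inv_mem _ hxI)
  have hsq : (x * w * x⁻¹) * (x * w * x⁻¹) = 1 := by
    rw [show (x * w * x⁻¹) * (x * w * x⁻¹) = x * (w * w) * x⁻¹ by group, Signs.mul_self hfr hw, mul_one,
      mul_inv_cancel]
  set Sp := Submodule.span F ((W.image fun k => mv x (e k) : Finset (ι → F)) : Set (ι → F)) with hSp
  have hmem : ∀ y, mv (x * w * x⁻¹) y - y ∈ Sp := by
    intro y
    have hwz : ∀ z, mv w z - z = ∑ i ∈ W, (-(2 * bf Q c z (e i))) • e i := fun z => coord_ext hfr fun l => by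
      rw [bf_sub_left hfr, Signs.coord hfr hw, coord_sum hfr]
      split_ifs <;> ring
    have he : mv (x * w * x⁻¹) y - y = mv x (mv w (mv x⁻¹ y) - mv x⁻¹ y) := by
      rw [mv_sub, mv_mv_inv, mv_mul, mv_mul]
    rw [he, hwz, mv_sum]
    exact Submodule.sum_mem _ fun i hi => by
      rw [mv_smul]
      exact Submodule.smul_mem _ _ (Submodule.subset_span (Finset.mem_coe.2 (Finset.mem_image_of_mem _ hi)))
  refine ⟨Finset.univ.filter fun k => mv (x * w * x⁻¹) (e k) ≠ e k,
    moved_le hfr hmon hgI hsq (fun k => hmem (e k))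
      ((finrank_span_finset_le_card _).trans Finset.card_image_le), fun k hk l hl => ?_⟩
  simp only [Finset.mem_filter, Finset.mem_univ, true_and, not_not] at hl
  have h := bf_mv hfr hgI (mv x (e k)) (e l)
  rw [hl, mv_mul, mv_mul, mv_inv_mv, hw k, if_pos hk, mv_neg, bf_neg_left hfr] at h
  have : (2 : F) * bf Q c (mv x (e k)) (e l) = 0 := by linear_combination -h
  exact (mul_eq_zero.1 this).resolve_left hfr.two

omit hfr in
/-- Every element with a small column is monomial. -/
def Rigid (e : Fin t → ι → F) (M : Subgroup (GL ι F)) : Prop :=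
  ∀ g ∈ M, ∀ a, Small e (mv g (e a)) → FMon e g

end Cfsg.Agent.Transvec.OFr

namespace Cfsg.Agent.Transvec.OFr

open scoped Matrix
open Matrix Cfsg.Agent.Transvec Cfsg.Agent.Transvec.Orth

variable {ι : Type} [Fintype ι] [DecidableEq ι] {F : Type*} [Field F] [Fintype F] {Q : (ι → F) → F}
variable {t : ℕ} {e : Fin t → ι → F} {c : F} {M : Subgroup (GL ι F)} (hC : Ctx Q e c M)
include hC

theorem fmon_of_sparse_small (hNX : Rigid e M) {g : GL ι F} (hg : g ∈ M)
    {a : Fin t} {A : Finset (Fin t)} (hA : A.card + 5 ≤ t) (hcol : ∀ l, l ∉ A → bf Q c (mv g (e a)) (e l) = 0) :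
    FMon e g := by
  classical
  have hfr := hC.fr
  have h2 := hfr.two
  have ht := hC.ht
  set Z := Aᶜ with hZ
  have hZc : 5 ≤ Z.card := by rw [hZ, Finset.card_compl, Fintype.card_fin]; omega
  set x : Fin t → ι → F := fun i => mv g⁻¹ (e i) with hx
  have hgI := le_isometry hC hg
  have hgiI := le_isometry hC (M.inv_mem hg)
  have hpair : ∀ i ∈ Z, ∀ d ∈ Z, i ≠ d → ∃ S : Finset (Fin t), S.card ≤ 4 ∧
      ∀ l, l ∉ S → bf Q c (x i) (e l) = 0 ∧ bf Q c (x d) (e l) = 0 := by
    intro i hi d hd hid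
    rw [hZ, Finset.mem_compl] at hi hd
    have huM := pair_frame_mem hC i d
    have hu := signs_pair hfr hid
    set u := R Q (e i) * R Q (e d)
    have hfix : mv u (mv g (e a)) = mv g (e a) := coord_ext hfr fun l => by
      rw [Signs.coord hfr hu]
      split_ifs with hl
      · simp only [Finset.mem_insert, Finset.mem_singleton] at hl
        have h0 : bf Q c (mv g (e a)) (e l) = 0 := by rcases hl with rfl | rfl <;> apply hcol <;> assumption
        rw [h0, neg_zero]
      · rfl
    have hmon := hNX _ (M.mul_mem (M.mul_mem (M.inv_mem hg) huM) hg) a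
      (Or.inl ⟨a, 1, by rw [mv_mul, mv_mul, hfix, mv_inv_mv, one_smul]⟩)
    obtain ⟨S, hS, hS'⟩ := sparse_of_conj hfr hgiI (le_isometry hC huM) hu (by rwa [inv_inv])
    refine ⟨S, by rw [Finset.card_pair hid] at hS; omega, fun l hl => ⟨hS' i ?_ l hl, hS' d ?_ l hl⟩⟩ <;> simp
  obtain ⟨i, hi, d, hd, j, hij, hdj⟩ :
      ∃ i ∈ Z, ∃ d ∈ Z, ∃ j, bf Q c (x i) (e j) ≠ 0 ∧ bf Q c (x d) (e j) = 0 := by
    by_contra hcon
    push Not at hcon
    obtain ⟨c₀, hc₀, d₀, hd₀, hcd₀⟩ := Finset.one_lt_card.1 (show 1 < Z.card by omega)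
    obtain ⟨S, hS, hS'⟩ := hpair c₀ hc₀ d₀ hd₀ hcd₀
    have := orth_family_card hfr (fun i : Z => x i.1)
      (fun i => by simp only [hx, bf_mv hfr hgiI, frame_self hfr]; exact one_ne_zero)
      (fun i d h => by simp only [hx, bf_mv hfr hgiI]; exact frame_other hfr fun h' => h (Subtype.ext h'))
      S (fun i l hl => by
        by_contra hne
        exact hcon i.1 i.2 c₀ hc₀ l hne (hS' l hl).1)
    rw [Fintype.card_coe] at this
    omega
  have hid : i ≠ d := fun h => hij (h ▸ hdj)
  obtain ⟨S, hS, hS'⟩ := hpair i hi d hd hid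
  obtain ⟨m, -, hm⟩ := Finset.exists_mem_notMem_of_card_lt_card (s := S) (t := (Finset.univ : Finset (Fin t)))
    (by rw [Finset.card_univ, Fintype.card_fin]; omega)
  have hjm : j ≠ m := fun h => hij (h ▸ (hS' m hm).1)
  set xc := bf Q c (x i) (e j) with hxc
  have hwM := pair_frame_mem hC j m
  have hw := signs_pair hfr hjm
  set w := R Q (e j) * R Q (e m)
  have hwz : ∀ z, bf Q c z (e m) = 0 → mv w z = z - (2 * bf Q c z (e j)) • e j := fun z hz =>
    coord_ext hfr fun k => by
      rw [Signs.coord hfr hw, bf_sub_left hfr, coord_smul hfr]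
      simp only [Finset.mem_insert, Finset.mem_singleton]
      rcases eq_or_ne k j with rfl | hkj
      · rw [if_pos (Or.inl rfl), if_pos rfl]; ring
      rcases eq_or_ne k m with rfl | hkm
      · rw [if_pos (Or.inr rfl), if_neg hjm, hz]; ring
      rw [if_neg (by tauto), if_neg hkj.symm, sub_zero]
  have hfixd : mv w (x d) = x d := by
    rw [hwz _ (hS' m hm).2, hdj, mul_zero, zero_smul, sub_zero]
  have hmon := hNX _ (M.mul_mem (M.mul_mem hg hwM) (M.inv_mem hg)) d
    (Or.inl ⟨d, 1, by rw [mv_mul, mv_mul, show mv g⁻¹ (e d) = x d from rfl, hfixd, mv_mv_inv, one_smul]⟩)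
  obtain ⟨l, α, hl⟩ := hmon i
  rw [mv_mul, mv_mul, show mv g⁻¹ (e i) = x i from rfl, hwz _ (hS' m hm).1, ← hxc, mv_sub, mv_smul,
    show mv g (x i) = e i from mv_mv_inv g (e i)] at hl
  have hcoef : 2 * xc ≠ 0 := mul_ne_zero h2 hij
  have hge : mv g (e j) = (2 * xc)⁻¹ • (e i - α • e l) := by
    rw [eq_inv_smul_iff₀ hcoef, ← hl]; abel
  refine hNX g hg j ?_
  rcases eq_or_ne l i with rfl | hli
  · exact Or.inl ⟨l, (2 * xc)⁻¹ * (1 - α), by rw [hge]; module⟩
  refine Or.inr ⟨i, l, (2 * xc)⁻¹, -((2 * xc)⁻¹ * α), hli.symm, by rw [hge]; module, ?_⟩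
  have hgje : bf Q c (mv g (e j)) (e i) = xc := by
    conv_lhs => rw [← mv_mv_inv g (e i), bf_mv hfr hgI, bf_comm]
  rw [hge, bf_smul_left hfr, bf_sub_left hfr, coord_smul hfr, frame_self hfr, if_neg hli, sub_zero, mul_one] at hgje
  have hN : 2 * ((2 * xc)⁻¹ * (2 * xc)⁻¹) = 1 := by
    conv_lhs => arg 2; arg 2; rw [hgje]
    field_simp
  have hnorm : (2 * xc)⁻¹ * (2 * xc)⁻¹ * (1 + α * α) = 1 := by
    have h := bf_mv hfr hgI (e j) (e j)
    rw [hge, frame_self hfr] at h
    simp only [bf_smul_left hfr, bf_smul_right hfr, bf_sub_left hfr, bf_sub_right hfr, frame_self hfr,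
      frame_other hfr hli, frame_other hfr hli.symm] at h
    linear_combination h
  refine ⟨hN, ?_⟩
  linear_combination 2 * hnorm - hN

/-- A column with few entries makes an element monomial. -/
theorem fmon_of_sparse (hNX : Rigid e M) (h10 : 10 ≤ t) {g : GL ι F} (hg : g ∈ M)
    {a : Fin t} {A : Finset (Fin t)} (hA : A.card ≤ 8) (hcol : ∀ l, l ∉ A → bf Q c (mv g (e a)) (e l) = 0) :
    FMon e g := by
  classical
  have hfr := hC.fr
  have ht := hC.ht
  obtain ⟨i, hi, d, hd, hid⟩ := Finset.one_lt_card.1 (show 1 < Aᶜ.card by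
    rw [Finset.card_compl, Fintype.card_fin]; omega)
  rw [Finset.mem_compl] at hi hd
  have hgI := le_isometry hC hg
  have hgiI := le_isometry hC (M.inv_mem hg)
  have huM := pair_frame_mem hC i d
  have hu := signs_pair hfr hid
  set u := R Q (e i) * R Q (e d)
  have hfix : mv u (mv g (e a)) = mv g (e a) := coord_ext hfr fun l => by
    rw [Signs.coord hfr hu]
    split_ifs with hl
    · simp only [Finset.mem_insert, Finset.mem_singleton] at hl
      have h0 : bf Q c (mv g (e a)) (e l) = 0 := by rcases hl with rfl | rfl <;> apply hcol <;> assumption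
      rw [h0, neg_zero]
    · rfl
  have hmon := hNX _ (M.mul_mem (M.mul_mem (M.inv_mem hg) huM) hg) a
    (Or.inl ⟨a, 1, by rw [mv_mul, mv_mul, hfix, mv_inv_mv, one_smul]⟩)
  obtain ⟨S, hS, hS'⟩ := sparse_of_conj hfr hgiI (le_isometry hC huM) hu (by rwa [inv_inv])
  rw [Finset.card_pair hid] at hS
  -- a pair outside the column of the inverse
  obtain ⟨m, hm, m', hm', hmm⟩ := Finset.one_lt_card.1 (show 1 < Sᶜ.card by
    rw [Finset.card_compl, Fintype.card_fin]; omega)
  rw [Finset.mem_compl] at hm hm'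
  have hwM := pair_frame_mem hC m m'
  have hw := signs_pair hfr hmm
  set w := R Q (e m) * R Q (e m')
  have hfixd : mv w (mv g⁻¹ (e d)) = mv g⁻¹ (e d) := coord_ext hfr fun l => by
    rw [Signs.coord hfr hw]
    split_ifs with hl
    · simp only [Finset.mem_insert, Finset.mem_singleton] at hl
      have h0 : bf Q c (mv g⁻¹ (e d)) (e l) = 0 := by
        rcases hl with rfl | rfl <;> apply hS' d (by simp) <;> assumption
      rw [h0, neg_zero]
    · rfl
  have hmon' := hNX _ (M.mul_mem (M.mul_mem hg hwM) (M.inv_mem hg)) d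
    (Or.inl ⟨d, 1, by rw [mv_mul, mv_mul, hfixd, mv_mv_inv, one_smul]⟩)
  obtain ⟨T, hT, hT'⟩ := sparse_of_conj hfr hgI (le_isometry hC hwM) hw hmon'
  rw [Finset.card_pair hmm] at hT
  exact fmon_of_sparse_small hC hNX hg (a := m) (A := T) (by omega) (hT' m (by simp))

/-- A sign element on all frame vectors but one, for an odd frame. -/
theorem exists_signs_cosingle (hodd : Odd t) (m : Fin t) :
    ∃ g ∈ M, Signs e (Finset.univ.erase m) g := by
  classical
  suffices h : ∀ n, ∀ W : Finset (Fin t), W.card = 2 * n → ∃ g ∈ M, Signs e W g by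
    obtain ⟨r, hr⟩ := hodd
    exact h r _ (by rw [Finset.card_erase_of_mem (Finset.mem_univ _), Finset.card_univ, Fintype.card_fin]; omega)
  intro n
  induction n with
  | zero =>
    intro W hW
    obtain rfl : W = ∅ := Finset.card_eq_zero.1 (by omega)
    exact ⟨1, M.one_mem, fun k => by rw [mv_one, if_neg (by simp)]⟩
  | succ n ih =>
    intro W hW
    obtain ⟨a, ha, b, hb, hab⟩ := Finset.one_lt_card.1 (show 1 < W.card by omega)
    have hb' : b ∈ W.erase a := Finset.mem_erase.2 ⟨hab.symm, hb⟩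
    obtain ⟨g, hg, hgs⟩ := ih ((W.erase a).erase b) (by
      rw [Finset.card_erase_of_mem hb', Finset.card_erase_of_mem ha]; omega)
    refine ⟨g * (R Q (e a) * R Q (e b)), M.mul_mem hg (pair_frame_mem hC a b), fun k => ?_⟩
    rw [mv_mul, signs_pair hC.fr hab k]
    rcases eq_or_ne k a with rfl | hka
    · rw [if_pos (Finset.mem_insert_self _ _), mv_neg, hgs, if_neg (by simp), if_pos ha]
    rcases eq_or_ne k b with rfl | hkb
    · rw [if_pos (by simp), mv_neg, hgs, if_neg (by simp), if_pos hb]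
    rw [if_neg (by simp [hka, hkb]), hgs]
    exact if_congr (by simp [hka, hkb]) rfl rfl

/-- A monomial conjugate of such an element makes the conjugating element monomial. -/
theorem fmon_of_cosingle (hNX : Rigid e M) {g s : GL ι F} (hg : g ∈ M) (hs : s ∈ M) {m : Fin t}
    (hsg : Signs e (Finset.univ.erase m) s) (hmon : FMon e (g * s * g⁻¹)) : FMon e g := by
  classical
  have hfr := hC.fr
  have hgI := le_isometry hC hg
  have hzI := le_isometry hC (M.mul_mem (M.mul_mem hg hs) (M.inv_mem hg))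
  set z := g * s * g⁻¹ with hz
  set u := mv g (e m) with hu
  have huu : bf Q c u u = 1 := by rw [hu, bf_mv hfr hgI, frame_self hfr]
  -- the fixed vectors
  have hfix : ∀ v, mv z v = v → ∃ l : F, v = l • u := by
    intro v hv
    refine ⟨bf Q c (mv g⁻¹ v) (e m), ?_⟩
    have h1 : mv s (mv g⁻¹ v) = mv g⁻¹ v := by
      rw [hz, mv_mul, mv_mul] at hv
      exact ((mv_eq_iff g).1 hv)
    have h2 : mv g⁻¹ v = bf Q c (mv g⁻¹ v) (e m) • e m := coord_ext hfr fun k => by
      rw [coord_smul hfr]
      rcases eq_or_ne m k with rfl | hmk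
      · rw [if_pos rfl]
      rw [if_neg hmk]
      have h3 := Signs.coord hfr hsg (mv g⁻¹ v) k
      rw [h1, if_pos (Finset.mem_erase.2 ⟨hmk.symm, Finset.mem_univ _⟩)] at h3
      exact (mul_eq_zero.1 (show (2 : F) * bf Q c (mv g⁻¹ v) (e k) = 0 by linear_combination h3)).resolve_left hfr.two
    conv_lhs => rw [← mv_mv_inv g v, h2, mv_smul]
  have hzu : mv z u = u := by
    rw [hu, hz, mv_mul, mv_mul, mv_inv_mv, hsg, if_neg (by simp)]
  refine hNX g hg m ?_
  obtain ⟨π, a, ha1, ha⟩ := FMon.perm hfr hmon hzI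
  by_cases hperm : ∃ k, π k ≠ k
  · obtain ⟨k, hk⟩ := hperm
    have hzz : z * z = 1 := by
      rw [hz, show g * s * g⁻¹ * (g * s * g⁻¹) = g * (s * s) * g⁻¹ by group, Signs.mul_self hfr hsg, mul_one,
        mul_inv_cancel]
    have hback : mv z (e (π k)) = a k • e k := by
      have h : mv z (mv z (e k)) = e k := by rw [← mv_mul, hzz, mv_one]
      rw [ha k, mv_smul] at h
      conv_rhs => rw [← h]
      rw [smul_smul, ha1, one_smul]
    obtain ⟨l, hl⟩ := hfix (e k + a k • e (π k)) (by
      rw [mv_add, mv_smul, hback, ha k, smul_smul, ha1, one_smul]; abel)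
    have h2 : bf Q c (e k + a k • e (π k)) (e k + a k • e (π k)) = 2 := by
      simp only [bf_add_left hfr, bf_add_right hfr, bf_smul_left hfr, bf_smul_right hfr, frame_self hfr,
        frame_other hfr hk, frame_other hfr (Ne.symm hk)]
      linear_combination ha1 k
    rw [hl, bf_smul_left hfr, bf_smul_right hfr, huu, mul_one] at h2
    have hl0 : l ≠ 0 := fun h => hfr.two (by rw [← h2, h, mul_zero])
    refine Or.inr ⟨k, π k, l⁻¹, l⁻¹ * a k, Ne.symm hk, ?_, ?_, ?_⟩
    · rw [← hu, show u = l⁻¹ • (e k + a k • e (π k)) by rw [hl, smul_smul, inv_mul_cancel₀ hl0, one_smul],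
        smul_add, smul_smul]
    · field_simp; linear_combination -h2
    · field_simp; linear_combination 2 * ha1 k - h2
  push Not at hperm
  by_cases hone : ∃ k, a k = 1
  · obtain ⟨k, hk⟩ := hone
    obtain ⟨l, hl⟩ := hfix (e k) (by rw [ha k, hk, hperm, one_smul])
    have hl0 : l ≠ 0 := fun h => frame_ne hfr k (by rw [hl, h, zero_smul])
    exact Or.inl ⟨k, l⁻¹, by rw [← hu, hl, smul_smul, inv_mul_cancel₀ hl0, one_smul]⟩
  push Not at hone
  exfalso
  have hneg : ∀ k, mv z (e k) = -e k := fun k => by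
    rw [ha k, hperm, (mul_self_eq_one_iff.1 (ha1 k)).resolve_left (hone k), neg_one_smul]
  have hu0 : u = 0 := eq_zero_of_coord hfr fun k => by
    have h := bf_mv hfr hzI u (e k)
    rw [hzu, hneg, bf_neg_right hfr] at h
    exact (mul_eq_zero.1 (show (2 : F) * bf Q c u (e k) = 0 by linear_combination -h)).resolve_left hfr.two
  rw [hu0, bf_zero_left hfr] at huu
  exact zero_ne_one huu

/-- For an odd frame, commuting with a proper sign element forces monomiality. -/
theorem fmon_of_comm_odd (hNX : Rigid e M) (hodd : Odd t) {y i : GL ι F} (hy : y ∈ M) {A : Finset (Fin t)}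
    (hA : A.Nonempty) (hA' : A ≠ Finset.univ) (hi : Signs e A i) (hcomm : i * y = y * i) : FMon e y := by
  classical
  have hfr := hC.fr
  obtain ⟨a, ha⟩ := hA
  obtain ⟨m, hm⟩ : ∃ m, m ∉ A := by
    by_contra h
    push Not at h
    exact hA' (Finset.eq_univ_of_forall h)
  obtain ⟨s, hs, hsg⟩ := exists_signs_cosingle hC hodd m
  refine fmon_of_cosingle hC hNX hy hs hsg (hNX _ (M.mul_mem (M.mul_mem hy hs) (M.inv_mem hy)) a
    (Or.inl ⟨a, -1, ?_⟩))
  have hiy : i * y⁻¹ = y⁻¹ * i := by
    rw [eq_inv_mul_iff_mul_eq, ← mul_assoc, ← hcomm, mul_inv_cancel_right]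
  have hneg : mv s (mv y⁻¹ (e a)) = -mv y⁻¹ (e a) := coord_ext hfr fun k => by
    rw [Signs.coord hfr hsg, bf_neg_left hfr]
    split_ifs with hk
    · rfl
    obtain rfl : k = m := by simpa using hk
    have h := Signs.coord hfr hi (mv y⁻¹ (e a)) k
    rw [← mv_mul, hiy, mv_mul, hi a, if_pos ha, mv_neg, bf_neg_left hfr, if_neg hm] at h
    exact h.symm
  rw [mv_mul, mv_mul, hneg, mv_neg, mv_mv_inv, neg_one_smul]

/-- For an odd frame, a monomial conjugate of a sign element forces monomiality. -/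
theorem fmon_of_conj_odd (hNX : Rigid e M) (hodd : Odd t) {x w : GL ι F} (hx : x ∈ M) (hwM : w ∈ M)
    {W : Finset (Fin t)} (hW : W.Nonempty) (hW' : W ≠ Finset.univ) (hw : Signs e W w)
    (hmon : FMon e (x * w * x⁻¹)) : FMon e x := by
  classical
  have hfr := hC.fr
  set v := x * w * x⁻¹ with hv
  have hvI := le_isometry hC (M.mul_mem (M.mul_mem hx hwM) (M.inv_mem hx))
  have hvv : v * v = 1 := by
    rw [hv, show x * w * x⁻¹ * (x * w * x⁻¹) = x * (w * w) * x⁻¹ by group, Signs.mul_self hfr hw, mul_one,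
      mul_inv_cancel]
  obtain ⟨π, a, ha1, ha⟩ := FMon.perm hfr hmon hvI
  have hππ : ∀ k, π (π k) = k := fun k => by
    have h : mv v (mv v (e k)) = e k := by rw [← mv_mul, hvv, mv_one]
    rw [ha, mv_smul, ha, smul_smul] at h
    by_contra hne
    have h' := congrArg (fun z => bf Q c z (e k)) h
    simp only [coord_smul hfr, if_neg hne, frame_self hfr] at h'
    exact zero_ne_one h'
  obtain ⟨r, hr⟩ := hodd
  obtain ⟨k, hk⟩ := Equiv.Perm.exists_fixed_point_of_prime (p := 2) (n := 1) (σ := π)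
    (by rw [Fintype.card_fin]; omega) (Equiv.ext fun k => by simp [pow_two, hππ])
  obtain ⟨s, hs, hsg⟩ := exists_signs_cosingle hC ⟨r, hr⟩ k
  have hsv : s * v = v * s := ext_frame hfr fun l => by
    rw [mv_mul s v, mv_mul v s, ha, mv_smul, hsg, hsg]
    rcases eq_or_ne l k with rfl | hlk
    · rw [hk, if_neg (by simp), ha, hk]
    · rw [if_pos (Finset.mem_erase.2 ⟨fun h => hlk (π.injective (h.trans hk.symm)), Finset.mem_univ _⟩),
        if_pos (Finset.mem_erase.2 ⟨hlk, Finset.mem_univ _⟩), mv_neg, ha, smul_neg]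
  have hy : FMon e (x⁻¹ * s * x) := fmon_of_comm_odd hC hNX ⟨r, hr⟩
    (M.mul_mem (M.mul_mem (M.inv_mem hx) hs) hx) hW hW' hw (by
      have h1 : x⁻¹ * (s * v) * x = x⁻¹ * (v * s) * x := by rw [hsv]
      rw [show x⁻¹ * (v * s) * x = w * (x⁻¹ * s * x) by rw [hv]; group,
        show x⁻¹ * (s * v) * x = x⁻¹ * s * x * w by rw [hv]; group] at h1
      exact h1.symm)
  have := fmon_of_cosingle hC hNX (M.inv_mem hx) hs hsg (by rwa [inv_inv])
  simpa using FMon.inv hfr this (le_isometry hC (M.inv_mem hx))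

/-- The group is monomial or some non-monomial element has a small column. -/
theorem not_rigid (hnm : ∃ g ∈ M, ¬ FMon e g) :
    ∃ g ∈ M, ¬ FMon e g ∧ ∃ a, Small e (mv g (e a)) := by
  classical
  have hfr := hC.fr
  have h2 := hfr.two
  have ht := hC.ht
  by_contra hcon
  push Not at hcon
  have hNX : Rigid e M := fun g hg a h => by
    by_contra hm; exact hcon g hg hm a h
  have hMI : ∀ g ∈ M, g ∈ isometryGroup F Q := fun g hg => le_isometry hC hg
  -- commuting with a sign element
  have hCo : ∀ y ∈ M, ∀ (A : Finset (Fin t)) (i : GL ι F), A.Nonempty → A.card ≤ 8 → Even A.card → Signs e A i →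
      i * y = y * i → FMon e y := by
    intro y hy A i hAne hA8 hAev hi hc
    rcases hC.hodd with h10 | hodd
    swap
    · refine fmon_of_comm_odd hC hNX hodd hy hAne (fun h => ?_) hi hc
      rw [h, Finset.card_univ, Fintype.card_fin] at hAev
      exact Nat.not_odd_iff_even.2 hAev hodd
    obtain ⟨a, ha⟩ := hAne
    refine fmon_of_sparse hC hNX h10 hy (a := a) hA8 fun l hl => ?_
    have h := Signs.coord hfr hi (mv y (e a)) l
    rw [← mv_mul, hc, mv_mul, hi a, if_pos ha, mv_neg, bf_neg_left hfr, if_neg hl] at h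
    exact (mul_eq_zero.1 (show (2 : F) * bf Q c (mv y (e a)) (e l) = 0 by linear_combination -h)).resolve_left h2
  -- conjugating a sign element into the monomial group
  have hX : ∀ x ∈ M, ∀ (W : Finset (Fin t)) (w : GL ι F), W.Nonempty → W.card ≤ 4 → w ∈ M → Signs e W w →
      FMon e (x * w * x⁻¹) → FMon e x := by
    intro x hx W w hWne hW hwM hw hm
    rcases hC.hodd with h10 | hodd
    swap
    · refine fmon_of_conj_odd hC hNX hodd hx hwM hWne (fun h => ?_) hw hm
      rw [h, Finset.card_univ, Fintype.card_fin] at hW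
      omega
    obtain ⟨a, ha⟩ := hWne
    obtain ⟨S, hS, hS'⟩ := sparse_of_conj hfr (hMI x hx) (hMI w hwM) hw hm
    exact fmon_of_sparse hC hNX h10 hx (a := a) (A := S) (by omega) (hS' a ha)
  obtain ⟨g, hg, hgm⟩ := hnm
  let p : Fin 4 → Fin t := fun i => ⟨i.1, by omega⟩
  have hp : Function.Injective p := fun i j h => Fin.ext (Fin.mk.inj_iff.1 h)
  have hp01 : p 0 ≠ p 1 := hp.ne (by decide)
  set w₂ := R Q (e (p 0)) * R Q (e (p 1))
  have hw₂M : w₂ ∈ M := pair_frame_mem hC _ _
  have hw₂ : Signs e {p 0, p 1} w₂ := signs_pair hfr hp01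
  set w₂' := R Q (e (p 2)) * R Q (e (p 3))
  have hw₂'M : w₂' ∈ M := pair_frame_mem hC _ _
  have hw₂' : Signs e {p 2, p 3} w₂' := signs_pair hfr (hp.ne (by decide))
  set B := Finset.univ.image p with hB
  have hB4 : B.card = 4 := by rw [hB, Finset.card_image_of_injective _ hp, Finset.card_univ, Fintype.card_fin]
  set u := w₂ * w₂' with hudef
  have huM : u ∈ M := M.mul_mem hw₂M hw₂'M
  have hu : Signs e B u := by
    intro k
    rw [hudef, mv_mul, hw₂']
    simp only [hB, Finset.mem_image, Finset.mem_univ, true_and, Finset.mem_insert, Finset.mem_singleton]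
    rcases eq_or_ne k (p 2) with rfl | h2'
    · rw [if_pos (Or.inl rfl), mv_neg, hw₂, if_neg (by simp [hp.eq_iff]), if_pos ⟨2, rfl⟩]
    rcases eq_or_ne k (p 3) with rfl | h3'
    · rw [if_pos (Or.inr rfl), mv_neg, hw₂, if_neg (by simp [hp.eq_iff]), if_pos ⟨3, rfl⟩]
    rw [if_neg (by tauto), hw₂]
    simp only [Finset.mem_insert, Finset.mem_singleton]
    congr 1
    refine propext ⟨fun h => ?_, fun ⟨i, hi⟩ => ?_⟩
    · rcases h with h | h
      · exact ⟨0, h.symm⟩
      · exact ⟨1, h.symm⟩
    · subst hi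
      fin_cases i
      · exact Or.inl rfl
      · exact Or.inr rfl
      · exact absurd rfl h2'
      · exact absurd rfl h3'
  have hW2 : ({p 0, p 1} : Finset (Fin t)).card ≤ 4 := Finset.card_le_two.trans (by norm_num)
  set t' := g * w₂ * g⁻¹ with ht'
  have ht'M : t' ∈ M := M.mul_mem (M.mul_mem hg hw₂M) (M.inv_mem hg)
  have ht'm : ¬ FMon e t' := fun h => hgm (hX g hg _ w₂ (Finset.insert_nonempty _ _) hW2 hw₂M hw₂ h)
  have ht'2 : t' * t' = 1 := by
    rw [ht', show g * w₂ * g⁻¹ * (g * w₂ * g⁻¹) = g * (w₂ * w₂) * g⁻¹ by group,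
      Signs.mul_self hfr hw₂, mul_one, mul_inv_cancel]
  rcases Herm.dihedral_cases (Signs.mul_self hfr hu) ht'2 with ⟨j, hj⟩ | ⟨m, hm1, hm2, hmu, hmt, j, hj⟩
  · -- the two involutions are not conjugate
    set y := (u * t') ^ j * g with hy
    have hyM : y ∈ M := M.mul_mem (M.pow_mem (M.mul_mem huM ht'M) j) hg
    have huy : u * y = y * w₂ := by
      have h1 : (u * t') ^ j * t' * ((u * t') ^ j)⁻¹ * y = y * w₂ := by rw [hy, ht']; group
      rwa [hj] at h1
    have := orth_family_card hfr (fun k : (({p 0, p 1} : Finset (Fin t))ᶜ : Finset (Fin t)) => mv y (e k.1))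
      (fun k => by rw [bf_mv hfr (hMI y hyM), frame_self hfr]; exact one_ne_zero)
      (fun k l h => by rw [bf_mv hfr (hMI y hyM)]; exact frame_other hfr fun h' => h (Subtype.ext h'))
      Bᶜ (fun k l hl => by
        rw [Finset.mem_compl, not_not] at hl
        have h := Signs.coord hfr hu (mv y (e k.1)) l
        rw [← mv_mul, huy, mv_mul, hw₂ k.1, if_neg (Finset.mem_compl.1 k.2), if_pos hl] at h
        exact (mul_eq_zero.1 (show (2 : F) * bf Q c (mv y (e k.1)) (e l) = 0 by
          linear_combination h)).resolve_left h2)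
    rw [Fintype.card_coe, Finset.card_compl, Finset.card_compl, Finset.card_pair hp01, hB4, Fintype.card_fin] at this
    omega
  · set i := (u * t') ^ m with hi
    have hiM : i ∈ M := M.pow_mem (M.mul_mem huM ht'M) m
    have hBne : B.Nonempty := Finset.card_pos.1 (by omega)
    have him : FMon e i := hCo i hiM B u hBne (by omega) ⟨2, hB4⟩ hu hmu
    have hium : FMon e (i * u) := FMon.mul him hu.fmon
    -- i u is conjugate to u or to w₂
    obtain ⟨x, hxM, W, w, hWne, hW, hWev, hwM, hw, hxw⟩ : ∃ x ∈ M, ∃ (W : Finset (Fin t)) (w : GL ι F), W.Nonempty ∧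
        W.card ≤ 4 ∧ Even W.card ∧ w ∈ M ∧ Signs e W w ∧ x * w * x⁻¹ = i * u := by
      rcases hj with hj | hj
      · exact ⟨_, M.pow_mem (M.mul_mem huM ht'M) j, B, u, hBne, hB4.le, ⟨2, hB4⟩, huM, hu, hj⟩
      · exact ⟨_, M.mul_mem (M.pow_mem (M.mul_mem huM ht'M) j) hg, {p 0, p 1}, w₂, Finset.insert_nonempty _ _,
          hW2, ⟨1, Finset.card_pair hp01⟩, hw₂M, hw₂, by rw [← hj, ht']; group⟩
    have hxm : FMon e x := hX x hxM W w hWne hW hwM hw (hxw ▸ hium)
    obtain ⟨π, a, ha1, ha⟩ := FMon.perm hfr hxm (hMI x hxM)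
    set W' := W.image π with hW'
    have hiu : Signs e W' (i * u) := by
      intro k
      obtain ⟨k', rfl⟩ := π.surjective k
      have hinv : mv x⁻¹ (e (π k')) = a k' • e k' := by
        refine ((mv_eq_iff x).1 ?_).symm
        rw [mv_smul, ha, smul_smul, ha1, one_smul]
      have hiff : π k' ∈ W' ↔ k' ∈ W := by simp [hW']
      rw [← hxw, mv_mul, mv_mul, hinv, mv_smul, hw]
      by_cases hk : k' ∈ W
      · rw [if_pos hk, if_pos (hiff.2 hk), mv_smul, mv_neg, ha, smul_neg, smul_smul, ha1, one_smul]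
      · rw [if_neg hk, if_neg fun h => hk (hiff.1 h), mv_smul, ha, smul_smul, ha1, one_smul]
    set A := (W' \ B) ∪ (B \ W') with hA
    have hiA : Signs e A i := by
      intro k
      have hieq : i = i * u * u := by rw [mul_assoc, Signs.mul_self hfr hu, mul_one]
      rw [hieq, mv_mul, hu k]
      simp only [hA, Finset.mem_union, Finset.mem_sdiff]
      by_cases hk1 : k ∈ B <;> by_cases hk2 : k ∈ W' <;> simp [hk1, hk2, mv_neg, hiu k]
    have hAne : A.Nonempty := by
      rcases A.eq_empty_or_nonempty with he | he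
      · exact absurd (ext_frame hfr fun k => by rw [hiA k, he, if_neg (Finset.notMem_empty k), mv_one]) hm1
      · exact he
    have hA8 : A.card ≤ 8 := by
      have h1 := Finset.card_union_le (W' \ B) (B \ W')
      have h2' : (W' \ B).card ≤ W'.card := Finset.card_le_card Finset.sdiff_subset
      have h3 : (B \ W').card ≤ B.card := Finset.card_le_card Finset.sdiff_subset
      have h4 : W'.card ≤ W.card := Finset.card_image_le
      rw [← hA] at h1
      omega
    have hAev : Even A.card := by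
      have h1 : A.card = (W' \ B).card + (B \ W').card := by
        rw [hA, Finset.card_union_of_disjoint disjoint_sdiff_sdiff]
      have h2' := Finset.card_sdiff_add_card_inter W' B
      have h3 := Finset.card_sdiff_add_card_inter B W'
      rw [Finset.inter_comm] at h3
      have h4 : W'.card = W.card := Finset.card_image_of_injective _ π.injective
      obtain ⟨r, hr⟩ := hWev
      exact ⟨r + 2 - (W' ∩ B).card, by omega⟩
    exact ht'm (hCo t' ht'M A i hAne hA8 hAev hiA hmt.symm)

/-- The group is monomial or has a centre which is not small. -/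
theorem exists_nice (hnm : ∃ g ∈ M, ¬ FMon e g) : ∃ x ∈ Cen Q e c M, ¬ Small e x := by
  classical
  have hfr := hC.fr
  obtain ⟨g, hg, hgm, a, ha⟩ := not_rigid hC hnm
  have hgI := le_isometry hC hg
  have hQ : ∀ b, Q (mv g (e b)) = c := fun b => by rw [mem_isometry.1 hgI, q_frame hfr]
  have hga : mv g (e a) ∈ Cen Q e c M := by
    rcases ha with ⟨l, k, hk⟩ | ⟨p, q, α, β, hpq, hv, hα, hβ⟩
    · have h1 := (value_iff hfr _).1 (hQ a)
      rw [hk, bf_smul_left hfr, bf_smul_right hfr, frame_self hfr, mul_one] at h1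
      rw [hk]
      rcases mul_self_eq_one_iff.1 h1 with h | h <;> rw [h]
      · rw [one_smul]; exact cen_frame hC l
      · rw [neg_one_smul]; exact cen_neg hC (cen_frame hC l)
    · rw [hv]; exact cen_root hC hpq hα hβ
  have hgX : ∀ y ∈ Cen Q e c M, mv g y ∈ Cen Q e c M := fun y hy => cen_mv hC hg (cen_frame hC a) hga hy
  by_contra hcon
  push Not at hcon
  -- some column is a root
  obtain ⟨b, hb⟩ : ∃ b, ∀ l, ∀ k : F, mv g (e b) ≠ k • e l := by
    by_contra h
    push Not at h
    exact hgm h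
  rcases hcon _ (hgX _ (cen_frame hC b)) with ⟨l, k, hk⟩ | ⟨p, q, α, β, hpq, hv, hα, hβ⟩
  · exact hb l k hk
  have hα0 : α ≠ 0 := fun h => by rw [h] at hα; simp at hα
  have hβ0 : β ≠ 0 := fun h => by rw [h] at hβ; simp at hβ
  have hvp : bf Q c (mv g (e b)) (e p) = α := by
    rw [hv, bf_add_left hfr, coord_smul hfr, coord_smul hfr, if_pos rfl, if_neg hpq.symm, add_zero]
  have hvq : bf Q c (mv g (e b)) (e q) = β := by
    rw [hv, bf_add_left hfr, coord_smul hfr, coord_smul hfr, if_pos rfl, if_neg hpq, zero_add]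
  -- another column leaving {p, q}
  obtain ⟨d, r, hrp, hrq, hdr⟩ : ∃ d r, r ≠ p ∧ r ≠ q ∧ bf Q c (mv g (e d)) (e r) ≠ 0 := by
    by_contra h
    push Not at h
    have := orth_family_card hfr (fun k : Fin t => mv g (e k))
      (fun k => by rw [bf_mv hfr hgI, frame_self hfr]; exact one_ne_zero)
      (fun k l hkl => by rw [bf_mv hfr hgI, frame_other hfr hkl]) {p, q}
      (fun k l hl => by
        simp only [Finset.mem_insert, Finset.mem_singleton, not_or] at hl
        exact h k l hl.1 hl.2)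
    rw [Fintype.card_fin, Finset.card_pair hpq] at this
    have := hC.ht
    omega
  have hdb : d ≠ b := by
    rintro rfl
    rw [hv, bf_add_left hfr, coord_smul hfr, coord_smul hfr, if_neg hrp.symm, if_neg hrq.symm, add_zero] at hdr
    exact hdr rfl
  have horth : bf Q c (mv g (e d)) (mv g (e b)) = 0 := by rw [bf_mv hfr hgI, frame_other hfr hdb]
  rw [hv, bf_add_right hfr, bf_smul_right hfr, bf_smul_right hfr] at horth
  have hy := hcon _ (hgX _ (cen_root hC hdb hα hα))
  rw [mv_add, mv_smul, mv_smul] at hy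
  by_cases hdp : bf Q c (mv g (e d)) (e p) = 0
  · have hdq : bf Q c (mv g (e d)) (e q) = 0 := by
      rw [hdp, mul_zero, zero_add] at horth
      exact (mul_eq_zero.1 horth).resolve_left hβ0
    refine not_small_of hfr hpq ?_ ?_ (Or.inl ⟨r, hrp, hrq, ?_⟩) hy
    · rw [bf_add_left hfr, bf_smul_left hfr, bf_smul_left hfr, hdp, hvp]
      simp [hα0]
    · rw [bf_add_left hfr, bf_smul_left hfr, bf_smul_left hfr, hdq, hvq]
      simp [hα0, hβ0]
    · rw [bf_add_left hfr, bf_smul_left hfr, bf_smul_left hfr]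
      rw [hv, bf_add_left hfr, coord_smul hfr, coord_smul hfr, if_neg hrp.symm, if_neg hrq.symm]
      simp [hα0, hdr]
  · have hdq : bf Q c (mv g (e d)) (e q) ≠ 0 := fun h => hdp (by
      rw [h, mul_zero, add_zero] at horth
      exact (mul_eq_zero.1 horth).resolve_left hα0)
    exact not_small_of hfr hpq hdp hdq (Or.inl ⟨r, hrp, hrq, hdr⟩) (hcon _ (hgX _ (cen_frame hC d)))

end Cfsg.Agent.Transvec.OFr
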