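/-
Finite subgroups of a three-dimensional rotation group of order prime to the characteristic: counting of poles.
-/
import Cfsg.Agent.Lib.Transvec.OrthPair
import Cfsg.Agent.Lib.Transvec.OrthParity
set_option autoImplicit false
set_option linter.unusedSectionVars false

namespace Cfsg.Agent.Transvec.SO3

open scoped Matrix
open Matrix Cfsg.Agent.Transvec Cfsg.Agent.Transvec.Orth

section Orbits

variable {G α : Type*} [Group G] [Fintype G] [DecidableEq α]

/-- The orbit of a point. -/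
def orb (act : G → α → α) (x : α) : Finset α := Finset.univ.image fun g => act g x

/-- The stabiliser of a point. -/
def stb (act : G → α → α) (x : α) : Finset G := Finset.univ.filter fun g => act g x = x

variable {act : G → α → α} (h1 : ∀ x, act 1 x = x) (hmul : ∀ g h x, act (g * h) x = act g (act h x))
include h1 hmul

theorem self_mem_orb (x : α) : x ∈ orb act x := Finset.mem_image.2 ⟨1, Finset.mem_univ _, h1 x⟩

theorem act_inv (g : G) (x : α) : act g⁻¹ (act g x) = x := by rw [← hmul, inv_mul_cancel, h1]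

theorem orb_eq {x y : α} (hy : y ∈ orb act x) : orb act y = orb act x := by
  obtain ⟨g, -, rfl⟩ := Finset.mem_image.1 hy
  ext z
  simp only [orb, Finset.mem_image, Finset.mem_univ, true_and]
  constructor
  · rintro ⟨h, rfl⟩; exact ⟨h * g, hmul h g x⟩
  · rintro ⟨h, rfl⟩; exact ⟨h * g⁻¹, by rw [hmul, act_inv h1 hmul]⟩

theorem orb_mul_stb (x : α) : (orb act x).card * (stb act x).card = Fintype.card G := by
  classical
  have h := Finset.card_eq_sum_card_image (fun g => act g x) (Finset.univ : Finset G)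
  rw [Finset.card_univ] at h
  rw [h, Finset.sum_const_nat (m := (stb act x).card) fun y hy => ?_]
  · rfl
  obtain ⟨g, -, rfl⟩ := Finset.mem_image.1 hy
  refine (Finset.card_bij (fun s _ => g * s) (fun s hs => ?_) (fun a _ b _ h => mul_left_cancel h)
    fun b hb => ?_).symm
  · simp only [stb, Finset.mem_filter, Finset.mem_univ, true_and] at hs ⊢
    rw [hmul, hs]
  · simp only [stb, Finset.mem_filter, Finset.mem_univ, true_and] at hb ⊢
    exact ⟨g⁻¹ * b, by rw [hmul, hb, act_inv h1 hmul], mul_inv_cancel_left g b⟩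

theorem stb_eq {x y : α} (hy : y ∈ orb act x) : (stb act y).card = (stb act x).card := by
  have e1 := orb_mul_stb h1 hmul x
  have e2 := orb_mul_stb h1 hmul y
  rw [orb_eq h1 hmul hy] at e2
  exact Nat.eq_of_mul_eq_mul_left (Finset.card_pos.2 ⟨x, self_mem_orb h1 hmul x⟩) (e2.trans e1.symm)

theorem sum_orb (x : α) : ∑ y ∈ orb act x, (stb act y).card = Fintype.card G := by
  rw [Finset.sum_const_nat fun y hy => stb_eq h1 hmul hy, orb_mul_stb h1 hmul x]

end Orbits

/-- The solutions of the orbit equation. -/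
theorem numeric {N a b d A B D : ℕ} (hA : a * A = N) (hB : b * B = N) (hD : d * D = N) (ha : 2 ≤ a) (hb : 2 ≤ b)
    (hd : 2 ≤ d) (hA3 : 3 ≤ A) (hB3 : 3 ≤ B) (hD3 : 3 ≤ D) (h : A + B + D = N + 2) :
    a ≤ 5 ∧ (a = 4 → A = 6 ∧ b ≠ 4 ∧ d ≠ 4) := by
  have core : ∀ {a b d A B D : ℕ}, a * A = N → b * B = N → d * D = N → a = 2 → 3 ≤ b → b ≤ d →
      3 ≤ A → 3 ≤ D → A + B + D = N + 2 → b = 3 ∧ d ≤ 5 ∧ (d = 4 → D = 6) := by
    intro a b d A B D hA hB hD ha hb hbd hA3 hD3 h
    subst ha
    have hb3 : b = 3 := by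
      by_contra hne
      have : 4 ≤ b := by omega
      have h1 : 4 * B ≤ N := hB ▸ Nat.mul_le_mul_right B this
      have h2 : 4 * D ≤ N := hD ▸ Nat.mul_le_mul_right D (by omega)
      omega
    subst hb3
    refine ⟨rfl, ?_, fun h4 => by subst h4; omega⟩
    by_contra hgt
    have h2 : 6 * D ≤ N := hD ▸ Nat.mul_le_mul_right D (by omega)
    omega
  have hno : ∀ {a b d A B D : ℕ}, a * A = N → b * B = N → d * D = N → a = 2 → b = 2 →
      A + B + D = N + 2 → D = 2 := by
    intro a b d A B D hA hB _ ha hb h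
    subst ha hb
    omega
  have two : a = 2 ∨ b = 2 ∨ d = 2 := by
    by_contra hcon
    push Not at hcon
    have h1 : 3 * A ≤ N := hA ▸ Nat.mul_le_mul_right A (by omega)
    have h2 : 3 * B ≤ N := hB ▸ Nat.mul_le_mul_right B (by omega)
    have h3 : 3 * D ≤ N := hD ▸ Nat.mul_le_mul_right D (by omega)
    omega
  rcases two with rfl | rfl | rfl
  · exact ⟨by norm_num, fun h => absurd h (by norm_num)⟩
  · have ha' : 3 ≤ a := by
      by_contra h'
      have := hno hA hB hD (show a = 2 by omega) rfl h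
      omega
    have hd' : 3 ≤ d := by
      by_contra h'
      have := hno hB hD hA rfl (show d = 2 by omega) (by omega)
      omega
    rcases le_total a d with hle | hle
    · obtain ⟨h1, h2, h3⟩ := core hB hA hD rfl ha' hle hB3 hD3 (by omega)
      exact ⟨by omega, fun h4 => by omega⟩
    · obtain ⟨h1, h2, h3⟩ := core hB hD hA rfl hd' hle hB3 hA3 (by omega)
      exact ⟨h2, fun h4 => ⟨h3 h4, by norm_num, by omega⟩⟩
  · have ha' : 3 ≤ a := by
      by_contra h'
      have := hno hA hD hB (show a = 2 by omega) rfl (by omega)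
      omega
    have hb' : 3 ≤ b := by
      by_contra h'
      have := hno hB hD hA (show b = 2 by omega) rfl (by omega)
      omega
    rcases le_total a b with hle | hle
    · obtain ⟨h1, h2, h3⟩ := core hD hA hB rfl ha' hle hD3 hB3 (by omega)
      exact ⟨by omega, fun h4 => by omega⟩
    · obtain ⟨h1, h2, h3⟩ := core hD hB hA rfl hb' hle hD3 hA3 (by omega)
      exact ⟨h2, fun h4 => ⟨h3 h4, by omega, by norm_num⟩⟩

section Poles

variable {G α : Type*} [Group G] [Fintype G] [DecidableEq α]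
variable {act : G → α → α} (h1 : ∀ x, act 1 x = x) (hmul : ∀ g h x, act (g * h) x = act g (act h x))
include h1 hmul

/-- A group in which each non-trivial element fixes exactly two poles. -/
theorem pole_cases (P : Finset α) (hP : ∀ g, ∀ x ∈ P, act g x ∈ P)
    (htwo : ∀ g ≠ 1, (P.filter fun x => act g x = x).card = 2)
    (hst : ∀ x ∈ P, ∃ g ≠ 1, act g x = x) :
    (∃ x ∈ P, (orb act x).card ≤ 2) ∨ ∀ x ∈ P, (stb act x).card ≤ 5 ∧
      ((stb act x).card = 4 → (orb act x).card = 6 ∧ ∀ y ∈ P, (stb act y).card = 4 → y ∈ orb act x) := by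
  classical
  by_cases hsmall : ∃ x ∈ P, (orb act x).card ≤ 2
  · exact Or.inl hsmall
  push Not at hsmall
  refine Or.inr fun x hx => ?_
  set N := Fintype.card G with hN
  have hS2 : ∀ y ∈ P, 2 ≤ (stb act y).card := fun y hy => by
    obtain ⟨g, hg, hgy⟩ := hst y hy
    exact Finset.one_lt_card.2 ⟨g, Finset.mem_filter.2 ⟨Finset.mem_univ _, hgy⟩, 1,
      Finset.mem_filter.2 ⟨Finset.mem_univ _, h1 y⟩, hg⟩
  have htotal : ∑ y ∈ P, (stb act y).card + 2 = P.card + 2 * N := by
    have h : ∑ y ∈ P, (stb act y).card = ∑ g : G, (P.filter fun y => act g y = y).card := by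
      simp only [stb, Finset.card_filter]
      exact Finset.sum_comm
    rw [h, ← Finset.add_sum_erase _ _ (Finset.mem_univ (1 : G)),
      Finset.sum_const_nat fun g hg => htwo g (Finset.ne_of_mem_erase hg), Finset.card_erase_of_mem (Finset.mem_univ _),
      Finset.card_univ, Finset.filter_true_of_mem fun y _ => h1 y, ← hN]
    have : 0 < N := Fintype.card_pos
    omega
  -- removing the orbit of a point
  have peel : ∀ S ⊆ P, (∀ z ∈ S, orb act z ⊆ S) → ∀ z ∈ S,
      S.card = (orb act z).card + (S \ orb act z).card ∧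
      ∑ y ∈ S, (stb act y).card = N + ∑ y ∈ S \ orb act z, (stb act y).card ∧
      (S \ orb act z ⊆ P) ∧ ∀ w ∈ S \ orb act z, orb act w ⊆ S \ orb act z := by
    intro S hSP hS z hz
    refine ⟨?_, ?_, Finset.sdiff_subset.trans hSP, fun w hw v hv => ?_⟩
    · rw [Finset.card_sdiff_of_subset (hS z hz), Nat.add_sub_cancel' (Finset.card_le_card (hS z hz))]
    · rw [← Finset.sum_sdiff (hS z hz), sum_orb h1 hmul z, ← hN, add_comm]
    · rw [Finset.mem_sdiff] at hw ⊢
      refine ⟨hS w hw.1 hv, fun hvz => hw.2 ?_⟩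
      rw [← orb_eq h1 hmul hvz, orb_eq h1 hmul hv]
      exact self_mem_orb h1 hmul w
  have hPinv : ∀ z ∈ P, orb act z ⊆ P := fun z hz v hv => by
    obtain ⟨g, -, rfl⟩ := Finset.mem_image.1 hv
    exact hP g z hz
  obtain ⟨c1, s1, P1, i1⟩ := peel P Finset.Subset.rfl hPinv x hx
  have hN2 : 2 ≤ N := (hS2 x hx).trans (Finset.card_le_univ _)
  obtain ⟨y, hy⟩ : (P \ orb act x).Nonempty := by
    by_contra he
    rw [Finset.not_nonempty_iff_eq_empty] at he
    rw [he, Finset.card_empty] at c1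
    rw [he, Finset.sum_empty] at s1
    have := hsmall x hx
    omega
  obtain ⟨c2, s2, P2, i2⟩ := peel _ P1 i1 y hy
  obtain ⟨z, hz⟩ : ((P \ orb act x) \ orb act y).Nonempty := by
    by_contra he
    rw [Finset.not_nonempty_iff_eq_empty] at he
    rw [he, Finset.card_empty] at c2
    rw [he, Finset.sum_empty] at s2
    have := hsmall x hx
    omega
  obtain ⟨c3, s3, P3, i3⟩ := peel _ P2 i2 z hz
  set R := ((P \ orb act x) \ orb act y) \ orb act z with hR
  have hox : 2 * (orb act x).card ≤ N := by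
    rw [hN, ← sum_orb h1 hmul x, mul_comm, ← smul_eq_mul, ← Finset.sum_const]
    exact Finset.sum_le_sum fun v hv => hS2 v (hPinv x hx hv)
  have hoy : 2 * (orb act y).card ≤ N := by
    rw [hN, ← sum_orb h1 hmul y, mul_comm, ← smul_eq_mul, ← Finset.sum_const]
    exact Finset.sum_le_sum fun v hv => hS2 v (hPinv y (P1 hy) hv)
  have hoz : 2 * (orb act z).card ≤ N := by
    rw [hN, ← sum_orb h1 hmul z, mul_comm, ← smul_eq_mul, ← Finset.sum_const]
    exact Finset.sum_le_sum fun v hv => hS2 v (hPinv z (P2 hz) hv)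
  have hRe : R = ∅ := by
    by_contra hne
    obtain ⟨w, hw⟩ := Finset.nonempty_iff_ne_empty.2 hne
    have h2 : 2 * R.card ≤ ∑ v ∈ R, (stb act v).card := by
      rw [mul_comm, ← smul_eq_mul, ← Finset.sum_const]
      exact Finset.sum_le_sum fun v hv => hS2 v (P3 hv)
    have h3 : N ≤ ∑ v ∈ R, (stb act v).card := by
      rw [hN, ← sum_orb h1 hmul w]
      exact Finset.sum_le_sum_of_subset (i3 w hw)
    omega
  rw [hRe, Finset.card_empty] at c3
  rw [hRe, Finset.sum_empty] at s3
  have hx3 := hsmall x hx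
  have hy3 := hsmall y (P1 hy)
  have hz3 := hsmall z (P2 hz)
  have key := numeric (N := N) (a := (stb act x).card) (b := (stb act y).card) (d := (stb act z).card)
    (A := (orb act x).card) (B := (orb act y).card) (D := (orb act z).card)
    (by rw [mul_comm]; exact orb_mul_stb h1 hmul x) (by rw [mul_comm]; exact orb_mul_stb h1 hmul y)
    (by rw [mul_comm]; exact orb_mul_stb h1 hmul z) (hS2 x hx) (hS2 y (P1 hy)) (hS2 z (P2 hz))
    (by omega) (by omega) (by omega) (by omega)
  refine ⟨key.1, fun h4 => ⟨(key.2 h4).1, fun w hw hw4 => ?_⟩⟩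
  by_contra hwx
  by_cases hwy : w ∈ orb act y
  · exact (key.2 h4).2.1 (stb_eq h1 hmul hwy ▸ hw4)
  have hwz : w ∈ orb act z := by
    by_contra hwz
    have : w ∈ R := by simp [hR, hw, hwx, hwy, hwz]
    rw [hRe] at this
    exact Finset.notMem_empty w this
  exact (key.2 h4).2.2 (stb_eq h1 hmul hwz ▸ hw4)

end Poles

/-! ### Rotations of a non-degenerate three-space -/

variable {ι : Type} [Fintype ι] [DecidableEq ι] {F : Type*} [Field F] {Q : (ι → F) → F}

theorem isSiegel_pow (hQ : Geo.IsNondegenerateQuadraticForm Q) {g : GL ι F} {u y : ι → F} (hu : Q u = 0)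
    (hy : pol Q u y = 0) (h : IsSiegel Q g u y) : ∀ n : ℕ, IsSiegel Q (g ^ n) u ((n : F) • y) := by
  intro n
  induction n with
  | zero => rw [pow_zero, Nat.cast_zero, zero_smul]; exact isSiegel_zero hQ u
  | succ n ih =>
    rw [pow_succ, Nat.cast_succ, add_smul, one_smul]
    exact isSiegel_mul hQ hu (by rw [pol_smul_right hQ, hy, mul_zero]) hy ih h

variable [Fintype F] (hQ : Geo.IsNondegenerateQuadraticForm Q) (h2 : (2 : F) ≠ 0)
variable (hn : 5 ≤ Fintype.card ι) {U : Submodule F (ι → F)} (hU : Nondeg Q U) (h3 : Module.finrank F U = 3)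
include hQ h2 hn hU h3

omit h2 h3 in
/-- The rotations supported on U. -/
def rot : Subgroup (GL ι F) where
  carrier := {g | g ∈ isometryGroup F Q ∧ (∀ z ∈ orth hQ U, mv g z = z) ∧ Even (moveRank g)}
  one_mem' := ⟨one_mem _, fun z _ => mv_one z, by rw [moveRank_one]; exact ⟨0, rfl⟩⟩
  mul_mem' := by
    rintro a b ⟨ha, fa, ea⟩ ⟨hb, fb, eb⟩
    refine ⟨Subgroup.mul_mem _ ha hb, fun z hz => by rw [mv_mul, fb z hz, fa z hz], ?_⟩
    rw [even_moveRank_mul hQ hn ha hb]
    tauto
  inv_mem' := by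
    rintro a ⟨ha, fa, ea⟩
    refine ⟨Subgroup.inv_mem _ ha, fun z hz => by conv_lhs => rw [← fa z hz, mv_inv_mv], ?_⟩
    have h := even_moveRank_mul hQ hn ha (Subgroup.inv_mem _ ha)
    rw [mul_inv_cancel, moveRank_one] at h
    have h0 : Even 0 := ⟨0, rfl⟩
    tauto

theorem axis {g : GL ι F} (hg : g ∈ rot hQ hn (U := U)) (hg1 : g ≠ 1) :
    ∃ k ∈ U, k ≠ 0 ∧ mv g k = k ∧ (∀ z ∈ U, mv g z = z → ∃ a : F, z = a • k) ∧
      LinearMap.range (moveLin g) = U ⊓ orth hQ (Submodule.span F {k}) := by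
  obtain ⟨hgI, hfix, heven⟩ := hg
  have hker : orth hQ U ≤ LinearMap.ker (moveLin g) := fun z hz => by
    rw [LinearMap.mem_ker, moveLin_apply, hfix z hz, sub_self]
  have hU1 := orth_nondeg hQ hU
  have hrU : LinearMap.range (moveLin g) ≤ U := by
    rw [range_moveLin hQ hgI]
    intro z hz
    rw [← orth_orth_eq hQ hU]
    exact fun u hu => hz u (hker hu)
  have hr0 : moveRank g ≠ 0 := fun h => hg1 (ext_mv fun z => by
    have : moveLin g z ∈ LinearMap.range (moveLin g) := LinearMap.mem_range_self _ z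
    rw [Submodule.finrank_eq_zero.1 h, Submodule.mem_bot, moveLin_apply, sub_eq_zero] at this
    rw [this, mv_one])
  have hr3 : moveRank g ≤ 3 := h3 ▸ Submodule.finrank_mono hrU
  have hr : moveRank g = 2 := by
    obtain ⟨m, hm⟩ := heven
    omega
  have hdim := LinearMap.finrank_range_add_finrank_ker (moveLin g)
  rw [Module.finrank_pi, show Module.finrank F (LinearMap.range (moveLin g)) = 2 from hr] at hdim
  obtain ⟨z, hz, hzU⟩ : ∃ z ∈ LinearMap.ker (moveLin g), z ∉ orth hQ U := by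
    by_contra h
    push Not at h
    have := Submodule.finrank_mono (show LinearMap.ker (moveLin g) ≤ orth hQ U from h)
    omega
  obtain ⟨k, hk, hzk⟩ := exists_proj hQ hU z
  have hkfix : mv g k = k := by
    have h1 : mv g z = z := sub_eq_zero.1 ((moveLin_apply g z).symm.trans (LinearMap.mem_ker.1 hz))
    have h4 := hfix _ hzk
    rw [mv_sub, h1] at h4
    exact sub_right_injective h4
  have hk0 : k ≠ 0 := fun h => hzU (by simpa [h] using hzk)
  have huniq : ∀ z ∈ U, mv g z = z → ∃ a : F, z = a • k := by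
    intro z hz hfz
    by_contra hcon
    push Not at hcon
    have hli : LinearIndependent F ![k, z] := by
      rw [LinearIndependent.pair_iff' hk0]
      exact fun a h => hcon a h.symm
    have hle : orth hQ U ⊔ Submodule.span F (Set.range ![k, z]) ≤ LinearMap.ker (moveLin g) := by
      refine sup_le hker (Submodule.span_le.2 ?_)
      rintro _ ⟨i, rfl⟩
      rw [SetLike.mem_coe, LinearMap.mem_ker, moveLin_apply]
      fin_cases i <;> simp [hkfix, hfz]
    have hinf : orth hQ U ⊓ Submodule.span F (Set.range ![k, z]) = ⊥ := by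
      rw [eq_bot_iff]
      intro v hv
      have hvU : v ∈ U := (Submodule.span_le.2 (by rintro _ ⟨i, rfl⟩; fin_cases i <;> assumption)) hv.2
      exact (Submodule.mem_bot F).2 (hU v hvU fun w hw => hv.1 w hw)
    have h5 := Submodule.finrank_sup_add_finrank_inf_eq (orth hQ U) (Submodule.span F (Set.range ![k, z]))
    rw [hinf, finrank_bot, finrank_span_eq_card hli, Fintype.card_fin] at h5
    have := Submodule.finrank_mono hle
    omega
  refine ⟨k, hk, hk0, hkfix, huniq, Submodule.eq_of_le_of_finrank_le (le_inf hrU ?_) ?_⟩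
  · rw [range_moveLin hQ hgI]
    intro v hv
    refine (mem_orth_span hQ).2 fun u hu => ?_
    rw [Set.mem_singleton_iff.1 hu]
    exact hv k (by rw [LinearMap.mem_ker, moveLin_apply, hkfix, sub_self])
  · rw [show Module.finrank F (LinearMap.range (moveLin g)) = 2 from hr]
    have h6 := finrank_add_le_of_orth hQ hU (L := Submodule.span F {k})
      (R := U ⊓ orth hQ (Submodule.span F {k})) ((Submodule.span_singleton_le_iff_mem _ _).2 hk) inf_le_left
      fun x hx y hy => hy.2 x hx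
    rw [finrank_span_singleton hk0] at h6
    omega

theorem pair_basis {k f : ι → F} (hk : k ∈ U) (hf : f ∈ U) (hkk : Q k = 0) (hff : Q f = 0) (hkf : pol Q k f = 1) :
    ∃ w ∈ U, Q w ≠ 0 ∧ pol Q k w = 0 ∧ pol Q f w = 0 ∧
      ∀ u ∈ U, ∃ a b d : F, u = a • k + b • f + d • w := by
  obtain ⟨hPn, hP2⟩ := nondeg_pair hQ hkk hff hkf
  have hle : Submodule.span F ({k, f} : Set (ι → F)) ≤ U := Submodule.span_le.2 (by
    rintro z (rfl | rfl) <;> assumption)
  have hd := finrank_inf_orth_add hQ hPn hle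
  rw [hP2, h3] at hd
  obtain ⟨w, hw, hww⟩ := exists_anisotropic hQ (nondeg_inf_orth hQ hPn hU hle) fun h => by
    rw [h, finrank_bot] at hd; omega
  have hkw : pol Q k w = 0 := hw.2 k (Submodule.subset_span (Set.mem_insert _ _))
  have hfw : pol Q f w = 0 := hw.2 f (Submodule.subset_span (Set.mem_insert_of_mem _ rfl))
  refine ⟨w, hw.1, hww, hkw, hfw, fun u hu => ?_⟩
  have hw0 : w ≠ 0 := fun h => hww (by rw [h, q_zero hQ])
  have hspan : Submodule.span F {w} = U ⊓ orth hQ (Submodule.span F {k, f}) :=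
    Submodule.eq_of_le_of_finrank_le ((Submodule.span_singleton_le_iff_mem _ _).2 hw)
      (by rw [finrank_span_singleton hw0]; omega)
  have hrem : u - pol Q u f • k - pol Q u k • f ∈ U ⊓ orth hQ (Submodule.span F {k, f}) := by
    refine ⟨U.sub_mem (U.sub_mem hu (U.smul_mem _ hk)) (U.smul_mem _ hf), (mem_orth_span hQ).2 ?_⟩
    rintro z (rfl | rfl)
    · rw [pol_sub_right hQ, pol_sub_right hQ, pol_smul_right hQ, pol_smul_right hQ, pol_self hQ, hkk, hkf,
        pol_comm z u]; ring
    · rw [pol_sub_right hQ, pol_sub_right hQ, pol_smul_right hQ, pol_smul_right hQ, pol_self hQ, hff,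
        pol_comm z u, pol_comm z k, hkf]; ring
  rw [← hspan] at hrem
  obtain ⟨d, hd'⟩ := Submodule.mem_span_singleton.1 hrem
  exact ⟨pol Q u f, pol Q u k, d, by rw [hd']; abel⟩

theorem pair_axis {k : ι → F} (hk : k ∈ U) (hk0 : k ≠ 0) (hkk : Q k = 0) :
    ∃ f w, f ∈ U ∧ w ∈ U ∧ Q f = 0 ∧ pol Q k f = 1 ∧ Q w ≠ 0 ∧ pol Q k w = 0 ∧ pol Q f w = 0 ∧
      ∀ u ∈ U, ∃ a b d : F, u = a • k + b • f + d • w := by
  obtain ⟨f, hf, hff, hkf⟩ := exists_partner hQ hU hk hk0 hkk
  obtain ⟨w, hw, hww, hkw, hfw, hb⟩ := pair_basis hQ h2 hn hU h3 hk hf hkk hff hkf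
  exact ⟨f, w, hf, hw, hff, hkf, hww, hkw, hfw, hb⟩

/-- A rotation with singular axis is a Siegel element. -/
theorem siegel_of_axis {g : GL ι F} (hg : g ∈ rot hQ hn (U := U)) {k : ι → F} (hk : k ∈ U) (hk0 : k ≠ 0)
    (hkk : Q k = 0) (hgk : mv g k = k) (huniq : ∀ z ∈ U, mv g z = z → ∃ a : F, z = a • k)
    (hr : LinearMap.range (moveLin g) = U ⊓ orth hQ (Submodule.span F {k})) :
    ∃ w ∈ U, Q w ≠ 0 ∧ pol Q k w = 0 ∧ ∃ γ : F, γ ≠ 0 ∧ IsSiegel Q g k (γ • w) ∧
      ∀ u ∈ U, pol Q k u = 0 → ∃ a d : F, u = a • k + d • w := by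
  obtain ⟨hgI, hfix, -⟩ := hg
  obtain ⟨f, w, hf, hw, hff, hkf, hww, hkw, hfw, hbasis⟩ := pair_axis hQ h2 hn hU h3 hk hk0 hkk
  have hperp : ∀ u ∈ U, pol Q k u = 0 → ∃ a d : F, u = a • k + d • w := fun u hu h => by
    obtain ⟨a, b, d, rfl⟩ := hbasis u hu
    rw [pol_add_right hQ, pol_add_right hQ, pol_smul_right hQ, pol_smul_right hQ, pol_smul_right hQ, pol_self hQ,
      hkk, hkf, hkw] at h
    have hb : b = 0 := by linear_combination h
    exact ⟨a, d, by rw [hb, zero_smul, add_zero]⟩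
  have himg : ∀ u, ∃ a d : F, mv g u = u + (a • k + d • w) := fun u => by
    have hm : moveLin g u ∈ U ⊓ orth hQ (Submodule.span F {k}) := hr ▸ LinearMap.mem_range_self _ u
    obtain ⟨a, d, h⟩ := hperp _ hm.1 (hm.2 k (Submodule.mem_span_singleton_self k))
    exact ⟨a, d, by rw [← h, moveLin_apply]; abel⟩
  obtain ⟨β, γ, hgf⟩ := himg f
  obtain ⟨a, d, hgw⟩ := himg w
  have hfk : pol Q f k = 1 := (pol_comm _ _).trans hkf
  have hwk : pol Q w k = 0 := (pol_comm _ _).trans hkw
  have hwf : pol Q w f = 0 := (pol_comm _ _).trans hfw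
  have e1 : (1 + d) * (1 + d) = 1 := by
    have h := mem_isometry.1 hgI w
    rw [hgw, show w + (a • k + d • w) = a • k + (1 + d) • w by module, q_add hQ, q_smul hQ, q_smul hQ,
      pol_smul_left hQ, pol_smul_right hQ, hkk, hkw] at h
    exact mul_right_cancel₀ hww (by linear_combination h)
  have e2 : β + γ * γ * Q w = 0 := by
    have h := mem_isometry.1 hgI f
    rw [hgf, q_add hQ, q_add hQ, q_smul hQ, q_smul hQ, pol_add_right hQ, pol_smul_right hQ, pol_smul_right hQ,
      pol_smul_left hQ, pol_smul_right hQ, hkk, hff, hkw, hfk, hfw] at h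
    linear_combination h
  have e3 : a + (1 + d) * γ * (2 * Q w) = 0 := by
    have h := pol_mv hQ hgI f w
    rw [hgf, hgw] at h
    simp only [pol_add_left hQ, pol_add_right hQ, pol_smul_left hQ, pol_smul_right hQ, pol_self hQ, hkk, hkw, hwk,
      hfk, hfw] at h
    linear_combination h
  have hd0 : d = 0 := by
    by_contra hd
    have hd2 : 1 + d = -1 := by
      rcases mul_self_eq_one_iff.1 e1 with h | h
      · exact absurd (by linear_combination h) hd
      · exact h
    rw [hd2] at e3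
    obtain ⟨b, hb⟩ := huniq (f + (γ / 2) • w) (U.add_mem hf (U.smul_mem _ hw)) (by
      rw [mv_add, mv_smul, hgf, hgw, show d = -2 by linear_combination hd2,
        show β = -(γ * γ * Q w) by linear_combination e2, show a = γ * (2 * Q w) by linear_combination e3]
      match_scalars <;> field_simp <;> ring)
    have h := congrArg (fun z => pol Q z k) hb
    simp only [pol_add_left hQ, pol_smul_left hQ, hfk, hwk, pol_self hQ, hkk, mul_zero, add_zero] at h
    exact one_ne_zero h
  subst hd0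
  have hgγ : γ ≠ 0 := by
    rintro rfl
    obtain ⟨b, hb⟩ := huniq f hf (by rw [hgf, show β = 0 by linear_combination e2]; module)
    have h := congrArg (fun z => pol Q z k) hb
    simp only [pol_smul_left hQ, hfk, pol_self hQ, hkk, mul_zero] at h
    exact one_ne_zero h
  refine ⟨w, hw, hww, hkw, γ, hgγ, fun z => ?_, hperp⟩
  obtain ⟨u, hu, hzu⟩ := exists_proj hQ hU z
  obtain ⟨x, y, v, huxy⟩ := hbasis u hu
  set r := z - u with hr'
  have hz : z = x • k + y • f + v • w + r := by rw [hr', ← huxy]; abel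
  have hrk : pol Q r k = 0 := (pol_comm _ _).trans (hzu k hk)
  have hrw : pol Q r w = 0 := (pol_comm _ _).trans (hzu w hw)
  have hgr : mv g r = r := hfix r hzu
  rw [hz]
  simp only [mv_add, mv_smul, hgk, hgf, hgw, hgr, pol_add_left hQ, pol_smul_left hQ, pol_smul_right hQ,
    pol_self hQ, hkk, hkw, hwk, hfk, hfw, hrk, hrw, q_smul hQ, show β = -(γ * γ * Q w) by linear_combination e2,
    show a = -(γ * (2 * Q w)) by linear_combination e3]
  module

/-- An element of order p has a singular axis. -/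
theorem singular_axis {p : ℕ} [Fact p.Prime] [CharP F p] {g : GL ι F} (hg : g ∈ rot hQ hn (U := U)) (hgp : g ^ p = 1)
    {k : ι → F} (hk : k ∈ U) (huniq : ∀ z ∈ U, mv g z = z → ∃ a : F, z = a • k)
    (hr : LinearMap.range (moveLin g) = U ⊓ orth hQ (Submodule.span F {k})) (hg1 : g ≠ 1) : Q k = 0 := by
  by_contra hkk
  haveI : Nonempty ι := Fintype.card_pos_iff.1 (by omega)
  set N := (g : Matrix ι ι F) - 1 with hN
  have hNz : ∀ z, N *ᵥ z = moveLin g z := fun z => by
    rw [moveLin_apply, hN, Matrix.sub_mulVec, Matrix.one_mulVec]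
  have hNp : N ^ p = 0 := by
    rw [hN, sub_pow_char_of_commute (p := p) (h := Commute.one_right _), ← Units.val_pow_eq_pow_val, hgp,
      Units.val_one, one_pow, sub_self]
  have step : ∀ j : ℕ, ∀ z ∈ LinearMap.range (moveLin g), z ≠ 0 →
      (N ^ j) *ᵥ z ∈ LinearMap.range (moveLin g) ∧ (N ^ j) *ᵥ z ≠ 0 := by
    intro j
    induction j with
    | zero => intro z hz hz0; rw [pow_zero, Matrix.one_mulVec]; exact ⟨hz, hz0⟩
    | succ j ih =>
      intro z hz hz0
      rw [pow_succ, ← Matrix.mulVec_mulVec, hNz]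
      refine ih _ (LinearMap.mem_range_self _ z) fun h => hz0 ?_
      rw [moveLin_apply, sub_eq_zero] at h
      rw [hr] at hz
      obtain ⟨a, rfl⟩ := huniq z hz.1 h
      have h4 := hz.2 k (Submodule.mem_span_singleton_self k)
      rw [pol_smul_right hQ, pol_self hQ, mul_eq_zero, or_iff_left (mul_ne_zero h2 hkk)] at h4
      rw [h4, zero_smul]
  obtain ⟨z, hz, hz0⟩ := (LinearMap.range (moveLin g)).ne_bot_iff.1 fun h => hg1 (ext_mv fun z => by
    have : moveLin g z ∈ LinearMap.range (moveLin g) := LinearMap.mem_range_self _ z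
    rw [h, Submodule.mem_bot, moveLin_apply, sub_eq_zero] at this
    rw [this, mv_one])
  exact (step p z hz hz0).2 (by rw [hNp, Matrix.zero_mulVec])

/-- A group of rotations without elements of order p fixes a line or is small. -/
theorem dichotomy {p : ℕ} [Fact p.Prime] [CharP F p] {Γ : Subgroup (GL ι F)} (hΓ : Γ ≤ rot hQ hn (U := U))
    (hfree : ∀ g ∈ Γ, g ^ p = 1 → g = 1) :
    (∃ v ∈ U, Q v ≠ 0 ∧ ∀ g ∈ Γ, mv g v = v ∨ mv g v = -v) ∨
      ((∀ g ∈ Γ, orderOf g ≤ 5) ∧ ∀ g ∈ Γ, g * g ≠ 1 → g ^ 4 = 1 → ∀ k ∈ U, mv g k = k → ∀ h ∈ Γ,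
        mv h k = k ∨ mv h k = -k ∨ (pol Q (mv h k) k = 0 ∧ ∀ h' ∈ Γ, pol Q (mv h' k) k = 0 →
          mv h' k = mv h k ∨ mv h' k = -mv h k ∨ mv h' k = mv g (mv h k) ∨ mv h' k = -mv g (mv h k))) := by
  classical
  have hchar : ringChar F ≠ 2 := fun h => h2 (by
    have : CharP F 2 := ringChar.eq_iff.1 h
    exact CharP.cast_eq_zero F 2)
  obtain ⟨ν, hν⟩ := FiniteField.exists_nonsquare (F := F) hchar
  have hν0 : ν ≠ 0 := fun h => hν (h ▸ IsSquare.zero)
  -- each anisotropic line carries exactly two vectors of value 1 or ν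
  have hscale : ∀ {k : ι → F}, Q k ≠ 0 → ∃ l : F, l ≠ 0 ∧ (Q (l • k) = 1 ∨ Q (l • k) = ν) := by
    intro k hkk
    by_cases hs : IsSquare (Q k)
    · obtain ⟨r, hr⟩ := hs
      refine ⟨r⁻¹, inv_ne_zero fun h => hkk (by rw [hr, h, mul_zero]), Or.inl ?_⟩
      rw [q_smul hQ, hr]
      have : r ≠ 0 := fun h => hkk (by rw [hr, h, mul_zero])
      field_simp
    · obtain ⟨r, hr⟩ : IsSquare (Q k * ν) := by
        rw [← quadraticChar_one_iff_isSquare (mul_ne_zero hkk hν0), map_mul,
          quadraticChar_neg_one_iff_not_isSquare.2 hs, quadraticChar_neg_one_iff_not_isSquare.2 hν]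
        norm_num
      refine ⟨ν / r, div_ne_zero hν0 fun h => mul_ne_zero hkk hν0 (by rw [hr, h, mul_zero]), Or.inr ?_⟩
      have : r ≠ 0 := fun h => mul_ne_zero hkk hν0 (by rw [hr, h, mul_zero])
      rw [q_smul hQ]
      field_simp
      linear_combination hr
  have hsame : ∀ {k y : ι → F} {a : F}, (Q k = 1 ∨ Q k = ν) → (Q y = 1 ∨ Q y = ν) → y = a • k → y = k ∨ y = -k := by
    intro k y a hk hy hya
    have hq : Q y = a * a * Q k := by rw [hya, q_smul hQ, pow_two]
    have ha : a * a = 1 := by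
      rcases hk with hk | hk <;> rcases hy with hy | hy <;> rw [hk, hy] at hq
      · linear_combination -hq
      · exact absurd ⟨a, by linear_combination hq⟩ hν
      · exact absurd ⟨a⁻¹, by
          have : a ≠ 0 := fun h => by simp [h] at hq
          field_simp
          linear_combination -hq⟩ hν
      · exact mul_right_cancel₀ hν0 (by linear_combination -hq)
    rcases mul_self_eq_one_iff.1 ha with h | h <;> rw [h] at hya
    · exact Or.inl (by rw [hya, one_smul])
    · exact Or.inr (by rw [hya, neg_one_smul])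
  have hqpole : ∀ {x : ι → F}, (Q x = 1 ∨ Q x = ν) → Q x ≠ 0 := by
    rintro x (h | h) <;> rw [h]
    · exact one_ne_zero
    · exact hν0
  have hnn : ∀ {x : ι → F}, (Q x = 1 ∨ Q x = ν) → -x ≠ x := fun {x} hx h => by
    have : (2 : F) • x = 0 := by rw [two_smul]; nth_rw 1 [← h]; exact neg_add_cancel x
    rcases smul_eq_zero.1 this with h' | h'
    · exact h2 h'
    · exact hqpole hx (by rw [h', q_zero hQ])
  -- a non-trivial element fixes exactly two poles
  have hpole : ∀ g ∈ Γ, g ≠ 1 → ∃ x ∈ U, (Q x = 1 ∨ Q x = ν) ∧ mv g x = x ∧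
      ∀ y ∈ U, mv g y = y → ∃ a : F, y = a • x := by
    intro g hg hg1
    obtain ⟨k, hk, hk0, hgk, huniq, hr⟩ := axis hQ h2 hn hU h3 (hΓ hg) hg1
    have hkk : Q k ≠ 0 := by
      intro hkk
      obtain ⟨w, -, -, hkw, γ, -, hs, -⟩ := siegel_of_axis hQ h2 hn hU h3 (hΓ hg) hk hk0 hkk hgk huniq hr
      have h := isSiegel_pow hQ hkk (by rw [pol_smul_right hQ, hkw, mul_zero]) hs p
      rw [CharP.cast_eq_zero, zero_smul] at h
      exact hg1 (hfree g hg (isSiegel_unique h (isSiegel_zero hQ k)))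
    obtain ⟨l, hl0, hl⟩ := hscale hkk
    refine ⟨l • k, U.smul_mem l hk, hl, by rw [mv_smul, hgk], fun y hy hgy => ?_⟩
    obtain ⟨a, rfl⟩ := huniq y hy hgy
    exact ⟨a / l, by rw [smul_smul, div_mul_cancel₀ _ hl0]⟩
  haveI : Fintype Γ := Fintype.ofFinite _
  let act : Γ → (ι → F) → (ι → F) := fun g x => mv (g : GL ι F) x
  have h1 : ∀ x, act 1 x = x := fun x => mv_one x
  have hmul : ∀ g h x, act (g * h) x = act g (act h x) := fun g h x => mv_mul _ _ x
  set P := Finset.univ.filter fun x : ι → F =>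
    x ∈ U ∧ (Q x = 1 ∨ Q x = ν) ∧ ∃ g : Γ, g ≠ 1 ∧ act g x = x with hPdef
  have memP : ∀ {x}, x ∈ P ↔ x ∈ U ∧ (Q x = 1 ∨ Q x = ν) ∧ ∃ g : Γ, g ≠ 1 ∧ act g x = x := by
    intro x; simp [hPdef]
  have hUinv : ∀ g ∈ Γ, ∀ x ∈ U, mv g x ∈ U := fun g hg x hx =>
    mv_mem_of_fix hQ hU (hΓ hg).1 (fun z hz => (hΓ hg).2.1 z fun u hu => (pol_comm _ _).trans (hz u hu)) hx
  have hP : ∀ g, ∀ x ∈ P, act g x ∈ P := by
    intro g x hx
    obtain ⟨hxU, hxq, h, hh1, hhx⟩ := memP.1 hx
    refine memP.2 ⟨hUinv _ g.2 x hxU, by rw [mem_isometry.1 (hΓ g.2).1]; exact hxq, g * h * g⁻¹, ?_, ?_⟩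
    · intro he
      exact hh1 (by
        calc h = g⁻¹ * (g * h * g⁻¹) * g := by group
          _ = 1 := by rw [he]; group)
    · rw [← hmul, show g * h * g⁻¹ * g = g * h by group, hmul, hhx]
  have hfix2 : ∀ g : Γ, g ≠ 1 → ∀ x ∈ P, act g x = x → ∀ y ∈ P, act g y = y → y = x ∨ y = -x := by
    intro g hg x hx hgx y hy hgy
    obtain ⟨z, -, hzq, -, huniq⟩ := hpole g g.2 fun h => hg (Subtype.ext h)
    obtain ⟨a, ha⟩ := huniq x (memP.1 hx).1 hgx
    obtain ⟨b, hb⟩ := huniq y (memP.1 hy).1 hgy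
    rcases hsame hzq (memP.1 hx).2.1 ha with h | h <;> rcases hsame hzq (memP.1 hy).2.1 hb with h' | h' <;>
      rw [h, h']
    · exact Or.inl rfl
    · exact Or.inr rfl
    · exact Or.inr (neg_neg z).symm
    · exact Or.inl rfl
  have hnegP : ∀ {x}, x ∈ P → -x ∈ P := fun {x} hx => by
    obtain ⟨hxU, hxq, g, hg, hgx⟩ := memP.1 hx
    exact memP.2 ⟨U.neg_mem hxU, by rw [q_neg hQ]; exact hxq, g, hg, by
      rw [show act g (-x) = -act g x from mv_neg _ x, hgx]⟩
  have htwo : ∀ g ≠ (1 : Γ), (P.filter fun x => act g x = x).card = 2 := by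
    intro g hg
    obtain ⟨x, hxU, hxq, hgx, -⟩ := hpole g g.2 fun h => hg (Subtype.ext h)
    have hxP : x ∈ P := memP.2 ⟨hxU, hxq, g, hg, hgx⟩
    refine Finset.card_eq_two.2 ⟨x, -x, (hnn hxq).symm, Finset.ext fun y => ?_⟩
    simp only [Finset.mem_filter, Finset.mem_insert, Finset.mem_singleton]
    refine ⟨fun h => hfix2 g hg x hxP hgx y h.1 h.2, ?_⟩
    rintro (rfl | rfl)
    · exact ⟨hxP, hgx⟩
    · exact ⟨hnegP hxP, by rw [show act g (-x) = -act g x from mv_neg _ x]; exact congrArg Neg.neg hgx⟩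
  rcases pole_cases h1 hmul P hP htwo (fun x hx => (memP.1 hx).2.2) with ⟨x, hx, hox⟩ | hbig
  · -- a small orbit
    obtain ⟨hxU, hxq, h₀, hh₀, hh₀x⟩ := memP.1 hx
    refine Or.inl ⟨x, hxU, hqpole hxq, fun g hg => ?_⟩
    by_contra hcon
    push Not at hcon
    set y := act ⟨g, hg⟩ x with hy
    have hyo : y ∈ orb act x := Finset.mem_image_of_mem _ (Finset.mem_univ _)
    have hxo := self_mem_orb h1 hmul x
    have hpair : orb act x = {x, y} := (Finset.eq_of_subset_of_card_le (s := {x, y}) (by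
      intro v hv
      simp only [Finset.mem_insert, Finset.mem_singleton] at hv
      rcases hv with rfl | rfl <;> assumption)
      (by rw [Finset.card_pair (Ne.symm hcon.1)]; exact hox)).symm
    have hh₀y : act h₀ y ∈ orb act x := by
      rw [hy, ← hmul]; exact Finset.mem_image_of_mem _ (Finset.mem_univ _)
    rw [hpair, Finset.mem_insert, Finset.mem_singleton] at hh₀y
    rcases hh₀y with h | h
    · exact hcon.1 (mv_inj (h₀ : GL ι F) (h.trans hh₀x.symm))
    · rcases hfix2 h₀ hh₀ x hx hh₀x y (hP _ x hx) h with h' | h'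
      · exact hcon.1 h'
      · exact hcon.2 h'
  refine Or.inr ⟨?_, ?_⟩
  · intro g hg
    by_cases hg1 : g = 1
    · rw [hg1, orderOf_one]; norm_num
    obtain ⟨x, hxU, hxq, hgx, -⟩ := hpole g hg hg1
    have hxP : x ∈ P := memP.2 ⟨hxU, hxq, ⟨g, hg⟩, fun h => hg1 (congrArg Subtype.val h), hgx⟩
    have hpow : ∀ n : ℕ, act ((⟨g, hg⟩ : Γ) ^ n) x = x := by
      intro n
      induction n with
      | zero => rw [pow_zero, h1]
      | succ n ih => rw [pow_succ, hmul, show act ⟨g, hg⟩ x = x from hgx, ih]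
    have hle : orderOf (⟨g, hg⟩ : Γ) ≤ (stb act x).card := by
      rw [← Finset.card_range (orderOf (⟨g, hg⟩ : Γ))]
      refine Finset.card_le_card_of_injOn (fun n => (⟨g, hg⟩ : Γ) ^ n) (fun n _ => ?_)
        (by rw [Finset.coe_range]; exact pow_injOn_Iio_orderOf)
      exact Finset.mem_filter.2 ⟨Finset.mem_univ _, hpow n⟩
    rw [Subgroup.orderOf_mk] at hle
    exact hle.trans (hbig x hxP).1
  intro g hg hg2 hg4 k hk hgk h hh
  by_cases hk0 : k = 0
  · exact Or.inl (by rw [hk0, mv_zero])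
  have hg1 : g ≠ 1 := fun h => hg2 (by rw [h, one_mul])
  obtain ⟨x, hxU, hxq, hgx, huniq⟩ := hpole g hg hg1
  obtain ⟨l, hkl⟩ := huniq k hk hgk
  have hl0 : l ≠ 0 := fun h => hk0 (by rw [hkl, h, zero_smul])
  set G : Γ := ⟨g, hg⟩ with hG
  have hG1 : G ≠ 1 := fun h => hg1 (congrArg Subtype.val h)
  have hG2 : G * G ≠ 1 := fun h => hg2 (congrArg Subtype.val h)
  have hxP : x ∈ P := memP.2 ⟨hxU, hxq, G, hG1, hgx⟩
  let St : Subgroup Γ :=
    { carrier := {s | act s x = x}
      one_mem' := h1 x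
      mul_mem' := fun {a b} ha hb => by
        show act (a * b) x = x
        rw [hmul, show act b x = x from hb]; exact ha
      inv_mem' := fun {a} ha => by
        show act a⁻¹ x = x
        conv_lhs => rw [← show act a x = x from ha]
        exact act_inv h1 hmul a x }
  have hcardSt : Nat.card St = (stb act x).card := by
    rw [Nat.card_eq_fintype_card, stb, ← Fintype.card_subtype]
    exact Fintype.card_congr (Equiv.refl _)
  have hord : orderOf G = 4 := orderOf_eq_prime_pow (p := 2) (n := 1)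
    (by rw [pow_one, pow_two]; exact hG2) (Subtype.ext (by simpa using hg4))
  have h4 : (stb act x).card = 4 := by
    have hdvd := Subgroup.orderOf_dvd_natCard St (x := G) hgx
    rw [hord, hcardSt] at hdvd
    have hpos : 0 < (stb act x).card := Finset.card_pos.2 ⟨1, Finset.mem_filter.2 ⟨Finset.mem_univ _, h1 x⟩⟩
    have := (hbig x hxP).1
    obtain ⟨d, hd⟩ := hdvd
    omega
  obtain ⟨ho6, hall⟩ := (hbig x hxP).2 h4
  have hnx : -x ∈ orb act x := by
    refine hall _ (hnegP hxP) ?_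
    rw [← h4]
    refine congrArg Finset.card (Finset.filter_congr fun s _ => ?_)
    show mv (s : GL ι F) (-x) = -x ↔ mv (s : GL ι F) x = x
    rw [mv_neg, neg_inj]
  have hnegorb : ∀ v ∈ orb act x, -v ∈ orb act x := fun v hv => by
    obtain ⟨s, -, rfl⟩ := Finset.mem_image.1 hv
    obtain ⟨r, -, hr⟩ := Finset.mem_image.1 hnx
    exact Finset.mem_image.2 ⟨s * r, Finset.mem_univ _, by rw [hmul, hr]; exact mv_neg _ x⟩
  rw [hkl, mv_smul]
  set a := mv h x with ha
  by_cases hax : a = x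
  · exact Or.inl (by rw [hax])
  by_cases hanx : a = -x
  · exact Or.inr (Or.inl (by rw [hanx, smul_neg]))
  have hao : a ∈ orb act x := Finset.mem_image.2 ⟨⟨h, hh⟩, Finset.mem_univ _, rfl⟩
  have hoP : ∀ v ∈ orb act x, v ∈ P := fun v hv => by
    obtain ⟨s, -, rfl⟩ := Finset.mem_image.1 hv
    exact hP s x hxP
  have hGo : ∀ v ∈ orb act x, mv g v ∈ orb act x := fun v hv => by
    obtain ⟨s, -, rfl⟩ := Finset.mem_image.1 hv
    exact Finset.mem_image.2 ⟨G * s, Finset.mem_univ _, hmul G s x⟩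
  have hgnx : mv g (-x) = -x := by rw [mv_neg, hgx]
  have hggx : ∀ v ∈ P, mv g (mv g v) = v → v = x ∨ v = -x := fun v hv hgv =>
    hfix2 (G * G) hG2 x hxP (by rw [hmul]; show mv g (mv g x) = x; rw [hgx, hgx]) v hv
      (by rw [hmul]; exact hgv)
  set b := mv g a with hb
  set a2 := mv g b with ha2
  set b2 := mv g a2 with hb2
  have haa2 : a2 ≠ a := fun h => by rcases hggx a (hoP a hao) h with h' | h' <;> contradiction
  have hab : b ≠ a := fun h => haa2 (by rw [ha2, h]; exact h)
  have hcyc : mv g b2 = a := by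
    rw [hb2, ha2, hb, ← mv_mul, ← mv_mul, ← mv_mul, show g * g * g * g = g ^ 4 by rw [pow_succ, pow_succ, pow_succ, pow_one], hg4, mv_one]
  have hab2 : b2 ≠ a := fun h => hab (by rw [hb]; conv_lhs => rw [← h, hcyc])
  have hne : ∀ v, mv g v ≠ v → v ≠ x ∧ v ≠ -x := fun v hv =>
    ⟨fun h => hv (by rw [h, hgx]), fun h => hv (by rw [h, hgnx])⟩
  have hbn : mv g b ≠ b := fun h => hab (mv_inj g h)
  have hb2n : mv g a2 ≠ a2 := fun h => hbn (mv_inj g h)
  have hb3n : mv g b2 ≠ b2 := fun h => hb2n (mv_inj g h)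
  have hF : ({a, b, a2, b2} : Finset (ι → F)) = orb act x \ {x, -x} := by
    refine Finset.eq_of_subset_of_card_le ?_ ?_
    · intro v hv
      simp only [Finset.mem_insert, Finset.mem_singleton] at hv
      simp only [Finset.mem_sdiff, Finset.mem_insert, Finset.mem_singleton, not_or]
      rcases hv with rfl | rfl | rfl | rfl
      · exact ⟨hao, hax, hanx⟩
      · exact ⟨hGo _ hao, hne _ hbn⟩
      · exact ⟨hGo _ (hGo _ hao), hne _ hb2n⟩
      · exact ⟨hGo _ (hGo _ (hGo _ hao)), hne _ hb3n⟩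
    · rw [Finset.card_sdiff_of_subset (by
        intro v hv
        simp only [Finset.mem_insert, Finset.mem_singleton] at hv
        rcases hv with rfl | rfl
        · exact self_mem_orb h1 hmul _
        · exact hnx), Finset.card_pair (hnn hxq).symm, ho6]
      rw [Finset.card_insert_of_notMem, Finset.card_insert_of_notMem, Finset.card_pair]
      · exact Ne.symm hb2n
      · simp only [Finset.mem_insert, Finset.mem_singleton, not_or]
        exact ⟨Ne.symm hbn, fun h => haa2 (mv_inj g h.symm)⟩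
      · simp only [Finset.mem_insert, Finset.mem_singleton, not_or]
        exact ⟨Ne.symm hab, Ne.symm haa2, Ne.symm hab2⟩
  have hna : a2 = -a := by
    have : -a ∈ orb act x \ {x, -x} := by
      simp only [Finset.mem_sdiff, Finset.mem_insert, Finset.mem_singleton, not_or]
      exact ⟨hnegorb a hao, fun h => hanx (by rw [← h, neg_neg]), fun h => hax (neg_inj.1 h)⟩
    rw [← hF] at this
    simp only [Finset.mem_insert, Finset.mem_singleton] at this
    rcases this with h | h | h | h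
    · exact absurd h (hnn (memP.1 (hoP a hao)).2.1)
    · exact absurd (show a2 = a by rw [ha2, ← h, mv_neg, ← hb, ← h, neg_neg]) haa2
    · exact h.symm
    · have h5 : -b = a := by
        have := congrArg (mv g) h
        rwa [mv_neg, ← hb, hcyc] at this
      exact absurd (show a2 = a by rw [ha2, show b = -a by rw [← h5, neg_neg], mv_neg, ← hb, h5]) haa2
  have horth : pol Q a x = 0 := by
    have h := pol_mv hQ (Subgroup.mul_mem _ (hΓ hg).1 (hΓ hg).1) a x
    rw [mv_mul, mv_mul, hgx, hgx, ← hb, ← ha2, hna, pol_neg_left hQ] at h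
    exact (mul_eq_zero.1 (show (2 : F) * pol Q a x = 0 by linear_combination -h)).resolve_left h2
  refine Or.inr (Or.inr ⟨by rw [pol_smul_left hQ, pol_smul_right hQ, horth]; ring, fun h' hh' horth' => ?_⟩)
  rw [mv_smul, pol_smul_left hQ, pol_smul_right hQ, ← mul_assoc, mul_eq_zero,
    or_iff_right (mul_ne_zero hl0 hl0)] at horth'
  have hxx : pol Q x x ≠ 0 := by rw [pol_self hQ]; exact mul_ne_zero h2 (hqpole hxq)
  have hv : mv h' x ∈ orb act x \ {x, -x} := by
    simp only [Finset.mem_sdiff, Finset.mem_insert, Finset.mem_singleton, not_or]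
    exact ⟨Finset.mem_image.2 ⟨⟨h', hh'⟩, Finset.mem_univ _, rfl⟩, fun h => hxx (by rwa [h] at horth'), fun h => hxx (by
      rw [h, pol_neg_left hQ] at horth'
      linear_combination -horth')⟩
  rw [← hF] at hv
  simp only [Finset.mem_insert, Finset.mem_singleton] at hv
  rw [mv_smul, mv_smul, ← hb]
  rcases hv with h5 | h5 | h5 | h5 <;> rw [h5]
  · exact Or.inl rfl
  · exact Or.inr (Or.inr (Or.inl rfl))
  · exact Or.inr (Or.inl (by rw [hna, smul_neg]))
  · exact Or.inr (Or.inr (Or.inr (by rw [hb2, hna, mv_neg, ← hb, smul_neg])))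

end Cfsg.Agent.Transvec.SO3
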