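/-
Centres inside a non-degenerate three-space over a prime field: either all vectors of one value are connected, or
the associated rotation group has order prime to the characteristic.
-/
import Cfsg.Agent.Lib.Transvec.OrthFrameBasic
import Cfsg.Agent.Lib.Transvec.OrthSO3Count
set_option autoImplicit false
set_option linter.unusedSectionVars false
set_option maxHeartbeats 800000

namespace Cfsg.Agent.Transvec.SO3

open scoped Matrix
open Matrix Cfsg.Agent.Transvec Cfsg.Agent.Transvec.Orth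

variable {F : Type*} [Field F] [Fintype F]

/-- A field of prime order has that characteristic. -/
theorem charP_prime (hprime : (Fintype.card F).Prime) : CharP F (Fintype.card F) := by
  obtain ⟨r, hr⟩ := CharP.exists F
  obtain ⟨n, hrp, hn⟩ := FiniteField.card F r
  have : r = Fintype.card F := by
    have h1 : r ∣ Fintype.card F := hn ▸ dvd_pow_self r n.pos.ne'
    exact ((Nat.dvd_prime hprime).1 h1).resolve_left hrp.ne_one
  rwa [this] at hr

theorem exists_natCast (hprime : (Fintype.card F).Prime) (a : F) : ∃ n : ℕ, (n : F) = a := by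
  haveI := charP_prime hprime
  haveI := Fact.mk hprime
  have hb : Function.Bijective (ZMod.castHom (dvd_refl (Fintype.card F)) F) := by
    rw [Fintype.bijective_iff_injective_and_card]
    exact ⟨(ZMod.castHom (dvd_refl (Fintype.card F)) F).injective, ZMod.card _⟩
  obtain ⟨z, hz⟩ := hb.2 a
  exact ⟨z.val, by rw [← hz, ← ZMod.natCast_zmod_val z, map_natCast, ZMod.natCast_zmod_val]⟩

variable {ι : Type} [Fintype ι] [DecidableEq ι] {Q : (ι → F) → F}
variable (hQ : Geo.IsNondegenerateQuadraticForm Q) (h2 : (2 : F) ≠ 0)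
include hQ h2

/-- Two root groups are transitive on the vectors of a given non-zero value. -/
theorem transitive {K : Subgroup (GL ι F)} {U : Submodule F (ι → F)} {k f w : ι → F} (hkk : Q k = 0)
    (hff : Q f = 0) (hkf : pol Q k f = 1) (hww : Q w ≠ 0) (hkw : pol Q k w = 0) (hfw : pol Q f w = 0)
    (hbasis : ∀ u ∈ U, ∃ a b d : F, u = a • k + b • f + d • w) (hK : LineIn Q K k w) (hF : LineIn Q K f w)
    {u u' : ι → F} (hu : u ∈ U) (hu' : u' ∈ U) (hq : Q u = Q u') (hu0 : Q u ≠ 0) :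
    ∃ g ∈ K, mv g u = u' := by
  have hfk : pol Q f k = 1 := (pol_comm _ _).trans hkf
  have hwk : pol Q w k = 0 := (pol_comm _ _).trans hkw
  have hwf : pol Q w f = 0 := (pol_comm _ _).trans hfw
  set q := Q w with hqdef
  obtain ⟨pt, hpt⟩ : ∃ pt : F → F → F → ι → F, ∀ β α γ, pt β α γ = β • k + α • f + γ • w := ⟨_, fun _ _ _ => rfl⟩
  have hqpt : ∀ β α γ, Q (pt β α γ) = α * β + γ * γ * q := fun β α γ => by
    rw [hpt, q_add hQ, q_add hQ, q_smul hQ, q_smul hQ, q_smul hQ, pol_add_left hQ, pol_smul_left hQ,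
      pol_smul_left hQ, pol_smul_left hQ, pol_smul_right hQ, pol_smul_right hQ, pol_smul_right hQ, hkk, hff, hkf,
      hkw, hfw, ← hqdef]
    ring
  let Rel : (ι → F) → (ι → F) → Prop := fun a b => ∃ g ∈ K, mv g a = b
  have rs : ∀ {a b}, Rel a b → Rel b a := fun {a b} ⟨g, hg, hgab⟩ => ⟨g⁻¹, K.inv_mem hg, by rw [← hgab, mv_inv_mv]⟩
  have rt : ∀ {a b d}, Rel a b → Rel b d → Rel a d := fun {a b d} ⟨g, hg, h1⟩ ⟨g', hg', h2⟩ =>
    ⟨g' * g, K.mul_mem hg' hg, by rw [mv_mul, h1, h2]⟩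
  have moveK : ∀ β α γ l, Rel (pt β α γ) (pt (β - 2 * γ * l * q - α * l ^ 2 * q) α (γ + α * l)) := by
    intro β α γ l
    obtain ⟨g, hg, hgs⟩ := hK l
    refine ⟨g, hg, ?_⟩
    rw [hgs, hpt, hpt]
    simp only [pol_add_left hQ, pol_smul_left hQ, pol_smul_right hQ, q_smul hQ, pol_self hQ, hkk, hfk, hwk, hkw, hfw,
      ← hqdef]
    module
  have moveF : ∀ β α γ l, Rel (pt β α γ) (pt β (α - 2 * γ * l * q - β * l ^ 2 * q) (γ + β * l)) := by
    intro β α γ l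
    obtain ⟨g, hg, hgs⟩ := hF l
    refine ⟨g, hg, ?_⟩
    rw [hgs, hpt, hpt]
    simp only [pol_add_left hQ, pol_smul_left hQ, pol_smul_right hQ, q_smul hQ, pol_self hQ, hff, hkf, hwf, hkw, hfw,
      ← hqdef]
    module
  set v := Q u with hv
  obtain ⟨V, hV⟩ : ∃ V : F → F → F → Prop, ∀ β α γ, V β α γ ↔ α * β + γ * γ * q = v := ⟨_, fun _ _ _ => Iff.rfl⟩
  have sameA : ∀ {β β' α γ γ'}, α ≠ 0 → V β α γ → V β' α γ' → Rel (pt β α γ) (pt β' α γ') := by
    intro β β' α γ γ' hα h h'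
    rw [hV] at h h'
    have := moveK β α γ ((γ' - γ) / α)
    rwa [show γ + α * ((γ' - γ) / α) = γ' by field_simp; ring,
      show β - 2 * γ * ((γ' - γ) / α) * q - α * ((γ' - γ) / α) ^ 2 * q = β' by
        field_simp; linear_combination h - h'] at this
  have sameB : ∀ {β α α' γ γ'}, β ≠ 0 → V β α γ → V β α' γ' → Rel (pt β α γ) (pt β α' γ') := by
    intro β α α' γ γ' hβ h h'
    rw [hV] at h h'
    have := moveF β α γ ((γ' - γ) / β)
    rwa [show γ + β * ((γ' - γ) / β) = γ' by field_simp; ring,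
      show α - 2 * γ * ((γ' - γ) / β) * q - β * ((γ' - γ) / β) ^ 2 * q = α' by
        field_simp; linear_combination h - h'] at this
  have nearA : ∀ {β β' γ}, γ ≠ 0 → Rel (pt β 0 γ) (pt β' 0 γ) := by
    intro β β' γ hγ
    have := moveK β 0 γ ((β - β') / (2 * γ * q))
    simp only [zero_mul, add_zero, sub_zero] at this
    rwa [show β - 2 * γ * ((β - β') / (2 * γ * q)) * q = β' by field_simp; ring] at this
  have nearB : ∀ {α α' γ}, γ ≠ 0 → Rel (pt 0 α γ) (pt 0 α' γ) := by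
    intro α α' γ hγ
    have := moveF 0 α γ ((α - α') / (2 * γ * q))
    simp only [zero_mul, add_zero, sub_zero] at this
    rwa [show α - 2 * γ * ((α - α') / (2 * γ * q)) * q = α' by field_simp; ring] at this
  have hall : ∀ {β α γ β' α' γ'}, V β α γ → V β' α' γ' → Rel (pt β α γ) (pt β' α' γ') := by
    intro β α γ β' α' γ' h h'
    by_cases hsq : ∃ γ₀, γ₀ * γ₀ * q = v
    · obtain ⟨γ₀, hγ₀⟩ := hsq
      have hγ0 : γ₀ ≠ 0 := fun h0 => hu0 (by rw [← hγ₀, h0]; ring)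
      have hV0 : ∀ a, V 0 a γ₀ ∧ V 0 a (-γ₀) := fun a => ⟨(hV _ _ _).2 (by linear_combination hγ₀),
        (hV _ _ _).2 (by linear_combination hγ₀)⟩
      have base : ∀ {β α γ}, V β α γ → Rel (pt β α γ) (pt 0 0 γ₀) := by
        intro β α γ h
        by_cases hα : α = 0
        · subst hα
          have h0 := (hV _ _ _).1 h
          have hγ : γ ≠ 0 := fun hg => hu0 (by rw [← h0, hg]; ring)
          have hγγ : γ = γ₀ ∨ γ = -γ₀ := by
            refine mul_self_eq_mul_self_iff.1 ?_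
            exact mul_right_cancel₀ hww (by linear_combination h0 - hγ₀)
          refine rt (nearA (β' := 0) hγ) ?_
          rcases hγγ with rfl | rfl
          · exact ⟨1, K.one_mem, mv_one _⟩
          refine rt (nearB (α' := 1) hγ) (rt ?_ (nearB (α := 1) hγ0))
          exact sameA one_ne_zero (hV0 1).2 (hV0 1).1
        · exact rt (sameA hα h (hV0 α).1) (nearB hγ0)
      exact rt (base h) (rs (base h'))
    push Not at hsq
    have hne : ∀ {β α γ}, V β α γ → α ≠ 0 ∧ β ≠ 0 := by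
      intro β α γ h
      rw [hV] at h
      exact ⟨fun h0 => hsq γ (by rw [h0] at h; linear_combination h),
        fun h0 => hsq γ (by rw [h0] at h; linear_combination h)⟩
    have hα := (hne h).1
    have hα' := (hne h').1
    obtain ⟨x, y, hxy⟩ := FiniteField.exists_root_sum_quadratic
      (f := Polynomial.C (q * α') * Polynomial.X ^ 2 + Polynomial.C (v * (α - α')))
      (g := Polynomial.C (-(q * α)) * Polynomial.X ^ 2)
      (by
        rw [Polynomial.degree_add_eq_left_of_degree_lt] <;>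
          rw [Polynomial.degree_C_mul_X_pow 2 (mul_ne_zero hww hα')]
        · rfl
        · exact lt_of_le_of_lt Polynomial.degree_C_le (by norm_num))
      (Polynomial.degree_C_mul_X_pow 2 (neg_ne_zero.2 (mul_ne_zero hww hα)))
      (FiniteField.odd_card_of_char_ne_two fun h => h2 (by
        have : CharP F 2 := ringChar.eq_iff.1 h
        exact CharP.cast_eq_zero F 2))
    simp only [Polynomial.eval_add, Polynomial.eval_mul, Polynomial.eval_C, Polynomial.eval_pow,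
      Polynomial.eval_X] at hxy
    set β'' := (v - x * x * q) / α with hβ''
    have hm1 : V β'' α x := (hV _ _ _).2 (by rw [hβ'', mul_div_cancel₀ _ hα]; ring)
    have hm2 : V β'' α' y := (hV _ _ _).2 (by
      rw [hβ'']; field_simp; linear_combination -hxy)
    exact rt (sameA hα h hm1) (rt (sameB (hne hm1).2 hm1 hm2) (sameA hα' hm2 h'))
  obtain ⟨a, b, d, rfl⟩ := hbasis u hu
  obtain ⟨a', b', d', rfl⟩ := hbasis u' hu'
  obtain ⟨g, hg, hgu⟩ := hall (β := a) (α := b) (γ := d) (β' := a') (α' := b') (γ' := d')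
    ((hV _ _ _).2 (by rw [← hqpt, hpt])) ((hV _ _ _).2 (by rw [← hqpt, hpt, hq]))
  exact ⟨g, hg, by rwa [hpt, hpt] at hgu⟩

end Cfsg.Agent.Transvec.SO3

namespace Cfsg.Agent.Transvec.OFr

open scoped Matrix
open Matrix Cfsg.Agent.Transvec Cfsg.Agent.Transvec.Orth

variable {ι : Type} [Fintype ι] [DecidableEq ι] {F : Type*} [Field F] [Fintype F] {Q : (ι → F) → F}
variable {t : ℕ} {e : Fin t → ι → F} {c : F} {M : Subgroup (GL ι F)}

/-- Vectors of one non-zero value in U are connected by centre-preserving elements supported on U. -/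
def FullOn (Q : (ι → F) → F) (e : Fin t → ι → F) (c : F) (M : Subgroup (GL ι F)) (U : Submodule F (ι → F)) : Prop :=
  ∀ u ∈ U, ∀ u' ∈ U, Q u = Q u' → Q u ≠ 0 →
    ∃ g ∈ cenStab Q e c M, (∀ z, (∀ x ∈ U, pol Q x z = 0) → mv g z = z) ∧ mv g u = u'

/-- An orthogonal triple whose first two vectors are centres, with a further vector normalising the centres. -/
structure Tri (Q : (ι → F) → F) (e : Fin t → ι → F) (c : F) (M : Subgroup (GL ι F)) (b₀ b₁ b₂ r : ι → F) :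
    Prop where
  m0 : b₀ ∈ Cen Q e c M
  m1 : b₁ ∈ Cen Q e c M
  n2 : Q b₂ ≠ 0
  o01 : pol Q b₀ b₁ = 0
  o02 : pol Q b₀ b₂ = 0
  o12 : pol Q b₁ b₂ = 0
  rU : r ∈ Submodule.span F ({b₀, b₁, b₂} : Set (ι → F))
  r0 : Q r ≠ 0
  rC : ∀ x ∈ Cen Q e c M, x ∈ Submodule.span F ({b₀, b₁, b₂} : Set (ι → F)) → mv (R Q r) x ∈ Cen Q e c M

/-- The space of the triple. -/
abbrev triU (b₀ b₁ b₂ : ι → F) : Submodule F (ι → F) := Submodule.span F {b₀, b₁, b₂}

/-- Minus the identity on the space of the triple. -/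
noncomputable def triJ (Q : (ι → F) → F) (b₀ b₁ b₂ : ι → F) : GL ι F := R Q b₀ * R Q b₁ * R Q b₂

/-- The rotation group of the centres in the space of the triple. -/
noncomputable def triG (Q : (ι → F) → F) (e : Fin t → ι → F) (c : F) (M : Subgroup (GL ι F))
    (b₀ b₁ b₂ r : ι → F) : Subgroup (GL ι F) :=
  Subgroup.closure {g | ∃ x, (x = r ∨ (x ∈ Cen Q e c M ∧ x ∈ triU b₀ b₁ b₂)) ∧ g = R Q x * triJ Q b₀ b₁ b₂}

variable {b₀ b₁ b₂ r : ι → F} (hC : Ctx Q e c M) (hT : Tri Q e c M b₀ b₁ b₂ r)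
include hC hT

theorem tri_mem : b₀ ∈ triU b₀ b₁ b₂ ∧ b₁ ∈ triU b₀ b₁ b₂ ∧ b₂ ∈ triU b₀ b₁ b₂ :=
  ⟨Submodule.subset_span (Or.inl rfl), Submodule.subset_span (Or.inr (Or.inl rfl)),
    Submodule.subset_span (Or.inr (Or.inr rfl))⟩

theorem tri_q : Q b₀ ≠ 0 ∧ Q b₁ ≠ 0 :=
  ⟨hT.m0.1 ▸ hC.fr.c0, hT.m1.1 ▸ hC.fr.c0⟩

theorem tri_coord {u : ι → F} (hu : u ∈ triU b₀ b₁ b₂) : ∃ a b d : F, u = a • b₀ + b • b₁ + d • b₂ := by
  obtain ⟨a, z, hz, rfl⟩ := Submodule.mem_span_insert.1 hu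
  obtain ⟨b, z', hz', rfl⟩ := Submodule.mem_span_insert.1 hz
  obtain ⟨d, rfl⟩ := Submodule.mem_span_singleton.1 hz'
  exact ⟨a, b, d, by abel⟩

theorem tri_nondeg : Nondeg Q (triU b₀ b₁ b₂) ∧ Module.finrank F (triU b₀ b₁ b₂) = 3 := by
  have hQ := hC.fr.nd
  obtain ⟨q0, q1⟩ := tri_q hC hT
  have o10 := (pol_comm (Q := Q) b₁ b₀).trans hT.o01
  have o20 := (pol_comm (Q := Q) b₂ b₀).trans hT.o02
  have o21 := (pol_comm (Q := Q) b₂ b₁).trans hT.o12
  obtain ⟨m0, m1, m2⟩ := tri_mem hC hT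
  have hzero : ∀ a b d : F, (∀ w ∈ triU b₀ b₁ b₂, pol Q w (a • b₀ + b • b₁ + d • b₂) = 0) →
      a = 0 ∧ b = 0 ∧ d = 0 := by
    intro a b d h
    have e0 := h b₀ m0
    have e1 := h b₁ m1
    have e2 := h b₂ m2
    simp only [pol_add_right hQ, pol_smul_right hQ, pol_self hQ, hT.o01, hT.o02, hT.o12, o10, o20, o21, mul_zero,
      add_zero, zero_add, mul_eq_zero, hC.fr.two, q0, q1, hT.n2, or_false, false_or] at e0 e1 e2
    exact ⟨e0, e1, e2⟩
  refine ⟨fun u hu h => ?_, ?_⟩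
  · obtain ⟨a, b, d, rfl⟩ := tri_coord hC hT hu
    obtain ⟨rfl, rfl, rfl⟩ := hzero a b d h
    simp
  have hli : LinearIndependent F ![b₀, b₁, b₂] := by
    rw [Fintype.linearIndependent_iff]
    intro g hg i
    simp only [Fin.sum_univ_three, Matrix.cons_val_zero, Matrix.cons_val_one, Matrix.cons_val_two,
      Matrix.tail_cons, Matrix.head_cons] at hg
    obtain ⟨h0, h1, h2⟩ := hzero (g 0) (g 1) (g 2) fun w _ => by rw [hg, pol_zero_right hQ]
    fin_cases i <;> assumption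
  have : Set.range ![b₀, b₁, b₂] = {b₀, b₁, b₂} := by
    ext x; simp [eq_comm, Fin.exists_fin_succ]; tauto
  rw [triU, ← this, finrank_span_eq_card hli, Fintype.card_fin]

theorem mv_triJ {u : ι → F} (hu : u ∈ triU b₀ b₁ b₂) : mv (triJ Q b₀ b₁ b₂) u = -u := by
  have hQ := hC.fr.nd
  obtain ⟨q0, q1⟩ := tri_q hC hT
  have o10 := (pol_comm (Q := Q) b₁ b₀).trans hT.o01
  have o20 := (pol_comm (Q := Q) b₂ b₀).trans hT.o02
  have o21 := (pol_comm (Q := Q) b₂ b₁).trans hT.o12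
  obtain ⟨a, b, d, rfl⟩ := tri_coord hC hT hu
  have s0 := (R_spec hC.fr q0).2
  have s1 := (R_spec hC.fr q1).2
  have s2 := (R_spec hC.fr hT.n2).2
  have hself : ∀ {x : ι → F}, Q x ≠ 0 → mv (R Q x) x = -x := fun {x} hx => by
    rw [(R_spec hC.fr hx).2.2, pol_self hQ, mul_div_assoc, div_self hx, mul_one, two_smul]; abel
  simp only [triJ, mv_mul, mv_add, mv_smul, mv_neg, hself q0, hself q1, hself hT.n2, isRefl_fix s0 o10,
    isRefl_fix s0 o20, isRefl_fix s1 hT.o01, isRefl_fix s1 o21, isRefl_fix s2 hT.o02, isRefl_fix s2 hT.o12]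
  module

theorem triJ_rot_data : triJ Q b₀ b₁ b₂ ∈ isometryGroup F Q ∧
    (∀ z, (∀ x ∈ triU b₀ b₁ b₂, pol Q x z = 0) → mv (triJ Q b₀ b₁ b₂) z = z) ∧
      ¬ Even (moveRank (triJ Q b₀ b₁ b₂)) := by
  have hn : 5 ≤ Fintype.card ι := le_trans (by norm_num) hC.hn
  obtain ⟨q0, q1⟩ := tri_q hC hT
  obtain ⟨m0, m1, m2⟩ := tri_mem hC hT
  obtain ⟨i0, s0⟩ := R_spec hC.fr q0
  obtain ⟨i1, s1⟩ := R_spec hC.fr q1
  obtain ⟨i2, s2⟩ := R_spec hC.fr hT.n2
  refine ⟨Subgroup.mul_mem _ (Subgroup.mul_mem _ i0 i1) i2, fun z hz => ?_, ?_⟩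
  · rw [triJ, mv_mul, mv_mul, isRefl_fix s2 ((pol_comm _ _).trans (hz _ m2)),
      isRefl_fix s1 ((pol_comm _ _).trans (hz _ m1)), isRefl_fix s0 ((pol_comm _ _).trans (hz _ m0))]
  · rw [triJ, even_moveRank_mul hC.fr.nd hn (Subgroup.mul_mem _ i0 i1) i2, even_moveRank_mul hC.fr.nd hn i0 i1]
    have e0 := (refl_mem_parity hC.fr.nd i0 s0).2
    have e1 := (refl_mem_parity hC.fr.nd i1 s1).2
    have e2 := (refl_mem_parity hC.fr.nd i2 s2).2
    tauto

theorem triJ_sq : triJ Q b₀ b₁ b₂ * triJ Q b₀ b₁ b₂ = 1 := ext_mv fun z => by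
  obtain ⟨hU, -⟩ := tri_nondeg hC hT
  obtain ⟨u, hu, hzu⟩ := exists_proj hC.fr.nd hU z
  obtain ⟨-, hfix, -⟩ := triJ_rot_data hC hT
  rw [show z = u + (z - u) by abel, mv_mul, mv_one, mv_add, mv_add, hfix _ hzu, hfix _ hzu, mv_triJ hC hT hu, mv_neg,
    mv_triJ hC hT hu, neg_neg]

/-- The rotation attached to a vector. -/
theorem sigma_spec {x : ι → F} (hxU : x ∈ triU b₀ b₁ b₂) (hx : Q x ≠ 0) :
    R Q x * triJ Q b₀ b₁ b₂ ∈ SO3.rot hC.fr.nd (le_trans (by norm_num) hC.hn) (U := triU b₀ b₁ b₂) ∧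
      (R Q x * triJ Q b₀ b₁ b₂) * (R Q x * triJ Q b₀ b₁ b₂) = 1 ∧
      triJ Q b₀ b₁ b₂ * R Q x = R Q x * triJ Q b₀ b₁ b₂ ∧
      ∀ z ∈ triU b₀ b₁ b₂, mv (R Q x * triJ Q b₀ b₁ b₂) z = -mv (R Q x) z := by
  obtain ⟨hJ, hfix, hodd⟩ := triJ_rot_data hC hT
  obtain ⟨hR, hs⟩ := R_spec hC.fr hx
  have hcomm : triJ Q b₀ b₁ b₂ * R Q x = R Q x * triJ Q b₀ b₁ b₂ := by
    have h := R_conj hC.fr hJ hx
    rw [mv_triJ hC hT hxU, R_neg hC.fr hx] at h
    rw [← mul_inv_eq_iff_eq_mul]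
    exact h
  refine ⟨⟨Subgroup.mul_mem _ hR hJ, fun z hz => ?_, ?_⟩, ?_, hcomm, fun z hz => ?_⟩
  · rw [mv_mul, hfix z hz, isRefl_fix hs ((pol_comm _ _).trans (hz x hxU))]
  · rw [even_moveRank_mul hC.fr.nd (le_trans (by norm_num) hC.hn) hR hJ]
    have e0 := (refl_mem_parity hC.fr.nd hR hs).2
    tauto
  · rw [mul_assoc, ← mul_assoc (triJ Q b₀ b₁ b₂), hcomm, mul_assoc, triJ_sq hC hT, mul_one, R_sq hC.fr hx]
  · rw [mv_mul, mv_triJ hC hT hz, mv_neg]

theorem gen_mem_triG {x : ι → F} (h : x = r ∨ (x ∈ Cen Q e c M ∧ x ∈ triU b₀ b₁ b₂)) :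
    R Q x * triJ Q b₀ b₁ b₂ ∈ triG Q e c M b₀ b₁ b₂ r := Subgroup.subset_closure ⟨x, h, rfl⟩

theorem triG_le_rot :
    triG Q e c M b₀ b₁ b₂ r ≤ SO3.rot hC.fr.nd (le_trans (by norm_num) hC.hn) (U := triU b₀ b₁ b₂) := by
  refine (Subgroup.closure_le _).2 ?_
  rintro _ ⟨x, hx, rfl⟩
  rcases hx with rfl | ⟨hx, hxU⟩
  · exact (sigma_spec hC hT hT.rU hT.r0).1
  · exact (sigma_spec hC hT hxU (hx.1 ▸ hC.fr.c0)).1

/-- An element of order p in the rotation group connects all vectors of one value. -/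
theorem fullOn_of_p {p : ℕ} [Fact p.Prime] [CharP F p] (hprime : (Fintype.card F).Prime) {g : GL ι F}
    (hg : g ∈ triG Q e c M b₀ b₁ b₂ r) (hgp : g ^ p = 1) (hg1 : g ≠ 1) : FullOn Q e c M (triU b₀ b₁ b₂) := by
  have hQ := hC.fr.nd
  have h2 := hC.fr.two
  have hn : 5 ≤ Fintype.card ι := le_trans (by norm_num) hC.hn
  obtain ⟨hU, h3⟩ := tri_nondeg hC hT
  set U := triU b₀ b₁ b₂ with hUdef
  set J := triJ Q b₀ b₁ b₂ with hJdef
  obtain ⟨m0, m1, m2⟩ := tri_mem hC hT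
  set K := Subgroup.closure {h : GL ι F | ∃ x y, (x ∈ Cen Q e c M ∧ x ∈ U) ∧ (y ∈ Cen Q e c M ∧ y ∈ U) ∧
    h = R Q x * R Q y} with hK
  have hq : ∀ {x}, x ∈ Cen Q e c M → Q x ≠ 0 := fun hx => hx.1 ▸ hC.fr.c0
  have hKpair : ∀ {x y}, (x ∈ Cen Q e c M ∧ x ∈ U) → (y ∈ Cen Q e c M ∧ y ∈ U) → R Q x * R Q y ∈ K :=
    fun {x y} hx hy => Subgroup.subset_closure ⟨x, y, hx, hy, rfl⟩
  have hσσ : ∀ {x y}, (x ∈ U ∧ Q x ≠ 0) → (y ∈ U ∧ Q y ≠ 0) → R Q x * J * (R Q y * J) = R Q x * R Q y := by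
    intro x y hx hy
    rw [mul_assoc, ← mul_assoc J, (sigma_spec hC hT hy.1 hy.2).2.2.1, mul_assoc, triJ_sq hC hT, mul_one]
  have hmapC : ∀ {s}, (s = r ∨ (s ∈ Cen Q e c M ∧ s ∈ U)) → (s ∈ U ∧ Q s ≠ 0) ∧ ∀ {x}, (x ∈ Cen Q e c M ∧ x ∈ U) →
      (mv (R Q s * J) x ∈ Cen Q e c M ∧ mv (R Q s * J) x ∈ U) := by
    intro s hs
    have hs' : (s ∈ U ∧ Q s ≠ 0) ∧ ∀ x ∈ Cen Q e c M, x ∈ U → mv (R Q s) x ∈ Cen Q e c M := by
      rcases hs with rfl | ⟨hs, hsU⟩
      · exact ⟨⟨hT.rU, hT.r0⟩, hT.rC⟩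
      · exact ⟨⟨hsU, hq hs⟩, fun x hx _ => cen_refl hC hs hx⟩
    refine ⟨hs'.1, fun {x} hx => ?_⟩
    rw [(sigma_spec hC hT hs'.1.1 hs'.1.2).2.2.2 x hx.2]
    refine ⟨cen_neg hC (hs'.2 x hx.1 hx.2), U.neg_mem ?_⟩
    rw [(R_spec hC.fr hs'.1.2).2.2]
    exact U.sub_mem hx.2 (U.smul_mem _ hs'.1.1)
  -- the generators normalise K
  have hnorm : ∀ {s}, (s = r ∨ (s ∈ Cen Q e c M ∧ s ∈ U)) → ∀ k ∈ K, R Q s * J * k * (R Q s * J) ∈ K := by
    intro s hs k hk
    obtain ⟨⟨hsU, hs0⟩, hmap⟩ := hmapC hs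
    obtain ⟨hrot, hinv, -, -⟩ := sigma_spec hC hT hsU hs0
    have hi : (R Q s * J)⁻¹ = R Q s * J := inv_eq_of_mul_eq_one_right hinv
    induction hk using Subgroup.closure_induction with
    | mem k hk =>
      obtain ⟨x, y, hx, hy, rfl⟩ := hk
      have : R Q s * J * (R Q x * R Q y) * (R Q s * J) =
          (R Q s * J * R Q x * (R Q s * J)⁻¹) * (R Q s * J * R Q y * (R Q s * J)⁻¹) := by
        conv_lhs => arg 2; rw [← hi]
        group
      rw [this, R_conj hC.fr hrot.1 (hq hx.1), R_conj hC.fr hrot.1 (hq hy.1)]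
      exact hKpair (hmap hx) (hmap hy)
    | one => rw [mul_one, hinv]; exact K.one_mem
    | mul a b _ _ iha ihb =>
      have := K.mul_mem iha ihb
      rwa [show R Q s * J * a * (R Q s * J) * (R Q s * J * b * (R Q s * J)) = R Q s * J * (a * b) * (R Q s * J) by
        rw [show R Q s * J * a * (R Q s * J) * (R Q s * J * b * (R Q s * J)) =
          R Q s * J * a * ((R Q s * J) * (R Q s * J)) * b * (R Q s * J) by group, hinv]; group] at this
    | inv a _ iha =>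
      rw [show R Q s * J * a⁻¹ * (R Q s * J) = (R Q s * J * a * (R Q s * J))⁻¹ by
        rw [_root_.mul_inv_rev (R Q s * J * a) (R Q s * J), _root_.mul_inv_rev (R Q s * J) a, hi, mul_assoc (R Q s * J) a⁻¹]]
      exact K.inv_mem iha
  set σ := R Q b₀ * J with hσ
  set τ := R Q r * J with hτ
  have hσs : σ * σ = 1 := (sigma_spec hC hT m0 (hq hT.m0)).2.1
  have hτs : τ * τ = 1 := (sigma_spec hC hT hT.rU hT.r0).2.1
  have hστ : σ * τ * (σ * τ) ∈ K := by
    rw [hσσ ⟨m0, hq hT.m0⟩ ⟨hT.rU, hT.r0⟩]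
    have hconj := R_conj hC.fr (R_spec hC.fr hT.r0).1 (hq hT.m0)
    rw [R_inv hC.fr hT.r0] at hconj
    rw [show R Q b₀ * R Q r * (R Q b₀ * R Q r) = R Q b₀ * (R Q r * R Q b₀ * R Q r) by group, hconj]
    refine hKpair ⟨hT.m0, m0⟩ ⟨hT.rC _ hT.m0 m0, ?_⟩
    rw [(R_spec hC.fr hT.r0).2.2]
    exact U.sub_mem m0 (U.smul_mem _ hT.rU)
  -- the rotation group consists of four cosets of K
  have hT4 : ∀ h ∈ triG Q e c M b₀ b₁ b₂ r, ∃ k ∈ K, h = k ∨ h = k * σ ∨ h = k * τ ∨ h = k * (τ * σ) := by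
    intro h hh
    induction hh using Subgroup.closure_induction_right with
    | one => exact ⟨1, K.one_mem, Or.inl rfl⟩
    | mul_right a _ b hb ih => ?_
    | mul_inv_cancel a _ b hb ih => ?_
    all_goals
      obtain ⟨x, hx, rfl⟩ := hb
      rw [← hJdef]
      obtain ⟨⟨hxU, hx0⟩, -⟩ := hmapC hx
    on_goal 2 => rw [inv_eq_of_mul_eq_one_right (sigma_spec hC hT hxU hx0).2.1]
    all_goals
      obtain ⟨k, hk, ih⟩ := ih
      rcases hx with hxr | hx
      · rw [hxr]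
        rcases ih with ih | ih | ih | ih <;> rw [ih]
        · exact ⟨k, hk, Or.inr (Or.inr (Or.inl rfl))⟩
        · refine ⟨k * (σ * τ * (σ * τ)), K.mul_mem hk hστ, Or.inr (Or.inr (Or.inr ?_))⟩
          rw [show k * (σ * τ * (σ * τ)) * (τ * σ) = k * σ * τ * (σ * (τ * τ) * σ) by group, hτs, mul_one, hσs,
            mul_one, hτ]
        · exact ⟨k, hk, Or.inl (by rw [← hτ, mul_assoc, hτs, mul_one])⟩
        · refine ⟨k * (τ * σ * (τ * σ)), K.mul_mem hk ?_, Or.inr (Or.inl ?_)⟩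
          · have := K.inv_mem hστ
            rwa [_root_.mul_inv_rev, _root_.mul_inv_rev, inv_eq_of_mul_eq_one_right hσs,
              inv_eq_of_mul_eq_one_right hτs] at this
          · rw [show k * (τ * σ * (τ * σ)) * σ = k * (τ * σ) * τ * (σ * σ) by group, hσs, mul_one, hτ]
      · have hp : R Q x * J * σ ∈ K := by rw [hσσ ⟨hx.2, hq hx.1⟩ ⟨m0, hq hT.m0⟩]; exact hKpair hx ⟨hT.m0, m0⟩
        have hp' : σ * (R Q x * J) ∈ K := by rw [hσσ ⟨m0, hq hT.m0⟩ ⟨hx.2, hq hx.1⟩]; exact hKpair ⟨hT.m0, m0⟩ hx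
        rcases ih with ih | ih | ih | ih <;> rw [ih]
        · refine ⟨k * (R Q x * J * σ), K.mul_mem hk hp, Or.inr (Or.inl ?_)⟩
          rw [show k * (R Q x * J * σ) * σ = k * (R Q x * J) * (σ * σ) by group, hσs, mul_one]
        · exact ⟨k * (σ * (R Q x * J)), K.mul_mem hk hp', Or.inl (by rw [hJdef]; group)⟩
        · refine ⟨k * (τ * (R Q x * J * σ) * τ), K.mul_mem hk (hnorm (Or.inl rfl) _ hp),
            Or.inr (Or.inr (Or.inr ?_))⟩
          rw [show k * (τ * (R Q x * J * σ) * τ) * (τ * σ) = k * τ * (R Q x * J) * (σ * (τ * τ) * σ) by group, hτs,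
            mul_one, hσs, mul_one]
        · refine ⟨k * (τ * (σ * (R Q x * J)) * τ), K.mul_mem hk (hnorm (Or.inl rfl) _ hp'),
            Or.inr (Or.inr (Or.inl ?_))⟩
          rw [show k * (τ * (σ * (R Q x * J)) * τ) * τ = k * (τ * σ) * (R Q x * J) * (τ * τ) by group, hτs, mul_one]
  have hsq : ∀ h ∈ triG Q e c M b₀ b₁ b₂ r, h * h ∈ K := by
    intro h hh
    obtain ⟨k, hk, hk4⟩ := hT4 h hh
    have n0 := hnorm (Or.inr ⟨hT.m0, m0⟩) k hk
    have n1 := hnorm (Or.inl rfl) k hk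
    rcases hk4 with rfl | rfl | rfl | rfl
    · exact K.mul_mem hk hk
    · rw [show k * σ * (k * σ) = k * (σ * k * σ) by group]; exact K.mul_mem hk n0
    · rw [show k * τ * (k * τ) = k * (τ * k * τ) by group]; exact K.mul_mem hk n1
    · have n2 := hnorm (Or.inl rfl) _ n0
      have h' : σ * τ * (σ * τ) = (τ * σ * (τ * σ))⁻¹ := by
        rw [_root_.mul_inv_rev, _root_.mul_inv_rev, inv_eq_of_mul_eq_one_right hσs, inv_eq_of_mul_eq_one_right hτs]
      have hts : τ * σ * (τ * σ) ∈ K := inv_mem_iff.1 (h' ▸ hστ)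
      rw [show k * (τ * σ) * (k * (τ * σ)) = k * (τ * (σ * k * σ) * τ) * (τ⁻¹ * σ⁻¹ * (τ * σ)) by group,
        inv_eq_of_mul_eq_one_right hσs, inv_eq_of_mul_eq_one_right hτs]
      exact K.mul_mem (K.mul_mem hk n2) hts
  have hgK : g ∈ K := by
    have hp2 : Odd p := (Fact.out : p.Prime).odd_of_ne_two fun h => h2 (by
      have := CharP.cast_eq_zero F p
      rw [h] at this
      exact_mod_cast this)
    obtain ⟨m, hm⟩ := hp2
    have := hsq _ (Subgroup.pow_mem _ hg (m + 1))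
    rwa [← pow_add, show m + 1 + (m + 1) = p + 1 by omega, pow_succ, hgp, one_mul] at this
  -- the singular axis
  have hrot := triG_le_rot hC hT hg
  obtain ⟨k, hk, hk0, hgk, huniq, hr⟩ := SO3.axis hQ h2 hn hU h3 hrot hg1
  have hkk := SO3.singular_axis hQ h2 hn hU h3 hrot hgp hk huniq hr hg1
  obtain ⟨w, hw, hww, hkw, γ, hγ, hsieg, hperp⟩ :=
    SO3.siegel_of_axis hQ h2 hn hU h3 hrot hk hk0 hkk hgk huniq hr
  have hline : LineIn Q K k w := fun l => by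
    obtain ⟨n, hn'⟩ := SO3.exists_natCast hprime (l / γ)
    refine ⟨g ^ n, K.pow_mem hgK n, ?_⟩
    have := SO3.isSiegel_pow hQ hkk (by rw [pol_smul_right hQ, hkw, mul_zero]) hsieg n
    rwa [hn', smul_smul, div_mul_cancel₀ _ hγ] at this
  have hlineU : ∀ y ∈ U, pol Q k y = 0 → LineIn Q K k y := fun y hy hky => by
    obtain ⟨a, d, rfl⟩ := hperp y hy hky
    exact lineIn_add hQ hkk (by rw [pol_smul_right hQ, pol_self hQ, hkk]; ring)
      (by rw [pol_smul_right hQ, hkw, mul_zero]) (lineIn_self hQ hkk a) (lineIn_smul d hline)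
  -- a second axis
  obtain ⟨x, hx, hmove⟩ : ∃ x, (x ∈ Cen Q e c M ∧ x ∈ U) ∧ ∀ a : F, mv (R Q x * J) k ≠ a • k := by
    by_contra h
    push Not at h
    have key : ∀ x, (x ∈ Cen Q e c M ∧ x ∈ U) → pol Q k x = 0 := fun x hx => by
      obtain ⟨a, ha⟩ := h x hx
      rw [(sigma_spec hC hT hx.2 (hq hx.1)).2.2.2 k hk, (R_spec hC.fr (hq hx.1)).2.2] at ha
      have h' := congrArg (fun z => pol Q z k) ha
      simp only [pol_neg_left hQ, pol_sub_left hQ, pol_smul_left hQ, pol_self hQ, hkk, pol_comm x k] at h'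
      have h'' : pol Q k x * pol Q k x / Q x = 0 := by linear_combination h'
      rcases div_eq_zero_iff.1 h'' with h3 | h3
      · exact mul_self_eq_zero.1 h3
      · exact absurd h3 (hq hx.1)
    obtain ⟨a, b, d, hkd⟩ := tri_coord hC hT hk
    have k0 := key b₀ ⟨hT.m0, m0⟩
    have k1 := key b₁ ⟨hT.m1, m1⟩
    have hd := hkk
    rw [hkd] at k0 k1 hd
    simp only [pol_add_left hQ, pol_smul_left hQ, pol_self hQ, hT.o01, pol_comm b₁ b₀, pol_comm b₂ b₀,
      pol_comm b₂ b₁, hT.o02, hT.o12, mul_zero, add_zero, zero_add, mul_eq_zero, h2, hq hT.m0, hq hT.m1,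
      or_false] at k0 k1
    rw [k0, k1, zero_smul, zero_smul, zero_add, zero_add, q_smul hQ, mul_eq_zero, or_iff_left hT.n2,
      pow_eq_zero_iff two_ne_zero] at hd
    exact hk0 (by rw [hkd, k0, k1, hd]; simp)
  obtain ⟨hσx, hσi, -, -⟩ := sigma_spec hC hT hx.2 (hq hx.1)
  set s := R Q x * J with hs
  have hsU : ∀ y ∈ U, mv s y ∈ U := fun y hy =>
    mv_mem_of_fix hQ hU hσx.1 (fun z hz => hσx.2.1 z fun u hu => (pol_comm _ _).trans (hz u hu)) hy
  set k' := mv s k with hk'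
  have hk'k : Q k' = 0 := by rw [hk', mem_isometry.1 hσx.1, hkk]
  have hpkk : pol Q k k' ≠ 0 := by
    intro h0
    obtain ⟨a, d, hd⟩ := hperp k' (hsU k hk) h0
    have hd0 : d = 0 := by
      have := hk'k
      rw [hd, q_add hQ, q_smul hQ, q_smul hQ, pol_smul_left hQ, pol_smul_right hQ, hkk, hkw] at this
      simpa [hww] using this
    exact hmove a (hd.trans (by rw [hd0, zero_smul, add_zero]))
  set f := (pol Q k k')⁻¹ • k' with hf
  have hff : Q f = 0 := by rw [hf, q_smul hQ, hk'k, mul_zero]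
  have hkf : pol Q k f = 1 := by rw [hf, pol_smul_right hQ, inv_mul_cancel₀ hpkk]
  obtain ⟨w', hw', hww', hkw', hfw', hbasis⟩ :=
    SO3.pair_basis hQ h2 hn hU h3 hk (U.smul_mem _ (hsU k hk)) hkk hff hkf
  have hk'w' : pol Q k' w' = 0 := by
    have h' : pol Q ((pol Q k k')⁻¹ • k') w' = 0 := hfw'
    rw [pol_smul_left hQ, mul_eq_zero, or_iff_right (inv_ne_zero hpkk)] at h'
    exact h'
  have hlinef : LineIn Q K f w' := by
    intro l
    have hsi : s⁻¹ = s := inv_eq_of_mul_eq_one_right hσi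
    have hy : pol Q k (mv s w') = 0 := by
      rw [← hsi, ← pol_mv hQ hσx.1, mv_mv_inv]; exact hk'w'
    obtain ⟨h, hh, hhs⟩ := hlineU _ (hsU w' hw') hy ((pol Q k k')⁻¹ * l)
    refine ⟨s * h * s, hnorm (Or.inr hx) h hh, ?_⟩
    have := isSiegel_conj hQ hσx.1 hhs
    rw [hsi, mv_smul, ← mv_mul s s, hσi, mv_one, ← hk'] at this
    rw [hf, isSiegel_smul hQ, smul_smul]
    exact this
  have hKle : K ≤ cenStab Q e c M := (Subgroup.closure_le _).2 (by
    rintro _ ⟨x, y, hx, hy, rfl⟩; exact pair_cenStab hC hx.1 hy.1)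
  intro u hu u' hu' hquu hu0
  obtain ⟨h, hh, hhu⟩ := SO3.transitive hQ h2 hkk hff hkf hww' hkw' hfw' hbasis (hlineU w' hw' hkw') hlinef
    hu hu' hquu hu0
  refine ⟨h, hKle hh, fun z hz => ?_, hhu⟩
  have hKrot : K ≤ SO3.rot hQ hn (U := U) := (Subgroup.closure_le _).2 (by
    rintro _ ⟨x, y, hx, hy, rfl⟩
    rw [← hσσ ⟨hx.2, hq hx.1⟩ ⟨hy.2, hq hy.1⟩]
    exact Subgroup.mul_mem _ (sigma_spec hC hT hx.2 (hq hx.1)).1 (sigma_spec hC hT hy.2 (hq hy.1)).1)
  exact (hKrot hh).2.1 z hz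

/-- The values of a full space are centres. -/
theorem cen_of_fullOn {U : Submodule F (ι → F)} (hfull : FullOn Q e c M U) {x : ι → F} (hx : x ∈ Cen Q e c M)
    (hxU : x ∈ U) {y : ι → F} (hy : y ∈ U) (hyq : Q y = c) : y ∈ Cen Q e c M := by
  obtain ⟨g, hg, -, rfl⟩ := hfull x hxU y hy (hx.1.trans hyq.symm) (hx.1 ▸ hC.fr.c0)
  exact hg.2 x hx

end Cfsg.Agent.Transvec.OFr
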