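/-
Monomial moves of centres, and the two configurations of a pair of frame vectors inside a centre.
-/
import Cfsg.Agent.Lib.Transvec.OrthFrameRigid
import Cfsg.Agent.Lib.Transvec.OrthSO3Full
set_option autoImplicit false
set_option linter.unusedSectionVars false
set_option maxHeartbeats 800000

namespace Cfsg.Agent.Transvec.OFr

open scoped Matrix
open Matrix Cfsg.Agent.Transvec Cfsg.Agent.Transvec.Orth

variable {ι : Type} [Fintype ι] [DecidableEq ι] {F : Type*} [Field F] [Fintype F] {Q : (ι → F) → F}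
variable {t : ℕ} {e : Fin t → ι → F} {c : F} {M : Subgroup (GL ι F)}

/-- The values of a coordinate allowed when a pair of reflections has order at most five. -/
def Bad (a : F) : Prop := 4 * (a * a) = 1 ∨ 2 * (a * a) = 1 ∨ (4 * (a * a) - 1) ^ 2 = 4 * (a * a)

variable (hC : Ctx Q e c M)
include hC

theorem exists_others (S : Finset (Fin t)) (hS : S.card + 2 ≤ t) : ∃ k l, k ∉ S ∧ l ∉ S ∧ k ≠ l := by
  obtain ⟨k, hk, l, hl, hkl⟩ := Finset.one_lt_card.1 (show 1 < Sᶜ.card by
    rw [Finset.card_compl, Fintype.card_fin]; omega)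
  exact ⟨k, l, Finset.mem_compl.1 hk, Finset.mem_compl.1 hl, hkl⟩

theorem signs_mul {W W' : Finset (Fin t)} {g g' : GL ι F} (hd : Disjoint W W') (h : Signs e W g) (h' : Signs e W' g') :
    Signs e (W ∪ W') (g * g') := by
  intro k
  rw [mv_mul, h' k]
  by_cases hk : k ∈ W'
  · rw [if_pos hk, mv_neg, h k, if_neg fun hw => Finset.disjoint_left.1 hd hw hk, if_pos (Finset.mem_union_right _ hk)]
  · rw [if_neg hk, h k]
    by_cases hw : k ∈ W
    · rw [if_pos hw, if_pos (Finset.mem_union_left _ hw)]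
    · rw [if_neg hw, if_neg (by simp [hw, hk])]

/-- Monomial elements move tuples of at most four frame vectors with prescribed signs. -/
theorem exists_tuple : ∀ {n : ℕ}, n ≤ 4 → ∀ (a b : Fin n → Fin t), Function.Injective a → Function.Injective b →
    ∀ s : Fin n → F, (∀ i, s i * s i = 1) →
      ∃ g ∈ Geo.omegaGL Q, FMon e g ∧ ∀ i, mv g (e (a i)) = s i • e (b i) := by
  classical
  intro n
  induction n with
  | zero => intro _ _ _ _ _ _ _; exact ⟨1, one_mem _, fun k => ⟨k, 1, by rw [mv_one, one_smul]⟩, fun i => i.elim0⟩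
  | succ n ih =>
    intro hn a b ha hb s hs
    have hfr := hC.fr
    have hI := fun (g : GL ι F) (hg : g ∈ Geo.omegaGL Q) => omega_le_isometry hfr.nd hg
    obtain ⟨g, hg, hgm, hgi⟩ := ih (by omega) (a ∘ Fin.castSucc) (b ∘ Fin.castSucc)
      (ha.comp (Fin.castSucc_injective _)) (hb.comp (Fin.castSucc_injective _)) (s ∘ Fin.castSucc) fun i => hs _
    obtain ⟨π, ε, hε, hπ⟩ := FMon.perm hfr hgm (hI g hg)
    set q := π (a (Fin.last n)) with hq
    set bl := b (Fin.last n) with hbl
    have hqb : ∀ i : Fin n, q ≠ b i.castSucc := by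
      intro i h
      have h' := bf_mv hfr (hI g hg) (e (a (Fin.last n))) (e (a i.castSucc))
      rw [hπ, ← hq, show mv g (e (a i.castSucc)) = s i.castSucc • e (b i.castSucc) from hgi i, h, bf_smul_left hfr,
        bf_smul_right hfr, frame_self hfr, mul_one,
        frame_other hfr fun h0 => (Fin.castSucc_lt_last i).ne' (ha h0)] at h'
      exact mul_ne_zero (left_ne_zero_of_mul_eq_one (hε _)) (left_ne_zero_of_mul_eq_one (hs _)) h'
    have hbb : ∀ i : Fin n, bl ≠ b i.castSucc := fun i h => (Fin.castSucc_lt_last i).ne' (hb h)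
    obtain ⟨k, l, hk, hl, hkl⟩ := exists_others hC (insert q (Finset.univ.image b)) (by
      have h1 := Finset.card_insert_le q (Finset.univ.image b)
      have h2 := Finset.card_image_le (s := (Finset.univ : Finset (Fin (n + 1)))) (f := b)
      rw [Finset.card_univ, Fintype.card_fin] at h2
      have := hC.ht
      omega)
    simp only [Finset.mem_insert, Finset.mem_image, Finset.mem_univ, true_and, not_or, not_exists] at hk hl
    set δ := s (Fin.last n) * ε (a (Fin.last n)) with hδ
    have hδ1 : δ * δ = 1 := by rw [hδ]; linear_combination (ε (a (Fin.last n)) * ε (a (Fin.last n))) * hs (Fin.last n) + hε (a (Fin.last n))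
    obtain ⟨h, hh, hhm, hhq, hhb⟩ : ∃ h ∈ Geo.omegaGL Q, FMon e h ∧ mv h (e q) = δ • e bl ∧
        ∀ i : Fin n, mv h (e (b i.castSucc)) = e (b i.castSucc) := by
      by_cases hqb' : q = bl
      · rcases mul_self_eq_one_iff.1 hδ1 with h1 | h1
        · exact ⟨1, one_mem _, fun k => ⟨k, 1, by rw [mv_one, one_smul]⟩, by rw [mv_one, h1, one_smul, hqb'],
            fun i => mv_one _⟩
        · refine ⟨R Q (e q) * R Q (e k), R_omega hfr (hn11 hC) (by rw [q_frame hfr]; exact hfr.c0)
            (by rw [q_frame hfr, q_frame hfr]), FMon.mul (R_frame_mon hfr q) (R_frame_mon hfr k), ?_, fun i => ?_⟩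
          · rw [mv_mul, (R_frame_spec hfr k).2 q (Ne.symm hk.1), (R_frame_spec hfr q).1, h1, hqb']
            module
          · rw [mv_mul, (R_frame_spec hfr k).2 _ (hk.2 _), (R_frame_spec hfr q).2 _ (hqb i).symm]
      · refine ⟨R Q (e q - δ • e bl) * R Q (e k - (1 : F) • e l), R_omega hfr (hn11 hC)
          (by rw [q_diff hfr hqb' hδ1]; exact two_c_ne hfr)
          (by rw [q_diff hfr hqb' hδ1, q_diff hfr hkl (one_mul 1)]),
          FMon.mul (R_diff_spec hfr hqb' hδ1).2.2.2 (R_diff_spec hfr hkl (one_mul 1)).2.2.2, ?_, fun i => ?_⟩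
        · rw [mv_mul, (R_diff_spec hfr hkl (one_mul 1)).2.2.1 q (Ne.symm hk.1) (Ne.symm hl.1),
            (R_diff_spec hfr hqb' hδ1).1]
        · rw [mv_mul, (R_diff_spec hfr hkl (one_mul 1)).2.2.1 _ (hk.2 _) (hl.2 _),
            (R_diff_spec hfr hqb' hδ1).2.2.1 _ (hqb i).symm (hbb i).symm]
    refine ⟨h * g, mul_mem hh hg, FMon.mul hhm hgm, fun i => ?_⟩
    induction i using Fin.lastCases with
    | last =>
      rw [mv_mul, hπ, mv_smul, ← hq, hhq, smul_smul, hδ,
        show ε (a (Fin.last n)) * (s (Fin.last n) * ε (a (Fin.last n))) = s (Fin.last n) by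
          linear_combination s (Fin.last n) * hε (a (Fin.last n))]
    | cast i => rw [mv_mul, show mv g (e (a i.castSucc)) = s i.castSucc • e (b i.castSucc) from hgi i, mv_smul, hhb]

/-- A compensated transposition normalises the centres near a pair. -/
theorem rC_of_comp {i j k l : Fin t} (hij : i ≠ j) (hki : k ≠ i) (hkj : k ≠ j) (hli : l ≠ i) (hlj : l ≠ j)
    (hkl : k ≠ l) {ε : F} (hε : ε * ε = 1) {z : ι → F} (hz : bf Q c z (e k) = ε * bf Q c z (e l)) :
    ∀ x ∈ Cen Q e c M, x ∈ Submodule.span F ({e i, e j, z} : Set (ι → F)) →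
      mv (R Q (e i - (1 : F) • e j)) x ∈ Cen Q e c M := by
  intro x hx hxU
  have hfr := hC.fr
  have h := (double_cenStab hC hij hkl (one_mul 1) hε).2 x hx
  rw [mv_mul] at h
  have hfix : mv (R Q (e k - ε • e l)) x = x := by
    obtain ⟨a, w, hw, rfl⟩ := Submodule.mem_span_insert.1 hxU
    obtain ⟨b, w', hw', rfl⟩ := Submodule.mem_span_insert.1 hw
    obtain ⟨d, rfl⟩ := Submodule.mem_span_singleton.1 hw'
    rw [mv_R_diff hfr hkl hε]
    simp only [bf_add_left hfr, bf_smul_left hfr, frame_other hfr hki.symm, frame_other hfr hkj.symm,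
      frame_other hfr hli.symm, frame_other hfr hlj.symm, hz]
    module
  rwa [hfix] at h

/-- Data of a pair of frame vectors and a vector orthogonal to both. -/
theorem tri_of_pair {i j : Fin t} (hij : i ≠ j) {z : ι → F} (hzi : bf Q c z (e i) = 0) (hzj : bf Q c z (e j) = 0)
    (hz : Q z ≠ 0) {r : ι → F} (hrU : r ∈ Submodule.span F ({e i, e j, z} : Set (ι → F))) (hr : Q r ≠ 0)
    (hrC : ∀ x ∈ Cen Q e c M, x ∈ Submodule.span F ({e i, e j, z} : Set (ι → F)) → mv (R Q r) x ∈ Cen Q e c M) :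
    Tri Q e c M (e i) (e j) z r where
  m0 := cen_frame hC i
  m1 := cen_frame hC j
  n2 := hz
  o01 := by rw [pol_bf hC.fr, frame_other hC.fr hij, mul_zero]
  o02 := by rw [pol_bf hC.fr, bf_comm, hzi, mul_zero]
  o12 := by rw [pol_bf hC.fr, bf_comm, hzj, mul_zero]
  rU := hrU
  r0 := hr
  rC := hrC

variable (hprime : (Fintype.card F).Prime)
include hprime

theorem free_or_full {b₀ b₁ b₂ r : ι → F} (hT : Tri Q e c M b₀ b₁ b₂ r) :
    FullOn Q e c M (triU b₀ b₁ b₂) ∨
      ((∃ v ∈ triU b₀ b₁ b₂, Q v ≠ 0 ∧ ∀ g ∈ triG Q e c M b₀ b₁ b₂ r, mv g v = v ∨ mv g v = -v) ∨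
      ((∀ g ∈ triG Q e c M b₀ b₁ b₂ r, orderOf g ≤ 5) ∧ ∀ g ∈ triG Q e c M b₀ b₁ b₂ r, g * g ≠ 1 → g ^ 4 = 1 →
        ∀ k ∈ triU b₀ b₁ b₂, mv g k = k → ∀ h ∈ triG Q e c M b₀ b₁ b₂ r,
        mv h k = k ∨ mv h k = -k ∨ (pol Q (mv h k) k = 0 ∧ ∀ h' ∈ triG Q e c M b₀ b₁ b₂ r, pol Q (mv h' k) k = 0 →
          mv h' k = mv h k ∨ mv h' k = -mv h k ∨ mv h' k = mv g (mv h k) ∨ mv h' k = -mv g (mv h k)))) := by
  haveI := Fact.mk hprime
  haveI := SO3.charP_prime hprime
  by_cases hfree : ∀ g ∈ triG Q e c M b₀ b₁ b₂ r, g ^ Fintype.card F = 1 → g = 1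
  · obtain ⟨hU, h3⟩ := tri_nondeg hC hT
    exact Or.inr (SO3.dichotomy hC.fr.nd hC.fr.two (le_trans (by norm_num) hC.hn) hU h3 (triG_le_rot hC hT) hfree)
  · push Not at hfree
    obtain ⟨g, hg, hgp, hg1⟩ := hfree
    exact Or.inl (fullOn_of_p hC hT hprime hg hgp hg1)

theorem bf_comb {i j : Fin t} (hij : i ≠ j) {z : ι → F} (hzi : bf Q c z (e i) = 0) (hzj : bf Q c z (e j) = 0)
    (a b d : F) : bf Q c (a • e i + b • e j + d • z) (e i) = a ∧ bf Q c (a • e i + b • e j + d • z) (e j) = b ∧
      bf Q c (a • e i + b • e j + d • z) z = d * bf Q c z z := by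
  have hfr := hC.fr
  refine ⟨?_, ?_, ?_⟩
  · rw [bf_add_left hfr, bf_add_left hfr, coord_smul hfr, coord_smul hfr, if_pos rfl, if_neg hij.symm,
      bf_smul_left hfr, hzi]; ring
  · rw [bf_add_left hfr, bf_add_left hfr, coord_smul hfr, coord_smul hfr, if_pos rfl, if_neg hij,
      bf_smul_left hfr, hzj]; ring
  · rw [bf_add_left hfr, bf_add_left hfr, bf_smul_left hfr, bf_smul_left hfr, bf_smul_left hfr,
      bf_comm (e i) z, bf_comm (e j) z, hzi, hzj]; ring

/-- A centre with non-zero coordinates on a pair and off it restricts the first coordinate. -/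
theorem bad_or_full {i j : Fin t} (hij : i ≠ j) {z : ι → F} (hzi : bf Q c z (e i) = 0) (hzj : bf Q c z (e j) = 0)
    (hz : Q z ≠ 0) {a b : F} (ha : a ≠ 0) (hb : b ≠ 0) (hx : a • e i + b • e j + z ∈ Cen Q e c M) :
    FullOn Q e c M (triU (e i) (e j) z) ∨ Bad a := by
  have hfr := hC.fr
  have h2 := hfr.two
  have hei : e i ∈ Submodule.span F ({e i, e j, z} : Set (ι → F)) := Submodule.subset_span (Or.inl rfl)
  have hej : e j ∈ Submodule.span F ({e i, e j, z} : Set (ι → F)) := Submodule.subset_span (Or.inr (Or.inl rfl))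
  have hzU : z ∈ Submodule.span F ({e i, e j, z} : Set (ι → F)) := Submodule.subset_span (Or.inr (Or.inr rfl))
  have hq : ∀ k, Q (e k) ≠ 0 := fun k => by rw [q_frame hfr]; exact hfr.c0
  have hT := tri_of_pair hC hij hzi hzj hz hei (hq i) fun x hx' _ => cen_refl hC (cen_frame hC i) hx'
  set w := a • e i + b • e j + z with hw
  have hwU : w ∈ triU (e i) (e j) z := Submodule.add_mem _ (Submodule.add_mem _ (Submodule.smul_mem _ _ hei)
    (Submodule.smul_mem _ _ hej)) hzU
  have hw0 : Q w ≠ 0 := hx.1 ▸ hfr.c0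
  obtain ⟨hwi, hwj, hwz⟩ := bf_comb hC hprime hij hzi hzj a b 1
  rw [one_smul, ← hw] at hwi hwj hwz
  rw [one_mul] at hwz
  have hww : bf Q c w w = 1 := (value_iff hfr _).1 hx.1
  have hbz : bf Q c z z ≠ 0 := fun h => hz (by rw [q_bf hfr, h, mul_zero])
  set J := triJ Q (e i) (e j) z with hJ
  have si := sigma_spec hC hT hei (hq i)
  have sw := sigma_spec hC hT hwU hw0
  have gi := gen_mem_triG hC hT (Or.inr ⟨cen_frame hC i, hei⟩)
  have gj := gen_mem_triG hC hT (Or.inr ⟨cen_frame hC j, hej⟩)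
  have gw := gen_mem_triG hC hT (Or.inr ⟨hx, hwU⟩)
  rcases free_or_full hC hprime hT with h | h | h
  · exact Or.inl h
  · exfalso
    obtain ⟨v, hv, hv0, hfix⟩ := h
    have hsig : ∀ u, u ∈ Cen Q e c M → u ∈ triU (e i) (e j) z →
        (2 * bf Q c v u = 0 ∧ mv (R Q u * J) v = -v) ∨ ((2 : F) • v = (2 * bf Q c v u) • u) := by
      intro u hu huU
      have h := hfix _ (gen_mem_triG hC hT (Or.inr ⟨hu, huU⟩))
      rw [(sigma_spec hC hT huU (hu.1 ▸ hfr.c0)).2.2.2 v hv, mv_R hfr hu.1] at h
      rcases h with h | h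
      · exact Or.inr (by rw [two_smul]; linear_combination (norm := module) -h)
      · refine Or.inl ⟨?_, by rw [(sigma_spec hC hT huU (hu.1 ▸ hfr.c0)).2.2.2 v hv, mv_R hfr hu.1, h]⟩
        have h' : (2 * bf Q c v u) • u = 0 := by linear_combination (norm := module) h
        rcases smul_eq_zero.1 h' with h3 | h3
        · exact h3
        · exact absurd (by rw [h3, q_zero hfr.nd]) (hu.1 ▸ hfr.c0)
    obtain ⟨x, y, d, rfl⟩ := tri_coord hC hT hv
    obtain ⟨hvi, hvj, hvz⟩ := bf_comb hC hprime hij hzi hzj x y d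
    have hvw : bf Q c (x • e i + y • e j + d • z) w = x * a + y * b + d * bf Q c z z := by
      simp only [bf_add_left hfr, bf_smul_left hfr, bf_comm (e i) w, bf_comm (e j) w, bf_comm z w, hwi, hwj, hwz]
    -- the fixed line is a coordinate line
    have hax : ∀ (u : ι → F), u ∈ triU (e i) (e j) z →
        (2 : F) • (x • e i + y • e j + d • z) = (2 * bf Q c (x • e i + y • e j + d • z) u) • u →
        bf Q c u (e i) = 1 → bf Q c u (e j) = 0 → bf Q c u z = 0 → y = 0 ∧ d = 0 := by
      intro u _ h _ h1 h2'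
      have e1 := congrArg (fun s => bf Q c s (e j)) h
      have e2 := congrArg (fun s => bf Q c s z) h
      simp only [bf_smul_left hfr, hvj, hvz, h1, h2', mul_zero] at e1 e2
      exact ⟨(mul_eq_zero.1 e1).resolve_left h2, ((mul_eq_zero.1 ((mul_eq_zero.1 e2).resolve_left h2)).resolve_right hbz)⟩
    have hi' := hsig _ (cen_frame hC i) hei
    have hj' := hsig _ (cen_frame hC j) hej
    have hcase : (y = 0 ∧ d = 0) ∨ (x = 0 ∧ d = 0) ∨ (x = 0 ∧ y = 0) := by
      rcases hi' with ⟨h, -⟩ | h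
      · rw [hvi] at h
        have hx0 := (mul_eq_zero.1 h).resolve_left h2
        rcases hj' with ⟨h', -⟩ | h'
        · rw [hvj] at h'
          exact Or.inr (Or.inr ⟨hx0, (mul_eq_zero.1 h').resolve_left h2⟩)
        · have e2 := congrArg (fun s => bf Q c s z) h'
          simp only [bf_smul_left hfr, hvz, bf_comm (e j) z, hzj, mul_zero] at e2
          exact Or.inr (Or.inl ⟨hx0, ((mul_eq_zero.1 ((mul_eq_zero.1 e2).resolve_left h2)).resolve_right hbz)⟩)
      · exact Or.inl (hax _ hei h (frame_self hfr i) (frame_other hfr hij) (by rw [bf_comm, hzi]))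
    rcases hsig w hx hwU with ⟨h, -⟩ | h
    · rw [hvw] at h
      have h' := (mul_eq_zero.1 h).resolve_left h2
      rcases hcase with ⟨rfl, rfl⟩ | ⟨rfl, rfl⟩ | ⟨rfl, rfl⟩
      · have : x = 0 := by simpa [ha] using h'
        exact hv0 (by rw [this]; simp [q_zero hfr.nd])
      · have : y = 0 := by simpa [hb] using h'
        exact hv0 (by rw [this]; simp [q_zero hfr.nd])
      · have : d = 0 := by simpa [hbz] using h'
        exact hv0 (by rw [this]; simp [q_zero hfr.nd])
    · have e1 := congrArg (fun s => bf Q c s (e i)) h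
      have e2 := congrArg (fun s => bf Q c s (e j)) h
      simp only [bf_smul_left hfr, hvi, hvj, hwi, hwj] at e1 e2
      rcases hcase with ⟨rfl, rfl⟩ | ⟨rfl, rfl⟩ | ⟨rfl, rfl⟩
      all_goals
        simp only [mul_zero, zero_eq_mul, mul_eq_zero, h2, ha, hb, false_or, or_false] at e1 e2
      · have e1 : x = 0 := (mul_eq_zero.1 (show (2 : F) * x = 0 by rw [e1, e2]; ring)).resolve_left h2
        exact hv0 (by rw [e1]; simp [q_zero hfr.nd])
      · have e2 : y = 0 := (mul_eq_zero.1 (show (2 : F) * y = 0 by rw [e2, e1]; ring)).resolve_left h2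
        exact hv0 (by rw [e2]; simp [q_zero hfr.nd])
      · rw [hvw] at e1
        exact hv0 (by
          have : d = 0 := by
            have h' : (d * bf Q c z z) = 0 := by linear_combination e1
            exact (mul_eq_zero.1 h').resolve_right hbz
          rw [this]; simp [q_zero hfr.nd])
  · -- the order of a product of two reflections
    refine Or.inr ?_
    set g := R Q (e i) * R Q w with hg
    have hgG : g ∈ triG Q e c M (e i) (e j) z (e i) := by
      have := Subgroup.mul_mem _ gi gw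
      rwa [mul_assoc, ← mul_assoc (triJ Q (e i) (e j) z), sw.2.2.1, mul_assoc, triJ_sq hC hT, mul_one] at this
    have hord := h.1 g hgG
    have hpos : 0 < orderOf g := orderOf_pos g
    have hpow := pow_orderOf_eq_one g
    have hu := R_inv hfr (hq i)
    have hwinv := R_inv hfr hw0
    have hIi := (R_spec hfr (hq i)).1
    have hIw := (R_spec hfr hw0).1
    have hne : ∀ {x : F}, w ≠ x • e i := fun {x} h => hb (by rw [← hwj, h, bf_smul_left hfr, frame_other hfr hij, mul_zero])
    have hRiw : mv (R Q (e i)) w = w - (2 * a) • e i := by rw [mv_R hfr (q_frame hfr i), hwi]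
    have hRwi : mv (R Q w) (e i) = e i - (2 * a) • w := by rw [mv_R hfr hx.1, bf_comm, hwi]
    have hqq : ∀ {g : GL ι F} {x : ι → F}, g ∈ isometryGroup F Q → Q x = c → Q (mv g x) = c :=
      fun hg hx' => by rw [mem_isometry.1 hg, hx']
    have hcoef : ∀ {p q p' q' : F}, p • e i + q • w = p' • e i + q' • w → p = p' ∧ q = q' := by
      intro p q p' q' h'
      have e2 := congrArg (fun s => bf Q c s (e j)) h'
      simp only [bf_add_left hfr, bf_smul_left hfr, frame_other hfr hij, hwj, mul_zero, zero_add] at e2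
      have hqq' := mul_right_cancel₀ hb e2
      have e1 := congrArg (fun s => bf Q c s (e i)) h'
      simp only [bf_add_left hfr, bf_smul_left hfr, frame_self hfr, hqq', mul_one, add_left_inj] at e1
      exact ⟨e1, hqq'⟩
    interval_cases hn : orderOf g
    · -- equal reflections
      rw [pow_one, hg] at hpow
      have h1 : R Q (e i) = R Q w := by rw [← hwinv]; exact eq_inv_of_mul_eq_one_left hpow
      rcases eq_or_neg_of_R_eq hfr hx.1 (q_frame hfr i) h1.symm with h3 | h3
      · exact absurd (by rw [one_smul]; exact h3) (hne (x := 1))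
      · exact absurd (by rw [neg_one_smul]; exact h3) (hne (x := -1))
    · -- commuting reflections
      rw [pow_two, hg] at hpow
      have h1 : R Q (mv (R Q (e i)) w) = R Q w := by
        rw [← R_conj hfr hIi hw0, hu]
        calc R Q (e i) * R Q w * R Q (e i) = R Q (e i) * R Q w * (R Q (e i) * R Q w) * (R Q w)⁻¹ := by group
          _ = R Q w := by rw [hpow, one_mul, hwinv]
      rcases eq_or_neg_of_R_eq hfr (hqq hIi hx.1) hx.1 h1 with h3 | h3 <;> rw [hRiw] at h3
      · obtain ⟨h4, -⟩ := hcoef (p := -(2 * a)) (q := 1) (p' := 0) (q' := 1) (by linear_combination (norm := module) h3)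
        exact absurd (neg_eq_zero.1 h4) (mul_ne_zero h2 ha)
      · obtain ⟨-, h4⟩ := hcoef (p := -(2 * a)) (q := 1) (p' := 0) (q' := -1) (by linear_combination (norm := module) h3)
        exact absurd (by linear_combination h4) h2
    · -- order three
      left
      rw [pow_succ, pow_two, hg] at hpow
      have h1 : R Q (mv (R Q (e i)) w) = R Q (mv (R Q w) (e i)) := by
        rw [← R_conj hfr hIi hw0, ← R_conj hfr hIw (hq i), hu, hwinv]
        calc R Q (e i) * R Q w * R Q (e i) =
            (R Q (e i) * R Q w * (R Q (e i) * R Q w) * (R Q (e i) * R Q w)) *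
              ((R Q w)⁻¹ * (R Q (e i))⁻¹ * (R Q w)⁻¹) := by group
          _ = R Q w * R Q (e i) * R Q w := by rw [hpow, one_mul, hu, hwinv]
      rcases eq_or_neg_of_R_eq hfr (hqq hIi hx.1) (hqq hIw (q_frame hfr i)) h1 with h3 | h3 <;> rw [hRiw, hRwi] at h3
      · obtain ⟨h4, -⟩ := hcoef (p := -(2 * a)) (q := 1) (p' := 1) (q' := -(2 * a))
          (by linear_combination (norm := module) h3)
        linear_combination (1 - 2 * a) * h4
      · obtain ⟨h4, -⟩ := hcoef (p := -(2 * a)) (q := 1) (p' := -1) (q' := 2 * a)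
          (by linear_combination (norm := module) h3)
        linear_combination (-1 - 2 * a) * h4
    · -- order four
      rw [show (4 : ℕ) = 2 + 2 from rfl, pow_add, pow_two, hg] at hpow
      set w' := mv (R Q (e i)) w with hw'
      have hq' : Q w' = c := hqq hIi hx.1
      have h1 : R Q (mv (R Q w) w') = R Q w' := by
        rw [← R_conj hfr hIw (hq'.symm ▸ hfr.c0), hw', ← R_conj hfr hIi hw0, hu, hwinv]
        calc R Q w * (R Q (e i) * R Q w * R Q (e i)) * R Q w =
            (R Q (e i))⁻¹ * ((R Q (e i) * R Q w) * (R Q (e i) * R Q w) * ((R Q (e i) * R Q w) * (R Q (e i) * R Q w))) *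
              ((R Q w)⁻¹ * (R Q (e i))⁻¹) := by group
          _ = R Q (e i) * R Q w * R Q (e i) := by rw [hpow, mul_one, hu, hwinv, mul_assoc]
      have hww' : bf Q c w' w = 1 - 2 * (a * a) := by
        rw [hRiw, bf_sub_left hfr, bf_smul_left hfr, hww, bf_comm, hwi]; ring
      rcases eq_or_neg_of_R_eq hfr (hqq hIw hq') hq' h1 with h3 | h3 <;> rw [mv_R hfr hx.1, hww', hRiw] at h3
      · obtain ⟨-, h4⟩ := hcoef (p := -(2 * a)) (q := 1 - 2 * (1 - 2 * (a * a))) (p' := -(2 * a)) (q' := 1)
          (by linear_combination (norm := module) h3)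
        refine Or.inr (Or.inl (mul_left_cancel₀ h2 ?_))
        linear_combination h4
      · obtain ⟨h4, -⟩ := hcoef (p := -(2 * a)) (q := 1 - 2 * (1 - 2 * (a * a))) (p' := 2 * a) (q' := -1)
          (by linear_combination (norm := module) h3)
        exact absurd (show (2 : F) * (2 * a) = 0 by linear_combination -h4) (mul_ne_zero h2 (mul_ne_zero h2 ha))
    · -- order five
      right; right
      rw [show (5 : ℕ) = 2 + 2 + 1 from rfl, pow_succ, pow_add, pow_two, hg] at hpow
      have h1 : R Q (mv (R Q (e i) * R Q w) (e i)) = R Q (mv (R Q w * R Q (e i)) w) := by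
        rw [← R_conj hfr (mul_mem hIi hIw) (hq i), ← R_conj hfr (mul_mem hIw hIi) hw0, _root_.mul_inv_rev,
          _root_.mul_inv_rev, hu, hwinv]
        calc R Q (e i) * R Q w * R Q (e i) * (R Q w * R Q (e i)) =
            (R Q (e i) * R Q w * (R Q (e i) * R Q w) * ((R Q (e i) * R Q w) * (R Q (e i) * R Q w)) *
              (R Q (e i) * R Q w)) *
              ((R Q w)⁻¹ * (R Q (e i))⁻¹ * (R Q w)⁻¹ * ((R Q (e i))⁻¹ * (R Q w)⁻¹)) := by group
          _ = R Q w * R Q (e i) * R Q w * (R Q (e i) * R Q w) := by rw [hpow, one_mul, hu, hwinv]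
      have hl : mv (R Q (e i) * R Q w) (e i) = (4 * (a * a) - 1) • e i + (-(2 * a)) • w := by
        rw [mv_mul, hRwi, mv_sub, mv_smul, hRiw, (R_frame_spec hfr i).1]; module
      have hr : mv (R Q w * R Q (e i)) w = (-(2 * a)) • e i + (4 * (a * a) - 1) • w := by
        rw [mv_mul, hRiw, mv_sub, mv_smul, hRwi, mv_R hfr hx.1, hww]; module
      rcases eq_or_neg_of_R_eq hfr (hqq (mul_mem hIi hIw) (q_frame hfr i)) (hqq (mul_mem hIw hIi) hx.1) h1 with
        h3 | h3 <;> rw [hl, hr] at h3
      · obtain ⟨h4, -⟩ := hcoef h3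
        linear_combination (4 * (a * a) - 1 - 2 * a) * h4
      · obtain ⟨h4, -⟩ := hcoef (p' := 2 * a) (q' := -(4 * (a * a) - 1)) (h3.trans (by module))
        linear_combination (4 * (a * a) - 1 + 2 * a) * h4

/-- A centre near a compensated pair is octahedral or gives a full triple. -/
theorem octa {i j : Fin t} (hij : i ≠ j) {z : ι → F} (hzi : bf Q c z (e i) = 0) (hzj : bf Q c z (e j) = 0)
    (hz : Q z ≠ 0) (hcomp : ∀ x ∈ Cen Q e c M, x ∈ Submodule.span F ({e i, e j, z} : Set (ι → F)) →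
      mv (R Q (e i - (1 : F) • e j)) x ∈ Cen Q e c M) {a b d : F} (hd : d ≠ 0) (hab : a ≠ 0 ∨ b ≠ 0)
    (hx : a • e i + b • e j + d • z ∈ Cen Q e c M) :
    FullOn Q e c M (triU (e i) (e j) z) ∨
      (2 * bf Q c z z * (d * d) = 1 ∧ (a ≠ 0 → b ≠ 0 → a * a = b * b)) := by
  have hfr := hC.fr
  have h2 := hfr.two
  set r := e i - (1 : F) • e j with hr
  have hei : e i ∈ Submodule.span F ({e i, e j, z} : Set (ι → F)) := Submodule.subset_span (Or.inl rfl)
  have hej : e j ∈ Submodule.span F ({e i, e j, z} : Set (ι → F)) := Submodule.subset_span (Or.inr (Or.inl rfl))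
  have hzU : z ∈ Submodule.span F ({e i, e j, z} : Set (ι → F)) := Submodule.subset_span (Or.inr (Or.inr rfl))
  have hq : Q (e i) ≠ 0 := by rw [q_frame hfr]; exact hfr.c0
  have hrU : r ∈ Submodule.span F ({e i, e j, z} : Set (ι → F)) :=
    Submodule.sub_mem _ hei (Submodule.smul_mem _ _ hej)
  have hr0 : Q r ≠ 0 := by rw [hr, q_diff hfr hij (one_mul 1)]; exact two_c_ne hfr
  have hT := tri_of_pair hC hij hzi hzj hz hrU hr0 hcomp
  set x := a • e i + b • e j + d • z with hxdef
  have hxU : x ∈ triU (e i) (e j) z := Submodule.add_mem _ (Submodule.add_mem _ (Submodule.smul_mem _ _ hei)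
    (Submodule.smul_mem _ _ hej)) (Submodule.smul_mem _ _ hzU)
  obtain ⟨hxi, hxj, hxz⟩ := bf_comb hC hprime hij hzi hzj a b d
  rw [← hxdef] at hxi hxj hxz
  set N := bf Q c z z with hN
  have hN0 : N ≠ 0 := fun h => hz (by rw [q_bf hfr, ← hN, h, mul_zero])
  set J := triJ Q (e i) (e j) z with hJ
  set ρ := R Q r * J * (R Q (e i) * J) with hρ
  have gr := gen_mem_triG hC hT (Or.inl rfl)
  have gi := gen_mem_triG hC hT (Or.inr ⟨cen_frame hC i, hei⟩)
  have gx := gen_mem_triG hC hT (Or.inr ⟨hx, hxU⟩)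
  have hρG : ρ ∈ triG Q e c M (e i) (e j) z r := Subgroup.mul_mem _ gr gi
  have si := sigma_spec hC hT hei hq
  have sr := sigma_spec hC hT hrU hr0
  have sx := sigma_spec hC hT hxU (hx.1 ▸ hfr.c0)
  have hρI := triG_le_rot hC hT hρG
  obtain ⟨hr1, hr2, hr3, -⟩ := R_diff_spec hfr hij (one_mul (1 : F))
  rw [← hr, one_smul] at hr1 hr2
  have hσiz : ∀ u ∈ triU (e i) (e j) z, mv (R Q (e i) * J) u = (2 * bf Q c u (e i)) • e i - u := fun u hu => by
    rw [si.2.2.2 u hu, mv_R hfr (q_frame hfr i)]; abel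
  have hρi : mv ρ (e i) = -e j := by
    rw [hρ, mv_mul, hσiz _ hei, frame_self hfr, show (2 * (1 : F)) • e i - e i = e i by module, sr.2.2.2 _ hei, hr1]
  have hρj : mv ρ (e j) = e i := by
    rw [hρ, mv_mul, hσiz _ hej, frame_other hfr hij.symm, show (2 * (0 : F)) • e i - e j = -e j by module, mv_neg,
      sr.2.2.2 _ hej, hr2, neg_neg]
  have hρz : mv ρ z = z := by
    rw [hρ, mv_mul, hσiz _ hzU, hzi, show (2 * (0 : F)) • e i - z = -z by module, mv_neg, sr.2.2.2 _ hzU, hr,
      mv_R_diff hfr hij (one_mul 1), hzi, hzj]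
    module
  have hρ2 : ρ * ρ ≠ 1 := fun h => by
    have h' : mv (ρ * ρ) (e i) = e i := by rw [h, mv_one]
    rw [mv_mul, hρi, mv_neg, hρj] at h'
    have h'' := congrArg (fun s => bf Q c s (e i)) h'
    simp only [bf_neg_left hfr, frame_self hfr] at h''
    exact h2 (by linear_combination -h'')
  have hρ4 : ρ ^ 4 = 1 := by
    refine ext_mv fun v => ?_
    obtain ⟨hU, -⟩ := tri_nondeg hC hT
    obtain ⟨u, hu, hvu⟩ := exists_proj hfr.nd hU v
    obtain ⟨p, q, s, rfl⟩ := tri_coord hC hT hu
    rw [show v = p • e i + q • e j + s • z + (v - (p • e i + q • e j + s • z)) by abel,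
      show ρ ^ 4 = ρ * ρ * ρ * ρ by rw [pow_succ, pow_succ, pow_succ, pow_one]]
    simp only [mv_mul, mv_one, mv_add, mv_smul, mv_neg, hρi, hρj, hρz, hρI.2.1 _ hvu, neg_neg]
  have hσxz : mv (R Q x * J) z = (2 * (d * N)) • x - z := by
    rw [sx.2.2.2 z hzU, mv_R hfr hx.1, bf_comm z x, hxz]; abel
  have hnot : mv (R Q x * J) z ≠ z ∧ mv (R Q x * J) z ≠ -z := by
    have key : ∀ δ : F, mv (R Q x * J) z = δ • z → False := by
      intro δ h
      rw [hσxz] at h
      have e1 := congrArg (fun s => bf Q c s (e i)) h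
      have e2 := congrArg (fun s => bf Q c s (e j)) h
      simp only [bf_sub_left hfr, bf_smul_left hfr, hxi, hxj, hzi, hzj, mul_zero, sub_zero, mul_eq_zero, h2, hd, hN0,
        false_or] at e1 e2
      tauto
    exact ⟨fun h => key 1 (by rw [h, one_smul]), fun h => key (-1) (by rw [h, neg_one_smul])⟩
  rcases free_or_full hC hprime hT with h | h | h
  · exact Or.inl h
  · exfalso
    obtain ⟨v, hv, hv0, hfix⟩ := h
    obtain ⟨p, q, s, rfl⟩ := tri_coord hC hT hv
    have h1 : mv (ρ * ρ) (p • e i + q • e j + s • z) = p • e i + q • e j + s • z := by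
      rw [mv_mul]
      rcases hfix ρ hρG with h | h
      · rw [h, h]
      · rw [h, mv_neg, h, neg_neg]
    simp only [mv_mul, mv_add, mv_smul, mv_neg, hρi, hρj, hρz] at h1
    have e1 := congrArg (fun w => bf Q c w (e i)) h1
    have e2 := congrArg (fun w => bf Q c w (e j)) h1
    simp only [bf_add_left hfr, bf_smul_left hfr, bf_neg_left hfr, frame_self hfr, frame_other hfr hij,
      frame_other hfr hij.symm, hzi, hzj] at e1 e2
    have hp0 : p = 0 := (mul_eq_zero.1 (show (2 : F) * p = 0 by linear_combination -e1)).resolve_left h2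
    have hq0 : q = 0 := (mul_eq_zero.1 (show (2 : F) * q = 0 by linear_combination -e2)).resolve_left h2
    subst hp0 hq0
    have hs : s ≠ 0 := fun h => hv0 (by rw [h]; simp [q_zero hfr.nd])
    simp only [zero_smul, zero_add] at hfix
    rcases hfix _ gx with h | h
    · rw [mv_smul] at h
      exact hnot.1 (smul_right_injective _ hs h)
    · rw [mv_smul, ← smul_neg] at h
      exact hnot.2 (smul_right_injective _ hs h)
  refine Or.inr ?_
  rcases h.2 ρ hρG hρ2 hρ4 z hzU hρz _ gx with h | h | ⟨horth, hall⟩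
  · exact absurd h hnot.1
  · exact absurd h hnot.2
  rw [hσxz, pol_bf hfr, bf_sub_left hfr, bf_smul_left hfr, hxz, ← hN, mul_eq_zero, or_iff_right (two_c_ne hfr)] at horth
  have h1 : 2 * N * (d * d) = 1 := mul_left_cancel₀ hN0 (by linear_combination horth)
  refine ⟨h1, fun ha hb => ?_⟩
  have hA : mv (R Q x * J) z = (2 * (d * N) * a) • e i + (2 * (d * N) * b) • e j := by
    rw [hσxz, hxdef]
    have h0 : 2 * (d * N) * d = 1 := by linear_combination h1
    match_scalars <;> first | linear_combination h0 | linear_combination d * h0 | ring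
  have hh' := Subgroup.mul_mem _ gi gx
  have hA' : mv (R Q (e i) * J * (R Q x * J)) z = (2 * (d * N) * a) • e i - (2 * (d * N) * b) • e j := by
    rw [mv_mul, hA, hσiz _ (Submodule.add_mem _ (Submodule.smul_mem _ _ hei) (Submodule.smul_mem _ _ hej)),
      bf_add_left hfr, coord_smul hfr, coord_smul hfr, if_pos rfl, if_neg hij.symm]
    module
  have hk := hall _ hh' (by
    rw [hA', pol_bf hfr, bf_sub_left hfr, bf_smul_left hfr, bf_smul_left hfr, bf_comm (e i) z, bf_comm (e j) z,
      hzi, hzj]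
    ring)
  rw [hA', hA] at hk
  simp only [mv_add, mv_smul, hρi, hρj] at hk
  have hm : 2 * (d * N) ≠ 0 := mul_ne_zero h2 (mul_ne_zero hd hN0)
  rcases hk with hk | hk | hk | hk
  all_goals
    have e1 := congrArg (fun s => bf Q c s (e i)) hk
    have e2 := congrArg (fun s => bf Q c s (e j)) hk
    simp only [bf_add_left hfr, bf_sub_left hfr, bf_neg_left hfr, bf_smul_left hfr, frame_self hfr,
      frame_other hfr hij, frame_other hfr hij.symm] at e1 e2
  · exact absurd ((mul_eq_zero.1 (show (2 * (d * N)) * (2 * b) = 0 by linear_combination -e2)).resolve_left hm)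
      (mul_ne_zero h2 hb)
  · exact absurd ((mul_eq_zero.1 (show (2 * (d * N)) * (2 * a) = 0 by linear_combination e1)).resolve_left hm)
      (mul_ne_zero h2 ha)
  · have hab' : a = b := mul_left_cancel₀ hm (by linear_combination e1)
    rw [hab']
  · have hab' : a = -b := mul_left_cancel₀ hm (by linear_combination e1)
    rw [hab']; ring

end Cfsg.Agent.Transvec.OFr
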