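/-
Descent on the support of a centre: some coordinate triple is full when the characteristic is at least five.
-/
import Cfsg.Agent.Lib.Transvec.OrthFrameTriple
set_option autoImplicit false
set_option linter.unusedSectionVars false
set_option maxHeartbeats 800000

namespace Cfsg.Agent.Transvec.OFr

open scoped Matrix
open Matrix Cfsg.Agent.Transvec Cfsg.Agent.Transvec.Orth

variable {ι : Type} [Fintype ι] [DecidableEq ι] {F : Type*} [Field F] [Fintype F] {Q : (ι → F) → F}
variable {t : ℕ} {e : Fin t → ι → F} {c : F} {M : Subgroup (GL ι F)}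

/-- The part of x off two frame vectors. -/
def rest (Q : (ι → F) → F) (e : Fin t → ι → F) (c : F) (x : ι → F) (i j : Fin t) : ι → F :=
  x - bf Q c x (e i) • e i - bf Q c x (e j) • e j

/-- Some coordinate triple is full. -/
def FullT (Q : (ι → F) → F) (e : Fin t → ι → F) (c : F) (M : Subgroup (GL ι F)) : Prop :=
  ∃ i j k, i ≠ j ∧ i ≠ k ∧ j ≠ k ∧ FullOn Q e c M (triU (e i) (e j) (e k))

/-- The squared coordinate. -/
def nrm (Q : (ι → F) → F) (e : Fin t → ι → F) (c : F) (x : ι → F) (k : Fin t) : F :=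
  bf Q c x (e k) * bf Q c x (e k)

variable (hC : Ctx Q e c M)
include hC

theorem sum_nrm {x : ι → F} (hx : Q x = c) : ∑ k ∈ supp Q e c x, nrm Q e c x k = 1 := by
  rw [← (value_iff hC.fr x).1 hx, bf_coord hC.fr x x]
  refine Finset.sum_subset (Finset.subset_univ _) fun k _ hk => ?_
  rw [mem_supp, not_not] at hk
  rw [nrm, hk, mul_zero]

theorem not_small_of_card {y : ι → F} (h : 3 ≤ (supp Q e c y).card) : ¬ Small e y := by
  obtain ⟨p, q, r, hp, hq, hr, hpq, hpr, hqr⟩ := Finset.two_lt_card_iff.1 h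
  exact not_small_of hC.fr hpq (mem_supp.1 hp) (mem_supp.1 hq)
    (Or.inl ⟨r, hpr.symm, hqr.symm, mem_supp.1 hr⟩)

theorem rest_spec {x : ι → F} {i j : Fin t} (hij : i ≠ j) :
    bf Q c (rest Q e c x i j) (e i) = 0 ∧ bf Q c (rest Q e c x i j) (e j) = 0 ∧
      (∀ k, k ≠ i → k ≠ j → bf Q c (rest Q e c x i j) (e k) = bf Q c x (e k)) ∧
      x = bf Q c x (e i) • e i + bf Q c x (e j) • e j + (1 : F) • rest Q e c x i j ∧
      bf Q c (rest Q e c x i j) (rest Q e c x i j) = bf Q c x x - nrm Q e c x i - nrm Q e c x j := by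
  have hfr := hC.fr
  have hi : bf Q c (rest Q e c x i j) (e i) = 0 := by
    rw [rest, bf_sub_left hfr, bf_sub_left hfr, coord_smul hfr, coord_smul hfr, if_pos rfl, if_neg hij.symm]; ring
  have hj : bf Q c (rest Q e c x i j) (e j) = 0 := by
    rw [rest, bf_sub_left hfr, bf_sub_left hfr, coord_smul hfr, coord_smul hfr, if_pos rfl, if_neg hij]; ring
  refine ⟨hi, hj, fun k hki hkj => ?_, by rw [rest]; module, ?_⟩
  · rw [rest, bf_sub_left hfr, bf_sub_left hfr, coord_smul hfr, coord_smul hfr, if_neg hki.symm, if_neg hkj.symm]; ring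
  · have h1 : bf Q c (rest Q e c x i j) x = bf Q c x x - nrm Q e c x i - nrm Q e c x j := by
      rw [rest, bf_sub_left hfr, bf_sub_left hfr, bf_smul_left hfr, bf_smul_left hfr, bf_comm (e i) x,
        bf_comm (e j) x]
      rfl
    have e0 : ∀ w, bf Q c w (rest Q e c x i j) =
        bf Q c w x - bf Q c x (e i) * bf Q c w (e i) - bf Q c x (e j) * bf Q c w (e j) := fun w => by
      rw [rest, bf_sub_right hfr, bf_sub_right hfr, bf_smul_right hfr, bf_smul_right hfr]
    rw [e0, h1, hi, hj]; ring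

theorem rest_q {x : ι → F} (hx : Q x = c) {i j : Fin t} (hij : i ≠ j)
    (h : nrm Q e c x i + nrm Q e c x j ≠ 1) :
    Q (rest Q e c x i j) ≠ 0 ∧
      bf Q c (rest Q e c x i j) (rest Q e c x i j) = 1 - nrm Q e c x i - nrm Q e c x j := by
  have h5 := (rest_spec hC hij (x := x)).2.2.2.2
  rw [(value_iff hC.fr x).1 hx] at h5
  refine ⟨fun h0 => h ?_, h5⟩
  rw [q_bf hC.fr, h5, mul_eq_zero, or_iff_right hC.fr.c0] at h0
  linear_combination -h0

variable (hprime : (Fintype.card F).Prime) (h3 : (3 : F) ≠ 0)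
include hprime h3

/-- The vectors of value c in a full space with a smaller support. -/
theorem reduce {x : ι → F} {i j : Fin t} (hij : i ≠ j)
    (hj : bf Q c x (e j) ≠ 0) (hz : Q (rest Q e c x i j) ≠ 0)
    (hfull : FullOn Q e c M (triU (e i) (e j) (rest Q e c x i j))) :
    (∃ y ∈ Cen Q e c M, supp Q e c y = (supp Q e c x).erase i ∧
      ∃ γ : F, γ ≠ 0 ∧ ∀ k, k ≠ i → k ≠ j → bf Q c y (e k) = γ * bf Q c x (e k)) ∨
    ((∀ u : F, u ≠ 0 → u ^ 4 = 1) ∧
      bf Q c (rest Q e c x i j) (rest Q e c x i j) ^ 2 = 1 ∧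
      ∃ y ∈ Cen Q e c M, supp Q e c y = ((supp Q e c x).erase i).erase j) := by
  classical
  have hfr := hC.fr
  obtain ⟨hzi, hzj, hzk, -, -⟩ := rest_spec hC hij (x := x)
  set z := rest Q e c x i j with hzdef
  set N := bf Q c z z with hN
  have hN0 : N ≠ 0 := fun h => hz (by rw [q_bf hfr, ← hN, h, mul_zero])
  have hcen : ∀ β γ : F, β * β + γ * γ * N = 1 → β • e j + γ • z ∈ Cen Q e c M := by
    intro β γ h
    refine cen_of_fullOn hC (tri_of_pair hC hij hzi hzj hz (Submodule.subset_span (Or.inl rfl))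
      (by rw [q_frame hfr]; exact hfr.c0) fun y hy _ => cen_refl hC (cen_frame hC i) hy) hfull (cen_frame hC i)
      (Submodule.subset_span (Or.inl rfl))
      (Submodule.add_mem _ (Submodule.smul_mem _ _ (Submodule.subset_span (Or.inr (Or.inl rfl))))
        (Submodule.smul_mem _ _ (Submodule.subset_span (Or.inr (Or.inr rfl))))) ?_
    rw [value_iff hfr]
    simp only [bf_add_left hfr, bf_add_right hfr, bf_smul_left hfr, bf_smul_right hfr, frame_self hfr,
      bf_comm (e j) z, hzj, ← hN]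
    linear_combination h
  have hcrd : ∀ β γ : F, (bf Q c (β • e j + γ • z) (e i) = 0) ∧ bf Q c (β • e j + γ • z) (e j) = β ∧
      ∀ k, k ≠ i → k ≠ j → bf Q c (β • e j + γ • z) (e k) = γ * bf Q c x (e k) := by
    intro β γ
    refine ⟨?_, ?_, fun k hki hkj => ?_⟩
    · rw [bf_add_left hfr, coord_smul hfr, if_neg hij.symm, bf_smul_left hfr, hzi]; ring
    · rw [bf_add_left hfr, coord_smul hfr, if_pos rfl, bf_smul_left hfr, hzj]; ring
    · rw [bf_add_left hfr, coord_smul hfr, if_neg hkj.symm, bf_smul_left hfr, hzk k hki hkj]; ring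
  by_cases hpt : ∃ β γ : F, β ≠ 0 ∧ γ ≠ 0 ∧ β * β + γ * γ * N = 1
  · obtain ⟨β, γ, hβ, hγ, h⟩ := hpt
    refine Or.inl ⟨_, hcen β γ h, ?_, γ, hγ, (hcrd β γ).2.2⟩
    ext k
    rw [Finset.mem_erase, mem_supp, mem_supp]
    rcases eq_or_ne k i with rfl | hki
    · simp [(hcrd β γ).1]
    rcases eq_or_ne k j with rfl | hkj
    · simp [(hcrd β γ).2.1, hβ, hki, hj]
    simp [(hcrd β γ).2.2 k hki hkj, hγ, hki]
  push Not at hpt
  have hall : ∀ u : F, u ≠ 0 → N * (u * u) * (N * (u * u)) = 1 := by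
    intro u hu
    by_contra hne
    have h1 : N * (u * u) + 1 ≠ 0 := fun h => hne (by linear_combination (N * (u * u) - 1) * h)
    have h2 : N * (u * u) - 1 ≠ 0 := fun h => hne (by linear_combination (N * (u * u) + 1) * h)
    refine hpt ((N * (u * u) - 1) / (N * (u * u) + 1)) (-(2 * u) / (N * (u * u) + 1)) (div_ne_zero h2 h1)
      (div_ne_zero (neg_ne_zero.2 (mul_ne_zero hfr.two hu)) h1) ?_
    rw [div_mul_div_comm, div_mul_div_comm, div_mul_eq_mul_div, ← add_div,
      div_eq_one_iff_eq (mul_ne_zero h1 h1)]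
    ring
  have hN1 : N * N = 1 := by
    have := hall 1 one_ne_zero
    linear_combination this
  have hu4 : ∀ u : F, u ≠ 0 → u ^ 4 = 1 := fun u hu => by
    linear_combination hall u hu - u ^ 4 * hN1
  have hcard : Fintype.card F = 5 := by
    have hsub : (Finset.univ : Finset F).erase 0 ⊆ (Polynomial.nthRoots 4 (1 : F)).toFinset := fun u hu => by
      rw [Multiset.mem_toFinset, Polynomial.mem_nthRoots (by norm_num : 0 < 4)]
      exact hu4 u (Finset.ne_of_mem_erase hu)
    have h1 := (Finset.card_le_card hsub).trans ((Multiset.toFinset_card_le _).trans (Polynomial.card_nthRoots 4 1))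
    rw [Finset.card_erase_of_mem (Finset.mem_univ _), Finset.card_univ] at h1
    have h2 := hprime.two_le
    have hF := FiniteField.cast_card_eq_zero F
    rcases (show Fintype.card F = 2 ∨ Fintype.card F = 3 ∨ Fintype.card F = 4 ∨ Fintype.card F = 5 by omega) with
      h | h | h | h
    · rw [h] at hF; exact absurd (by exact_mod_cast hF) hfr.two
    · rw [h] at hF; exact absurd (by exact_mod_cast hF) h3
    · rw [h] at hprime; norm_num at hprime
    · exact h
  have h5 : (5 : F) = 0 := by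
    have hF := FiniteField.cast_card_eq_zero F
    rw [hcard] at hF
    exact_mod_cast hF
  obtain ⟨γ, hγ0, hγ⟩ : ∃ γ : F, γ ≠ 0 ∧ γ * γ * N = 1 := by
    rcases mul_self_eq_one_iff.1 hN1 with h | h <;> rw [h]
    · exact ⟨1, one_ne_zero, by ring⟩
    · exact ⟨2, hfr.two, by linear_combination -h5⟩
  refine Or.inr ⟨hu4, by rw [pow_two]; exact hN1, _, hcen 0 γ (by linear_combination hγ), ?_⟩
  ext k
  rw [Finset.mem_erase, Finset.mem_erase, mem_supp, mem_supp]
  rcases eq_or_ne k i with rfl | hki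
  · simp only [(hcrd 0 γ).1, ne_eq, not_true_eq_false, false_and, and_false]
  rcases eq_or_ne k j with rfl | hkj
  · simp only [(hcrd 0 γ).2.1, ne_eq, not_true_eq_false, false_and]
  rw [(hcrd 0 γ).2.2 k hki hkj]
  simp [hγ0, hki, hkj]

omit h3 in
theorem full_of_three {x : ι → F} (hx : x ∈ Cen Q e c M) {i j k : Fin t} (hij : i ≠ j) (hik : i ≠ k)
    (hjk : j ≠ k) (hsup : ∀ l, l ≠ i → l ≠ j → l ≠ k → bf Q c x (e l) = 0) (hk : bf Q c x (e k) ≠ 0)
    (hij' : bf Q c x (e i) ≠ 0 ∨ bf Q c x (e j) ≠ 0) :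
    FullT Q e c M ∨ (2 * nrm Q e c x k = 1 ∧
      (bf Q c x (e i) ≠ 0 → bf Q c x (e j) ≠ 0 → nrm Q e c x i = nrm Q e c x j)) := by
  have hfr := hC.fr
  obtain ⟨p, q, hp, hq, hpq⟩ := exists_others hC {i, j, k} (by
    have := Finset.card_le_three (a := i) (b := j) (c := k)
    have := hC.ht
    omega)
  simp only [Finset.mem_insert, Finset.mem_singleton, not_or] at hp hq
  have hxe : x = bf Q c x (e i) • e i + bf Q c x (e j) • e j + bf Q c x (e k) • e k := coord_ext hfr fun l => by
    simp only [bf_add_left hfr, coord_smul hfr]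
    rcases eq_or_ne l i with rfl | hli
    · simp [hij.symm, hik.symm]
    rcases eq_or_ne l j with rfl | hlj
    · simp [hij, hjk.symm]
    rcases eq_or_ne l k with rfl | hlk
    · simp [hik, hjk]
    simp [hli.symm, hlj.symm, hlk.symm, hsup l hli hlj hlk]
  rcases octa hC hprime hij (z := e k) (frame_other hfr hik.symm) (frame_other hfr hjk.symm)
      (by rw [q_frame hfr]; exact hfr.c0)
      (rC_of_comp hC hij hp.1 hp.2.1 hq.1 hq.2.1 hpq (one_mul (1 : F))
        (by rw [frame_other hfr (Ne.symm hp.2.2), frame_other hfr (Ne.symm hq.2.2), mul_zero]))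
      hk hij' (by rw [← hxe]; exact hx) with h | ⟨h1, h2⟩
  · exact Or.inl ⟨i, j, k, hij, hik, hjk, h⟩
  · rw [frame_self hfr, mul_one] at h1
    exact Or.inr ⟨h1, h2⟩

/-- Centres of support at most three which are not small give a full triple. -/
theorem full_of_small_supp {x : ι → F} (hx : x ∈ Cen Q e c M) (hns : ¬ Small e x)
    (hs : (supp Q e c x).card ≤ 3) : FullT Q e c M := by
  classical
  have hfr := hC.fr
  have h2 := hfr.two
  have hsum := sum_nrm hC hx.1
  by_contra hno
  have hout : ∀ l, l ∉ supp Q e c x → bf Q c x (e l) = 0 := fun l hl => by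
    rwa [mem_supp, not_not] at hl
  have hx3 : (supp Q e c x).card = 0 ∨ (supp Q e c x).card = 1 ∨ (supp Q e c x).card = 2 ∨
      (supp Q e c x).card = 3 := by omega
  rcases hx3 with h | h | h | h
  · rw [Finset.card_eq_zero.1 h, Finset.sum_empty] at hsum
    exact zero_ne_one hsum
  · obtain ⟨i, hi⟩ := Finset.card_eq_one.1 h
    refine hns (Or.inl ⟨i, bf Q c x (e i), ?_⟩)
    conv_lhs => rw [mem_span_of_coord hfr (s := supp Q e c x) hout, hi, Finset.sum_singleton]
  · obtain ⟨i, j, hij, hsij⟩ := Finset.card_eq_two.1 h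
    rw [hsij, Finset.sum_pair hij] at hsum
    have hxe : x = bf Q c x (e i) • e i + bf Q c x (e j) • e j := by
      conv_lhs => rw [mem_span_of_coord hfr (s := supp Q e c x) hout, hsij, Finset.sum_pair hij]
    obtain ⟨k, -, hk, -, -⟩ := exists_others hC {i, j} (by
      rw [Finset.card_pair hij]; have := hC.ht; omega)
    simp only [Finset.mem_insert, Finset.mem_singleton, not_or] at hk
    obtain ⟨g, hg, hgm, hgi⟩ := exists_tuple hC (n := 2) (by norm_num) ![i, j] ![j, k]
      (by intro u v; fin_cases u <;> fin_cases v <;> simp [hij, hij.symm])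
      (by intro u v; fin_cases u <;> fin_cases v <;> simp [Ne.symm hk.2, hk.2]) (fun _ => 1) fun _ => one_mul 1
    have hgx := (mon_cenStab hC hg hgm).2 x hx
    have h0 := hgi 0
    have h1 := hgi 1
    simp only [Matrix.cons_val_zero, Matrix.cons_val_one, one_smul] at h0 h1
    rw [hxe, mv_add, mv_smul, mv_smul, h0, h1] at hgx
    set a := bf Q c x (e i) with ha
    set b := bf Q c x (e j) with hb
    have ha0 : a ≠ 0 := mem_supp.1 (hsij ▸ Finset.mem_insert_self i {j})
    have hb0 : b ≠ 0 := mem_supp.1 (hsij ▸ Finset.mem_insert_of_mem (Finset.mem_singleton_self j))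
    have hcr : ∀ l, bf Q c (a • e j + b • e k) (e l) = (if j = l then a else 0) + (if k = l then b else 0) :=
      fun l => by rw [bf_add_left hfr, coord_smul hfr, coord_smul hfr]
    rcases full_of_three hC hprime hgx hij (Ne.symm hk.1) (Ne.symm hk.2)
        (fun l _ hlj hlk => by rw [hcr, if_neg hlj.symm, if_neg hlk.symm, add_zero])
        (by rw [hcr, if_neg (Ne.symm hk.2), if_pos rfl, zero_add]; exact hb0)
        (Or.inr (by rw [hcr, if_pos rfl, if_neg hk.2, add_zero]; exact ha0)) with h' | ⟨h', -⟩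
    · exact hno h'
    · rw [nrm, hcr, if_neg (Ne.symm hk.2), if_pos rfl, zero_add] at h'
      refine hns (Or.inr ⟨i, j, a, b, hij, hxe, ?_, h'⟩)
      simp only [nrm, ← ha, ← hb] at hsum
      linear_combination 2 * hsum - h'
  · obtain ⟨i, j, k, hij, hik, hjk, hs3⟩ := Finset.card_eq_three.1 h
    have hmem : ∀ {l}, l = i ∨ l = j ∨ l = k → bf Q c x (e l) ≠ 0 := fun {l} hl =>
      mem_supp.1 (by rw [hs3]; simp only [Finset.mem_insert, Finset.mem_singleton]; exact hl)
    have hz : ∀ l, l ≠ i → l ≠ j → l ≠ k → bf Q c x (e l) = 0 := fun l h1 h2' h3' =>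
      hout l (by rw [hs3]; simp [h1, h2', h3'])
    rw [hs3, Finset.sum_insert (by simp [hij, hik]), Finset.sum_pair hjk] at hsum
    rcases full_of_three hC hprime hx hij hik hjk hz (hmem (Or.inr (Or.inr rfl)))
        (Or.inl (hmem (Or.inl rfl))) with h' | ⟨e1, e2⟩
    · exact hno h'
    rcases full_of_three hC hprime hx hjk hij.symm hik.symm (fun l h1 h2' h3' => hz l h3' h1 h2')
        (hmem (Or.inl rfl)) (Or.inl (hmem (Or.inr (Or.inl rfl)))) with h' | ⟨e3, -⟩
    · exact hno h'
    have e4 := e2 (hmem (Or.inl rfl)) (hmem (Or.inr (Or.inl rfl)))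
    exact one_ne_zero (α := F) (by linear_combination 2 * hsum - 2 * e3 - e1 + 2 * e4)

omit hprime h3 in
/-- A centre and a sign change of it give a third centre. -/
theorem flip {x : ι → F} (hx : x ∈ Cen Q e c M) {W : Finset (Fin t)} {g : GL ι F} (hg : g ∈ cenStab Q e c M)
    (hW : Signs e W g) {β : F} (hβ : β = 1 - 2 * ∑ k ∈ W, nrm Q e c x k) :
    ∃ y ∈ Cen Q e c M, ∀ k, bf Q c y (e k) =
      if k ∈ W then bf Q c x (e k) * (1 + 2 * β) else bf Q c x (e k) * (1 - 2 * β) := by
  classical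
  have hfr := hC.fr
  have hgx := hg.2 x hx
  refine ⟨_, cen_refl hC hgx hx, fun k => ?_⟩
  have hxy : bf Q c x (mv g x) = β := by
    have hW2 : 2 * ∑ k ∈ W, nrm Q e c x k = ∑ k, if k ∈ W then 2 * nrm Q e c x k else 0 := by
      rw [Finset.mul_sum, Finset.sum_ite_mem, Finset.univ_inter]
    rw [hβ, hW2, ← (value_iff hfr x).1 hx.1, bf_coord hfr x (mv g x), bf_coord hfr x x, ← Finset.sum_sub_distrib]
    refine Finset.sum_congr rfl fun k _ => ?_
    rw [Signs.coord hfr hW]
    split_ifs <;> (try simp only [nrm]) <;> ring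
  rw [mv_R hfr hgx.1, hxy, bf_sub_left hfr, bf_smul_left hfr, Signs.coord hfr hW]
  split_ifs <;> ring

end Cfsg.Agent.Transvec.OFr

namespace Cfsg.Agent.Transvec.OFr

open scoped Matrix
open Matrix Cfsg.Agent.Transvec Cfsg.Agent.Transvec.Orth

variable {ι : Type} [Fintype ι] [DecidableEq ι] {F : Type*} [Field F] [Fintype F] {Q : (ι → F) → F}
variable {t : ℕ} {e : Fin t → ι → F} {c : F} {M : Subgroup (GL ι F)}
variable (hC : Ctx Q e c M) (hprime : (Fintype.card F).Prime) (h3 : (3 : F) ≠ 0)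
variable {s : ℕ} (hs : 4 ≤ s) (hmin : ∀ y ∈ Cen Q e c M, ¬ Small e y → s ≤ (supp Q e c y).card)
include hC hprime h3 hs hmin

/-- A minimal centre spans no full space with two of its frame vectors. -/
theorem no_full {x : ι → F} (hxs : (supp Q e c x).card = s) {i j : Fin t} (hij : i ≠ j)
    (hi : i ∈ supp Q e c x) (hj : j ∈ supp Q e c x) (hz : Q (rest Q e c x i j) ≠ 0) :
    ¬ FullOn Q e c M (triU (e i) (e j) (rest Q e c x i j)) := by
  classical
  intro hfull
  rcases reduce hC hprime h3 hij (mem_supp.1 hj) hz hfull with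
    ⟨y, hy, hsy, -⟩ | ⟨hu4, hN, y, hy, hsy⟩
  · have hcard : (supp Q e c y).card = s - 1 := by rw [hsy, Finset.card_erase_of_mem hi, hxs]
    have := hmin y hy (not_small_of_card hC (by omega))
    omega
  · have hj' : j ∈ (supp Q e c x).erase i := Finset.mem_erase.2 ⟨hij.symm, hj⟩
    have hcard : (supp Q e c y).card = s - 2 := by
      rw [hsy, Finset.card_erase_of_mem hj', Finset.card_erase_of_mem hi, hxs]; omega
    by_cases h5 : 5 ≤ s
    · have := hmin y hy (not_small_of_card hC (by omega))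
      omega
    obtain ⟨k, l, hkl, hkl'⟩ := Finset.card_eq_two.1 (show (supp Q e c y).card = 2 by omega)
    rw [hkl'] at hsy
    set z := rest Q e c x i j with hzdef
    obtain ⟨hzi, hzj, hzk, -, -⟩ := rest_spec hC hij (x := x)
    have hzz : bf Q c z z = bf Q c z (e k) * bf Q c z (e k) + bf Q c z (e l) * bf Q c z (e l) := by
      rw [bf_coord hC.fr z z, ← Finset.sum_pair (f := fun u => bf Q c z (e u) * bf Q c z (e u)) hkl]
      refine (Finset.sum_subset (Finset.subset_univ _) fun u _ hu => ?_).symm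
      rw [hsy, Finset.mem_erase, Finset.mem_erase] at hu
      rcases eq_or_ne u i with rfl | hui
      · rw [hzi, mul_zero]
      rcases eq_or_ne u j with rfl | huj
      · rw [hzj, mul_zero]
      have : bf Q c x (e u) = 0 := by
        by_contra h0
        exact hu ⟨huj, hui, mem_supp.2 h0⟩
      rw [hzk u hui huj, this, mul_zero]
    have hsq : ∀ u ∈ ({k, l} : Finset (Fin t)), bf Q c z (e u) * bf Q c z (e u) = 1 ∨
        bf Q c z (e u) * bf Q c z (e u) = -1 := by
      intro u hu
      rw [hsy, Finset.mem_erase, Finset.mem_erase, mem_supp] at hu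
      refine mul_self_eq_one_iff.1 ?_
      have := hu4 _ (show bf Q c z (e u) ≠ 0 by rw [hzk u hu.2.1 hu.1]; exact hu.2.2)
      linear_combination this
    rw [hzz] at hN
    rcases hsq k (by simp) with hk | hk <;> rcases hsq l (by simp) with hl | hl <;> rw [hk, hl] at hN
    · exact h3 (by linear_combination hN)
    · exact one_ne_zero (α := F) (by linear_combination -hN)
    · exact one_ne_zero (α := F) (by linear_combination -hN)
    · exact h3 (by linear_combination hN)

/-- Two places of a minimal centre with a compensator of two further places of one square. -/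
theorem quad_of_equal {x : ι → F} (hx : x ∈ Cen Q e c M) (hxs : (supp Q e c x).card = s) {i j k l : Fin t}
    (hij : i ≠ j) (hi : i ∈ supp Q e c x) (hj : j ∈ supp Q e c x) (hki : k ≠ i) (hkj : k ≠ j) (hli : l ≠ i)
    (hlj : l ≠ j) (hkl : k ≠ l) (hn : nrm Q e c x k = nrm Q e c x l) :
    nrm Q e c x i + nrm Q e c x j = 1 ∨ (4 * nrm Q e c x i = 1 ∧ 4 * nrm Q e c x j = 1) := by
  classical
  by_cases hsum1 : nrm Q e c x i + nrm Q e c x j = 1
  · exact Or.inl hsum1
  refine Or.inr ?_
  have hfr := hC.fr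
  obtain ⟨hz, hzz⟩ := rest_q hC hx.1 hij hsum1
  obtain ⟨hzi, hzj, hzk, hxe, -⟩ := rest_spec hC hij (x := x)
  obtain ⟨ε, hε, hεn⟩ : ∃ ε : F, ε * ε = 1 ∧ bf Q c x (e k) = ε * bf Q c x (e l) := by
    rcases mul_self_eq_mul_self_iff.1 hn with h | h
    · exact ⟨1, one_mul 1, by rw [h, one_mul]⟩
    · exact ⟨-1, by ring, by rw [h]; ring⟩
  rcases octa hC hprime hij hzi hzj hz
      (rC_of_comp hC hij hki hkj hli hlj hkl hε (by rw [hzk k hki hkj, hzk l hli hlj, hεn]))
      one_ne_zero (Or.inl (mem_supp.1 hi)) (hxe ▸ hx) with h | ⟨h1, h2⟩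
  · exact absurd h (no_full hC hprime h3 hs hmin hxs hij hi hj hz)
  have he := h2 (mem_supp.1 hi) (mem_supp.1 hj)
  rw [hzz] at h1
  change nrm Q e c x i = nrm Q e c x j at he
  exact ⟨by linear_combination -h1 + 2 * he, by linear_combination -h1 - 2 * he⟩

/-- The coordinates of a minimal centre at two places of its support. -/
theorem quad {x : ι → F} (hx : x ∈ Cen Q e c M) (hxs : (supp Q e c x).card = s) {i j : Fin t} (hij : i ≠ j)
    (hi : i ∈ supp Q e c x) (hj : j ∈ supp Q e c x) :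
    nrm Q e c x i + nrm Q e c x j = 1 ∨ (4 * nrm Q e c x i = 1 ∧ 4 * nrm Q e c x j = 1) := by
  classical
  by_cases hsum1 : nrm Q e c x i + nrm Q e c x j = 1
  · exact Or.inl hsum1
  refine Or.inr ?_
  have hfr := hC.fr
  obtain ⟨hz, hzz⟩ := rest_q hC hx.1 hij hsum1
  obtain ⟨hzi, hzj, hzk, hxe, -⟩ := rest_spec hC hij (x := x)
  -- a compensator
  obtain ⟨k, l, hki, hkj, hli, hlj, hkl, hn⟩ : ∃ k l, k ≠ i ∧ k ≠ j ∧ l ≠ i ∧ l ≠ j ∧ k ≠ l ∧
      nrm Q e c x k = nrm Q e c x l := by
    by_contra hcon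
    push Not at hcon
    have hinj : ∀ k l, k ∉ ({i, j} : Finset (Fin t)) → l ∉ ({i, j} : Finset (Fin t)) →
        nrm Q e c x k = nrm Q e c x l → k = l := fun k l hk hl h => by
      simp only [Finset.mem_insert, Finset.mem_singleton, not_or] at hk hl
      by_contra hkl
      exact hcon k l hk.1 hk.2 hl.1 hl.2 hkl h
    set A := (supp Q e c x) \ {i, j} with hA
    have hAc : 4 ≤ A.card := by
      have hzero : ((supp Q e c x)ᶜ \ {i, j}).card ≤ 1 := by
        refine Finset.card_le_one.2 fun k hk l hl => ?_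
        rw [Finset.mem_sdiff, Finset.mem_compl, mem_supp, not_not] at hk hl
        exact hinj k l hk.2 hl.2 (by rw [nrm, nrm, hk.1, hl.1])
      have h1 : ({i, j} : Finset (Fin t))ᶜ ⊆ A ∪ ((supp Q e c x)ᶜ \ {i, j}) := fun u hu => by
        rw [Finset.mem_compl] at hu
        by_cases h : u ∈ supp Q e c x <;> simp [hA, h, hu]
      have h2 := (Finset.card_le_card h1).trans (Finset.card_union_le _ _)
      rw [Finset.card_compl, Fintype.card_fin, Finset.card_pair hij] at h2
      have := hC.ht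
      omega
    have hbad : ∀ k ∈ supp Q e c x, Bad (bf Q c x (e k)) := by
      intro k hk
      obtain ⟨m, hm, hmk, hmsum⟩ : ∃ m ∈ supp Q e c x, k ≠ m ∧ nrm Q e c x k + nrm Q e c x m ≠ 1 := by
        by_contra h
        push Not at h
        obtain ⟨m, hm, n, hn', hmn⟩ := Finset.one_lt_card.1 (show 1 < (A.erase k).card by
          have := Finset.pred_card_le_card_erase (s := A) (a := k); omega)
        rw [Finset.mem_erase, hA, Finset.mem_sdiff] at hm hn'
        have h1 := h m hm.2.1 (Ne.symm hm.1)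
        have h2 := h n hn'.2.1 (Ne.symm hn'.1)
        exact hmn (hinj m n hm.2.2 hn'.2.2 (by linear_combination h1 - h2))
      obtain ⟨hz', -⟩ := rest_q hC hx.1 hmk hmsum
      obtain ⟨hzk', hzm', -, hxe', -⟩ := rest_spec hC hmk (x := x)
      rw [one_smul] at hxe'
      refine (bad_or_full hC hprime hmk hzk' hzm' hz' (mem_supp.1 hk) (mem_supp.1 hm) (hxe' ▸ hx)).resolve_left ?_
      exact no_full hC hprime h3 hs hmin hxs hmk hk hm hz'
    set S := (supp Q e c x).image (nrm Q e c x) with hS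
    set T := S.filter fun a => (4 * a - 1) ^ 2 = 4 * a with hT
    have hTc : T.card ≤ 2 := by
      by_contra hc
      obtain ⟨a, ha, b, hb, d, hd, hab, had, hbd⟩ := Finset.two_lt_card.1 (not_le.1 hc)
      simp only [hT, Finset.mem_filter] at ha hb hd
      have h4 : (4 : F) ≠ 0 := by rw [show (4 : F) = 2 * 2 by norm_num]; exact mul_ne_zero hfr.two hfr.two
      have e1 : 4 * (a + b) - 3 = 0 := (mul_eq_zero.1 (show (4 * (a - b)) * (4 * (a + b) - 3) = 0 by
        linear_combination ha.2 - hb.2)).resolve_left (mul_ne_zero h4 (sub_ne_zero.2 hab))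
      have e2 : 4 * (a + d) - 3 = 0 := (mul_eq_zero.1 (show (4 * (a - d)) * (4 * (a + d) - 3) = 0 by
        linear_combination ha.2 - hd.2)).resolve_left (mul_ne_zero h4 (sub_ne_zero.2 had))
      exact hbd (mul_left_cancel₀ h4 (by linear_combination e1 - e2))
    have hsub : S ⊆ insert (4 : F)⁻¹ (insert (2 : F)⁻¹ T) := fun a ha => by
      obtain ⟨k, hk, rfl⟩ := Finset.mem_image.1 (hS ▸ ha)
      simp only [Finset.mem_insert, hT, Finset.mem_filter]
      rcases hbad k hk with h | h | h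
      · exact Or.inl (eq_inv_of_mul_eq_one_right h)
      · exact Or.inr (Or.inl (eq_inv_of_mul_eq_one_right h))
      · exact Or.inr (Or.inr ⟨ha, h⟩)
    have h1 := Finset.card_le_card hsub
    have h2 := Finset.card_insert_le (4 : F)⁻¹ (insert (2 : F)⁻¹ T)
    have h3' := Finset.card_insert_le (2 : F)⁻¹ T
    -- two places of one square, disjoint from three with different squares
    have hA2 : A.card + 2 = (supp Q e c x).card := by
      have hsub2 : ({i, j} : Finset (Fin t)) ⊆ supp Q e c x := by simp [Finset.insert_subset_iff, hi, hj]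
      have := Finset.card_le_card hsub2
      rw [hA, Finset.card_sdiff_of_subset hsub2, Finset.card_pair hij]
      rw [Finset.card_pair hij] at this
      omega
    obtain ⟨p, hp, r, hr, hpr, hprn⟩ := Finset.exists_ne_map_eq_of_card_lt_of_maps_to
      (s := supp Q e c x) (t := S) (by omega) (f := nrm Q e c x) fun u hu => Finset.mem_image_of_mem _ hu
    have hpA : ¬ (p ∈ A ∧ r ∈ A) := fun ⟨h1, h2⟩ => hpr (by
      rw [hA, Finset.mem_sdiff] at h1 h2
      exact hinj p r h1.2 h2.2 hprn)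
    have h3A : 2 < ((A.erase p).erase r).card := by
      by_cases hpm : p ∈ A
      · rw [Finset.erase_eq_of_notMem (fun h => hpA ⟨hpm, Finset.mem_of_mem_erase h⟩),
          Finset.card_erase_of_mem hpm]
        omega
      · rw [Finset.erase_eq_of_notMem hpm]
        have := Finset.pred_card_le_card_erase (s := A) (a := r)
        omega
    obtain ⟨u, hu, v, hv, w, hw, huv, huw, hvw⟩ := Finset.two_lt_card.1 h3A
    simp only [Finset.mem_erase, hA, Finset.mem_sdiff] at hu hv hw
    have hne : ∀ {u v : Fin t}, u ∉ ({i, j} : Finset (Fin t)) → v ∉ ({i, j} : Finset (Fin t)) → u ≠ v →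
        nrm Q e c x u ≠ nrm Q e c x v := fun hu hv h h' => h (hinj _ _ hu hv h')
    rcases quad_of_equal hC hprime h3 hs hmin hx hxs huv hu.2.2.1 hv.2.2.1 hu.2.1.symm hv.2.1.symm hu.1.symm
        hv.1.symm hpr hprn with e1 | e1
    swap
    · exact hne hu.2.2.2 hv.2.2.2 huv (mul_left_cancel₀
        (show (4 : F) ≠ 0 by rw [show (4 : F) = 2 * 2 by norm_num]; exact mul_ne_zero hfr.two hfr.two)
        (e1.1.trans e1.2.symm))
    rcases quad_of_equal hC hprime h3 hs hmin hx hxs huw hu.2.2.1 hw.2.2.1 hu.2.1.symm hw.2.1.symm hu.1.symm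
        hw.1.symm hpr hprn with e2 | e2
    swap
    · exact hne hu.2.2.2 hw.2.2.2 huw (mul_left_cancel₀
        (show (4 : F) ≠ 0 by rw [show (4 : F) = 2 * 2 by norm_num]; exact mul_ne_zero hfr.two hfr.two)
        (e2.1.trans e2.2.symm))
    exact hne hv.2.2.2 hw.2.2.2 hvw (by linear_combination e1 - e2)
  exact (quad_of_equal hC hprime h3 hs hmin hx hxs hij hi hj hki hkj hli hlj hkl hn).resolve_left hsum1

/-- The coordinates of a minimal centre are constant with at most one exception. -/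
theorem pattern {x : ι → F} (hx : x ∈ Cen Q e c M) (hxs : (supp Q e c x).card = s) :
    ∃ a : F, (4 * a = 1 ∨ 2 * a = 1) ∧ ∃ E ⊆ supp Q e c x, s ≤ E.card + 1 ∧ (∀ k ∈ E, nrm Q e c x k = a) ∧
      ∀ k ∈ supp Q e c x, k ∉ E → 4 * a = 1 ∧ 4 * nrm Q e c x k = 3 := by
  classical
  by_cases hall : ∀ k ∈ supp Q e c x, 4 * nrm Q e c x k = 1
  · have h4 : (4 : F) ≠ 0 := fun h => by
      rw [show (4 : F) = 2 * 2 by norm_num] at h; exact mul_ne_zero hC.fr.two hC.fr.two h
    refine ⟨(4 : F)⁻¹, Or.inl (mul_inv_cancel₀ h4), supp Q e c x, Finset.Subset.rfl, by omega,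
      fun k hk => eq_inv_of_mul_eq_one_right (hall k hk), fun k hk hk' => absurd hk hk'⟩
  push Not at hall
  obtain ⟨k, hk, hk4⟩ := hall
  have hoth : ∀ m ∈ (supp Q e c x).erase k, nrm Q e c x m = 1 - nrm Q e c x k := fun m hm => by
    rw [Finset.mem_erase] at hm
    rcases quad hC hprime h3 hs hmin hx hxs (Ne.symm hm.1) hk hm.2 with h | h
    · linear_combination h
    · exact absurd h.1 hk4
  obtain ⟨m, hm, n, hn, hmn⟩ := Finset.one_lt_card.1 (show 1 < ((supp Q e c x).erase k).card by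
    rw [Finset.card_erase_of_mem hk]; omega)
  have hm' := hoth m hm
  have hn' := hoth n hn
  rcases quad hC hprime h3 hs hmin hx hxs hmn (Finset.mem_of_mem_erase hm) (Finset.mem_of_mem_erase hn) with h | h
  · refine ⟨1 - nrm Q e c x k, Or.inr (by linear_combination h - hm' - hn'), supp Q e c x, Finset.Subset.rfl,
      by omega, fun u hu => ?_, fun u hu hu' => absurd hu hu'⟩
    rcases eq_or_ne u k with rfl | huk
    · have hc : (2 : F) * nrm Q e c x u = 1 := by linear_combination -h + hm' + hn'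
      linear_combination hc
    · exact hoth u (Finset.mem_erase.2 ⟨huk, hu⟩)
  · refine ⟨1 - nrm Q e c x k, Or.inl (by linear_combination h.1 - 4 * hm'), (supp Q e c x).erase k,
      Finset.erase_subset _ _, by rw [Finset.card_erase_of_mem hk]; omega, hoth, fun u hu hu' => ?_⟩
    obtain rfl : u = k := by by_contra hne; exact hu' (Finset.mem_erase.2 ⟨hne, hu⟩)
    exact ⟨by linear_combination h.1 - 4 * hm', by linear_combination -h.1 + 4 * hm'⟩

/-- Changing signs on part of the constant coordinates leads outside the possible patterns. -/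
theorem no_same {x : ι → F} (hx : x ∈ Cen Q e c M) (hxs : (supp Q e c x).card = s) {a : F} {E W : Finset (Fin t)}
    (hE : E ⊆ supp Q e c x) (hEa : ∀ k ∈ E, nrm Q e c x k = a) (ha : a ≠ 0) (hWE : W ⊆ E) (hW : 2 ≤ W.card)
    (hEW : 2 ≤ (E \ W).card) {g : GL ι F} (hg : g ∈ cenStab Q e c M) (hgW : Signs e W g)
    (hsum : ∑ k ∈ W, nrm Q e c x k = 1) : False := by
  classical
  obtain ⟨y, hy, hyk⟩ := flip hC hx hg hgW (β := -1) (by rw [hsum]; ring)
  have h3' : (1 : F) - 2 * -1 ≠ 0 := fun h => h3 (by linear_combination h)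
  have h1' : (1 : F) + 2 * -1 ≠ 0 := fun h => one_ne_zero (α := F) (by linear_combination -h)
  have hsy : supp Q e c y = supp Q e c x := by
    ext k
    rw [mem_supp, mem_supp, hyk]
    split_ifs <;> simp only [ne_eq, mul_eq_zero, h3', h1', or_false]
  obtain ⟨a', -, E', hE', hE'c, hE'a, -⟩ := pattern hC hprime h3 hs hmin hy (hsy ▸ hxs)
  have hmeet : ∀ T : Finset (Fin t), T ⊆ E → 2 ≤ T.card → ∃ k ∈ T, k ∈ E' := by
    intro T hT hTc
    by_contra h
    push Not at h
    have h1 : T ⊆ supp Q e c y \ E' := fun u hu => Finset.mem_sdiff.2 ⟨hsy ▸ hE (hT hu), h u hu⟩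
    have h2 := Finset.card_le_card h1
    rw [Finset.card_sdiff_of_subset hE', hsy, hxs] at h2
    omega
  obtain ⟨u, hu, hu'⟩ := hmeet W hWE hW
  obtain ⟨v, hv, hv'⟩ := hmeet (E \ W) Finset.sdiff_subset hEW
  have e1 := hE'a u hu'
  have e2 := hE'a v hv'
  have eu := hEa u (hWE hu)
  have ev := hEa v (Finset.mem_sdiff.1 hv).1
  rw [nrm, hyk, if_pos hu] at e1
  rw [nrm, hyk, if_neg (Finset.mem_sdiff.1 hv).2] at e2
  rw [nrm] at eu ev
  exact mul_ne_zero (mul_ne_zero (mul_ne_zero hC.fr.two hC.fr.two) hC.fr.two) ha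
    (by linear_combination e2 - e1 - 9 * ev + eu)

end Cfsg.Agent.Transvec.OFr

namespace Cfsg.Agent.Transvec.OFr

open scoped Matrix
open Matrix Cfsg.Agent.Transvec Cfsg.Agent.Transvec.Orth

variable {ι : Type} [Fintype ι] [DecidableEq ι] {F : Type*} [Field F] [Fintype F] {Q : (ι → F) → F}
variable {t : ℕ} {e : Fin t → ι → F} {c : F} {M : Subgroup (GL ι F)}
variable (hC : Ctx Q e c M) (hprime : (Fintype.card F).Prime) (h3 : (3 : F) ≠ 0)
include hC hprime h3

/-- A centre which is not small gives a full triple. -/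
theorem exists_fullT (hex : ∃ x ∈ Cen Q e c M, ¬ Small e x) : FullT Q e c M := by
  classical
  have hfr := hC.fr
  have h2 := hfr.two
  by_contra hno
  have hex' : ∃ s, ∃ x ∈ Cen Q e c M, ¬ Small e x ∧ (supp Q e c x).card = s := by
    obtain ⟨x, hx, hns⟩ := hex; exact ⟨_, x, hx, hns, rfl⟩
  obtain ⟨x, hx, hns, hxs⟩ := Nat.find_spec hex'
  set s := Nat.find hex' with hsdef
  have hmin : ∀ y ∈ Cen Q e c M, ¬ Small e y → s ≤ (supp Q e c y).card := fun y hy hny =>
    Nat.find_le ⟨y, hy, hny, rfl⟩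
  have hs : 4 ≤ s := by
    by_contra h
    exact hno (full_of_small_supp hC hprime h3 hx hns (by omega))
  obtain ⟨a, ha, E, hE, hEc, hEa, hEx⟩ := pattern hC hprime h3 hs hmin hx hxs
  have ha0 : a ≠ 0 := fun h => by rcases ha with h' | h' <;> rw [h, mul_zero] at h' <;> exact zero_ne_one h'
  have hEs : ∀ (T : Finset (Fin t)), T ⊆ E → ∑ k ∈ T, nrm Q e c x k = T.card * a := fun T hT => by
    rw [Finset.sum_congr rfl fun k hk => hEa k (hT hk), Finset.sum_const, nsmul_eq_mul]
  have hstab : ∀ p q, R Q (e p) * R Q (e q) ∈ cenStab Q e c M := fun p q =>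
    pair_cenStab hC (cen_frame hC p) (cen_frame hC q)
  rcases ha with ha | ha
  swap
  · -- all squares one half
    have hEeq : E = supp Q e c x := by
      refine Finset.Subset.antisymm hE fun k hk => ?_
      by_contra h
      exact one_ne_zero (α := F) (by linear_combination (hEx k hk h).1 - 2 * ha)
    obtain ⟨W, hWE, hW⟩ := Finset.exists_subset_card_eq (show 2 ≤ E.card by omega)
    obtain ⟨p, q, hpq, rfl⟩ := Finset.card_eq_two.1 hW
    refine no_same hC hprime h3 hs hmin hx hxs hE hEa ha0 hWE hW.ge ?_ (hstab p q) (signs_pair hfr hpq)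
      (by rw [hEs _ hWE, hW]; push_cast; linear_combination ha)
    rw [Finset.card_sdiff_of_subset hWE, hW, hEeq, hxs]; omega
  -- all squares one quarter, with at most one exception
  by_cases hs5 : 5 ≤ s
  · by_cases hz0 : ∃ z0, z0 ∉ supp Q e c x
    · obtain ⟨z0, hz0⟩ := hz0
      obtain ⟨T, hTE, hT⟩ := Finset.exists_subset_card_eq (show 3 ≤ E.card by omega)
      obtain ⟨p, q, r, hpq, hpr, hqr, rfl⟩ := Finset.card_eq_three.1 hT
      have hz : ∀ u ∈ ({p, q, r} : Finset (Fin t)), u ≠ z0 := fun u hu h => hz0 (h ▸ hE (hTE hu))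
      have hrz : r ≠ z0 := hz r (by simp)
      have hdis : Disjoint ({p, q} : Finset (Fin t)) {r, z0} := by
        simp [Finset.disjoint_left, hpr, hqr, hz p (by simp), hz q (by simp)]
      have hgW := signs_mul hC hdis (signs_pair hfr hpq) (signs_pair hfr hrz)
      set W := ({p, q} : Finset (Fin t)) ∪ {r, z0} with hW
      have hWmem : ∀ u, u ∈ W ↔ u ∈ ({p, q, r} : Finset (Fin t)) ∨ u = z0 := fun u => by
        simp only [hW, Finset.mem_union, Finset.mem_insert, Finset.mem_singleton]; tauto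
      have hsum : ∑ k ∈ W, nrm Q e c x k = 3 * a := by
        rw [← Finset.sum_subset (s₁ := ({p, q, r} : Finset (Fin t))) (fun u hu => (hWmem u).2 (Or.inl hu))
          (fun u hu hu' => by
            rw [((hWmem u).1 hu).resolve_left hu', nrm, show bf Q c x (e z0) = 0 by simpa [mem_supp] using hz0,
              mul_zero]), hEs _ hTE, hT]
        push_cast; ring
      obtain ⟨y, hy, hyk⟩ := flip hC hx (Subgroup.mul_mem _ (hstab p q) (hstab r z0)) hgW rfl
      have hβ : 2 * (1 - 2 * ∑ k ∈ W, nrm Q e c x k) = -1 := by rw [hsum]; linear_combination -3 * ha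
      have hyW : ∀ k, bf Q c y (e k) = if k ∈ W then 0 else 2 * bf Q c x (e k) := fun k => by
        rw [hyk, hβ]
        split_ifs <;> ring
      have hsy : supp Q e c y = supp Q e c x \ {p, q, r} := by
        ext k
        rw [Finset.mem_sdiff, mem_supp, hyW, mem_supp]
        by_cases hk : k ∈ W
        · rw [if_pos hk]
          rcases (hWmem k).1 hk with h | rfl
          · simp [h]
          · simp [show bf Q c x (e k) = 0 by simpa [mem_supp] using hz0]
        · rw [if_neg hk]
          have : k ∉ ({p, q, r} : Finset (Fin t)) := fun h => hk ((hWmem k).2 (Or.inl h))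
          simp [this, h2]
      have hcy : (supp Q e c y).card = s - 3 := by
        rw [hsy, Finset.card_sdiff_of_subset (hTE.trans hE), hT, hxs]
      obtain ⟨k, hkE, hkT⟩ := Finset.exists_mem_notMem_of_card_lt_card (s := ({p, q, r} : Finset (Fin t)))
        (t := E) (by omega)
      have hky : k ∈ supp Q e c y := by rw [hsy]; exact Finset.mem_sdiff.2 ⟨hE hkE, hkT⟩
      obtain ⟨l, hl⟩ : ((supp Q e c y).erase k).Nonempty := Finset.card_pos.1 (by
        rw [Finset.card_erase_of_mem hky]; omega)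
      rw [Finset.mem_erase] at hl
      have hny : ¬ Small e y := by
        refine not_small_of hfr (Ne.symm hl.1) (mem_supp.1 hky) (mem_supp.1 hl.2) (Or.inr ?_)
        have hkW : k ∉ W := fun h => (hWmem k).1 h |>.elim hkT fun h' => hz0 (h' ▸ hE hkE)
        have := hEa k hkE
        rw [nrm] at this
        rw [hyW, if_neg hkW]
        intro h
        exact one_ne_zero (α := F) (by linear_combination h - 8 * this - 2 * ha)
      have := hmin y hy hny
      omega
    · push Not at hz0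
      have hst : s = t := by
        rw [← hxs, Finset.eq_univ_of_forall hz0, Finset.card_univ, Fintype.card_fin]
      have := hC.ht
      obtain ⟨p, hp⟩ : E.Nonempty := Finset.card_pos.1 (by omega)
      obtain ⟨q, hq⟩ : (E.erase p).Nonempty := Finset.card_pos.1 (by rw [Finset.card_erase_of_mem hp]; omega)
      obtain ⟨r, hr⟩ : ((E.erase p).erase q).Nonempty := Finset.card_pos.1 (by
        rw [Finset.card_erase_of_mem hq, Finset.card_erase_of_mem hp]; omega)
      obtain ⟨w, hw⟩ : (((E.erase p).erase q).erase r).Nonempty := Finset.card_pos.1 (by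
        rw [Finset.card_erase_of_mem hr, Finset.card_erase_of_mem hq, Finset.card_erase_of_mem hp]; omega)
      simp only [Finset.mem_erase] at hq hr hw
      have hdis : Disjoint ({p, q} : Finset (Fin t)) {r, w} := by
        simp [Finset.disjoint_left, hr.1.symm, hr.2.1.symm, hw.2.1.symm, hw.2.2.1.symm]
      have hgW := signs_mul hC hdis (signs_pair hfr hq.1.symm) (signs_pair hfr hw.1.symm)
      have hWE : ({p, q} : Finset (Fin t)) ∪ {r, w} ⊆ E := by
        simp [Finset.union_subset_iff, Finset.insert_subset_iff, hp, hq.2, hr.2.2, hw.2.2.2]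
      have hW4 : (({p, q} : Finset (Fin t)) ∪ {r, w}).card = 4 := by
        rw [Finset.card_union_of_disjoint hdis, Finset.card_pair hq.1.symm, Finset.card_pair hw.1.symm]
      refine no_same hC hprime h3 hs hmin hx hxs hE hEa ha0 hWE (by omega) ?_
        (Subgroup.mul_mem _ (hstab p q) (hstab r w)) hgW (by rw [hEs _ hWE, hW4]; push_cast; linear_combination ha)
      rw [Finset.card_sdiff_of_subset hWE, hW4]; omega
  -- four squares one quarter
  have hs4 : s = 4 := by omega
  have hsum := sum_nrm hC hx.1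
  have hEeq : E = supp Q e c x := by
    refine Finset.Subset.antisymm hE fun k hk => ?_
    by_contra h
    have hE1 : (supp Q e c x \ E) = {k} := by
      refine (Finset.eq_of_subset_of_card_le (Finset.singleton_subset_iff.2 (Finset.mem_sdiff.2 ⟨hk, h⟩)) ?_).symm
      rw [Finset.card_sdiff_of_subset hE, Finset.card_singleton]; omega
    have hEk : E.card = 3 := by
      have := Finset.card_sdiff_of_subset hE
      rw [hE1, Finset.card_singleton] at this
      have := Finset.card_le_card hE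
      omega
    rw [← Finset.sum_sdiff hE, hE1, Finset.sum_singleton, hEs E Finset.Subset.rfl, hEk] at hsum
    push_cast at hsum
    exact h2 (by linear_combination 4 * hsum - (hEx k hk h).2 - 3 * ha)
  obtain ⟨p1, p2, p3, p4, d12, d13, d14, d23, d24, d34, hS⟩ := Finset.card_eq_four.1 (hxs.trans hs4)
  have hN : ∀ u, u = p1 ∨ u = p2 ∨ u = p3 ∨ u = p4 → bf Q c x (e u) ≠ 0 ∧ 4 * nrm Q e c x u = 1 := fun u hu => by
    have hu' : u ∈ supp Q e c x := by rw [hS]; simp only [Finset.mem_insert, Finset.mem_singleton]; exact hu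
    exact ⟨mem_supp.1 hu', by rw [hEa u (hEeq ▸ hu')]; exact ha⟩
  have hzero : ∀ u, u ≠ p1 → u ≠ p2 → u ≠ p3 → u ≠ p4 → bf Q c x (e u) = 0 := fun u a1 a2 a3 a4 => by
    by_contra h
    have := mem_supp.2 h
    rw [hS] at this
    simp [a1, a2, a3, a4] at this
  obtain ⟨z0, hz0⟩ : ((supp Q e c x)ᶜ).Nonempty := Finset.card_pos.1 (by
    rw [Finset.card_compl, Fintype.card_fin, hxs]; have := hC.ht; omega)
  rw [Finset.mem_compl, hS] at hz0
  simp only [Finset.mem_insert, Finset.mem_singleton, not_or] at hz0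
  obtain ⟨k0, l0, hk0, hl0, hkl0⟩ := exists_others hC {p1, p2, p3, p4, z0} (by
    have := Finset.card_le_five (a := p1) (b := p2) (c := p3) (d := p4) (e := z0)
    have := hC.ht
    omega)
  simp only [Finset.mem_insert, Finset.mem_singleton, not_or] at hk0 hl0
  have hg := double_cenStab hC (Ne.symm hz0.1) hkl0 (one_mul (1 : F)) (one_mul (1 : F))
  set w := mv (R Q (e p1 - (1 : F) • e z0) * R Q (e k0 - (1 : F) • e l0)) x with hw
  have hwc : w ∈ Cen Q e c M := hg.2 x hx
  have hxk0 := hzero k0 hk0.1 hk0.2.1 hk0.2.2.1 hk0.2.2.2.1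
  have hxl0 := hzero l0 hl0.1 hl0.2.1 hl0.2.2.1 hl0.2.2.2.1
  have hxz0 := hzero z0 hz0.1 hz0.2.1 hz0.2.2.1 hz0.2.2.2
  have hwe : w = x - bf Q c x (e p1) • (e p1 - e z0) := by
    rw [hw, mv_mul, mv_R_diff hfr hkl0 (one_mul 1), hxk0, hxl0, mul_zero, sub_zero, zero_smul, sub_zero,
      mv_R_diff hfr (Ne.symm hz0.1) (one_mul 1), hxz0, mul_zero, sub_zero, one_smul]
  have hxw : bf Q c x w = 1 - nrm Q e c x p1 := by
    rw [hwe, bf_sub_right hfr, bf_smul_right hfr, bf_sub_right hfr, hxz0, (value_iff hfr x).1 hx.1, sub_zero]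
    rfl
  set y := mv (R Q w) x with hy
  have hyc : y ∈ Cen Q e c M := cen_refl hC hwc hx
  have hyk : ∀ k, 2 * bf Q c y (e k) =
      if k = p1 then 2 * bf Q c x (e p1) else if k = z0 then -3 * bf Q c x (e p1) else -bf Q c x (e k) := by
    intro k
    rw [hy, mv_R hfr hwc.1, hxw, bf_sub_left hfr, bf_smul_left hfr, hwe, bf_sub_left hfr, bf_smul_left hfr,
      bf_sub_left hfr, frame_eq hfr, frame_eq hfr]
    have hb : 4 * (1 - nrm Q e c x p1) = 3 := by linear_combination -(hN p1 (Or.inl rfl)).2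
    by_cases h1 : k = p1
    · subst h1
      rw [if_pos rfl, if_pos rfl, if_neg hz0.1]; ring
    by_cases h2' : k = z0
    · subst h2'
      rw [if_neg h1, if_pos rfl, if_neg (Ne.symm h1), if_pos rfl, hxz0]
      linear_combination (-bf Q c x (e p1)) * hb
    rw [if_neg h1, if_neg h2', if_neg (Ne.symm h1), if_neg (Ne.symm h2')]
    linear_combination (-bf Q c x (e k)) * hb
  have hN1 : 4 * nrm Q e c y p1 = 1 := by
    have := hyk p1
    rw [if_pos rfl] at this
    rw [nrm, mul_left_cancel₀ h2 this]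
    exact (hN p1 (Or.inl rfl)).2
  have hNp : ∀ u, u = p2 ∨ u = p3 ∨ u = p4 → 16 * nrm Q e c y u = 1 ∧ bf Q c y (e u) ≠ 0 := fun u hu => by
    have hu1 : u ≠ p1 := by rcases hu with rfl | rfl | rfl <;> [exact d12.symm; exact d13.symm; exact d14.symm]
    have hu0 : u ≠ z0 := by
      rcases hu with rfl | rfl | rfl <;> [exact Ne.symm hz0.2.1; exact Ne.symm hz0.2.2.1; exact Ne.symm hz0.2.2.2]
    have := hyk u
    rw [if_neg hu1, if_neg hu0] at this
    obtain ⟨n1, n2⟩ := hN u (Or.inr hu)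
    refine ⟨?_, fun h0 => n1 (by rw [h0] at this; linear_combination this)⟩
    rw [nrm] at n2 ⊢
    linear_combination 4 * (2 * bf Q c y (e u) - bf Q c x (e u)) * this + n2
  have hNz : 16 * nrm Q e c y z0 = 9 ∧ bf Q c y (e z0) ≠ 0 := by
    have := hyk z0
    rw [if_neg hz0.1, if_pos rfl] at this
    obtain ⟨n1, n2⟩ := hN p1 (Or.inl rfl)
    refine ⟨?_, fun h0 => n1 ?_⟩
    · rw [nrm] at n2 ⊢
      linear_combination 4 * (2 * bf Q c y (e z0) - 3 * bf Q c x (e p1)) * this + 9 * n2
    · exact (mul_eq_zero.1 (show (3 : F) * bf Q c x (e p1) = 0 by rw [h0] at this; linear_combination this)).resolve_left h3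
  have hy1 : bf Q c y (e p1) ≠ 0 := fun h => by rw [nrm, h] at hN1; simp at hN1
  have hyout : ∀ u, u ∉ ({p1, p2, p3, p4, z0} : Finset (Fin t)) → bf Q c y (e u) = 0 := fun u hu => by
    simp only [Finset.mem_insert, Finset.mem_singleton, not_or] at hu
    have := hyk u
    rw [if_neg hu.1, if_neg hu.2.2.2.2, hzero u hu.1 hu.2.1 hu.2.2.1 hu.2.2.2.1, neg_zero] at this
    exact (mul_eq_zero.1 this).resolve_left h2
  have hsy : supp Q e c y = {p1, p2, p3, p4, z0} := by
    ext u
    rw [mem_supp]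
    refine ⟨fun h => by_contra fun hu => h (hyout u hu), fun hu => ?_⟩
    simp only [Finset.mem_insert, Finset.mem_singleton] at hu
    rcases hu with rfl | rfl | rfl | rfl | rfl
    · exact hy1
    · exact (hNp _ (Or.inl rfl)).2
    · exact (hNp _ (Or.inr (Or.inl rfl))).2
    · exact (hNp _ (Or.inr (Or.inr rfl))).2
    · exact hNz.2
  have hcard5 : (supp Q e c y).card = 5 := by
    rw [hsy, Finset.card_insert_of_notMem, Finset.card_insert_of_notMem, Finset.card_insert_of_notMem,
      Finset.card_pair] <;> simp [d12, d13, d14, d23, d24, d34, Ne.symm hz0.1, Ne.symm hz0.2.1, Ne.symm hz0.2.2.1,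
      Ne.symm hz0.2.2.2]
  -- a pair of coordinates leaving a non-singular rest
  obtain ⟨i, j, hij, hi, hj, hsum1, hcase, hp4, hzz0⟩ : ∃ i j, i ≠ j ∧ i ∈ supp Q e c y ∧ j ∈ supp Q e c y ∧
      nrm Q e c y i + nrm Q e c y j ≠ 1 ∧
      ¬ (2 * (1 - nrm Q e c y i - nrm Q e c y j) = 1 ∧ nrm Q e c y i = nrm Q e c y j) ∧
      (p4 ≠ i ∧ p4 ≠ j) ∧ (z0 ≠ i ∧ z0 ≠ j) := by
    have m := fun u (hu : u = p1 ∨ u = p2 ∨ u = p3) => show u ∈ supp Q e c y by
      rw [hsy]; rcases hu with rfl | rfl | rfl <;> simp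
    have n2 := (hNp p2 (Or.inl rfl)).1
    have n3 := (hNp p3 (Or.inr (Or.inl rfl))).1
    by_cases h11 : nrm Q e c y p2 + nrm Q e c y p1 = 1
    · refine ⟨p2, p3, d23, m _ (Or.inr (Or.inl rfl)), m _ (Or.inr (Or.inr rfl)), fun h => h3 ?_, fun h => ?_,
        ⟨d24.symm, d34.symm⟩, ⟨hz0.2.1, hz0.2.2.1⟩⟩
      · linear_combination -16 * h + n2 + n3 + 16 * h11 - n2 - 4 * hN1
      · have h12 : (4 : F) * 3 = 0 := by linear_combination 16 * h.1 + 2 * n2 + 2 * n3
        exact h3 ((mul_eq_zero.1 h12).resolve_left (by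
          rw [show (4 : F) = 2 * 2 by norm_num]; exact mul_ne_zero h2 h2))
    · refine ⟨p2, p1, d12.symm, m _ (Or.inr (Or.inl rfl)), m _ (Or.inl rfl), h11, fun h => h3 ?_,
        ⟨d24.symm, d14.symm⟩, ⟨hz0.2.1, hz0.1⟩⟩
      linear_combination -16 * h.2 + n2 - 4 * hN1
  obtain ⟨hz, hzz⟩ := rest_q hC hyc.1 hij hsum1
  obtain ⟨hzi, hzj, hzk, hxe, -⟩ := rest_spec hC hij (x := y)
  obtain ⟨k1, l1, hk1, hl1, hkl1⟩ := exists_others hC (supp Q e c y ∪ {i, j}) (by
    rw [Finset.union_eq_left.2 (by simp [Finset.insert_subset_iff, hi, hj]), hcard5]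
    have := hC.ht
    omega)
  simp only [Finset.mem_union, Finset.mem_insert, Finset.mem_singleton, not_or, mem_supp, not_not] at hk1 hl1
  rcases octa hC hprime hij hzi hzj hz
      (rC_of_comp hC hij hk1.2.1 hk1.2.2 hl1.2.1 hl1.2.2 hkl1 (one_mul (1 : F))
        (by rw [hzk _ hk1.2.1 hk1.2.2, hzk _ hl1.2.1 hl1.2.2, hk1.1, hl1.1, mul_zero]))
      one_ne_zero (Or.inl (mem_supp.1 hi)) (hxe ▸ hyc) with hfull | ⟨h1, h2'⟩
  swap
  · rw [hzz] at h1
    exact hcase ⟨by linear_combination h1, h2' (mem_supp.1 hi) (mem_supp.1 hj)⟩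
  rcases reduce hC hprime h3 hij (mem_supp.1 hj) hz hfull with
    ⟨v, hv, hsv, γ, hγ, hvk⟩ | ⟨-, -, v, hv, hsv⟩
  · have hcv : (supp Q e c v).card = 4 := by rw [hsv, Finset.card_erase_of_mem hi, hcard5]
    obtain ⟨a', ha', E', hE', hE'c, hE'a, hE'x⟩ := pattern hC hprime h3 hs hmin hv (hcv.trans hs4.symm)
    have hEeq' : ∀ u ∈ supp Q e c v, u ∈ E' := by
      intro u hu
      by_contra h
      have hE1 : (supp Q e c v \ E') = {u} := by
        refine (Finset.eq_of_subset_of_card_le (Finset.singleton_subset_iff.2 (Finset.mem_sdiff.2 ⟨hu, h⟩)) ?_).symm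
        rw [Finset.card_sdiff_of_subset hE', Finset.card_singleton]; omega
      have hEk : E'.card = 3 := by
        have := Finset.card_sdiff_of_subset hE'
        rw [hE1, Finset.card_singleton] at this
        have := Finset.card_le_card hE'
        omega
      have hsum := sum_nrm hC hv.1
      rw [← Finset.sum_sdiff hE', hE1, Finset.sum_singleton,
        Finset.sum_congr rfl hE'a, Finset.sum_const, nsmul_eq_mul, hEk] at hsum
      push_cast at hsum
      exact h2 (by linear_combination 4 * hsum - (hE'x u hu h).2 - 3 * (hE'x u hu h).1)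
    have hm : ∀ u, u ≠ i → u ≠ j → u ∈ supp Q e c y → nrm Q e c v u = a' ∧ nrm Q e c v u = γ * γ * nrm Q e c y u :=
      fun u hui huj hu => ⟨hE'a u (hEeq' u (hsv ▸ Finset.mem_erase.2 ⟨hui, hu⟩)), by
        rw [nrm, hvk u hui huj, nrm]; ring⟩
    obtain ⟨e1, e2⟩ := hm p4 hp4.1 hp4.2 (by rw [hsy]; simp)
    obtain ⟨e3, e4⟩ := hm z0 hzz0.1 hzz0.2 (by rw [hsy]; simp)
    refine mul_ne_zero (mul_ne_zero (mul_ne_zero h2 h2) h2) (mul_ne_zero hγ hγ) ?_
    linear_combination 16 * (e3 - e1) + 16 * (e2 - e4) + γ * γ * ((hNp p4 (Or.inr (Or.inr rfl))).1 - hNz.1)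
  · have hj' : j ∈ (supp Q e c y).erase i := Finset.mem_erase.2 ⟨hij.symm, hj⟩
    have hcv : (supp Q e c v).card = 3 := by
      rw [hsv, Finset.card_erase_of_mem hj', Finset.card_erase_of_mem hi, hcard5]
    have := hmin v hv (not_small_of_card hC (by omega))
    omega

end Cfsg.Agent.Transvec.OFr
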