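/-
Maximality in the commutator subgroup of an orthogonal group over a prime field of the stabiliser of a frame of
orthogonal isometric lines.
-/
import Cfsg.Agent.Lib.Transvec.OrthFrameDescent
set_option autoImplicit false
set_option linter.unusedSectionVars false
set_option maxHeartbeats 800000

namespace Cfsg.Agent.Transvec.OFr

open scoped Matrix
open Matrix Cfsg.Agent.Transvec Cfsg.Agent.Transvec.Orth

variable {ι : Type} [Fintype ι] [DecidableEq ι] {F : Type*} [Field F] [Fintype F] {Q : (ι → F) → F}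
variable {t : ℕ} {e : Fin t → ι → F} {c : F} {M : Subgroup (GL ι F)}
variable (hC : Ctx Q e c M) (hprime : (Fintype.card F).Prime)
include hC hprime

theorem cen_of_supp_one {x : ι → F} (hx : Q x = c) (h : (supp Q e c x).card = 1) : x ∈ Cen Q e c M := by
  obtain ⟨k, hk⟩ := Finset.card_eq_one.1 h
  have hxe : x = bf Q c x (e k) • e k := by
    conv_lhs => rw [mem_span_of_coord hC.fr (x := x) (s := supp Q e c x) (fun l hl => by rwa [mem_supp, not_not] at hl), hk,
      Finset.sum_singleton]
  have hs := sum_nrm hC hx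
  rw [hk, Finset.sum_singleton] at hs
  rw [hxe]
  rcases mul_self_eq_one_iff.1 hs with h' | h' <;> rw [h']
  · rw [one_smul]; exact cen_frame hC k
  · rw [neg_one_smul]; exact cen_neg hC (cen_frame hC k)

/-- Over three elements all vectors of the value are centres. -/
theorem all_cen_three (h3 : (3 : F) = 0) (hex : ∃ x ∈ Cen Q e c M, ¬ Small e x) :
    ∀ x, Q x = c → x ∈ Cen Q e c M := by
  classical
  have hfr := hC.fr
  have hone : (1 : F) ≠ 0 := one_ne_zero
  have hcard : Fintype.card F = 3 := by
    haveI := SO3.charP_prime hprime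
    have := (CharP.cast_eq_zero_iff F (Fintype.card F) 3).1 (by exact_mod_cast h3)
    exact (Nat.prime_dvd_prime_iff_eq hprime Nat.prime_three).1 this
  have hsq : ∀ a : F, a ≠ 0 → a * a = 1 := fun a ha => by
    have := FiniteField.pow_card_sub_one_eq_one a ha
    rw [hcard] at this
    linear_combination this
  have hcnt : ∀ {x}, Q x = c → ((supp Q e c x).card : F) = 1 := fun {x} hx => by
    have hs := sum_nrm hC hx
    rw [Finset.sum_congr rfl (g := fun _ => (1 : F)) fun k hk => show nrm Q e c x k = 1 from hsq _ (mem_supp.1 hk),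
      Finset.sum_const, nsmul_one] at hs
    exact hs
  have hsmallcard : ∀ {x}, Q x = c → (supp Q e c x).card = 1 ∨ 4 ≤ (supp Q e c x).card := fun {x} hx => by
    have h := hcnt hx
    rcases (show (supp Q e c x).card = 0 ∨ (supp Q e c x).card = 1 ∨ (supp Q e c x).card = 2 ∨
      (supp Q e c x).card = 3 ∨ 4 ≤ (supp Q e c x).card by omega) with h' | h' | h' | h' | h'
    · rw [h', Nat.cast_zero] at h; exact absurd h.symm hone
    · exact Or.inl h'
    · rw [h'] at h; push_cast at h; exact absurd (by linear_combination h) hone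
    · rw [h'] at h; push_cast at h; exact absurd (by linear_combination h3 - h) hone
    · exact Or.inr h'
  -- a centre of support four
  obtain ⟨w, hw, hws⟩ : ∃ w ∈ Cen Q e c M, (supp Q e c w).card = 4 := by
    obtain ⟨x, hx, hns⟩ := hex
    have h4 : 4 ≤ (supp Q e c x).card := by
      refine (hsmallcard hx.1).resolve_left fun h1 => hns ?_
      obtain ⟨k, hk⟩ := Finset.card_eq_one.1 h1
      refine Or.inl ⟨k, bf Q c x (e k), ?_⟩
      conv_lhs => rw [mem_span_of_coord hfr (x := x) (s := supp Q e c x) (fun l hl => by rwa [mem_supp, not_not] at hl), hk,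
        Finset.sum_singleton]
    obtain ⟨W, hWs, hW⟩ := Finset.exists_subset_card_eq h4
    obtain ⟨p, q, r, u, hpq, hpr, hpu, hqr, hqu, hru, rfl⟩ := Finset.card_eq_four.1 hW
    have hdis : Disjoint ({p, q} : Finset (Fin t)) {r, u} := by simp [Finset.disjoint_left, hpr, hpu, hqr, hqu]
    have heq : ({p, q} : Finset (Fin t)) ∪ {r, u} = {p, q, r, u} := by
      ext a; simp only [Finset.mem_union, Finset.mem_insert, Finset.mem_singleton]; tauto
    have hgW := signs_mul hC hdis (signs_pair hfr hpq) (signs_pair hfr hru)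
    rw [heq] at hgW
    have hsum : ∑ k ∈ ({p, q, r, u} : Finset (Fin t)), nrm Q e c x k = 1 := by
      rw [Finset.sum_congr rfl (g := fun _ => (1 : F)) fun k hk =>
          show nrm Q e c x k = 1 from hsq _ (mem_supp.1 (hWs hk)), Finset.sum_const, hW,
        nsmul_one]
      push_cast
      linear_combination h3
    obtain ⟨y, hy, hyk⟩ := flip hC hx (Subgroup.mul_mem _ (pair_cenStab hC (cen_frame hC p) (cen_frame hC q))
      (pair_cenStab hC (cen_frame hC r) (cen_frame hC u))) hgW (β := -1) (by rw [hsum]; ring)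
    refine ⟨y, hy, ?_⟩
    rw [← hW]
    refine congrArg Finset.card (Finset.ext fun k => ?_)
    rw [mem_supp, hyk]
    split_ifs with hk
    · refine iff_of_true (mul_ne_zero (mem_supp.1 (hWs hk)) fun h => hone ?_) hk
      linear_combination -h
    · simp [hk, show (1 : F) + 2 = 0 by linear_combination h3]
  -- all vectors of support four
  have hfour : ∀ x, Q x = c → (supp Q e c x).card = 4 → x ∈ Cen Q e c M := by
    intro x hx hxs
    obtain ⟨a1, a2, a3, a4, _, _, _, _, _, _, hwS⟩ := Finset.card_eq_four.1 hws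
    obtain ⟨b1, b2, b3, b4, _, _, _, _, _, _, hxS⟩ := Finset.card_eq_four.1 hxs
    let a : Fin 4 → Fin t := ![a1, a2, a3, a4]
    let b : Fin 4 → Fin t := ![b1, b2, b3, b4]
    have ha : Function.Injective a := by intro u v; fin_cases u <;> fin_cases v <;> simp_all [a, eq_comm]
    have hb : Function.Injective b := by intro u v; fin_cases u <;> fin_cases v <;> simp_all [b, eq_comm]
    have hwa : ∀ i, bf Q c w (e (a i)) ≠ 0 := fun i => mem_supp.1 (by rw [hwS]; fin_cases i <;> simp [a])
    have hxb : ∀ i, bf Q c x (e (b i)) ≠ 0 := fun i => mem_supp.1 (by rw [hxS]; fin_cases i <;> simp [b])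
    obtain ⟨g, hg, hgm, hgi⟩ := exists_tuple hC le_rfl a b ha hb
      (fun i => bf Q c w (e (a i)) * bf Q c x (e (b i)))
      fun i => hsq _ (mul_ne_zero (hwa i) (hxb i))
    have hrep : ∀ (v : ι → F) (f : Fin 4 → Fin t), Function.Injective f → (∀ l, l ∈ supp Q e c v → ∃ i, f i = l) →
        v = ∑ i, bf Q c v (e (f i)) • e (f i) := by
      intro v f hf hcov
      conv_lhs => rw [mem_span_of_coord hfr (x := v) (s := Finset.univ.image f) (fun l hl => by
        by_contra h
        obtain ⟨i, hi⟩ := hcov l (mem_supp.2 h)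
        exact hl (Finset.mem_image.2 ⟨i, Finset.mem_univ i, hi⟩))]
      exact Finset.sum_image fun _ _ _ _ h => hf h
    have hwrep := hrep w a ha (fun l hl => by
      rw [hwS] at hl; simp only [Finset.mem_insert, Finset.mem_singleton] at hl
      rcases hl with rfl | rfl | rfl | rfl <;> [exact ⟨0, rfl⟩; exact ⟨1, rfl⟩; exact ⟨2, rfl⟩; exact ⟨3, rfl⟩])
    have hxrep := hrep x b hb (fun l hl => by
      rw [hxS] at hl; simp only [Finset.mem_insert, Finset.mem_singleton] at hl
      rcases hl with rfl | rfl | rfl | rfl <;> [exact ⟨0, rfl⟩; exact ⟨1, rfl⟩; exact ⟨2, rfl⟩; exact ⟨3, rfl⟩])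
    have hgw : mv g w = x := by
      rw [hwrep, mv_sum, hxrep]
      refine Finset.sum_congr rfl fun i _ => ?_
      rw [mv_smul, hgi, smul_smul, ← mul_assoc, hsq _ (hwa i), one_mul]
    rw [← hgw]
    exact (mon_cenStab hC hg hgm).2 w hw
  suffices H : ∀ n x, Q x = c → (supp Q e c x).card = n → x ∈ Cen Q e c M from fun x hx => H _ x hx rfl
  intro n
  induction n using Nat.strong_induction_on with
  | _ n ih =>
    intro x hx hxn
    rcases hsmallcard hx with h | h
    · exact cen_of_supp_one hC hprime hx h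
    by_cases h4 : (supp Q e c x).card = 4
    · exact hfour x hx h4
    obtain ⟨W, hWs, hW⟩ := Finset.exists_subset_card_eq h
    obtain ⟨p, hp⟩ := Finset.card_pos.1 (show 0 < W.card by omega)
    set y := ∑ k ∈ W, (if k = p then -bf Q c x (e k) else bf Q c x (e k)) • e k with hy
    have hyk : ∀ k, bf Q c y (e k) = if k ∈ W then (if k = p then -bf Q c x (e k) else bf Q c x (e k)) else 0 :=
      fun k => by rw [hy, coord_sum hfr]
    have hys : supp Q e c y = W := by
      ext k
      rw [mem_supp, hyk]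
      by_cases hk : k ∈ W
      · rw [if_pos hk]
        have := mem_supp.1 (hWs hk)
        split_ifs <;> simp [hk, this]
      · simp [hk]
    set z := x - y with hz
    have hzk : ∀ k, bf Q c z (e k) = bf Q c x (e k) - bf Q c y (e k) := fun k => by rw [hz, bf_sub_left hfr]
    have hzs : supp Q e c z = supp Q e c x \ W.erase p := by
      ext k
      rw [Finset.mem_sdiff, mem_supp, mem_supp, hzk, hyk, Finset.mem_erase]
      by_cases hkp : k = p
      · subst hkp
        rw [if_pos hp, if_pos rfl, sub_neg_eq_add, ← two_mul]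
        simp [hfr.two]
      by_cases hk : k ∈ W
      · rw [if_pos hk, if_neg hkp]; simp [hk, hkp]
      · rw [if_neg hk]; simp [hk]
    have hzn : (supp Q e c z).card = n - 3 := by
      rw [hzs, Finset.card_sdiff_of_subset ((Finset.erase_subset _ _).trans hWs), Finset.card_erase_of_mem hp, hW,
        hxn]
    have hval : ∀ v, ((supp Q e c v).card : F) = 1 → Q v = c := fun v hv => by
      rw [value_iff hfr, bf_coord hfr v v, ← Finset.sum_subset (Finset.subset_univ (supp Q e c v))
        (fun k _ hk => by rw [mem_supp, not_not] at hk; rw [hk, mul_zero]),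
        Finset.sum_congr rfl fun k hk => hsq _ (mem_supp.1 hk), Finset.sum_const, nsmul_one, hv]
    have hQy : Q y = c := hval y (by rw [hys, hW]; push_cast; linear_combination h3)
    have hQz : Q z = c := hval z (by
      have h := hcnt hx
      rw [hxn] at h
      rw [hzn, Nat.cast_sub (by omega), h]
      push_cast
      linear_combination -h3)
    have hyC := hfour y hQy (by rw [hys, hW])
    have hzC := ih (n - 3) (by omega) z hQz hzn
    have hyz : bf Q c y z = 1 := by
      rw [bf_coord hfr, Finset.sum_eq_single p]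
      · rw [hzk, hyk, if_pos hp, if_pos rfl]
        linear_combination (-2 : F) * hsq _ (mem_supp.1 (hWs hp)) - h3
      · intro k _ hkp
        rw [hzk, hyk]
        split_ifs <;> ring
      · simp
    have hxeq : x = mv (R Q z) y := by
      rw [mv_R hfr hQz, hyz, show x = y + z by rw [hz]; abel]
      match_scalars <;> first | ring1 | linear_combination h3 | linear_combination -h3
    rw [hxeq]
    exact cen_refl hC hzC hyC

/-- With all coordinate triples full every vector of the value is a centre. -/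
theorem all_cen (h3 : (3 : F) ≠ 0) (hfull : FullT Q e c M) : ∀ x, Q x = c → x ∈ Cen Q e c M := by
  classical
  have hfr := hC.fr
  obtain ⟨i, j, k, hij, hik, hjk, hF⟩ := hfull
  have hall : ∀ p q r : Fin t, p ≠ q → p ≠ r → q ≠ r → FullOn Q e c M (triU (e p) (e q) (e r)) := by
    intro p q r hpq hpr hqr u hu u' hu' hquu hu0
    obtain ⟨g, hg, hgm, hgi⟩ := exists_tuple hC (n := 3) (by norm_num) ![i, j, k] ![p, q, r]
      (by intro u v; fin_cases u <;> fin_cases v <;> simp [hij, hik, hjk, hij.symm, hik.symm, hjk.symm])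
      (by intro u v; fin_cases u <;> fin_cases v <;> simp [hpq, hpr, hqr, hpq.symm, hpr.symm, hqr.symm])
      (fun _ => 1) fun _ => one_mul 1
    have g0 := hgi 0
    have g1 := hgi 1
    have g2 := hgi 2
    simp only [Matrix.cons_val_zero, Matrix.cons_val_one, Matrix.cons_val_two, Matrix.tail_cons, Matrix.head_cons,
      one_smul] at g0 g1 g2
    have hgI := omega_le_isometry hfr.nd hg
    have hgS := mon_cenStab hC hg hgm
    have hback : ∀ v ∈ triU (e p) (e q) (e r), ∃ v₀ ∈ triU (e i) (e j) (e k), mv g v₀ = v := by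
      intro v hv
      obtain ⟨a, w, hw, rfl⟩ := Submodule.mem_span_insert.1 hv
      obtain ⟨b, w', hw', rfl⟩ := Submodule.mem_span_insert.1 hw
      obtain ⟨d, rfl⟩ := Submodule.mem_span_singleton.1 hw'
      exact ⟨a • e i + (b • e j + d • e k), Submodule.mem_span_insert.2 ⟨a, _, Submodule.mem_span_insert.2
        ⟨b, _, Submodule.smul_mem _ _ (Submodule.mem_span_singleton_self _), rfl⟩, rfl⟩,
        by rw [mv_add, mv_add, mv_smul, mv_smul, mv_smul, g0, g1, g2]⟩
    obtain ⟨v, hv, rfl⟩ := hback u hu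
    obtain ⟨v', hv', rfl⟩ := hback u' hu'
    rw [mem_isometry.1 hgI, mem_isometry.1 hgI] at hquu
    rw [mem_isometry.1 hgI] at hu0
    obtain ⟨h, hh, hfix, hhv⟩ := hF v hv v' hv' hquu hu0
    refine ⟨g * h * g⁻¹, Subgroup.mul_mem _ (Subgroup.mul_mem _ hgS hh) (Subgroup.inv_mem _ hgS), fun z hz => ?_,
      by rw [mv_mul, mv_mul, mv_inv_mv, hhv]⟩
    rw [mv_mul, mv_mul, hfix _ fun x hx => ?_, mv_mv_inv]
    rw [← pol_mv hfr.nd hgI, mv_mv_inv]
    obtain ⟨a, w, hw, rfl⟩ := Submodule.mem_span_insert.1 hx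
    obtain ⟨b, w', hw', rfl⟩ := Submodule.mem_span_insert.1 hw
    obtain ⟨d, rfl⟩ := Submodule.mem_span_singleton.1 hw'
    refine hz _ ?_
    rw [mv_add, mv_add, mv_smul, mv_smul, mv_smul, g0, g1, g2]
    exact Submodule.mem_span_insert.2 ⟨a, _, Submodule.mem_span_insert.2
      ⟨b, _, Submodule.smul_mem _ _ (Submodule.mem_span_singleton_self _), rfl⟩, rfl⟩
  suffices H : ∀ n x, Q x = c → (supp Q e c x).card = n → x ∈ Cen Q e c M from fun x hx => H _ x hx rfl
  intro n
  induction n using Nat.strong_induction_on with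
  | _ n ih =>
    intro x hx hxn
    by_cases hn3 : n ≤ 3
    · obtain ⟨T, hT, -, hTc⟩ := Finset.exists_subsuperset_card_eq (Finset.subset_univ (supp Q e c x))
        (show (supp Q e c x).card ≤ 3 by omega) (by rw [Finset.card_univ, Fintype.card_fin]; have := hC.ht; omega)
      obtain ⟨p, q, r, hpq, hpr, hqr, rfl⟩ := Finset.card_eq_three.1 hTc
      refine cen_of_fullOn hC (b₀ := e p) (b₁ := e q) (b₂ := e r) (r := e p)
        (tri_of_pair hC hpq (frame_other hfr hpr.symm) (frame_other hfr hqr.symm) (by rw [q_frame hfr]; exact hfr.c0)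
          (Submodule.subset_span (Or.inl rfl)) (by rw [q_frame hfr]; exact hfr.c0)
          fun y hy _ => cen_refl hC (cen_frame hC p) hy)
        (hall p q r hpq hpr hqr) (cen_frame hC p) (Submodule.subset_span (Or.inl rfl)) ?_ hx
      rw [mem_span_of_coord hfr (x := x) (s := {p, q, r}) fun l hl => by
        by_contra h; exact hl (hT (mem_supp.2 h))]
      exact Submodule.sum_mem _ fun l hl => Submodule.smul_mem _ _ (Submodule.subset_span (by
        simp only [Finset.mem_insert, Finset.mem_singleton] at hl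
        rcases hl with rfl | rfl | rfl <;> simp))
    obtain ⟨p, q, r, hpq, hpr, hqr, hsub, hne⟩ : ∃ p q r, p ≠ q ∧ p ≠ r ∧ q ≠ r ∧
        ({p, q, r} : Finset (Fin t)) ⊆ supp Q e c x ∧ nrm Q e c x p + nrm Q e c x q + nrm Q e c x r ≠ 0 := by
      obtain ⟨W, hWs, hW⟩ := Finset.exists_subset_card_eq (show 4 ≤ (supp Q e c x).card by omega)
      obtain ⟨p, q, r, u, hpq, hpr, hpu, hqr, hqu, hru, rfl⟩ := Finset.card_eq_four.1 hW
      simp only [Finset.insert_subset_iff, Finset.singleton_subset_iff] at hWs
      by_contra hcon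
      push Not at hcon
      have h1 := hcon p q r hpq hpr hqr (by simp [Finset.insert_subset_iff, hWs])
      have h2 := hcon p q u hpq hpu hqu (by simp [Finset.insert_subset_iff, hWs])
      have h3' := hcon p r u hpr hpu hru (by simp [Finset.insert_subset_iff, hWs])
      have h4 := hcon q r u hqr hqu hru (by simp [Finset.insert_subset_iff, hWs])
      exact mul_ne_zero h3 (mul_ne_zero (mem_supp.1 hWs.1) (mem_supp.1 hWs.1))
        (show (3 : F) * nrm Q e c x p = 0 by linear_combination h1 + h2 + h3' - 2 * h4)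
    obtain ⟨α, β, hαβ⟩ := exists_two_squares hfr.nd hfr.two (nrm Q e c x p + nrm Q e c x q + nrm Q e c x r)
    set xT := bf Q c x (e p) • e p + bf Q c x (e q) • e q + bf Q c x (e r) • e r with hxT
    set yT := α • e p + β • e q with hyT
    have mp : e p ∈ triU (e p) (e q) (e r) := Submodule.subset_span (Or.inl rfl)
    have mq : e q ∈ triU (e p) (e q) (e r) := Submodule.subset_span (Or.inr (Or.inl rfl))
    have mr : e r ∈ triU (e p) (e q) (e r) := Submodule.subset_span (Or.inr (Or.inr rfl))
    have hqxT : bf Q c xT xT = nrm Q e c x p + nrm Q e c x q + nrm Q e c x r := by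
      simp only [hxT, bf_add_left hfr, bf_add_right hfr, bf_smul_left hfr, bf_smul_right hfr, frame_self hfr,
        frame_other hfr hpq, frame_other hfr hpr, frame_other hfr hqr, frame_other hfr hpq.symm,
        frame_other hfr hpr.symm, frame_other hfr hqr.symm, nrm]
      ring
    have hqyT : bf Q c yT yT = nrm Q e c x p + nrm Q e c x q + nrm Q e c x r := by
      simp only [hyT, bf_add_left hfr, bf_add_right hfr, bf_smul_left hfr, bf_smul_right hfr, frame_self hfr,
        frame_other hfr hpq, frame_other hfr hpq.symm]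
      linear_combination hαβ
    obtain ⟨g, hg, hfix, hgx⟩ := hall p q r hpq hpr hqr xT
      (Submodule.add_mem _ (Submodule.add_mem _ (Submodule.smul_mem _ _ mp) (Submodule.smul_mem _ _ mq))
        (Submodule.smul_mem _ _ mr))
      yT (Submodule.add_mem _ (Submodule.smul_mem _ _ mp) (Submodule.smul_mem _ _ mq))
      (by rw [q_bf hfr, q_bf hfr yT, hqxT, hqyT])
      (by rw [q_bf hfr, hqxT]; exact mul_ne_zero hfr.c0 hne)
    have hxTk : ∀ l, bf Q c xT (e l) = if l = p ∨ l = q ∨ l = r then bf Q c x (e l) else 0 := by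
      intro l
      rw [hxT, bf_add_left hfr, bf_add_left hfr, coord_smul hfr, coord_smul hfr, coord_smul hfr]
      by_cases h1 : l = p
      · subst h1; simp [hpq.symm, hpr.symm]
      by_cases h2 : l = q
      · subst h2; simp [hpq, hqr.symm]
      by_cases h3'' : l = r
      · subst h3''; simp [hpr, hqr]
      simp [h1, h2, h3'', Ne.symm h1, Ne.symm h2, Ne.symm h3'']
    have hgrest : mv g (x - xT) = x - xT := hfix _ fun v hv => by
      obtain ⟨a, w, hw, rfl⟩ := Submodule.mem_span_insert.1 hv
      obtain ⟨b, w', hw', rfl⟩ := Submodule.mem_span_insert.1 hw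
      obtain ⟨d, rfl⟩ := Submodule.mem_span_singleton.1 hw'
      rw [pol_bf hfr]
      simp only [bf_add_left hfr, bf_smul_left hfr, bf_sub_right hfr, bf_comm (e p), bf_comm (e q), bf_comm (e r),
        hxTk, true_or, or_true, if_true, sub_self, mul_zero, add_zero]
    set x' := mv g x with hx'
    have hgI := le_isometry hC hg.1
    have hx'e : x' = (x - xT) + yT := by
      rw [hx', show x = (x - xT) + xT by abel, mv_add, hgrest, hgx]; abel
    have hsub' : supp Q e c x' ⊆ (supp Q e c x).erase r := by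
      intro l hl
      rw [mem_supp, hx'e, bf_add_left hfr, bf_sub_left hfr, hxTk, hyT, bf_add_left hfr, coord_smul hfr,
        coord_smul hfr] at hl
      rw [Finset.mem_erase]
      have hlr : l ≠ r := by
        rintro rfl
        simp [hpr, hqr] at hl
      refine ⟨hlr, ?_⟩
      by_cases h1 : l = p
      · exact hsub (by simp [h1])
      by_cases h2 : l = q
      · exact hsub (by simp [h2])
      rw [mem_supp]
      simpa [h1, h2, hlr, Ne.symm h1, Ne.symm h2] using hl
    have hcard := Finset.card_le_card hsub'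
    rw [Finset.card_erase_of_mem (hsub (by simp))] at hcard
    have hx'C := ih _ (by omega) x' (by rw [hx', mem_isometry.1 hgI, hx]) rfl
    have := (Subgroup.inv_mem _ hg).2 x' hx'C
    rwa [hx', mv_inv_mv] at this

/-- When all vectors of the value are centres the group is everything. -/
theorem eq_omega_of_all (h : ∀ x, Q x = c → x ∈ Cen Q e c M) : M = Geo.omegaGL Q := by
  classical
  have hfr := hC.fr
  have hQ := hfr.nd
  obtain ⟨α, β, hαβ⟩ := exists_two_squares hQ hfr.two (-1 : F)
  let p : Fin 5 → Fin t := fun i => ⟨i.1, by have := hC.ht; omega⟩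
  have hp : Function.Injective p := fun i j h => Fin.ext (Fin.mk.inj_iff.1 h)
  have o : ∀ {i j : Fin 5}, i ≠ j → bf Q c (e (p i)) (e (p j)) = 0 := fun h => frame_other hfr (hp.ne h)
  have one : ∀ i, bf Q c (e (p i)) (e (p i)) = 1 := fun i => frame_self hfr _
  have hfullvec : ∀ u, Q u = 0 → bf Q c u (e (p 3)) = 0 → bf Q c u (e (p 4)) = 0 → u ∈ qFull Q M := by
    intro u hu h3' h4'
    have huu : pol Q u u = 0 := by rw [pol_self hQ, hu, mul_zero]
    have hline : ∀ x, Q x = c → bf Q c u x = 0 → LineIn Q M u x := by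
      intro x hx hux l
      have hxu : pol Q x u = 0 := by rw [pol_bf hfr, bf_comm, hux, mul_zero]
      set s := l * c with hs
      have hy : Q (x + s • u) = c := by
        rw [q_add hQ, q_smul hQ, pol_smul_right hQ, hxu, hu, hx]; ring
      refine ⟨R Q x * R Q (x + s • u), cen_pair hC (h x hx) (h _ hy), fun z => ?_⟩
      have hxx : pol Q x x = 2 * c := by rw [pol_self hQ, hx]
      have hux' : pol Q u x = 0 := (pol_comm _ _).trans hxu
      have hc := hfr.c0
      rw [mv_mul, (R_spec_c hfr hy).2.2, hy, mv_sub, mv_smul, mv_add, mv_smul, (R_spec_c hfr hx).2.2 z,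
        (R_spec_c hfr hx).2.2 x, (R_spec_c hfr hx).2.2 u, hx, hxx, hux', q_smul hQ, hx, pol_smul_right hQ,
        pol_add_right hQ, pol_smul_right hQ, hs]
      match_scalars <;> field_simp <;> ring
    refine ⟨hu, fun y hy => ?_⟩
    have hey : ∀ i, bf Q c u (e (p i)) = 0 → LineIn Q M u (e (p i)) := fun i hi => hline _ (q_frame hfr _) hi
    set y' := y - bf Q c y (e (p 3)) • e (p 3) - bf Q c y (e (p 4)) • e (p 4) with hy'
    have hyu : bf Q c u y = 0 := by rw [bf, hy, zero_div]
    have hy'3 : bf Q c y' (e (p 3)) = 0 := by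
      simp only [hy', bf_sub_left hfr, bf_smul_left hfr, one, o (show (4 : Fin 5) ≠ 3 by decide)]; ring
    have hy'4 : bf Q c y' (e (p 4)) = 0 := by
      simp only [hy', bf_sub_left hfr, bf_smul_left hfr, one, o (show (3 : Fin 5) ≠ 4 by decide)]; ring
    have hy'u : bf Q c u y' = 0 := by
      simp only [hy', bf_sub_right hfr, bf_smul_right hfr, hyu, h3', h4']; ring
    obtain ⟨a, b, hab⟩ := exists_two_squares hQ hfr.two (1 - bf Q c y' y')
    set x := y' + a • e (p 3) + b • e (p 4) with hxdef
    have hx : Q x = c := by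
      rw [value_iff hfr]
      simp only [hxdef, bf_add_left hfr, bf_add_right hfr, bf_smul_left hfr, bf_smul_right hfr, hy'3, hy'4,
        bf_comm (e (p 3)) y', bf_comm (e (p 4)) y', one, o (show (4 : Fin 5) ≠ 3 by decide),
        o (show (3 : Fin 5) ≠ 4 by decide)]
      linear_combination hab
    have hxu : bf Q c u x = 0 := by
      simp only [hxdef, bf_add_right hfr, bf_smul_right hfr, hy'u, h3', h4']; ring
    have hp3 : pol Q u (e (p 3)) = 0 := by rw [pol_bf hfr, h3', mul_zero]
    have hp4 : pol Q u (e (p 4)) = 0 := by rw [pol_bf hfr, h4', mul_zero]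
    have hpx : pol Q u x = 0 := by rw [pol_bf hfr, hxu, mul_zero]
    have hdec : y = x + (bf Q c y (e (p 3)) - a) • e (p 3) + (bf Q c y (e (p 4)) - b) • e (p 4) := by
      rw [hxdef, hy']; module
    have hl : LineIn Q M u y := by
      rw [hdec]
      exact lineIn_add hQ hu (by rw [pol_add_right hQ, pol_smul_right hQ, hpx, hp3]; ring)
        (by rw [pol_smul_right hQ, hp4, mul_zero])
        (lineIn_add hQ hu hpx (by rw [pol_smul_right hQ, hp3, mul_zero]) (hline x hx hxu)
          (lineIn_smul _ (hey 3 h3')))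
        (lineIn_smul _ (hey 4 h4'))
    obtain ⟨g, hg, hgs⟩ := hl 1
    exact ⟨g, hg, by rwa [one_smul] at hgs⟩
  set u := e (p 0) + α • e (p 1) + β • e (p 2) with hu
  set v := (4 * c)⁻¹ • (e (p 0) - α • e (p 1) - β • e (p 2)) with hv
  have hc4 : (4 : F) * c ≠ 0 := by
    rw [show (4 : F) = 2 * 2 by norm_num]; exact mul_ne_zero (mul_ne_zero hfr.two hfr.two) hfr.c0
  have o01 := o (show (0 : Fin 5) ≠ 1 by decide)
  have o02 := o (show (0 : Fin 5) ≠ 2 by decide)
  have o12 := o (show (1 : Fin 5) ≠ 2 by decide)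
  have o10 := o (show (1 : Fin 5) ≠ 0 by decide)
  have o20 := o (show (2 : Fin 5) ≠ 0 by decide)
  have o21 := o (show (2 : Fin 5) ≠ 1 by decide)
  have hu0 : Q u = 0 := by
    rw [q_bf hfr, show bf Q c u u = 0 by
      simp only [hu, bf_add_left hfr, bf_add_right hfr, bf_smul_left hfr, bf_smul_right hfr, one, o01, o02, o12, o10,
        o20, o21]
      linear_combination hαβ, mul_zero]
  have hv0 : Q v = 0 := by
    rw [hv, q_smul hQ, q_bf hfr, show bf Q c (e (p 0) - α • e (p 1) - β • e (p 2))
      (e (p 0) - α • e (p 1) - β • e (p 2)) = 0 by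
      simp only [bf_sub_left hfr, bf_sub_right hfr, bf_smul_left hfr, bf_smul_right hfr, one, o01, o02, o12, o10,
        o20, o21]
      linear_combination hαβ, mul_zero, mul_zero]
  have huv : pol Q u v = 1 := by
    rw [pol_bf hfr, show bf Q c u v = (4 * c)⁻¹ * 2 by
      simp only [hu, hv, bf_add_left hfr, bf_sub_right hfr, bf_smul_left hfr, bf_smul_right hfr, one, o01, o02, o12,
        o10, o20, o21]
      linear_combination -(4 * c)⁻¹ * hαβ,
      show 2 * c * ((4 * c)⁻¹ * 2) = 4 * c * (4 * c)⁻¹ by ring, mul_inv_cancel₀ hc4]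
  have hz : ∀ i : Fin 5, i ≠ 0 → i ≠ 1 → i ≠ 2 → bf Q c u (e (p i)) = 0 ∧ bf Q c v (e (p i)) = 0 :=
    fun i a0 a1 a2 => by
      simp only [hu, hv, bf_add_left hfr, bf_sub_left hfr, bf_smul_left hfr, o a0.symm, o a1.symm, o a2.symm]
      exact ⟨by ring, by ring⟩
  exact eq_omega_of_pair hQ (hn11 hC) hC.le
    (hfullvec u hu0 (hz 3 (by decide) (by decide) (by decide)).1 (hz 4 (by decide) (by decide) (by decide)).1)
    (hfullvec v hv0 (hz 3 (by decide) (by decide) (by decide)).2 (hz 4 (by decide) (by decide) (by decide)).2) huv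

/-- A non-monomial overgroup is the whole group. -/
theorem eq_omega_of_not_mon (hnm : ∃ g ∈ M, ¬ FMon e g) : M = Geo.omegaGL Q := by
  refine eq_omega_of_all hC hprime ?_
  have hex := exists_nice hC hnm
  by_cases h3 : (3 : F) = 0
  · exact all_cen_three hC hprime h3 hex
  · exact all_cen hC hprime h3 (exists_fullT hC hprime h3 hex)

omit hC hprime in
/-- Some element of the commutator subgroup moves a frame line off the frame. -/
theorem exists_not_mon (hfr : Fr Q e c) (hn : 7 ≤ Fintype.card ι) (ht : 4 ≤ t) :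
    ∃ g ∈ Geo.omegaGL Q, ¬ FMon e g := by
  have hQ := hfr.nd
  obtain ⟨α, β, hαβ⟩ := exists_two_squares hQ hfr.two (-1 : F)
  let p : Fin 4 → Fin t := fun i => ⟨i.1, by omega⟩
  have hp : Function.Injective p := fun i j h => Fin.ext (Fin.mk.inj_iff.1 h)
  have o : ∀ {i j : Fin 4}, i ≠ j → bf Q c (e (p i)) (e (p j)) = 0 := fun h => frame_other hfr (hp.ne h)
  have one : ∀ i, bf Q c (e (p i)) (e (p i)) = 1 := fun i => frame_self hfr _
  set u := e (p 0) + α • e (p 1) + β • e (p 2) with hu
  have hu0 : Q u = 0 := by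
    rw [q_bf hfr, show bf Q c u u = 0 by
      simp only [hu, bf_add_left hfr, bf_add_right hfr, bf_smul_left hfr, bf_smul_right hfr, one,
        o (show (0 : Fin 4) ≠ 1 by decide), o (show (0 : Fin 4) ≠ 2 by decide), o (show (1 : Fin 4) ≠ 2 by decide),
        o (show (1 : Fin 4) ≠ 0 by decide), o (show (2 : Fin 4) ≠ 0 by decide), o (show (2 : Fin 4) ≠ 1 by decide)]
      linear_combination hαβ, mul_zero]
  have hu3 : bf Q c u (e (p 3)) = 0 := by
    simp only [hu, bf_add_left hfr, bf_smul_left hfr, o (show (0 : Fin 4) ≠ 3 by decide),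
      o (show (1 : Fin 4) ≠ 3 by decide), o (show (2 : Fin 4) ≠ 3 by decide)]
    ring
  have huy : pol Q u (e (p 3)) = 0 := by rw [pol_bf hfr, hu3, mul_zero]
  obtain ⟨g, -, hg⟩ := exists_siegel hQ hu0 huy
  refine ⟨g, siegel_mem_omega hQ hn hu0 huy hg, fun hm => ?_⟩
  obtain ⟨l, a, hl⟩ := hm (p 3)
  have hgy : mv g (e (p 3)) = e (p 3) - (2 * c) • u := by
    rw [hg, pol_comm (e (p 3)) u, huy, pol_self hQ, q_frame hfr]; module
  rw [hgy] at hl
  have e1 := congrArg (fun z => bf Q c z (e (p 3))) hl
  have e2 := congrArg (fun z => bf Q c z (e (p 0))) hl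
  simp only [bf_sub_left hfr, bf_smul_left hfr, one, hu3, o (show (3 : Fin 4) ≠ 0 by decide), mul_zero, sub_zero,
    show bf Q c u (e (p 0)) = 1 by
      simp only [hu, bf_add_left hfr, bf_smul_left hfr, one, o (show (1 : Fin 4) ≠ 0 by decide),
        o (show (2 : Fin 4) ≠ 0 by decide)]
      ring, frame_eq hfr, mul_ite, mul_one, zero_sub] at e1 e2
  by_cases h3 : l = p 3
  · rw [if_neg (h3.trans_ne (hp.ne (by decide))), neg_eq_zero] at e2
    exact mul_ne_zero hfr.two hfr.c0 e2
  · rw [if_neg h3] at e1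
    exact one_ne_zero e1

end Cfsg.Agent.Transvec.OFr

namespace Cfsg.Agent.Transvec.OFr

open scoped Matrix
open Matrix Cfsg.Agent.Transvec Cfsg.Agent.Transvec.Orth

variable {ι : Type} [Fintype ι] [DecidableEq ι] {F : Type*} [Field F] [Fintype F] {Q : (ι → F) → F}
variable {t : ℕ} {D : Fin t → Submodule F (ι → F)}

/-- The stabiliser of a frame of isometric lines is maximal in the commutator subgroup. -/
theorem frame_maximal' (hQ : Geo.IsNondegenerateQuadraticForm Q) (hprime : (Fintype.card F).Prime)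
    (h2 : (2 : F) ≠ 0) (hn : 7 ≤ Fintype.card ι) (hbig : 10 ≤ Fintype.card ι ∨ Odd (Fintype.card ι))
    (hD : Geo.IsOrthogonalMDecomposition Q 1 D) :
    Geo.IsMaximalIn (Geo.omegaGL Q) (Geo.decompositionStabilizer D ⊓ Geo.omegaGL Q) := by
  classical
  have hfin := hD.decomp.decomp.finrank_eq
  have hI : DirectSum.IsInternal D :=
    DirectSum.isInternal_submodule_of_iSupIndep_of_iSup_eq_top hD.decomp.decomp.indep hD.decomp.decomp.iSup_eq_top
  let B : ∀ i, Module.Basis (Fin 1) F (D i) := fun i => Module.finBasisOfFinrankEq F (D i) (hfin i)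
  have hcard := Module.finrank_eq_card_basis (hI.collectedBasis B)
  rw [Module.finrank_pi, Fintype.card_sigma] at hcard
  simp only [Fintype.card_fin, Finset.sum_const, Finset.card_univ, smul_eq_mul, mul_one] at hcard
  let i₀ : Fin t := ⟨0, by omega⟩
  obtain ⟨v, hv, hvv⟩ := exists_anisotropic hQ (block_nondeg hD i₀) fun h => by
    have := hfin i₀
    rw [h, finrank_bot] at this
    omega
  set c := Q v with hc
  let f : ∀ i, D i₀ ≃ₗ[F] D i := fun i => (hD.isometric i₀ i).choose
  let e : Fin t → ι → F := fun i => (f i ⟨v, hv⟩ : D i)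
  have heD : ∀ i, e i ∈ D i := fun i => (f i ⟨v, hv⟩).2
  have hqe : ∀ i, Q (e i) = c := fun i => (hD.isometric i₀ i).choose_spec ⟨v, hv⟩
  have he0 : ∀ i, e i ≠ 0 := fun i h => hvv (by rw [← hqe i, h, q_zero hQ])
  have hspan : ∀ i, D i = Submodule.span F {e i} := fun i =>
    (Submodule.eq_of_le_of_finrank_le ((Submodule.span_singleton_le_iff_mem _ _).2 (heD i))
      (by rw [hfin, finrank_span_singleton (he0 i)])).symm
  have horth : ∀ i j, pol Q (e i) (e j) = if i = j then 2 * c else 0 := fun i j => by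
    split_ifs with h
    · subst h; rw [pol_self hQ, hqe]
    · exact block_orth hD h (heD i) (heD j)
  have hfr : Fr Q e c :=
    { nd := hQ
      two := h2
      c0 := hvv
      orth := horth
      expand := fun x => by
        rw [← sub_eq_zero]
        refine eq_zero_of_orth_all hQ hD fun i u hu => ?_
        rw [hspan] at hu
        obtain ⟨a, rfl⟩ := Submodule.mem_span_singleton.1 hu
        rw [pol_sub_right hQ, show pol Q (a • e i) (∑ j, bf Q c x (e j) • e j) =
            ∑ j, pol Q (a • e i) (bf Q c x (e j) • e j) from ?_,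
          Finset.sum_eq_single i (fun j _ hj => by
            rw [pol_smul_left hQ, pol_smul_right hQ, horth, if_neg hj.symm]; ring) (by simp),
          pol_smul_left hQ, pol_smul_left hQ, pol_smul_right hQ, horth, if_pos rfl, bf,
          div_mul_cancel₀ _ (mul_ne_zero h2 hvv), pol_comm x]
        · ring
        · rw [pol_comm, show pol Q (∑ j, bf Q c x (e j) • e j) (a • e i) =
            ∑ j, pol Q (bf Q c x (e j) • e j) (a • e i) from map_sum (formQ hQ (a • e i)) _ _]
          exact Finset.sum_congr rfl fun j _ => pol_comm _ _ }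
  have hstab : ∀ g ∈ Geo.omegaGL Q, g ∈ Geo.decompositionStabilizer D ↔ FMon e g := by
    intro g _
    refine ⟨fun ⟨π, hπ⟩ k => ⟨π k, ?_⟩, fun hm => mem_decomp_of_maps hQ hD fun i => ?_⟩
    · have h : mv g (e k) ∈ D (π k) := (hπ k).le ⟨e k, heD k, by simp [mv]⟩
      rw [hspan] at h
      obtain ⟨a, ha⟩ := Submodule.mem_span_singleton.1 h
      exact ⟨a, ha.symm⟩
    · obtain ⟨l, a, ha⟩ := hm i
      refine ⟨l, fun u hu => ?_⟩
      rw [hspan] at hu
      obtain ⟨b, rfl⟩ := Submodule.mem_span_singleton.1 hu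
      rw [mv_smul, ha]
      exact (D l).smul_mem _ ((D l).smul_mem _ (heD l))
  refine ⟨lt_of_le_of_ne inf_le_right fun h => ?_, fun M hle hMS => ?_⟩
  · obtain ⟨g, hg, hgm⟩ := exists_not_mon hfr (by omega) (by omega)
    exact hgm ((hstab g hg).1 (h.ge hg).1)
  · by_cases hall : ∀ g ∈ M, FMon e g
    · exact Or.inl (le_antisymm (fun g hg => ⟨(hstab g (hMS hg)).2 (hall g hg), hMS hg⟩) hle)
    · push Not at hall
      exact Or.inr (eq_omega_of_not_mon
        ⟨hfr, hn, by omega, hcard ▸ hbig, hMS, fun g hg hm => hle ⟨(hstab g hg).2 hm, hg⟩⟩ hprime hall)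

/-- The stabiliser of a frame of isometric lines is maximal in large dimension. -/
theorem frame_maximal (hQ : Geo.IsNondegenerateQuadraticForm Q) (hprime : (Fintype.card F).Prime)
    (h2 : (2 : F) ≠ 0) (hn : 10 ≤ Fintype.card ι) (hD : Geo.IsOrthogonalMDecomposition Q 1 D) :
    Geo.IsMaximalIn (Geo.omegaGL Q) (Geo.decompositionStabilizer D ⊓ Geo.omegaGL Q) :=
  frame_maximal' hQ hprime h2 (by omega) (Or.inl hn) hD

end Cfsg.Agent.Transvec.OFr
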