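/-
Non-degenerate subspace stabilisers: either summand may be the larger one.
-/
import Cfsg.Agent.Lib.Transvec.OrthNondeg
set_option autoImplicit false

namespace Cfsg.Agent.Transvec.Orth

open scoped Matrix
open Matrix Cfsg.Agent.Transvec

variable {ι : Type} [Fintype ι] [DecidableEq ι] {F : Type*} [Field F] {Q : (ι → F) → F}
variable (hQ : Geo.IsNondegenerateQuadraticForm Q)
include hQ

/-- An even-dimensional space orthogonal to an isometric copy of itself spans a space of plus type with it. -/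
theorem exists_half [Finite F] {g : GL ι F} (hg : g ∈ isometryGroup F Q) :
    ∀ (d : ℕ) (X : Submodule F (ι → F)), Module.finrank F X = d → Even d → Nondeg Q X →
      (∀ x ∈ X, ∀ y ∈ X, pol Q x (mv g y) = 0) →
      ∃ T ≤ X ⊔ X.map (mvLin g), (∀ t ∈ T, Q t = 0) ∧ d ≤ Module.finrank F T := by
  intro d
  induction d using Nat.strong_induction_on with
  | _ d ih =>
    intro X hd hev hX hperp
    rcases Nat.eq_zero_or_pos d with h0 | h0
    · exact ⟨⊥, bot_le, fun t ht => by rw [(Submodule.mem_bot F).1 ht, q_zero hQ], by omega⟩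
    have hXne : X ≠ ⊥ := fun h => by rw [h, finrank_bot] at hd; omega
    by_cases h2 : (2 : F) = 0
    · let T : X →ₗ[F] (ι → F) := X.subtype + (mvLin g).comp X.subtype
      refine ⟨LinearMap.range T, ?_, ?_, ?_⟩
      · rintro _ ⟨x, rfl⟩
        exact Submodule.add_mem _ (Submodule.mem_sup_left x.2) (Submodule.mem_sup_right ⟨x, x.2, rfl⟩)
      · rintro _ ⟨x, rfl⟩
        change Q ((x : ι → F) + mvLin g (x : ι → F)) = 0
        rw [show mvLin g (x : ι → F) = mv g x by simp [mvLin, mv], q_add hQ, mem_isometry.1 hg,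
          hperp _ x.2 _ x.2]
        linear_combination Q (x : ι → F) * h2
      · rw [LinearMap.finrank_range_of_inj, hd]
        rw [← LinearMap.ker_eq_bot, LinearMap.ker_eq_bot']
        intro x hx
        refine Subtype.ext (hX x x.2 fun w hw => ?_)
        have := congrArg (fun v => pol Q w v) hx
        change pol Q w ((x : ι → F) + mvLin g (x : ι → F)) = pol Q w 0 at this
        rwa [show mvLin g (x : ι → F) = mv g x by simp [mvLin, mv], pol_add_right hQ, hperp _ hw _ x.2,
          pol_zero_right hQ, add_zero] at this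
    obtain ⟨a, ha, haq⟩ := exists_anisotropic hQ hX hXne
    have hline : ∀ {c : ι → F}, Q c ≠ 0 → Nondeg Q (Submodule.span F {c}) := fun {c} hc u hu h => by
      obtain ⟨k, rfl⟩ := Submodule.mem_span_singleton.1 hu
      have := h c (Submodule.mem_span_singleton_self c)
      rw [pol_smul_right hQ, pol_self hQ, mul_eq_zero, or_iff_left (mul_ne_zero h2 hc)] at this
      rw [this, zero_smul]
    have hne : ∀ {c : ι → F}, Q c ≠ 0 → c ≠ 0 := fun {c} hc h => hc (by rw [h, q_zero hQ])
    have hla : Submodule.span F {a} ≤ X := (Submodule.span_singleton_le_iff_mem _ _).2 ha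
    have hX1 := nondeg_inf_orth hQ (hline haq) hX hla
    have hf1 := finrank_inf_orth_add hQ (hline haq) hla
    rw [finrank_span_singleton (hne haq), hd] at hf1
    obtain ⟨j, hj⟩ := hev
    obtain ⟨b, hb, hbq⟩ := exists_anisotropic hQ hX1 (fun h => by rw [h, finrank_bot] at hf1; omega)
    have hlb : Submodule.span F {b} ≤ X ⊓ orth hQ (Submodule.span F {a}) :=
      (Submodule.span_singleton_le_iff_mem _ _).2 hb
    have hX2 := nondeg_inf_orth hQ (hline hbq) hX1 hlb
    have hf2 := finrank_inf_orth_add hQ (hline hbq) hlb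
    rw [finrank_span_singleton (hne hbq)] at hf2
    set X' := X ⊓ orth hQ (Submodule.span F {a}) ⊓ orth hQ (Submodule.span F {b}) with hX'def
    obtain ⟨T', hT'le, hT'0, hT'd⟩ := ih (d - 2) (by omega) X' (by omega) (⟨j - 1, by omega⟩) hX2
      fun x hx y hy => hperp x hx.1.1 y hy.1.1
    have hab : pol Q a b = 0 := hb.2 a (Submodule.mem_span_singleton_self a)
    have : Fintype F := Fintype.ofFinite F
    obtain ⟨x, y, hxy⟩ := FiniteField.exists_root_sum_quadratic
      (f := Polynomial.C (Q a) * Polynomial.X ^ 2 + Polynomial.C (Q a))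
      (g := Polynomial.C (Q b) * Polynomial.X ^ 2)
      (by
        rw [Polynomial.degree_add_eq_left_of_degree_lt] <;> rw [Polynomial.degree_C_mul_X_pow 2 haq]
        · rfl
        · exact lt_of_le_of_lt Polynomial.degree_C_le (by norm_num))
      (Polynomial.degree_C_mul_X_pow 2 hbq)
      (FiniteField.odd_card_of_char_ne_two fun h => h2 (by
          have : CharP F 2 := ringChar.eq_iff.1 h
          exact CharP.cast_eq_zero F 2))
    simp only [Polynomial.eval_add, Polynomial.eval_mul, Polynomial.eval_C, Polynomial.eval_pow,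
      Polynomial.eval_X] at hxy
    set a' := x • a + y • b
    set b' := (-(Q b * y / Q a)) • a + x • b
    have ha' : a' ∈ X := X.add_mem (X.smul_mem _ ha) (X.smul_mem _ hb.1)
    have hb' : b' ∈ X := X.add_mem (X.smul_mem _ ha) (X.smul_mem _ hb.1)
    have hqa' : Q a' = -Q a := by
      rw [q_add hQ, q_smul hQ, q_smul hQ, pol_smul_left hQ, pol_smul_right hQ, hab]
      linear_combination hxy
    have hqb' : Q b' = -Q b := by
      rw [q_add hQ, q_smul hQ, q_smul hQ, pol_smul_left hQ, pol_smul_right hQ, hab]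
      field_simp
      linear_combination hxy
    have hab' : pol Q a' b' = 0 := by
      simp only [a', b', pol_add_left hQ, pol_add_right hQ, pol_smul_left hQ, pol_smul_right hQ,
        pol_self hQ, hab, pol_comm b a]
      field_simp
      ring
    set t₁ := a + mv g a'
    set t₂ := b + mv g b'
    have hq1 : Q t₁ = 0 := by rw [q_add hQ, mem_isometry.1 hg, hqa', hperp a ha a' ha']; ring
    have hq2 : Q t₂ = 0 := by rw [q_add hQ, mem_isometry.1 hg, hqb', hperp b hb.1 b' hb']; ring
    have h12 : pol Q t₁ t₂ = 0 := by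
      rw [pol_add_left hQ, pol_add_right hQ, pol_add_right hQ, hab, hperp a ha b' hb', pol_comm _ b,
        hperp b hb.1 a' ha', pol_mv hQ hg, hab']
      ring
    -- T' is orthogonal to a, b and their images
    have hT'o : ∀ t ∈ T', ∀ c ∈ Submodule.span F ({a, b} : Set (ι → F)),
        pol Q c t = 0 ∧ pol Q (mv g c) t = 0 := by
      intro t ht c hc
      obtain ⟨p, hp, q', ⟨q, hq, rfl⟩, rfl⟩ := Submodule.mem_sup.1 (hT'le ht)
      have hcX : c ∈ X := Submodule.span_le.2 (by rintro z (rfl | rfl); exacts [ha, hb.1]) hc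
      have ho : ∀ z ∈ X', pol Q c z = 0 := fun z hz => by
        obtain ⟨k, l, rfl⟩ := Submodule.mem_span_pair.1 hc
        rw [pol_add_left hQ, pol_smul_left hQ, pol_smul_left hQ, hz.1.2 a (Submodule.mem_span_singleton_self a),
          hz.2 b (Submodule.mem_span_singleton_self b)]
        ring
      rw [show mvLin g q = mv g q by simp [mvLin, mv]]
      exact ⟨by rw [pol_add_right hQ, ho p hp, hperp c hcX q hq.1.1, add_zero],
        by rw [pol_add_right hQ, pol_mv hQ hg, ho q hq, pol_comm, hperp p hp.1.1 c hcX, add_zero]⟩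
    have haP : a ∈ Submodule.span F ({a, b} : Set (ι → F)) := Submodule.subset_span (Set.mem_insert _ _)
    have hbP : b ∈ Submodule.span F ({a, b} : Set (ι → F)) :=
      Submodule.subset_span (Set.mem_insert_of_mem _ rfl)
    have ha'P : a' ∈ Submodule.span F ({a, b} : Set (ι → F)) :=
      Submodule.add_mem _ (Submodule.smul_mem _ _ haP) (Submodule.smul_mem _ _ hbP)
    have hb'P : b' ∈ Submodule.span F ({a, b} : Set (ι → F)) :=
      Submodule.add_mem _ (Submodule.smul_mem _ _ haP) (Submodule.smul_mem _ _ hbP)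
    have ht1T : ∀ t ∈ T', pol Q t₁ t = 0 := fun t ht => by
      rw [pol_add_left hQ, (hT'o t ht a haP).1, (hT'o t ht a' ha'P).2, add_zero]
    have ht2T : ∀ t ∈ T', pol Q t₂ t = 0 := fun t ht => by
      rw [pol_add_left hQ, (hT'o t ht b hbP).1, (hT'o t ht b' hb'P).2, add_zero]
    have k11 : pol Q a t₁ = 2 * Q a := by rw [pol_add_right hQ, pol_self hQ, hperp a ha a' ha', add_zero]
    have k12 : pol Q a t₂ = 0 := by rw [pol_add_right hQ, hab, hperp a ha b' hb', add_zero]
    have k21 : pol Q b t₁ = 0 := by rw [pol_add_right hQ, pol_comm b a, hab, hperp b hb.1 a' ha', add_zero]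
    have k22 : pol Q b t₂ = 2 * Q b := by rw [pol_add_right hQ, pol_self hQ, hperp b hb.1 b' hb', add_zero]
    refine ⟨T' ⊔ Submodule.span F {t₁, t₂}, ?_, ?_, ?_⟩
    · refine sup_le (hT'le.trans (sup_le_sup (inf_le_left.trans inf_le_left)
        (Submodule.map_mono (inf_le_left.trans inf_le_left)))) (Submodule.span_le.2 ?_)
      rintro z (rfl | rfl)
      · exact Submodule.add_mem _ (Submodule.mem_sup_left ha)
          (Submodule.mem_sup_right ⟨a', ha', by simp [mvLin, mv]⟩)
      · exact Submodule.add_mem _ (Submodule.mem_sup_left hb.1)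
          (Submodule.mem_sup_right ⟨b', hb', by simp [mvLin, mv]⟩)
    · intro t ht
      obtain ⟨p, hp, q, hq, rfl⟩ := Submodule.mem_sup.1 ht
      obtain ⟨k, l, rfl⟩ := Submodule.mem_span_pair.1 hq
      rw [q_add hQ, q_add hQ, q_smul hQ, q_smul hQ, pol_smul_left hQ, pol_smul_right hQ, h12, hq1, hq2, pol_add_right hQ,
        pol_smul_right hQ, pol_smul_right hQ, hT'0 p hp, pol_comm p t₁, ht1T p hp, pol_comm p t₂,
        ht2T p hp]
      ring
    · have hind : LinearIndependent F ![t₁, t₂] := by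
        rw [LinearIndependent.pair_iff]
        intro k l hkl
        constructor
        · simpa [pol_add_right hQ, pol_smul_right hQ, k11, k12, pol_zero_right hQ, haq, h2] using
            congrArg (fun v => pol Q a v) hkl
        · simpa [pol_add_right hQ, pol_smul_right hQ, k21, k22, pol_zero_right hQ, hbq, h2] using
            congrArg (fun v => pol Q b v) hkl
      have h2' := finrank_span_eq_card hind
      rw [Fintype.card_fin, Matrix.range_cons, Matrix.range_cons, Matrix.range_empty, Set.union_empty,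
        Set.singleton_union] at h2'
      have hinf : T' ⊓ Submodule.span F {t₁, t₂} = ⊥ := eq_bot_iff.2 fun t ht => by
        obtain ⟨k, l, hkl⟩ := Submodule.mem_span_pair.1 ht.2
        have e1 := (hT'o t ht.1 a haP).1
        have e2 := (hT'o t ht.1 b hbP).1
        rw [← hkl, pol_add_right hQ, pol_smul_right hQ, pol_smul_right hQ, k11, k12] at e1
        rw [← hkl, pol_add_right hQ, pol_smul_right hQ, pol_smul_right hQ, k21, k22] at e2
        have hk : k = 0 := by simpa [haq, h2] using e1
        have hl : l = 0 := by simpa [hbq, h2] using e2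
        rw [Submodule.mem_bot, ← hkl, hk, hl, zero_smul, zero_smul, add_zero]
      have := Submodule.finrank_sup_add_finrank_inf_eq T' (Submodule.span F ({t₁, t₂} : Set (ι → F)))
      rw [hinf, finrank_bot, add_zero, h2'] at this
      omega

theorem swap_false [Finite F] {U : Submodule F (ι → F)} (hU : Nondeg Q U)
    (h : 2 * Module.finrank F U ≠ Fintype.card ι ∨
      (Even (Module.finrank F U) ∧ ¬ Geo.IsPlusTypeOn Q ⊤))
    (hle : Module.finrank F ↥(orth hQ U) ≤ Module.finrank F U) :
    ∀ g ∈ isometryGroup F Q, ∃ x ∈ U, mv g x ∉ orth hQ U := by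
  intro g hg
  by_contra hc
  push Not at hc
  have hmap : U.map (mvLin g) ≤ orth hQ U := by
    rintro _ ⟨x, hx, rfl⟩
    simpa [mvLin, mv] using hc x hx
  have hd := Submodule.finrank_mono hmap
  rw [← LinearEquiv.finrank_eq (Submodule.equivMapOfInjective (mvLin g)
    (fun x y hxy => mv_inj g (by simpa using hxy)) U)] at hd
  have h2 := (orth_nondeg hQ hU).2
  rcases h with h | ⟨hev, hminus⟩
  · omega
  obtain ⟨T, -, hT0, hTd⟩ := exists_half hQ hg _ U rfl hev hU fun x hx y hy => hc y hy x hx
  have := finrank_totally_orth_le hQ (nondeg_top hQ) (L := T) le_top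
    fun a ha b hb => pol_eq_zero_of_singular hQ hT0 ha hb
  rw [finrank_top, Module.finrank_pi] at this
  exact hminus ⟨T, le_top, hT0, by rw [finrank_top, Module.finrank_pi]; omega⟩

/-- Over two elements a three-space is degenerate. -/
theorem three_degenerate [Finite F] (hcard : Nat.card F = 2) {V : Submodule F (ι → F)} (hV : Nondeg Q V)
    (h3 : Module.finrank F V = 3) : False := by
  have h2 : (2 : F) = 0 := by
    obtain ⟨x, y, hxy, huniv⟩ := Nat.card_eq_two_iff.1 hcard
    by_contra h2
    have h0 : (0 : F) = x ∨ (0 : F) = y := by simpa using huniv.ge (Set.mem_univ (0 : F))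
    have h1 : (1 : F) = x ∨ (1 : F) = y := by simpa using huniv.ge (Set.mem_univ (1 : F))
    have h4 : (2 : F) = x ∨ (2 : F) = y := by simpa using huniv.ge (Set.mem_univ (2 : F))
    rcases h0 with rfl | rfl <;> rcases h1 with h1 | h1 <;> rcases h4 with h4 | h4 <;>
      first
        | exact h2 h4
        | exact one_ne_zero h1
        | exact one_ne_zero (α := F) (by linear_combination h4 - h1)
  obtain ⟨e, he, he0, hee⟩ := exists_singular hQ (X := V) h3.ge
  obtain ⟨d, hd', hdd, hed⟩ := exists_partner hQ hV he he0 hee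
  obtain ⟨hPn, hP2⟩ := nondeg_pair hQ hee hdd hed
  have hPU : Submodule.span F ({e, d} : Set (ι → F)) ≤ V :=
    Submodule.span_le.2 (by rintro x (rfl | rfl) <;> assumption)
  have hf := finrank_inf_orth_add hQ hPn hPU
  rw [hP2, h3] at hf
  obtain ⟨z, hz, hzq⟩ := exists_anisotropic hQ (nondeg_inf_orth hQ hPn hV hPU)
    (fun h0 => by rw [h0, finrank_bot] at hf; omega)
  have hz0 : z ≠ 0 := fun h0 => hzq (by rw [h0, q_zero hQ])
  have hspan := Submodule.eq_of_le_of_finrank_le ((Submodule.span_singleton_le_iff_mem _ _).2 hz)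
    (by rw [finrank_span_singleton hz0]; omega)
  refine hz0 (nondeg_inf_orth hQ hPn hV hPU z hz fun x hx => ?_)
  obtain ⟨c, rfl⟩ := Submodule.mem_span_singleton.1 (hspan.ge hx)
  rw [pol_smul_left hQ, pol_self hQ, h2]; ring

/-- Either summand may be the larger one. -/
theorem stab_nondeg_maximal' [Finite F] (hn : 7 ≤ Fintype.card ι) {W : Submodule F (ι → F)} (hW : Nondeg Q W)
    (hW0 : W ≠ ⊥) (hW1 : W ≠ ⊤)
    (hswap : 2 * Module.finrank F W ≠ Fintype.card ι ∨ (Even (Module.finrank F W) ∧ ¬ Geo.IsPlusTypeOn Q ⊤))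
    (hex : Module.finrank F W = 2 → (∀ w ∈ W, Q w = 0 → w = 0) ∨ 4 ≤ Nat.card F)
    (hex' : Module.finrank F ↥(orth hQ W) = 2 → (∀ w ∈ orth hQ W, Q w = 0 → w = 0) ∨ 4 ≤ Nat.card F) :
    Geo.IsMaximalIn (Geo.omegaGL Q) (Geo.subspaceStabilizer W ⊓ Geo.omegaGL Q) := by
  obtain ⟨hV, hd⟩ := orth_nondeg hQ hW
  have hV0 : orth hQ W ≠ ⊥ := fun h => hW1 (by
    rw [h, finrank_bot, add_zero] at hd
    exact Submodule.eq_top_of_finrank_eq (by rw [hd, Module.finrank_pi]))
  have hoo := orth_orth_eq hQ hW
  by_cases h : Module.finrank F ↥(orth hQ W) ≤ Module.finrank F W ∧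
      (Module.finrank F W = 4 → Nat.card F = 2 → ¬ Geo.IsPlusTypeOn Q W)
  · rw [← stab_inf_omega_orth hQ hW]
    exact stab_nondeg_maximal hQ (by omega) hW (by omega) h.2 h.1 hV0 (swap_false hQ hW hswap h.1) hex'
  · have hge : Module.finrank F W ≤ Module.finrank F ↥(orth hQ W) := by
      by_contra hlt
      exact h ⟨by omega, fun h4 hcard => (three_degenerate hQ hcard hV (by omega)).elim⟩
    have hsmall : Module.finrank F ↥(orth hQ W) = 4 → Nat.card F = 2 → ¬ Geo.IsPlusTypeOn Q (orth hQ W) := by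
      intro h4 hcard hpl
      by_cases hlt : Module.finrank F W < 4
      · exact three_degenerate hQ hcard hW (by omega)
      push Not at h
      obtain ⟨hW4, -, hplus⟩ := h (by omega)
      rcases hswap with h' | ⟨-, hm⟩
      · omega
      obtain ⟨T₁, h1, h1s, h1d⟩ := hplus
      obtain ⟨T₂, h2, h2s, h2d⟩ := hpl
      refine hm ⟨T₁ ⊔ T₂, le_top, fun x hx => ?_, ?_⟩
      · obtain ⟨p, hp, q, hq, rfl⟩ := Submodule.mem_sup.1 hx
        rw [q_add hQ, h1s p hp, h2s q hq, h2 hq p (h1 hp)]
        ring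
      · have hinf : T₁ ⊓ T₂ = ⊥ := eq_bot_iff.2 fun x hx =>
          (Submodule.mem_bot F).2 (hW x (h1 hx.1) fun y hy => h2 hx.2 y hy)
        have h3 := Submodule.finrank_sup_add_finrank_inf_eq T₁ T₂
        rw [hinf, finrank_bot] at h3
        rw [finrank_top, Module.finrank_pi]
        omega
    have := stab_nondeg_maximal hQ (U := orth hQ W) (by omega) hV (by omega) hsmall (by rw [hoo]; exact hge)
      (by rw [hoo]; exact hW0)
      (swap_false hQ hV
        (by
          by_cases he : 2 * Module.finrank F ↥(orth hQ W) = Fintype.card ι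
          · rcases hswap with h' | ⟨h', hm⟩
            · omega
            · exact Or.inr ⟨by rwa [show Module.finrank F ↥(orth hQ W) = Module.finrank F W by omega], hm⟩
          · exact Or.inl he)
        (by rw [hoo]; exact hge))
      (by rw [hoo]; exact hex)
    rwa [hoo] at this

end Cfsg.Agent.Transvec.Orth

namespace Cfsg.Agent.Transvec.Orth

variable {ι : Type} [Fintype ι] [DecidableEq ι] {F : Type*} [Field F] {Q : (ι → F) → F}
variable (hQ : Geo.IsNondegenerateQuadraticForm Q)
include hQ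

omit hQ in
theorem nondeg_of {W : Submodule F (ι → F)} (h : Geo.IsNondegenerateOn (QuadraticMap.polar Q) W) : Nondeg Q W :=
  fun u hu h' => by
    by_contra hne
    obtain ⟨⟨x, hx, hxu⟩, -⟩ := h u hu hne
    exact hxu (h' x hx)

theorem plus_of_singular {W : Submodule F (ι → F)} (h2 : Module.finrank F W = 2) {w : ι → F} (hw : w ∈ W)
    (hw0 : w ≠ 0) (hww : Q w = 0) : Geo.IsPlusTypeOn Q W := by
  refine ⟨Submodule.span F {w}, (Submodule.span_singleton_le_iff_mem _ _).2 hw, fun v hv => ?_, by
    rw [finrank_span_singleton hw0, h2]⟩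
  obtain ⟨c, rfl⟩ := Submodule.mem_span_singleton.1 hv
  rw [q_smul hQ, hww, mul_zero]

theorem excluded {F' : Submodule F (ι → F)} [Fintype F] {P : Prop}
    (h : Fintype.card F ≤ 3 → Geo.IsPlusTypeOn Q F' → P) (hP : ¬ P) (h2 : Module.finrank F F' = 2) :
    (∀ w ∈ F', Q w = 0 → w = 0) ∨ 4 ≤ Nat.card F := by
  rw [Nat.card_eq_fintype_card]
  by_cases hq : 4 ≤ Fintype.card F
  · exact Or.inr hq
  refine Or.inl fun w hw hww => ?_
  by_contra hw0
  exact hP (h (by omega) (plus_of_singular hQ h2 hw hw0 hww))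

theorem stab_nondeg_even [Fintype F] (hn : 7 ≤ Fintype.card ι) {W : Submodule F (ι → F)}
    (hW : Geo.IsNondegenerateOn (QuadraticMap.polar Q) W) (hW0 : W ≠ ⊥) (hW1 : W ≠ ⊤)
    (hswap : 2 * Module.finrank F W ≠ Fintype.card ι ∨ (Even (Module.finrank F W) ∧ ¬ Geo.IsPlusTypeOn Q ⊤))
    (hex : ¬ (Fintype.card F ≤ 3 ∧ (∃ U : Submodule F (ι → F), Module.finrank F U = 2 ∧
      Geo.IsNondegenerateOn (QuadraticMap.polar Q) U ∧ Geo.IsPlusTypeOn Q U ∧
      (U = W ∨ (Geo.AreOrthogonalFor (QuadraticMap.polar Q) U W ∧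
        Module.finrank F U + Module.finrank F W = Fintype.card ι))))) :
    Geo.IsMaximalIn (Geo.omegaGL Q) (Geo.subspaceStabilizer W ⊓ Geo.omegaGL Q) := by
  have hWn := nondeg_of hW
  obtain ⟨hV, hd⟩ := orth_nondeg hQ hWn
  refine stab_nondeg_maximal' hQ hn hWn hW0 hW1 hswap
    (fun h2 => excluded hQ (F' := W) (fun hq hp => ⟨hq, W, h2, hW, hp, Or.inl rfl⟩) hex h2)
    (fun h2 => excluded hQ (F' := orth hQ W) (fun hq hp => ⟨hq, orth hQ W, h2, ?_, hp,
      Or.inr ⟨fun u hu w hw => (pol_comm u w).trans (hu w hw), by omega⟩⟩) hex h2)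
  intro u hu hu0
  obtain ⟨x, hx, hxu⟩ : ∃ x ∈ orth hQ W, pol Q x u ≠ 0 := by
    by_contra h
    push Not at h
    exact hu0 (hV u hu h)
  exact ⟨⟨x, hx, hxu⟩, ⟨x, hx, by rw [QuadraticMap.polar_comm]; exact hxu⟩⟩

end Cfsg.Agent.Transvec.Orth
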