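/-
A hyperbolic plane over a field with at most 3 elements has a single line on which the form is 1.
-/
import Cfsg.Agent.Lib.Transvec.OrthStab
import Cfsg.Agent.Lib.Transvec.OrthNondeg
set_option autoImplicit false

namespace Cfsg.Agent.Transvec.Orth

open scoped Matrix
open Matrix Cfsg.Agent.Transvec

variable {ι : Type} [Fintype ι] [DecidableEq ι] {F : Type*} [Field F] {Q : (ι → F) → F}
variable (hQ : Geo.IsNondegenerateQuadraticForm Q)
include hQ

theorem plane_not_maximal [Fintype F] (hn : 7 ≤ Fintype.card ι) (hq : Fintype.card F ≤ 3)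
    {W : Submodule F (ι → F)} (hdim : Module.finrank F W = 2)
    (hW : Geo.IsNondegenerateOn (QuadraticMap.polar Q) W) (hWp : Geo.IsPlusTypeOn Q W) :
    ∃ K : Subgroup (GL ι F), Geo.subspaceStabilizer W ⊓ Geo.omegaGL Q < K ∧ K < Geo.omegaGL Q := by
  have hWn : Nondeg Q W := fun u hu h => by
    by_contra hu0
    obtain ⟨x, hx, hxu⟩ := (hW u hu hu0).1
    exact hxu (h x hx)
  obtain ⟨L, hLW, hL, hL2⟩ := hWp
  obtain ⟨e, heL, he0⟩ := L.ne_bot_iff.1 (fun h => by rw [h, finrank_bot] at hL2; omega)
  have hee : Q e = 0 := hL e heL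
  obtain ⟨f, hf, hff, hef⟩ := exists_partner hQ hWn (hLW heL) he0 hee
  obtain ⟨hPn, hP2⟩ := nondeg_pair hQ hee hff hef
  have hWeq : Submodule.span F ({e, f} : Set (ι → F)) = W :=
    Submodule.eq_of_le_of_finrank_le (Submodule.span_le.2 (by rintro x (rfl | rfl); exacts [hLW heL, hf]))
      (by rw [hP2, hdim])
  have hfe : pol Q f e = 1 := (pol_comm _ _).trans hef
  set a := e + f with ha
  have haW : a ∈ W := W.add_mem (hLW heL) hf
  have hqa : Q a = 1 := by rw [ha, q_add hQ, hee, hff, hef]; ring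
  -- the vectors of W of value 1
  have hone : ∀ x ∈ W, Q x = 1 → ∃ c : F, x = c • a := fun x hx hx1 => by
    rw [← hWeq, Submodule.mem_span_pair] at hx
    obtain ⟨s, t, rfl⟩ := hx
    rw [q_add hQ, q_smul hQ, q_smul hQ, hee, hff, pol_smul_left hQ, pol_smul_right hQ, hef] at hx1
    have hst : s * t = 1 := by linear_combination hx1
    have hsq : ∀ c : F, c ≠ 0 → c * c = 1 := fun c hc => by
      have h1 := FiniteField.pow_card_sub_one_eq_one c hc
      obtain h | h : Fintype.card F = 2 ∨ Fintype.card F = 3 := by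
        have := Fintype.one_lt_card (α := F); omega
      · rw [h, pow_one] at h1; rw [h1, one_mul]
      · rw [h, pow_two] at h1; exact h1
    have hs : s ≠ 0 := fun h => by rw [h, zero_mul] at hst; exact zero_ne_one hst
    refine ⟨s, ?_⟩
    rw [show t = s by linear_combination s * hst - t * hsq s hs, ha, smul_add]
  obtain ⟨u, hu, hu0, huu⟩ := exists_singular hQ (X := orth hQ W) (by
    have := (orth_nondeg hQ hWn).2; omega)
  have kW : ∀ {x : ι → F}, x ∈ W → pol Q x u = 0 := fun hx => hu _ hx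
  refine ⟨Geo.subspaceStabilizer (Submodule.span F {a}) ⊓ Geo.omegaGL Q, lt_of_le_of_ne (fun g hg => ?_) ?_,
    lt_of_le_of_ne inf_le_right fun he => ?_⟩
  · refine ⟨mem_subspaceStabilizer_of_le fun z hz => ?_, hg.2⟩
    obtain ⟨c, rfl⟩ := Submodule.mem_span_singleton.1 hz
    obtain ⟨d, hd⟩ := hone _ (mv_mem_of_mem_stab hg.1 haW)
      (by rw [mem_isometry.1 (omega_le_isometry hQ hg.2), hqa])
    rw [mv_smul, hd, smul_smul]
    exact Submodule.smul_mem _ _ (Submodule.mem_span_singleton_self a)
  · intro he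
    have huy : pol Q u (e - f) = 0 := by
      rw [pol_comm]; exact kW (W.sub_mem (hLW heL) hf)
    obtain ⟨g, -, hg⟩ := exists_siegel hQ huu huy
    have hga : mv g a = a := isSiegel_fix hQ hg (kW haW) (by
      rw [ha, pol_add_left hQ, pol_sub_right hQ, pol_sub_right hQ, pol_self hQ, pol_self hQ, hef, hfe, hee, hff]
      ring)
    have h1 := mv_mem_of_mem_stab (he.ge ⟨mem_subspaceStabilizer_of_le fun z hz => by
      obtain ⟨c, rfl⟩ := Submodule.mem_span_singleton.1 hz
      rw [mv_smul, hga]; exact Submodule.smul_mem _ _ (Submodule.mem_span_singleton_self a),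
      siegel_mem_omega hQ hn huu huy hg⟩).1 (hLW heL)
    rw [hg, kW (hLW heL), pol_sub_right hQ, pol_self hQ, hee, hef] at h1
    have h2 := W.sub_mem h1 (hLW heL)
    have h3 : u ∈ W := by simpa using h2
    exact hu0 (hWn u h3 fun w hw => kW hw)
  · have heu : pol Q e u = 0 := kW (hLW heL)
    obtain ⟨g, -, hg⟩ := exists_siegel hQ hee heu
    have hau : pol Q a u = 0 := kW haW
    have hae : pol Q a e = 1 := by rw [ha, pol_add_left hQ, pol_self hQ, hee, hfe]; ring
    obtain ⟨c, hc⟩ := Submodule.mem_span_singleton.1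
      (mv_mem_of_mem_stab (he.ge (siegel_mem_omega hQ hn hee heu hg)).1 (Submodule.mem_span_singleton_self a))
    rw [hg, hau, hae, huu] at hc
    have h3 : u ∈ W := by
      have := W.sub_mem (W.smul_mem c haW) haW
      rw [hc] at this
      simpa using this
    exact hu0 (hWn u h3 fun w hw => kW hw)

end Cfsg.Agent.Transvec.Orth
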