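/-
Maximality in the commutator subgroup of the stabiliser of an orthogonal decomposition, odd characteristic.
-/
import Cfsg.Agent.Lib.Transvec.OrthWreathTools
set_option autoImplicit false

namespace Cfsg.Agent.Transvec.Orth

open scoped Matrix
open Matrix Cfsg.Agent.Transvec

variable {ι : Type} [Fintype ι] [DecidableEq ι] {F : Type*} [Field F] {Q : (ι → F) → F}
variable (hQ : Geo.IsNondegenerateQuadraticForm Q)
variable {t k : ℕ} {D : Fin t → Submodule F (ι → F)} (hD : Geo.IsOrthogonalMDecomposition Q k D)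
variable {M : Subgroup (GL ι F)} (hn : 7 ≤ Fintype.card ι) (h2 : (2 : F) ≠ 0) (hk : k = 3 ∨ 5 ≤ k)
variable (hHM : Geo.decompositionStabilizer D ⊓ Geo.omegaGL Q ≤ M) (hMS : M ≤ Geo.omegaGL Q)
variable [Fintype F]
include hQ hD hn hHM

theorem block_siegel {j : Fin t} {u y : ι → F} (hu : u ∈ D j) (hy : y ∈ D j) (huu : Q u = 0)
    (huy : pol Q u y = 0) :
    ∃ g ∈ M, IsSiegel Q g u y ∧ ∀ z, (∀ x ∈ D j, pol Q x z = 0) → mv g z = z := by
  obtain ⟨g, -, hg⟩ := exists_siegel hQ huu huy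
  refine ⟨g, hHM ⟨mem_decomp_of_maps hQ hD fun i => ⟨i, fun x hx => ?_⟩, siegel_mem_omega hQ hn huu huy hg⟩, hg,
    fun z hz => isSiegel_fix hQ hg ((pol_comm _ _).trans (hz u hu)) ((pol_comm _ _).trans (hz y hy))⟩
  rcases eq_or_ne i j with rfl | hij
  · rw [hg]; exact (D i).sub_mem ((D i).add_mem hx ((D i).smul_mem _ hy)) ((D i).smul_mem _ hu)
  · rw [isSiegel_fix hQ hg (block_orth hD hij hx hu) (block_orth hD hij hx hy)]; exact hx

theorem double_mem {i j : Fin t} {a b : ι → F} (ha : a ∈ D i) (hb : b ∈ D j) (haa : Q a ≠ 0) (hab : Q a = Q b) :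
    ∃ g ∈ M, ∃ ra rb : GL ι F, IsRefl Q ra a ∧ IsRefl Q rb b ∧ ∀ z, mv g z = mv ra (mv rb z) := by
  obtain ⟨ra, hra, hra'⟩ := exists_refl hQ haa
  obtain ⟨rb, hrb, hrb'⟩ := exists_refl hQ (hab ▸ haa)
  exact ⟨ra * rb, hHM ⟨mem_decomp_of_maps hQ hD fun l => ⟨l, fun x hx => by
    rw [mv_mul]; exact refl_block hQ hD ha hra' l (refl_block hQ hD hb hrb' l hx)⟩,
    refl_pair_mem hQ hn hra hra' hrb' hab⟩, ra, rb, hra', hrb', mv_mul ra rb⟩

include hMS

theorem lineIn_block {s : ι → F} {i j : Fin t} (hij : i ≠ j) (hs : s ∈ D j) (hss : Q s = 0) {z : ι → F}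
    (hsz : pol Q s z = 0) (hzi : ∃ u ∈ D i, pol Q u z ≠ 0) (hk3 : 3 ≤ k)
    (h : LineIn Q M s z) {x : ι → F} (hx : x ∈ D i) : LineIn Q M s x := by
  have hMO : M ≤ isometryGroup F Q := hMS.trans (omega_le_isometry hQ)
  have hX := block_nondeg hD i
  have hX3 : 3 ≤ Module.finrank F (D i) := by rw [hD.decomp.decomp.finrank_eq]; exact hk3
  have hsD : ∀ x ∈ D i, pol Q s x = 0 := fun x hx => block_orth hD hij.symm hs hx
  let Y : Submodule F (ι → F) :=
    { carrier := {x | x ∈ D i ∧ LineIn Q M s x}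
      add_mem' := fun {a b} ha hb => ⟨(D i).add_mem ha.1 hb.1,
        lineIn_add hQ hss (hsD a ha.1) (hsD b hb.1) ha.2 hb.2⟩
      zero_mem' := ⟨(D i).zero_mem, by simpa using lineIn_self hQ (M := M) hss 0⟩
      smul_mem' := fun c x hx => ⟨(D i).smul_mem c hx.1, lineIn_smul c hx.2⟩ }
  have habs : ∀ e ∈ D i, Q e = 0 → pol Q z e ≠ 0 → ∀ w ∈ D i, pol Q e w = 0 → w ∈ Y := by
    intro e he hee hze
    refine absorb hQ hX hX3 he hze fun w hw hew => ?_
    obtain ⟨g, hg, hgs, hgf⟩ := block_siegel hQ hD hn hHM he hw hee hew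
    have hfix : mv g s = s := hgf s fun y hy => block_orth hD hij hy hs
    have h1 := lineIn_conj hQ hMO hg h
    rw [hfix] at h1
    have h3 := lineIn_sub hQ hss (by conv_lhs => rw [← hfix]; rw [pol_mv hQ (hMO hg), hsz]) hsz h1 h
    refine ⟨(D i).sub_mem ((D i).smul_mem _ hw) ((D i).smul_mem _ he), ?_⟩
    rwa [hgs, show ∀ a b c : ι → F, a + b - c - a = b - c from fun a b c => by abel] at h3
  obtain ⟨u, hu, huz⟩ := hzi
  obtain ⟨a, ha, hza⟩ := exists_proj hQ hX z
  have hpz : ∀ w ∈ D i, pol Q z w = pol Q a w := fun w hw => by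
    have := hza w hw
    rw [pol_sub_right hQ, sub_eq_zero, pol_comm w z, pol_comm w a] at this
    exact this
  have ha0 : a ≠ 0 := fun h => huz (by rw [pol_comm, hpz u hu, h, pol_zero_left hQ])
  obtain ⟨e, he, hee, hae⟩ := exists_singular_not_orth hQ hX hX3 ha ha0
  have hze : pol Q z e ≠ 0 := by rw [hpz e he]; exact hae
  obtain ⟨f, hf, hff, hef⟩ := exists_partner hQ hX he (fun h => hae (by rw [h, pol_zero_right hQ])) hee
  obtain ⟨e', he', he'e, hze', hee'⟩ : ∃ e' ∈ D i, Q e' = 0 ∧ pol Q z e' ≠ 0 ∧ pol Q e e' ≠ 0 := by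
    by_cases hzf : pol Q z f = 0
    swap
    · exact ⟨f, hf, hff, hzf, by rw [hef]; exact one_ne_zero⟩
    obtain ⟨hPn, hP2⟩ := nondeg_pair hQ hee hff hef
    have hle : Submodule.span F ({e, f} : Set (ι → F)) ≤ D i := Submodule.span_le.2 (by
      rintro x (rfl | rfl) <;> assumption)
    have hd := finrank_inf_orth_add hQ hPn hle
    obtain ⟨y, hy, hy0⟩ := (D i ⊓ orth hQ (Submodule.span F ({e, f} : Set (ι → F)))).ne_bot_iff.1 fun h => by
      rw [h, finrank_bot, hP2] at hd; omega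
    obtain ⟨y', hy', hyy'⟩ : ∃ y' ∈ D i ⊓ orth hQ (Submodule.span F ({e, f} : Set (ι → F))), pol Q y y' ≠ 0 := by
      by_contra h
      push Not at h
      exact hy0 (nondeg_inf_orth hQ hPn hX hle y hy fun w hw => (pol_comm _ _).trans (h w hw))
    have hoe : ∀ x ∈ D i ⊓ orth hQ (Submodule.span F ({e, f} : Set (ι → F))), pol Q e x = 0 ∧ pol Q f x = 0 :=
      fun x hx => ⟨hx.2 e (Submodule.subset_span (Set.mem_insert _ _)),
        hx.2 f (Submodule.subset_span (Set.mem_insert_of_mem _ rfl))⟩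
    have key : ∀ x ∈ D i ⊓ orth hQ (Submodule.span F ({e, f} : Set (ι → F))),
        pol Q z x ≠ Q x * pol Q z e → ∃ e' ∈ D i, Q e' = 0 ∧ pol Q z e' ≠ 0 ∧ pol Q e e' ≠ 0 := by
      intro x hx hne
      obtain ⟨hex, hfx⟩ := hoe x hx
      refine ⟨f + x - Q x • e, (D i).sub_mem ((D i).add_mem hf hx.1) ((D i).smul_mem _ he), ?_, ?_, ?_⟩
      · rw [q_sub hQ, q_add hQ, q_smul hQ, pol_add_left hQ, pol_smul_right hQ, pol_smul_right hQ, hee, hff, hfx,
          pol_comm f e, hef, pol_comm x e, hex]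
        ring
      · rw [pol_sub_right hQ, pol_add_right hQ, pol_smul_right hQ, hzf, zero_add]
        exact sub_ne_zero.2 hne
      · rw [pol_sub_right hQ, pol_add_right hQ, pol_smul_right hQ, pol_self hQ, hee, hex, hef]
        simp
    by_cases h1 : pol Q z y ≠ Q y * pol Q z e
    · exact key y hy h1
    by_cases h3 : pol Q z y' ≠ Q y' * pol Q z e
    · exact key y' hy' h3
    push Not at h1 h3
    refine key (y + y') (Submodule.add_mem _ hy hy') fun h => mul_ne_zero hyy' hze ?_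
    rw [pol_add_right hQ, q_add hQ, h1, h3] at h
    linear_combination -h
  have he'Y : e' ∈ Y := habs e' he' he'e hze' e' he' (by rw [pol_self hQ, he'e, mul_zero])
  suffices x ∈ Y from this.2
  rw [show x = x - (pol Q e x / pol Q e e') • e' + (pol Q e x / pol Q e e') • e' by abel]
  exact Y.add_mem (habs e he hee hze _ ((D i).sub_mem hx ((D i).smul_mem _ he'))
    (by rw [pol_sub_right hQ, pol_smul_right hQ, div_mul_cancel₀ _ hee', sub_self])) (Y.smul_mem _ he'Y)

/-- A line through a singular vector of a block and a vector outside that block gives everything. -/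
theorem eq_omega_of_line (hk3 : 3 ≤ k) {s : ι → F} {j : Fin t} (hs : s ∈ D j) (hs0 : s ≠ 0) (hss : Q s = 0) {z : ι → F}
    (hsz : pol Q s z = 0) (hz : z ∉ D j) (h : LineIn Q M s z) : M = Geo.omegaGL Q := by
  have hMO : M ≤ isometryGroup F Q := hMS.trans (omega_le_isometry hQ)
  have h3 : ∀ i, 3 ≤ Module.finrank F (D i) := fun i => by rw [hD.decomp.decomp.finrank_eq]; exact hk3
  obtain ⟨i, hij, hzi⟩ := exists_other hQ hD hz
  have hI : ∀ x ∈ D i, LineIn Q M s x := fun x hx => lineIn_block hQ hD hn hHM hMS hij hs hss hsz hzi hk3 h hx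
  -- every block
  have hL : ∀ l, l ≠ j → ∀ x ∈ D l, LineIn Q M s x := by
    intro l hlj x hx
    rcases eq_or_ne l i with rfl | hli
    · exact hI x hx
    obtain ⟨τ, e, hτ, hτi, hτl, hτf⟩ := exists_block_swap hQ hD (i := i) (l := l) hli.symm
    obtain ⟨h', hh', hhf, hho⟩ := exists_supported hQ hn (block_nondeg hD l) (h3 l) hτ
    have hfix : ∀ {p : Fin t} {y : ι → F}, p ≠ l → y ∈ D p → mv h' y = y := fun hp hy =>
      hhf _ fun u hu => block_orth hD hp hy hu
    have hg : τ * h' ∈ M := hHM ⟨mem_decomp_of_maps hQ hD fun p => ?_, hho⟩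
    · have h1 := lineIn_conj hQ hMO hg (hI _ (e.symm ⟨x, hx⟩).2)
      rw [mv_mul, mv_mul, hfix hlj.symm hs, hτf s (fun u hu => block_orth hD hij hu hs)
        (fun u hu => block_orth hD hlj hu hs), hfix hli.symm (e.symm ⟨x, hx⟩).2, hτi, e.apply_symm_apply] at h1
      exact h1
    rcases eq_or_ne p l with rfl | hpl
    · refine ⟨i, fun u hu => ?_⟩
      have := mv_mem_of_fix hQ (block_nondeg hD p) hh' hhf hu
      rw [mv_mul, show mv h' u = ((⟨_, this⟩ : D p) : ι → F) from rfl, hτl]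
      exact (e.symm _).2
    rcases eq_or_ne p i with rfl | hpi
    · refine ⟨l, fun u hu => ?_⟩
      rw [mv_mul, hfix hpl hu, show u = ((⟨u, hu⟩ : D p) : ι → F) from rfl, hτi]
      exact (e _).2
    · refine ⟨p, fun u hu => ?_⟩
      rw [mv_mul, hfix hpl hu, hτf u (fun w hw => block_orth hD (Ne.symm hpi) hw hu)
        (fun w hw => block_orth hD (Ne.symm hpl) hw hu)]
      exact hu
  -- s is full
  let Y : Submodule F (ι → F) :=
    { carrier := {x | pol Q s x = 0 ∧ LineIn Q M s x}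
      add_mem' := fun {a b} ha hb => ⟨by rw [pol_add_right hQ, ha.1, hb.1, add_zero],
        lineIn_add hQ hss ha.1 hb.1 ha.2 hb.2⟩
      zero_mem' := ⟨pol_zero_right hQ s, by simpa using lineIn_self hQ (M := M) hss 0⟩
      smul_mem' := fun c x hx => ⟨by rw [pol_smul_right hQ, hx.1, mul_zero], lineIn_smul c hx.2⟩ }
  have hfull : s ∈ qFull Q M := by
    refine ⟨hss, fun y hy => ?_⟩
    obtain ⟨a, ha, hb⟩ := exists_proj hQ (block_nondeg hD j) y
    have hsa : pol Q s a = 0 := by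
      have := hb s hs
      rw [pol_sub_right hQ, hy, zero_sub, neg_eq_zero] at this
      exact this
    have haY : a ∈ Y := ⟨hsa, fun l => by
      obtain ⟨g, hg, hgs, -⟩ := block_siegel hQ hD hn hHM hs ((D j).smul_mem l ha) hss
        (by rw [pol_smul_right hQ, hsa, mul_zero])
      exact ⟨g, hg, hgs⟩⟩
    have hbY : y - a ∈ Y := by
      have hsup : y - a ∈ iSup D := by rw [hD.decomp.decomp.iSup_eq_top]; exact Submodule.mem_top
      obtain ⟨f, hf, hsum⟩ := (Submodule.mem_iSup_iff_exists_finsupp D _).1 hsup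
      rw [← hsum]
      refine Submodule.sum_mem _ fun l hl => ?_
      rcases eq_or_ne l j with rfl | hlj
      · suffices f l = 0 by show f l ∈ Y; rw [this]; exact Y.zero_mem
        refine block_nondeg hD l _ (hf l) fun w hw => ?_
        have h1 := hb w hw
        rw [← hsum, Finsupp.sum, pol_comm] at h1
        have h' : pol Q (∑ p ∈ f.support, f p) w = pol Q (f l) w := by
          show formQ hQ w (∑ p ∈ f.support, f p) = formQ hQ w (f l)
          rw [map_sum]
          exact Finset.sum_eq_single_of_mem l hl fun p _ hpl => block_orth hD hpl (hf p) hw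
        rw [pol_comm, ← h']
        exact h1
      · exact ⟨block_orth hD hlj.symm hs (hf l), hL l hlj _ (hf l)⟩
    obtain ⟨g, hg, hgs⟩ := (Y.add_mem haY hbY).2 1
    exact ⟨g, hg, by rwa [one_smul, add_sub_cancel] at hgs⟩
  obtain ⟨f, hf, hff, hsf⟩ := exists_partner hQ (block_nondeg hD j) hs hs0 hss
  have hval : Q (s - f) = -1 := by rw [q_sub hQ, hss, hff, hsf]; ring
  obtain ⟨c, hc, hcv⟩ := exists_value_nondeg hQ (block_nondeg hD i) (h3 i) (-1)
  obtain ⟨g, hg, ra, rb, hra, hrb, hgv⟩ := double_mem hQ hD hn hHM ((D j).sub_mem hs hf) hc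
    (by rw [hval]; simp) (hval.trans hcv.symm)
  have hgs : mv g s = f := by
    rw [hgv, isRefl_fix hrb (block_orth hD hij.symm hs hc), isRefl_move hQ (hss.trans hff.symm) hra]
  refine eq_omega_of_pair hQ hn hMS hfull (v := f) ?_ hsf
  rw [← hgs]
  exact qFull_mv hQ hMO hg hfull

omit hn hHM in
/-- Two conjugate lines with orthogonal singular ends and a common non-singular end. -/
theorem lineIn_of_conj (h2 : (2 : F) ≠ 0) {v w : ι → F} {g : GL ι F} (hg : g ∈ M) (hvv : Q v = 0)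
    (hvw : pol Q v w = 0) (hww : Q w ≠ 0) (hgw : mv g w = w) (hvg : pol Q v (mv g v) = 0)
    (h : LineIn Q M v w) : LineIn Q M (mv g v) v := by
  have hMO : M ≤ isometryGroup F Q := hMS.trans (omega_le_isometry hQ)
  have hgv : Q (mv g v) = 0 := by rw [mem_isometry.1 (hMO hg), hvv]
  have hgvw : pol Q (mv g v) w = 0 := by
    conv_lhs => arg 3; rw [← hgw]
    rw [pol_mv hQ (hMO hg), hvw]
  intro m
  set l := -m / (2 * Q w) with hl
  obtain ⟨A, hA, hA'⟩ := h l
  have h' := lineIn_conj hQ hMO hg h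
  rw [hgw] at h'
  obtain ⟨B, hB, hB'⟩ := h' 1
  obtain ⟨B', hB'm, hB''⟩ := h' (-1)
  rw [one_smul] at hB'
  have hc := isSiegel_conj hQ (hMO hA) hB'
  have hAv : mv A (mv g v) = mv g v := isSiegel_fix hQ hA' ((pol_comm _ _).trans hvg)
    (by rw [pol_smul_right hQ, hgvw, mul_zero])
  have hAw : mv A w = w - (2 * l * Q w) • v := by
    rw [hA', pol_comm w v, hvw, zero_smul, add_zero, mul_zero, add_zero, pol_smul_right hQ, pol_self hQ]
    module
  rw [hAv, hAw] at hc
  have hm := isSiegel_mul hQ hgv (by rw [pol_sub_right hQ, hgvw, pol_smul_right hQ, pol_comm (mv g v) v, hvg]; ring)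
    (by rw [pol_smul_right hQ, hgvw, mul_zero]) hc hB''
  refine ⟨_, M.mul_mem (M.mul_mem (M.mul_mem hA hB) (M.inv_mem hA)) hB'm, ?_⟩
  convert hm using 1
  rw [hl]
  match_scalars <;> field_simp
  ring

/-- A line from a singular vector into a singular component. -/
theorem eq_omega_of_singular_comp (hk3 : 3 ≤ k) {j : Fin t} {v w : ι → F} (hvv : Q v = 0) (hw : w ∈ D j) (hw0 : w ≠ 0)
    (hvw : pol Q v w = 0) (hv : v ∉ D j) {b : ι → F} (hb : b ∈ D j) (hvb : v - b ∈ orth hQ (D j))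
    (hbb : Q b = 0) (h : LineIn Q M v w) : M = Geo.omegaGL Q := by
  have hMO : M ≤ isometryGroup F Q := hMS.trans (omega_le_isometry hQ)
  by_cases hww : Q w = 0
  · exact eq_omega_of_line hQ hD hn hHM hMS (by omega) hw hw0 hww ((pol_comm _ _).trans hvw) hv
      (lineIn_symm hQ hvv hww h)
  have hX := block_nondeg hD j
  have hpv : ∀ x ∈ D j, pol Q x v = pol Q x b := fun x hx => by
    have := hvb x hx
    rwa [pol_sub_right hQ, sub_eq_zero] at this
  by_cases hb0 : b = 0
  · obtain ⟨e, he, hee, hwe⟩ := exists_singular_not_orth hQ hX (by rw [hD.decomp.decomp.finrank_eq]; exact hk3) hw hw0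
    have hve : pol Q v e = 0 := by rw [pol_comm, hpv e he, hb0, pol_zero_right hQ]
    let Y : Submodule F (ι → F) :=
      { carrier := {x | pol Q v x = 0 ∧ LineIn Q M v x}
        add_mem' := fun {p q} hp hq => ⟨by rw [pol_add_right hQ, hp.1, hq.1, add_zero],
          lineIn_add hQ hvv hp.1 hq.1 hp.2 hq.2⟩
        zero_mem' := ⟨pol_zero_right hQ v, by simpa using lineIn_self hQ (M := M) hvv 0⟩
        smul_mem' := fun c x hx => ⟨by rw [pol_smul_right hQ, hx.1, mul_zero], lineIn_smul c hx.2⟩ }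
    have he0 : e ≠ 0 := fun h => hwe (by rw [h, pol_zero_right hQ])
    have heY : e ∈ Y := absorb hQ hX (by rw [hD.decomp.decomp.finrank_eq]; omega) (Y := Y) he hwe
      (fun x hx hex => by
        obtain ⟨g, hg, hgs, hgf⟩ := block_siegel hQ hD hn hHM he hx hee hex
        have hfix : mv g v = v := hgf v fun y hy => by rw [hpv y hy, hb0, pol_zero_right hQ]
        have h1 := lineIn_conj hQ hMO hg h
        rw [hfix] at h1
        have hgw : pol Q v (mv g w) = 0 := by conv_lhs => rw [← hfix]; rw [pol_mv hQ (hMO hg), hvw]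
        have h3 := lineIn_sub hQ hvv hgw hvw h1 h
        have h4 : pol Q v (mv g w - w) = 0 := by rw [pol_sub_right hQ, hgw, hvw, sub_zero]
        rw [hgs, show ∀ a b c : ι → F, a + b - c - a = b - c from fun a b c => by abel] at h3 h4
        exact ⟨h4, h3⟩) e he (by rw [pol_self hQ, hee, mul_zero])
    exact eq_omega_of_line hQ hD hn hHM hMS (by omega) he he0 hee ((pol_comm _ _).trans hve) hv
      (lineIn_symm hQ hvv hee heY.2)
  obtain ⟨φ, hφ, hφw⟩ := exists_dual (W := Submodule.span F {b}) (u := w) fun h => by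
    obtain ⟨c, rfl⟩ := Submodule.mem_span_singleton.1 h
    exact hww (by rw [q_smul hQ, hbb, mul_zero])
  obtain ⟨y₀, hy₀, hy₀'⟩ := exists_rep hQ hX φ
  have hby : pol Q b y₀ = 0 := by rw [← hy₀' b hb]; exact hφ b (Submodule.mem_span_singleton_self b)
  have hwy : pol Q w y₀ = 1 := by rw [← hy₀' w hw, hφw]
  obtain ⟨g, hg, hgs, -⟩ := block_siegel hQ hD hn hHM hb hy₀ hbb hby
  have hvb' : pol Q v b = 0 := by rw [pol_comm, hpv b hb, pol_self hQ, hbb, mul_zero]
  have hfix : mv g v = v := isSiegel_fix hQ hgs hvb' (by rw [pol_comm, hpv y₀ hy₀, pol_comm, hby])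
  have hwb : pol Q w b = 0 := by rw [← hpv w hw, pol_comm, hvw]
  have hgw : mv g w = w - b := by rw [hgs, hwb, hwy]; module
  have h1 := lineIn_conj hQ hMO hg h
  rw [hfix, hgw] at h1
  have h3 := lineIn_sub hQ hvv hvw (by rw [pol_sub_right hQ, hvw, hvb', sub_zero]) h h1
  rw [sub_sub_cancel] at h3
  exact eq_omega_of_line hQ hD hn hHM hMS (by omega) hb hb0 hbb ((pol_comm _ _).trans hvb') hv
    (lineIn_symm hQ hvv hbb h3)

include h2 hk

omit h2 hMS in
/-- In dimension at least five a vector of a block is shifted along a singular orthogonal vector. -/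
theorem exists_shift_big (h5 : 5 ≤ k) {i : Fin t} {v : ι → F} (hv : ∃ u ∈ D i, pol Q u v ≠ 0) :
    ∃ g ∈ M, (∀ z, (∀ x ∈ D i, pol Q x z = 0) → mv g z = z) ∧ mv g v - v ∈ D i ∧ mv g v - v ≠ 0 ∧
      Q (mv g v - v) = 0 ∧ pol Q v (mv g v) = 2 * Q v := by
  obtain ⟨u, hu, huv⟩ := hv
  have hX := block_nondeg hD i
  obtain ⟨a, ha, hva⟩ := exists_proj hQ hX v
  have hpa : ∀ x ∈ D i, pol Q v x = pol Q a x := fun x hx => by
    have := hva x hx
    rw [pol_sub_right hQ, sub_eq_zero, pol_comm x v, pol_comm x a] at this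
    exact this
  have ha0 : a ≠ 0 := fun h => huv (by rw [pol_comm, hpa u hu, h, pol_zero_left hQ])
  obtain ⟨e, he, hee, hae⟩ := exists_singular_not_orth hQ hX (by rw [hD.decomp.decomp.finrank_eq]; omega) ha ha0
  obtain ⟨f, hf, hff, hef⟩ := exists_partner hQ hX he (fun h => hae (by rw [h, pol_zero_right hQ])) hee
  obtain ⟨hPn, hP2⟩ := nondeg_pair hQ hee hff hef
  have hle : Submodule.span F ({e, f} : Set (ι → F)) ≤ D i := Submodule.span_le.2 (by
    rintro x (rfl | rfl) <;> assumption)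
  have hd := finrank_inf_orth_add hQ hPn hle
  obtain ⟨y, hy, hy0, hyy⟩ := exists_singular hQ (X := D i ⊓ orth hQ (Submodule.span F ({e, f} : Set (ι → F))))
    (by rw [hP2, hD.decomp.decomp.finrank_eq] at hd; omega)
  have hey : pol Q e y = 0 := hy.2 e (Submodule.subset_span (Set.mem_insert _ _))
  obtain ⟨g, hg, hgs, hgf⟩ := block_siegel hQ hD hn hHM he hy.1 hee hey
  have hs : mv g v - v = pol Q a e • y - pol Q a y • e := by
    rw [hgs, hpa e he, hpa y hy.1, hyy]; module
  refine ⟨g, hg, hgf, ?_, ?_, ?_, ?_⟩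
  · rw [hs]; exact (D i).sub_mem ((D i).smul_mem _ hy.1) ((D i).smul_mem _ he)
  · rw [hs]
    intro h
    have := congrArg (fun x => pol Q f x) h
    simp only [pol_sub_right hQ, pol_smul_right hQ, pol_zero_right hQ] at this
    rw [hy.2 f (Submodule.subset_span (Set.mem_insert_of_mem _ rfl)), pol_comm f e, hef] at this
    have hay : pol Q a y = 0 := by linear_combination -this
    rw [hay, zero_smul, sub_zero, smul_eq_zero] at h
    exact h.elim hae hy0
  · rw [hs, q_sub hQ, q_smul hQ, q_smul hQ, pol_smul_left hQ, pol_smul_right hQ, pol_comm y e, hey, hyy, hee]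
    ring
  · rw [show mv g v = v + (pol Q a e • y - pol Q a y • e) by rw [← hs]; abel, pol_add_right hQ, pol_self hQ,
      pol_sub_right hQ, pol_smul_right hQ, pol_smul_right hQ, hpa e he, hpa y hy.1]
    ring

omit h2 hMS hk in
/-- A singular component is rescaled. -/
theorem exists_shift_scale (h5 : 5 ≤ Fintype.card F) {i : Fin t} {v a : ι → F} (ha : a ∈ D i) (ha0 : a ≠ 0)
    (haa : Q a = 0) (hva : v - a ∈ orth hQ (D i)) :
    ∃ g ∈ M, (∀ z, (∀ x ∈ D i, pol Q x z = 0) → mv g z = z) ∧ ∃ c : F, c ≠ 0 ∧ mv g v - v = c • a := by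
  obtain ⟨f, hf, hff, haf⟩ := exists_partner hQ (block_nondeg hD i) ha ha0 haa
  obtain ⟨r, hr0, hr1⟩ := exists_sq_ne_one h5
  have hfa : pol Q f a = 1 := (pol_comm _ _).trans haf
  have hp : Q (a + f) = 1 := by rw [q_add hQ, haa, hff, haf]; ring
  have hq : Q (r • a + r⁻¹ • f) = 1 := by
    rw [q_add hQ, q_smul hQ, q_smul hQ, pol_smul_left hQ, pol_smul_right hQ, haa, hff, haf, mul_one,
      mul_inv_cancel₀ hr0]
    ring
  have hpm : a + f ∈ D i := (D i).add_mem ha hf
  have hqm : r • a + r⁻¹ • f ∈ D i := (D i).add_mem ((D i).smul_mem _ ha) ((D i).smul_mem _ hf)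
  obtain ⟨g, hg, ra, rb, hra, hrb, hgv⟩ := double_mem hQ hD hn hHM hpm hqm
    (by rw [hp]; exact one_ne_zero) (hp.trans hq.symm)
  have hfix : ∀ z, (∀ x ∈ D i, pol Q x z = 0) → mv g z = z := fun z hz => by
    rw [hgv, isRefl_fix hrb ((pol_comm _ _).trans (hz _ hqm)), isRefl_fix hra ((pol_comm _ _).trans (hz _ hpm))]
  have e1 : mv rb a = -(r⁻¹ * r⁻¹) • f := by
    rw [hrb.2, hq, div_one, pol_add_right hQ, pol_smul_right hQ, pol_smul_right hQ, pol_self hQ, haa, haf]
    rw [show r * (2 * 0) + r⁻¹ * 1 = r⁻¹ by ring, smul_add, smul_smul, smul_smul, inv_mul_cancel₀ hr0]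
    module
  have e2 : mv ra f = -a := by
    rw [hra.2, hp, div_one, pol_add_right hQ, pol_self hQ, hff, hfa]; module
  have e3 : mv g a = (r⁻¹ * r⁻¹) • a := by rw [hgv, e1, mv_smul, e2]; module
  refine ⟨g, hg, hfix, r⁻¹ * r⁻¹ - 1, sub_ne_zero.2 fun h => hr1 ?_, ?_⟩
  · calc r ^ 2 = r ^ 2 * (r⁻¹ * r⁻¹) := by rw [h, mul_one]
      _ = 1 := by field_simp
  · conv_lhs => arg 1; rw [show v = a + (v - a) by abel, mv_add, e3, hfix _ hva]
    module

variable (hq : k = 3 → 5 ≤ Fintype.card F)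
include hq

omit hMS in
/-- A pair of reflections fixing b moves any vector off the line of b. -/
theorem exists_fix_move {j : Fin t} {a b : ι → F} (ha : a ∈ D j) (hb : b ∈ D j)
    (hab : a ∉ Submodule.span F {b}) :
    ∃ g ∈ M, (∀ z, (∀ x ∈ D j, pol Q x z = 0) → mv g z = z) ∧ mv g b = b ∧ mv g a ≠ a := by
  have hX := block_nondeg hD j
  have hfr := hD.decomp.decomp.finrank_eq j
  -- Siegel elements of a non-degenerate part of dimension at least three
  have move : ∀ (P : Submodule F (ι → F)), P ≤ D j → Nondeg Q P → 3 ≤ Module.finrank F P →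
      (∀ x ∈ P, pol Q b x = 0) → ∀ a' ∈ P, a' ≠ 0 → (∀ x ∈ P, pol Q a x = pol Q a' x) →
      ∃ g ∈ M, (∀ z, (∀ x ∈ D j, pol Q x z = 0) → mv g z = z) ∧ mv g b = b ∧ mv g a ≠ a := by
    intro P hPD hP hP3 hPb a' ha' ha'0 haa'
    obtain ⟨e, he, hee, hae⟩ := exists_singular_not_orth hQ hP hP3 ha' ha'0
    have he0 : e ≠ 0 := fun h => hae (by rw [h, pol_zero_right hQ])
    obtain ⟨f, hf, hff, hef⟩ := exists_partner hQ hP he he0 hee
    obtain ⟨hPn, hP2⟩ := nondeg_pair hQ hee hff hef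
    have hle : Submodule.span F ({e, f} : Set (ι → F)) ≤ P := Submodule.span_le.2 (by
      rintro x (rfl | rfl) <;> assumption)
    have hd := finrank_inf_orth_add hQ hPn hle
    obtain ⟨y, hy, hyy⟩ := exists_anisotropic hQ (nondeg_inf_orth hQ hPn hP hle) fun h => by
      rw [h, finrank_bot, hP2] at hd; omega
    have hey : pol Q e y = 0 := hy.2 e (Submodule.subset_span (Set.mem_insert _ _))
    obtain ⟨g, hg, hgs, hgf⟩ := block_siegel hQ hD hn hHM (hPD he) (hPD hy.1) hee hey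
    refine ⟨g, hg, hgf, isSiegel_fix hQ hgs (hPb e he) (hPb y hy.1), fun h => ?_⟩
    rw [hgs, haa' e he, add_sub_assoc, add_eq_left] at h
    have h' := congrArg (fun x => pol Q y x) h
    simp only [pol_sub_right hQ, pol_smul_right hQ, pol_zero_right hQ] at h'
    rw [pol_self hQ, pol_comm y e, hey, mul_zero, sub_zero] at h'
    exact mul_ne_zero hae (mul_ne_zero h2 hyy) h'
  by_cases hb0 : b = 0
  · exact move (D j) le_rfl hX (by omega) (fun x _ => by rw [hb0, pol_zero_left hQ]) a ha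
      (fun h => hab (h ▸ Submodule.zero_mem _)) fun x _ => rfl
  by_cases hbb : Q b = 0
  · have hbp : pol Q b b = 0 := by rw [pol_self hQ, hbb, mul_zero]
    obtain ⟨φ, hφ, hφa⟩ := exists_dual hab
    obtain ⟨z, hz, hz'⟩ := exists_rep hQ hX φ
    have hbz : pol Q b z = 0 := by rw [← hz' b hb]; exact hφ b (Submodule.mem_span_singleton_self b)
    have haz : pol Q a z = 1 := by rw [← hz' a ha, hφa]
    obtain ⟨y, hy, hby, hyb, hay⟩ : ∃ y ∈ D j, pol Q b y = 0 ∧ y ∉ Submodule.span F {b} ∧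
        (pol Q a b = 0 → pol Q a y ≠ 0) := by
      by_cases hab' : pol Q a b = 0
      · refine ⟨z, hz, hbz, fun h => ?_, fun _ => by rw [haz]; exact one_ne_zero⟩
        obtain ⟨c, rfl⟩ := Submodule.mem_span_singleton.1 h
        rw [pol_smul_right hQ, hab', mul_zero] at haz
        exact zero_ne_one haz
      · obtain ⟨f, hf, hff, hbf⟩ := exists_partner hQ hX hb hb0 hbb
        obtain ⟨hPn, hP2⟩ := nondeg_pair hQ hbb hff hbf
        have hle : Submodule.span F ({b, f} : Set (ι → F)) ≤ D j := Submodule.span_le.2 (by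
          rintro x (rfl | rfl) <;> assumption)
        have hd := finrank_inf_orth_add hQ hPn hle
        obtain ⟨y, hy, hyy⟩ := exists_anisotropic hQ (nondeg_inf_orth hQ hPn hX hle) fun h => by
          rw [h, finrank_bot, hP2, hfr] at hd; omega
        exact ⟨y, hy.1, hy.2 b (Submodule.subset_span (Set.mem_insert _ _)), fun h => by
          obtain ⟨c, rfl⟩ := Submodule.mem_span_singleton.1 h
          exact hyy (by rw [q_smul hQ, hbb, mul_zero]), fun h => absurd h hab'⟩
    obtain ⟨g, hg, hgs, hgf⟩ := block_siegel hQ hD hn hHM hb hy hbb hby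
    refine ⟨g, hg, hgf, isSiegel_fix hQ hgs hbp hby, fun h => ?_⟩
    rw [hgs, add_sub_assoc, add_eq_left] at h
    by_cases hab' : pol Q a b = 0
    · rw [hab', zero_smul, mul_zero, add_zero, zero_sub, neg_eq_zero, smul_eq_zero] at h
      exact h.elim (hay hab') hb0
    · refine hyb (Submodule.mem_span_singleton.2 ⟨(pol Q a b)⁻¹ * (pol Q a y + Q y * pol Q a b), ?_⟩)
      rw [mul_smul, ← sub_eq_zero.1 h, smul_smul, inv_mul_cancel₀ hab', one_smul]
  obtain ⟨hP, hPd⟩ := nondeg_perp hQ h2 hX hb hbb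
  set P := D j ⊓ orth hQ (Submodule.span F {b}) with hPdef
  have hbP : ∀ x ∈ P, pol Q b x = 0 := fun x hx => hx.2 b (Submodule.mem_span_singleton_self b)
  set a' := a - (pol Q a b / (2 * Q b)) • b with ha'def
  have ha'P : a' ∈ P := ⟨(D j).sub_mem ha ((D j).smul_mem _ hb), (mem_orth_span hQ).2 (by
    rintro u rfl
    rw [ha'def, pol_sub_right hQ, pol_smul_right hQ, pol_self hQ, div_mul_cancel₀ _ (mul_ne_zero h2 hbb),
      pol_comm u a, sub_self])⟩
  have haa' : ∀ x ∈ P, pol Q a x = pol Q a' x := fun x hx => by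
    rw [ha'def, pol_sub_left hQ, pol_smul_left hQ, hbP x hx, mul_zero, sub_zero]
  have ha'0 : a' ≠ 0 := fun h => hab (Submodule.mem_span_singleton.2 ⟨_, (sub_eq_zero.1 h).symm⟩)
  rcases hk with hk3 | hk5
  swap
  · exact move P inf_le_left hP (by omega) hbP a' ha'P ha'0 haa'
  have hP2 : Module.finrank F P = 2 := by omega
  obtain ⟨p, hp, hpq, hpa⟩ := exists_value_not_orth hQ h2 (hq hk3) hP hP2 ha'P ha'0 (one_ne_zero (α := F))
  obtain ⟨hP', hP'd⟩ := nondeg_perp hQ h2 hP hp (by rw [hpq]; exact one_ne_zero)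
  obtain ⟨p₂, hp₂, hp₂q⟩ := exists_anisotropic hQ hP' fun h => by rw [h, finrank_bot] at hP'd; omega
  obtain ⟨s, hs, hsq, hsp⟩ := exists_value_not_orth hQ h2 (hq hk3) hP hP2 hp₂.1
    (fun h => hp₂q (by rw [h, q_zero hQ])) (one_ne_zero (α := F))
  have hindep : ∀ c : F, s ≠ c • p := fun c h => hsp (by
    rw [h, pol_smul_left hQ, hp₂.2 p (Submodule.mem_span_singleton_self p), mul_zero])
  obtain ⟨g, hg, ra, rb, hra, hrb, hgv⟩ := double_mem hQ hD hn hHM hp.1 hs.1 (by rw [hpq]; exact one_ne_zero)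
    (hpq.trans hsq.symm)
  refine ⟨g, hg, fun z hz => by
    rw [hgv, isRefl_fix hrb ((pol_comm _ _).trans (hz _ hs.1)), isRefl_fix hra ((pol_comm _ _).trans (hz _ hp.1))],
    by rw [hgv, isRefl_fix hrb (hbP s hs), isRefl_fix hra (hbP p hp)], fun h => ?_⟩
  have h1 : mv rb a = mv ra a := by
    apply mv_inj ra
    rw [← hgv, h, ← mv_mul, isRefl_sq hQ hra, mv_one]
  rw [hrb.2, hra.2, hsq, hpq, div_one, div_one, haa' s hs, haa' p hp, sub_right_inj] at h1
  by_cases h3 : pol Q a' s = 0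
  · rw [h3, zero_smul] at h1
    rcases smul_eq_zero.1 h1.symm with h4 | h4
    · exact hpa ((pol_comm _ _).trans h4)
    · exact one_ne_zero (α := F) (by rw [← hpq, h4, q_zero hQ])
  · exact hindep ((pol Q a' s)⁻¹ * pol Q a' p)
      (by rw [mul_smul, ← h1, smul_smul, inv_mul_cancel₀ h3, one_smul])

/-- A line from a singular vector outside a block into that block gives everything. -/
theorem eq_omega_of_block_end {j : Fin t} {v w : ι → F} (hvv : Q v = 0) (hw : w ∈ D j) (hw0 : w ≠ 0)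
    (hvw : pol Q v w = 0) (hv : v ∉ D j) (h : LineIn Q M v w) : M = Geo.omegaGL Q := by
  have hMO : M ≤ isometryGroup F Q := hMS.trans (omega_le_isometry hQ)
  by_cases hww : Q w = 0
  · exact eq_omega_of_line hQ hD hn hHM hMS (by omega) hw hw0 hww ((pol_comm _ _).trans hvw) hv
      (lineIn_symm hQ hvv hww h)
  obtain ⟨i, hij, hi⟩ := exists_other hQ hD hv
  have hfixw : ∀ {g : GL ι F}, (∀ z, (∀ x ∈ D i, pol Q x z = 0) → mv g z = z) → mv g w = w :=
    fun hg => hg w fun x hx => block_orth hD hij hx hw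
  -- a shift inside block i finishes
  have finish : ∀ g ∈ M, mv g w = w → mv g v - v ∈ D i → mv g v - v ≠ 0 → Q (mv g v - v) = 0 →
      pol Q v (mv g v) = 0 → v ∉ D i → M = Geo.omegaGL Q := by
    intro g hg hgw hsi hs0 hss hvg hvi
    have h1 := lineIn_of_conj hQ hD hMS h2 hg hvv hvw hww hgw hvg h
    have hgv : Q (mv g v) = 0 := by rw [mem_isometry.1 (hMO hg), hvv]
    have hgvv : pol Q (mv g v) v = 0 := (pol_comm _ _).trans hvg
    have hgg : pol Q (mv g v) (mv g v) = 0 := by rw [pol_self hQ, hgv, mul_zero]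
    have h3 := lineIn_sub hQ hgv hgg hgvv (by simpa using lineIn_self hQ (M := M) hgv 1) h1
    exact eq_omega_of_line hQ hD hn hHM hMS (by omega) hsi hs0 hss
      (by rw [pol_sub_left hQ, hgg, pol_comm v, hgvv, sub_zero])
      (fun hm => hvi (by have := (D i).sub_mem hm hsi; rwa [sub_sub_cancel] at this))
      (lineIn_symm hQ hgv hss h3)
  obtain ⟨a, ha, hva⟩ := exists_proj hQ (block_nondeg hD i) v
  obtain ⟨u, hu, huv⟩ := hi
  have hpa : ∀ x ∈ D i, pol Q x v = pol Q x a := fun x hx => by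
    have := hva x hx
    rwa [pol_sub_right hQ, sub_eq_zero] at this
  have ha0 : a ≠ 0 := fun h => huv (by rw [hpa u hu, h, pol_zero_right hQ])
  have hvi : v ∉ D i ∨ v ∈ D i := (Classical.em _).symm
  rcases hk with hk3 | hk5
  swap
  · rcases hvi with hvi | hvi
    · obtain ⟨g, hg, hgf, hsi, hs0, hss, hvg⟩ := exists_shift_big hQ hD hn (Or.inr hk5) hHM hk5
        (i := i) (v := v) ⟨u, hu, huv⟩
      exact finish g hg (hfixw hgf) hsi hs0 hss (by rw [hvg, hvv, mul_zero]) hvi
    · exact eq_omega_of_singular_comp hQ hD hn hHM hMS (by omega) hvv hw hw0 hvw hv (D j).zero_mem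
        (by rw [sub_zero]; exact fun x hx => block_orth hD hij.symm hx hvi) (q_zero hQ) h
  obtain ⟨b, hb, hvb⟩ := exists_proj hQ (block_nondeg hD j) v
  by_cases hbb : Q b = 0
  · exact eq_omega_of_singular_comp hQ hD hn hHM hMS (by omega) hvv hw hw0 hvw hv hb hvb hbb h
  have hvi' : v ∉ D i := fun hvi => hbb (by
    rw [show b = 0 from block_nondeg hD j b hb fun x hx => by
      have := hvb x hx
      rwa [pol_sub_right hQ, block_orth hD hij.symm hx hvi, zero_sub, neg_eq_zero] at this, q_zero hQ])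
  by_cases haa : Q a = 0
  · obtain ⟨g, hg, hgf, c, hc0, hgs⟩ := exists_shift_scale hQ hD hn hHM (hq hk3) ha ha0 haa hva
    refine finish g hg (hfixw hgf) (by rw [hgs]; exact (D i).smul_mem _ ha)
      (by rw [hgs]; exact smul_ne_zero hc0 ha0) (by rw [hgs, q_smul hQ, haa, mul_zero]) ?_ hvi'
    rw [show mv g v = v + c • a by rw [← hgs]; abel, pol_add_right hQ, pol_self hQ, hvv, pol_smul_right hQ,
      pol_comm v a, hpa a ha, pol_self hQ, haa]
    ring
  -- both components non-singular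
  have hpb : ∀ x ∈ D j, pol Q x v = pol Q x b := fun x hx => by
    have := hvb x hx
    rwa [pol_sub_right hQ, sub_eq_zero] at this
  obtain ⟨hPj, hPjd⟩ := nondeg_perp hQ h2 (block_nondeg hD j) hb hbb
  obtain ⟨hPi, hPid⟩ := nondeg_perp hQ h2 (block_nondeg hD i) ha haa
  rw [hD.decomp.decomp.finrank_eq] at hPjd hPid
  have hwP : w ∈ D j ⊓ orth hQ (Submodule.span F {b}) := ⟨hw, (mem_orth_span hQ).2 (by
    rintro x rfl
    rw [pol_comm, ← hpb w hw, pol_comm, hvw])⟩
  obtain ⟨p, hp, hpq, hpw⟩ := exists_value_not_orth hQ h2 (hq hk3) hPj (by omega) hwP hw0 (inv_ne_zero haa)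
  obtain ⟨c, hc, hcq⟩ := exists_value_plane hQ h2 hPi (by omega) (Q a)⁻¹
  obtain ⟨g, hg, ra, rb, hra, hrb, hgv⟩ := double_mem hQ hD hn hHM hp.1 hc.1
    (by rw [hpq]; exact inv_ne_zero haa) (hpq.trans hcq.symm)
  have hpv : pol Q p v = 0 := by
    rw [hpb p hp.1, pol_comm]; exact hp.2 b (Submodule.mem_span_singleton_self b)
  have hcv : pol Q c v = 0 := by
    rw [hpa c hc.1, pol_comm]; exact hc.2 a (Submodule.mem_span_singleton_self a)
  have hgfix : mv g v = v := by
    rw [hgv, isRefl_fix hrb ((pol_comm _ _).trans hcv), isRefl_fix hra ((pol_comm _ _).trans hpv)]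
  have hgw : mv g w = w - (pol Q w p / Q p) • p := by
    rw [hgv, isRefl_fix hrb (block_orth hD hij.symm hw hc.1), hra.2]
  have h1 := lineIn_conj hQ hMO hg h
  rw [hgfix, hgw] at h1
  have h3 := lineIn_sub hQ hvv hvw
    (by rw [pol_sub_right hQ, pol_smul_right hQ, pol_comm v p, hpv, hvw]; ring) h h1
  rw [sub_sub_cancel] at h3
  have hlam : pol Q w p / Q p ≠ 0 :=
    div_ne_zero (fun h => hpw ((pol_comm _ _).trans h)) (by rw [hpq]; exact inv_ne_zero haa)
  have h4 := lineIn_smul (pol Q w p / Q p)⁻¹ h3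
  rw [smul_smul, inv_mul_cancel₀ hlam, one_smul] at h4
  -- conjugate a line of block i
  obtain ⟨T, hT, hTs⟩ := h4 1
  rw [one_smul] at hTs
  obtain ⟨e, he, hee, hae⟩ := exists_singular_not_orth hQ (block_nondeg hD i)
    (by rw [hD.decomp.decomp.finrank_eq]; omega) ha ha0
  have hep : pol Q e p = 0 := block_orth hD hij he hp.1
  have hev : pol Q e v = pol Q e a := hpa e he
  obtain ⟨x, hx, hx0, hxe, hxa⟩ : ∃ x ∈ D i, x ≠ 0 ∧ pol Q x e = 0 ∧ pol Q x a = 0 := by
    let L := ((formQ hQ e).prod (formQ hQ a)).comp (D i).subtype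
    have h1 := LinearMap.finrank_range_add_finrank_ker L
    have h5 := Submodule.finrank_le (LinearMap.range L)
    rw [Module.finrank_prod, Module.finrank_self] at h5
    rw [hD.decomp.decomp.finrank_eq] at h1
    obtain ⟨x, hx, hx0⟩ := (LinearMap.ker L).ne_bot_iff.1 fun h => by rw [h, finrank_bot] at h1; omega
    exact ⟨x, x.2, fun h => hx0 (Subtype.ext h), congrArg Prod.fst (LinearMap.mem_ker.1 hx),
      congrArg Prod.snd (LinearMap.mem_ker.1 hx)⟩
  have hex : pol Q e x = 0 := (pol_comm _ _).trans hxe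
  have hline : LineIn Q M e x := fun l => by
    obtain ⟨g, hg, hgs, -⟩ := block_siegel hQ hD hn hHM he ((D i).smul_mem l hx) hee
      (by rw [pol_smul_right hQ, hex, mul_zero])
    exact ⟨g, hg, hgs⟩
  have h5 := lineIn_conj hQ hMO hT hline
  rw [isSiegel_fix hQ hTs (by rw [hpa x hx, hxa]) (block_orth hD hij hx hp.1)] at h5
  set κ := pol Q e a with hκ
  have hκ0 : κ ≠ 0 := fun h => hae ((pol_comm _ _).trans h)
  have hTe : mv T e = e + κ • p - (Q p * κ) • v := by rw [hTs, hev, hep]; module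
  have hcomp : mv T e - (e - (Q p * κ) • a) ∈ orth hQ (D i) := fun y hy => by
    rw [hTe, show e + κ • p - (Q p * κ) • v - (e - (Q p * κ) • a) = κ • p - (Q p * κ) • (v - a) by module,
      pol_sub_right hQ, pol_smul_right hQ, pol_smul_right hQ, block_orth hD hij hy hp.1, hva y hy]
    ring
  refine eq_omega_of_singular_comp hQ hD hn hHM hMS (by omega)
    (by rw [mem_isometry.1 (hMO hT), hee]) hx hx0 ?_ ?_ ((D i).sub_mem he ((D i).smul_mem _ ha)) hcomp ?_ h5
  · conv_lhs => arg 3; rw [← isSiegel_fix hQ hTs (by rw [hpa x hx, hxa]) (block_orth hD hij hx hp.1)]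
    rw [pol_mv hQ (hMO hT), hex]
  · intro hm
    have := block_orth hD hij.symm hp.1 hm
    rw [hTe, pol_sub_right hQ, pol_add_right hQ, pol_smul_right hQ, pol_smul_right hQ, pol_self hQ, pol_comm p e,
      hep, hpv] at this
    exact mul_ne_zero hκ0 (mul_ne_zero h2 (hpq ▸ inv_ne_zero haa)) (by linear_combination this)
  · rw [q_sub hQ, q_smul hQ, pol_smul_right hQ, hee, ← hκ, hpq]
    field_simp
    ring

/-- A line from a singular vector outside a block whose block components are independent gives everything. -/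
theorem eq_omega_of_indep {j : Fin t} {v y a b : ι → F} (hvv : Q v = 0) (hvy : pol Q v y = 0)
    (ha : a ∈ D j) (hya : y - a ∈ orth hQ (D j)) (hb : b ∈ D j) (hvb : v - b ∈ orth hQ (D j))
    (hab : a ∉ Submodule.span F {b}) (hv : v ∉ D j) (h : LineIn Q M v y) : M = Geo.omegaGL Q := by
  have hMO : M ≤ isometryGroup F Q := hMS.trans (omega_le_isometry hQ)
  obtain ⟨g, hg, hgf, hgb, hga⟩ := exists_fix_move hQ hD hn h2 hk hHM hq ha hb hab
  have hv' : mv g v = v := by
    conv_lhs => rw [show v = b + (v - b) by abel, mv_add, hgb, hgf _ hvb]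
    abel
  have hy' : mv g y - y = mv g a - a := by
    conv_lhs => arg 1; rw [show y = a + (y - a) by abel, mv_add, hgf _ hya]
    abel
  have hvgy : pol Q v (mv g y) = 0 := by conv_lhs => rw [← hv']; rw [pol_mv hQ (hMO hg), hvy]
  have h1 := lineIn_conj hQ hMO hg h
  rw [hv'] at h1
  have h3 := lineIn_sub hQ hvv hvgy hvy h1 h
  rw [hy'] at h3
  have hmem : mv g a ∈ D j := mv_mem_of_fix hQ (block_nondeg hD j) (hMO hg)
    (fun z hz => hgf z fun x hx => (pol_comm _ _).trans (hz x hx)) ha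
  exact eq_omega_of_block_end hQ hD hn h2 hk hHM hMS hq hvv ((D j).sub_mem hmem ha) (sub_ne_zero.2 hga)
    (by rw [← hy', pol_sub_right hQ, hvgy, hvy, sub_zero]) hv h3

end Cfsg.Agent.Transvec.Orth
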