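/-
Lines inside orthogonal decompositions with blocks of dimension at least four, in every characteristic.
-/
import Cfsg.Agent.Lib.Transvec.OrthWreath
set_option autoImplicit false

namespace Cfsg.Agent.Transvec.Orth

open scoped Matrix
open Matrix Cfsg.Agent.Transvec

variable {ι : Type} [Fintype ι] [DecidableEq ι] {F : Type*} [Field F] {Q : (ι → F) → F}
variable (hQ : Geo.IsNondegenerateQuadraticForm Q)
variable {t k : ℕ} {D : Fin t → Submodule F (ι → F)} (hD : Geo.IsOrthogonalMDecomposition Q k D)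
include hQ hD

theorem proj_pol {j : Fin t} {v b : ι → F} (hvb : v - b ∈ orth hQ (D j)) {w : ι → F} (hw : w ∈ D j) :
    pol Q w v = pol Q w b := by
  have := hvb w hw
  rwa [pol_sub_right hQ, sub_eq_zero] at this

/-- A vector outside a block stays outside every block when the component in that block stays non-zero. -/
theorem not_in_block {j : Fin t} {v b x : ι → F} (hb : b ∈ D j) (hvb : v - b ∈ orth hQ (D j)) (hv : v ∉ D j)
    (hx : x ∈ D j) (hbx : b + x ≠ 0) (i : Fin t) : v + x ∉ D i := fun h => by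
  rcases eq_or_ne i j with rfl | hij
  · exact hv (by simpa using (D i).sub_mem h hx)
  · refine hbx (block_nondeg hD j _ ((D j).add_mem hb hx) fun w hw => ?_)
    have := block_orth hD hij h hw
    rw [pol_comm, pol_add_right hQ, proj_pol hQ hD hvb hw, ← pol_add_right hQ] at this
    exact this

/-- A vector of a block is non-zero and orthogonal to two given vectors. -/
theorem exists_orth_two (hk4 : 4 ≤ k) (j : Fin t) (p q : ι → F) :
    ∃ x ∈ D j, x ≠ 0 ∧ pol Q x p = 0 ∧ pol Q x q = 0 := by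
  let L := ((formQ hQ p).prod (formQ hQ q)).comp (D j).subtype
  have h1 := LinearMap.finrank_range_add_finrank_ker L
  have h5 := Submodule.finrank_le (LinearMap.range L)
  rw [Module.finrank_prod, Module.finrank_self] at h5
  rw [hD.decomp.decomp.finrank_eq] at h1
  obtain ⟨x, hx, hx0⟩ := (LinearMap.ker L).ne_bot_iff.1 fun h => by rw [h, finrank_bot] at h1; omega
  exact ⟨x, x.2, fun h => hx0 (Subtype.ext h), congrArg Prod.fst (LinearMap.mem_ker.1 hx),
    congrArg Prod.snd (LinearMap.mem_ker.1 hx)⟩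

theorem perp_finrank (j : Fin t) (p : ι → F) :
    k ≤ Module.finrank F ↥((LinearMap.ker ((formQ hQ p).comp (D j).subtype)).map (D j).subtype) + 1 := by
  have h1 := LinearMap.finrank_range_add_finrank_ker ((formQ hQ p).comp (D j).subtype)
  have h5 := Submodule.finrank_le (LinearMap.range ((formQ hQ p).comp (D j).subtype))
  rw [Module.finrank_self] at h5
  rw [hD.decomp.decomp.finrank_eq] at h1
  rw [Submodule.finrank_map_subtype_eq]
  omega

theorem exists_orth_off (hk4 : 4 ≤ k) (j : Fin t) (p e : ι → F) :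
    ∃ x ∈ D j, pol Q x p = 0 ∧ x ∉ Submodule.span F {e} := by
  have h1 := perp_finrank hQ hD j p
  by_contra h
  push Not at h
  have h2 := Submodule.finrank_mono
    (s := (LinearMap.ker ((formQ hQ p).comp (D j).subtype)).map (D j).subtype) (t := Submodule.span F {e}) (by
      rintro _ ⟨x, hx, rfl⟩
      exact h x x.2 (LinearMap.mem_ker.1 hx))
  rcases eq_or_ne e 0 with rfl | he0
  · rw [Submodule.span_zero_singleton, finrank_bot] at h2; omega
  · rw [finrank_span_singleton he0] at h2; omega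

/-- A singular vector of a block orthogonal to a given vector. -/
theorem exists_singular_orth [Fintype F] (hk4 : 4 ≤ k) (j : Fin t) (p : ι → F) :
    ∃ e ∈ D j, e ≠ 0 ∧ Q e = 0 ∧ pol Q e p = 0 := by
  obtain ⟨e, he, he0, hee⟩ := exists_singular hQ
    (X := (LinearMap.ker ((formQ hQ p).comp (D j).subtype)).map (D j).subtype)
    (by have := perp_finrank hQ hD j p; omega)
  obtain ⟨e, hek, rfl⟩ := he
  exact ⟨e, e.2, he0, hee, LinearMap.mem_ker.1 hek⟩

omit hQ hD in
theorem two_cases [Fintype F] (h2 : (2 : F) = 0) (a : F) : ∃ c : F, c ^ 2 = a := by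
  have hc : ringChar F = 2 := by
    have : CharP F 2 := CharTwo.of_one_ne_zero_of_two_eq_zero one_ne_zero h2
    exact ringChar.eq F 2
  obtain ⟨c, hc⟩ := FiniteField.isSquare_of_char_two hc a
  exact ⟨c, by rw [pow_two, ← hc]⟩

/-- A singular vector of a block orthogonal to an anisotropic vector, not orthogonal to a second one. -/
theorem exists_singular_lift [Fintype F] (h2 : (2 : F) = 0) {j : Fin t} {a b : ι → F} (ha : a ∈ D j) (hb : b ∈ D j)
    (hbb : Q b ≠ 0) (hab : a ∉ Submodule.span F {b}) (hpab : pol Q a b = 0) :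
    ∃ e ∈ D j, Q e = 0 ∧ pol Q b e = 0 ∧ pol Q a e ≠ 0 := by
  obtain ⟨φ, hφ, hφa⟩ := exists_dual hab
  obtain ⟨p, hp, hp'⟩ := exists_rep hQ (block_nondeg hD j) φ
  obtain ⟨c, hc⟩ := two_cases h2 (-(Q p) / Q b)
  have hbp : pol Q b p = 0 := by rw [← hp' b hb]; exact hφ b (Submodule.mem_span_singleton_self b)
  refine ⟨p + c • b, (D j).add_mem hp ((D j).smul_mem _ hb), ?_, ?_, ?_⟩
  · rw [q_add hQ, q_smul hQ, pol_smul_right hQ, pol_comm p b, hbp, hc, div_mul_cancel₀ _ hbb]; ring
  · rw [pol_add_right hQ, hbp, pol_smul_right hQ, pol_self hQ, h2]; ring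
  · rw [pol_add_right hQ, ← hp' a ha, hφa, pol_smul_right hQ, hpab, mul_zero, add_zero]; exact one_ne_zero

variable {M : Subgroup (GL ι F)} [Fintype F] (hn : 7 ≤ Fintype.card ι) (hk4 : 4 ≤ k)
variable (hHM : Geo.decompositionStabilizer D ⊓ Geo.omegaGL Q ≤ M) (hMS : M ≤ Geo.omegaGL Q)
include hn hk4 hHM hMS

omit hk4 in
/-- The shift of a line by a Siegel element of a block fixing its singular end. -/
theorem shift_mem {j : Fin t} {v y a b : ι → F} (hvv : Q v = 0) (hvy : pol Q v y = 0) (h : LineIn Q M v y)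
    (hya : y - a ∈ orth hQ (D j)) (hvb : v - b ∈ orth hQ (D j)) {e z : ι → F} (he : e ∈ D j) (hee : Q e = 0)
    (hbe : pol Q b e = 0) (hz : z ∈ D j) (hez : pol Q e z = 0) (hbz : pol Q b z = 0) :
    pol Q a e • z - (pol Q a z + Q z * pol Q a e) • e ∈ D j ∧
      pol Q v (pol Q a e • z - (pol Q a z + Q z * pol Q a e) • e) = 0 ∧
      LineIn Q M v (pol Q a e • z - (pol Q a z + Q z * pol Q a e) • e) := by
  have hMO : M ≤ isometryGroup F Q := hMS.trans (omega_le_isometry hQ)
  obtain ⟨g, hg, hgs, -⟩ := block_siegel hQ hD hn hHM he hz hee hez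
  have hve : pol Q v e = 0 := by rw [pol_comm, proj_pol hQ hD hvb he, pol_comm, hbe]
  have hvz : pol Q v z = 0 := by rw [pol_comm, proj_pol hQ hD hvb hz, pol_comm, hbz]
  have hfix : mv g v = v := isSiegel_fix hQ hgs hve hvz
  have hgy : mv g y = y + (pol Q a e • z - (pol Q a z + Q z * pol Q a e) • e) := by
    rw [hgs, pol_comm y e, proj_pol hQ hD hya he, pol_comm y z, proj_pol hQ hD hya hz, pol_comm e a, pol_comm z a]
    module
  have h1 := lineIn_conj hQ hMO hg h
  rw [hfix, hgy] at h1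
  have hp : pol Q v (pol Q a e • z - (pol Q a z + Q z * pol Q a e) • e) = 0 := by
    rw [pol_sub_right hQ, pol_smul_right hQ, pol_smul_right hQ, hve, hvz]; ring
  refine ⟨(D j).sub_mem ((D j).smul_mem _ hz) ((D j).smul_mem _ he), hp, ?_⟩
  have h3 := lineIn_sub hQ hvv (by rw [pol_add_right hQ, hvy, hp, add_zero]) hvy h1 h
  rwa [add_sub_cancel_left] at h3

/-- Over two elements, a reflection in a spread vector times a block reflection gives everything. -/
theorem eq_omega_of_refl (hF : ∀ c : F, c = 0 ∨ c = 1) {i : Fin t} {a w : ι → F} (ha : a ∈ D i) (haa : Q a = 1)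
    (hww : Q w = 1) (hw : ∀ l, w ∉ D l) {ra rb : GL ι F} (hra : IsRefl Q ra a) (hrb : IsRefl Q rb w)
    (hg : ra * rb ∈ M) : M = Geo.omegaGL Q := by
  have hMO : M ≤ isometryGroup F Q := hMS.trans (omega_le_isometry hQ)
  have h2 : (2 : F) = 0 := by
    rcases hF 2 with h | h
    · exact h
    · exact absurd (show (1 : F) = 0 by linear_combination h) one_ne_zero
  choose b hb hwb using fun l => exists_proj hQ (block_nondeg hD l) w
  obtain ⟨j, hj⟩ : ∃ j, Q (b j) ≠ 0 := by
    by_contra hc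
    push Not at hc
    classical
    have hs : ∀ s : Finset (Fin t), Q (∑ l ∈ s, b l) = 0 := by
      intro s
      induction s using Finset.induction_on with
      | empty => rw [Finset.sum_empty, q_zero hQ]
      | insert l s hl ih =>
        rw [Finset.sum_insert hl, q_add hQ, hc, ih,
          show pol Q (b l) (∑ p ∈ s, b p) = formQ hQ (b l) (∑ p ∈ s, b p) from pol_comm _ _, map_sum]
        simp only [formQ_apply hQ]
        rw [Finset.sum_eq_zero fun p hp => block_orth hD (fun h : p = l => hl (h ▸ hp)) (hb p) (hb l)]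
        ring
    have h0 : w - ∑ l, b l = 0 := eq_zero_of_orth_all hQ hD fun l u hu => by
      rw [pol_sub_right hQ, show pol Q u (∑ p, b p) = formQ hQ u (∑ p, b p) from pol_comm _ _, map_sum]
      simp only [formQ_apply hQ]
      rw [Finset.sum_eq_single_of_mem l (Finset.mem_univ l) fun p _ hpl => block_orth hD hpl (hb p) hu,
        proj_pol hQ hD (hwb l) hu]
      exact sub_eq_zero.2 (pol_comm _ _)
    rw [sub_eq_zero.1 h0, hs] at hww
    exact zero_ne_one hww
  have hbj : Q (b j) = 1 := (hF _).resolve_left hj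
  obtain ⟨s, hs, hs0, hss, hsb⟩ := exists_singular_orth hQ hD hk4 j (b j)
  obtain ⟨φ, hφ, hφb⟩ := exists_dual (W := Submodule.span F {s}) (u := b j) fun h => by
    obtain ⟨c, hc⟩ := Submodule.mem_span_singleton.1 h
    exact hj (by rw [← hc, q_smul hQ, hss, mul_zero])
  obtain ⟨y, hy, hy'⟩ := exists_rep hQ (block_nondeg hD j) φ
  have hsy : pol Q s y = 0 := by rw [← hy' s hs]; exact hφ s (Submodule.mem_span_singleton_self s)
  have hby : pol Q (b j) y = 1 := by rw [← hy' _ (hb j), hφb]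
  obtain ⟨h, hh, hhs, -⟩ := block_siegel hQ hD hn hHM hs hy hss hsy
  have hsw : pol Q w s = 0 := by rw [pol_comm, proj_pol hQ hD (hwb j) hs, hsb]
  have hw' : mv h w = w - s := by
    rw [hhs, hsw, pol_comm w y, proj_pol hQ hD (hwb j) hy, pol_comm y (b j), hby]; module
  obtain ⟨l, hl⟩ : ∃ l, mv h a ∈ D l := by
    refine ⟨i, ?_⟩
    rw [hhs]
    rcases eq_or_ne i j with rfl | hij
    · exact (D i).sub_mem ((D i).add_mem ha ((D i).smul_mem _ hy)) ((D i).smul_mem _ hs)
    · rw [block_orth hD hij ha hs, block_orth hD hij ha hy]; simpa using ha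
  obtain ⟨d, hd, ra₁, ra', hra₁, hra', hdv⟩ := double_mem hQ hD hn hHM ha hl (haa ▸ one_ne_zero)
    (by rw [mem_isometry.1 (hMO hh)])
  obtain rfl := isRefl_unique hra₁ hra
  have hd' : d = ra₁ * ra' := ext_mv fun z => by rw [hdv, mv_mul]
  have hha := isRefl_conj hQ (hMO hh) hra₁
  have hhw := isRefl_conj hQ (hMO hh) hrb
  rw [isRefl_unique hra' hha] at hd'
  rw [hw'] at hhw
  have hTM : rb * (h * rb * h⁻¹) ∈ M := by
    have : rb * (h * rb * h⁻¹) = (ra₁ * rb)⁻¹ * d * (h * (ra₁ * rb) * h⁻¹) := by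
      have h1 : ra₁ * ra₁ = 1 := isRefl_sq hQ hra₁
      have h3 : rb⁻¹ = rb := inv_eq_of_mul_eq_one_right (isRefl_sq hQ hrb)
      rw [hd', show (ra₁ * rb)⁻¹ * (ra₁ * (h * ra₁ * h⁻¹)) * (h * (ra₁ * rb) * h⁻¹) =
        rb⁻¹ * h * (ra₁ * ra₁) * rb * h⁻¹ by group, h1, h3]
      group
    rw [this]
    exact M.mul_mem (M.mul_mem (M.inv_mem hg) hd) (M.mul_mem (M.mul_mem hh hg) (M.inv_mem hh))
  refine eq_omega_of_line hQ hD hn hHM hMS (by omega) hs hs0 hss (z := w) ((pol_comm _ _).trans hsw) (hw j) fun c => ?_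
  rcases hF c with rfl | rfl
  · exact ⟨1, M.one_mem, by rw [zero_smul]; exact isSiegel_zero hQ s⟩
  refine ⟨_, hTM, fun z => ?_⟩
  rw [one_smul, mv_mul, hhw.2, hrb.2, pol_sub_left hQ, pol_smul_left hQ, pol_sub_right hQ, pol_sub_left hQ,
    pol_self hQ, q_sub hQ, pol_comm s w, hsw, hss, hww]
  match_scalars <;> field_simp
  all_goals first | linear_combination -(pol Q z s) * h2 | linear_combination (pol Q z w) * h2

/-- A line from a singular vector to its component in characteristic two, the independent case. -/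
theorem eq_omega_of_indep_two (h2 : (2 : F) = 0) (hF : ¬ ∀ c : F, c = 0 ∨ c = 1) {j : Fin t} {v x b : ι → F}
    (hvv : Q v = 0) (hx : x ∈ D j) (hvx : pol Q v x = 0) (hv : v ∉ D j) (hb : b ∈ D j)
    (hvb : v - b ∈ orth hQ (D j)) (hbb : Q b ≠ 0) (hxb : x ∉ Submodule.span F {b}) (h : LineIn Q M v x) :
    M = Geo.omegaGL Q := by
  push Not at hF
  obtain ⟨m, hm0, hm1⟩ := hF
  have hpxb : pol Q x b = 0 := by rw [← proj_pol hQ hD hvb hx, pol_comm, hvx]
  obtain ⟨e, he, hee, hbe, hxe⟩ := exists_singular_lift hQ hD h2 hx hb hbb hxb hpxb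
  have hxx : x - x ∈ orth hQ (D j) := by rw [sub_self]; exact Submodule.zero_mem _
  obtain ⟨-, p1, l1⟩ := shift_mem hQ hD hn hHM hMS hvv hvx h hxx hvb he hee hbe hb ((pol_comm _ _).trans hbe)
    (by rw [pol_self hQ, h2, zero_mul])
  obtain ⟨-, p2, l2⟩ := shift_mem hQ hD hn hHM hMS hvv hvx h hxx hvb he hee hbe ((D j).smul_mem m hb)
    (by rw [pol_smul_right hQ, pol_comm e b, hbe, mul_zero]) (by rw [pol_smul_right hQ, pol_self hQ, h2]; ring)
  have he0 : e ≠ 0 := fun h => hxe (by rw [h, pol_zero_right hQ])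
  have hve : pol Q v e = 0 := by rw [pol_comm, proj_pol hQ hD hvb he, pol_comm, hbe]
  have h3 := lineIn_sub hQ hvv p2 (by rw [pol_smul_right hQ, p1, mul_zero]) l2 (lineIn_smul m l1)
  have h4 := lineIn_smul (Q b * pol Q x e * (m - m ^ 2))⁻¹ h3
  have hc : Q b * pol Q x e * (m - m ^ 2) ≠ 0 := mul_ne_zero (mul_ne_zero hbb hxe) (by
    rw [show m - m ^ 2 = m * (1 - m) by ring]
    exact mul_ne_zero hm0 (sub_ne_zero.2 (Ne.symm hm1)))
  have h5 : LineIn Q M v e := by
    convert h4 using 1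
    rw [pol_smul_right hQ, q_smul hQ, hpxb, eq_inv_smul_iff₀ hc]
    module
  exact eq_omega_of_line hQ hD hn hHM hMS (by omega) he he0 hee ((pol_comm _ _).trans hve) hv
    (lineIn_symm hQ hvv hee h5)

/-- A line from a singular vector outside a block into that block gives everything. -/
theorem eq_omega_of_comp {j : Fin t} {v x b : ι → F} (hvv : Q v = 0) (hx : x ∈ D j) (hx0 : x ≠ 0)
    (hvx : pol Q v x = 0) (hv : v ∉ D j) (hb : b ∈ D j) (hvb : v - b ∈ orth hQ (D j))
    (hsp : (∀ c : F, c = 0 ∨ c = 1) → Q b ≠ 0 → Q x ≠ 0 → ∀ i, v + x ∉ D i)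
    (h : LineIn Q M v x) : M = Geo.omegaGL Q := by
  have hMO : M ≤ isometryGroup F Q := hMS.trans (omega_le_isometry hQ)
  by_cases hxx : Q x = 0
  · exact eq_omega_of_line hQ hD hn hHM hMS (by omega) hx hx0 hxx ((pol_comm _ _).trans hvx) hv
      (lineIn_symm hQ hvv hxx h)
  by_cases hbb : Q b = 0
  · exact eq_omega_of_singular_comp hQ hD hn hHM hMS (by omega) hvv hx hx0 hvx hv hb hvb hbb h
  by_cases hF : ∀ c : F, c = 0 ∨ c = 1
  · have hQx := (hF _).resolve_left hxx
    have hw : Q (x + v) = 1 := by rw [q_add hQ, hQx, hvv, pol_comm x v, hvx]; ring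
    obtain ⟨ra, hra, hra'⟩ := exists_refl hQ hxx
    obtain ⟨rb, hrb, hrb'⟩ := exists_refl hQ (hw ▸ one_ne_zero : Q (x + v) ≠ 0)
    obtain ⟨g, hg, hgs⟩ := h 1
    refine eq_omega_of_refl hQ hD hn hk4 hHM hMS hF hx hQx hw
      (fun i => by rw [add_comm]; exact hsp hF hbb hxx i) hra' hrb' ?_
    have h2 : (2 : F) = 0 := by
      rcases hF 2 with h | h
      · exact h
      · exact absurd (show (1 : F) = 0 by linear_combination h) one_ne_zero
    have : ra * rb = g := ext_mv fun z => by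
      rw [mv_mul, hra'.2, hrb'.2, hgs, one_smul, hw, hQx, pol_sub_left hQ, pol_smul_left hQ, pol_add_left hQ,
        pol_self hQ, hQx, pol_add_right hQ, hvx]
      match_scalars <;> field_simp
      all_goals ring
    rw [this]; exact hg
  have hpxb : pol Q x b = 0 := by rw [← proj_pol hQ hD hvb hx, pol_comm, hvx]
  by_cases h2 : (2 : F) = 0
  swap
  · obtain ⟨hP, hPd⟩ := nondeg_perp hQ h2 (block_nondeg hD j) hb hbb
    rw [hD.decomp.decomp.finrank_eq] at hPd
    have hxP : x ∈ D j ⊓ orth hQ (Submodule.span F {b}) := ⟨hx, (mem_orth_span hQ).2 (by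
      rintro u rfl; exact (pol_comm _ _).trans hpxb)⟩
    obtain ⟨e, he, hee, hxe⟩ := exists_singular_not_orth hQ hP (by omega) hxP hx0
    have hbP : ∀ z ∈ D j ⊓ orth hQ (Submodule.span F {b}), pol Q b z = 0 := fun z hz =>
      hz.2 b (Submodule.mem_span_singleton_self b)
    let Y : Submodule F (ι → F) :=
      { carrier := {z | pol Q v z = 0 ∧ LineIn Q M v z}
        add_mem' := fun {p q} hp hq => ⟨by rw [pol_add_right hQ, hp.1, hq.1, add_zero],
          lineIn_add hQ hvv hp.1 hq.1 hp.2 hq.2⟩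
        zero_mem' := ⟨pol_zero_right hQ v, by simpa using lineIn_self hQ (M := M) hvv 0⟩
        smul_mem' := fun c z hz => ⟨by rw [pol_smul_right hQ, hz.1, mul_zero], lineIn_smul c hz.2⟩ }
    have heY : e ∈ Y := absorb hQ hP (by omega) (Y := Y) (y₀ := x) he hxe
      (fun z hz hez => (shift_mem hQ hD hn hHM hMS hvv hvx h (y := x) (a := x)
        (by rw [sub_self]; exact Submodule.zero_mem _) hvb he.1 hee (hbP e he) hz.1 hez (hbP z hz)).2)
      e he (by rw [pol_self hQ, hee, mul_zero])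
    exact eq_omega_of_line hQ hD hn hHM hMS (by omega) he.1 (fun h => hxe (by rw [h, pol_zero_right hQ])) hee
      ((pol_comm _ _).trans heY.1) hv (lineIn_symm hQ hvv hee heY.2)
  by_cases hxb : x ∈ Submodule.span F {b}
  swap
  · exact eq_omega_of_indep_two hQ hD hn hk4 hHM hMS h2 hF hvv hx hvx hv hb hvb hbb hxb h
  obtain ⟨r, hr⟩ := Submodule.mem_span_singleton.1 hxb
  have hr0 : r ≠ 0 := fun h => hx0 (by rw [← hr, h, zero_smul])
  have hvb0 : pol Q v b = 0 := by rw [pol_comm, proj_pol hQ hD hvb hb, pol_self hQ, h2, zero_mul]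
  have hline : LineIn Q M v b := by
    have := lineIn_smul r⁻¹ h
    rwa [← hr, smul_smul, inv_mul_cancel₀ hr0, one_smul] at this
  obtain ⟨l, hl0, hlb⟩ : ∃ l : F, l ≠ 0 ∧ 1 + l * Q b ≠ 0 := by
    by_cases h1 : 1 + Q b = 0
    · push Not at hF
      obtain ⟨m, hm0, hm1⟩ := hF
      refine ⟨m, hm0, fun h => hm1 ?_⟩
      linear_combination -h + m * h1
    · exact ⟨1, one_ne_zero, by rwa [one_mul]⟩
  obtain ⟨T, hT, hTs⟩ := hline l
  obtain ⟨e, he, hee, hbe⟩ := exists_singular_not_orth hQ (block_nondeg hD j)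
    (by rw [hD.decomp.decomp.finrank_eq]; omega) hb (fun h => hbb (by rw [h, q_zero hQ]))
  set κ := pol Q b e with hκ
  obtain ⟨x', hx', hx'0, hx'e, hx'b⟩ := exists_orth_two hQ hD hk4 j e b
  have hTe : mv T e = e + κ • (l • b) - ((l * κ) + l ^ 2 * Q b * κ) • v := by
    rw [hTs, proj_pol hQ hD hvb he, pol_smul_right hQ, q_smul hQ, pol_comm e b, ← hκ]
  have hTx : mv T x' = x' := isSiegel_fix hQ hTs (by rw [proj_pol hQ hD hvb hx', hx'b])
    (by rw [pol_smul_right hQ, hx'b, mul_zero])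
  have hline' : LineIn Q M e x' := fun c => by
    obtain ⟨g, hg, hgs, -⟩ := block_siegel hQ hD hn hHM he ((D j).smul_mem c hx') hee
      (by rw [pol_smul_right hQ, pol_comm, hx'e, mul_zero])
    exact ⟨g, hg, hgs⟩
  have h1 := lineIn_conj hQ hMO hT hline'
  rw [hTx] at h1
  set b₂ := e - (l ^ 2 * Q b * κ) • b with hb₂
  have hb₂m : b₂ ∈ D j := (D j).sub_mem he ((D j).smul_mem _ hb)
  have hvb₂ : mv T e - b₂ ∈ orth hQ (D j) := by
    rw [hTe, hb₂, show e + κ • (l • b) - ((l * κ) + l ^ 2 * Q b * κ) • v - (e - (l ^ 2 * Q b * κ) • b) =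
      (-((l * κ) + l ^ 2 * Q b * κ)) • (v - b) by module]
    exact Submodule.smul_mem _ _ hvb
  have hindep : x' ∉ Submodule.span F {b₂} := fun hm => by
    obtain ⟨s, rfl⟩ := Submodule.mem_span_singleton.1 hm
    rw [hb₂, pol_smul_left hQ, pol_sub_left hQ, pol_smul_left hQ, pol_self hQ, h2, pol_comm e b, ← hκ] at hx'b
    have : s * κ = 0 := by linear_combination hx'b
    rw [(mul_eq_zero.1 this).resolve_right hbe, zero_smul] at hx'0
    exact hx'0 rfl
  have hv2 : mv T e ∉ D j := fun hm => by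
    rw [hTe] at hm
    have h' := (D j).sub_mem ((D j).add_mem he ((D j).smul_mem κ ((D j).smul_mem l hb))) hm
    rw [sub_sub_cancel] at h'
    refine hv (((D j).smul_mem_iff ?_).1 h')
    rw [show l * κ + l ^ 2 * Q b * κ = l * κ * (1 + l * Q b) by ring]
    exact mul_ne_zero (mul_ne_zero hl0 hbe) hlb
  have hvv2 : Q (mv T e) = 0 := by rw [mem_isometry.1 (hMO hT), hee]
  have hvx2 : pol Q (mv T e) x' = 0 := by
    conv_lhs => arg 3; rw [← hTx]
    rw [pol_mv hQ (hMO hT), pol_comm, hx'e]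
  by_cases hx'x' : Q x' = 0
  · exact eq_omega_of_line hQ hD hn hHM hMS (by omega) hx' hx'0 hx'x' ((pol_comm _ _).trans hvx2) hv2
      (lineIn_symm hQ hvv2 hx'x' h1)
  by_cases hb₂b : Q b₂ = 0
  · exact eq_omega_of_singular_comp hQ hD hn hHM hMS (by omega) hvv2 hx' hx'0 hvx2 hv2 hb₂m hvb₂ hb₂b h1
  exact eq_omega_of_indep_two hQ hD hn hk4 hHM hMS h2 hF hvv2 hx' hvx2 hv2 hb₂m hvb₂ hb₂b hindep h1

omit hk4 in
theorem two_of_fin (hF : ∀ c : F, c = 0 ∨ c = 1) : (2 : F) = 0 := by
  rcases hF 2 with h | h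
  · exact h
  · exact absurd (show (1 : F) = 0 by linear_combination h) one_ne_zero

/-- A line with independent components yields a line into the block. -/
theorem exists_comp {j : Fin t} {v y a b : ι → F} (hvv : Q v = 0) (hvy : pol Q v y = 0) (h : LineIn Q M v y)
    (ha : a ∈ D j) (hya : y - a ∈ orth hQ (D j)) (hb : b ∈ D j) (hvb : v - b ∈ orth hQ (D j))
    (hab : a ∉ Submodule.span F {b}) :
    ∃ x ∈ D j, x ≠ 0 ∧ pol Q v x = 0 ∧ LineIn Q M v x := by
  have ha0 : a ≠ 0 := fun h => hab (h ▸ Submodule.zero_mem _)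
  have hX := block_nondeg hD j
  have hfr := hD.decomp.decomp.finrank_eq j
  have fin : ∀ e ∈ D j, Q e = 0 → pol Q b e = 0 → e ≠ 0 → ∀ z ∈ D j, pol Q e z = 0 → pol Q b z = 0 →
      z ∉ Submodule.span F {e} → (pol Q a e ≠ 0 ∨ pol Q a z ≠ 0) →
      ∃ x ∈ D j, x ≠ 0 ∧ pol Q v x = 0 ∧ LineIn Q M v x := by
    intro e he hee hbe he0 z hz hez hbz hzs hor
    refine ⟨_, (shift_mem hQ hD hn hHM hMS hvv hvy h hya hvb he hee hbe hz hez hbz).1, fun hx => ?_,
      (shift_mem hQ hD hn hHM hMS hvv hvy h hya hvb he hee hbe hz hez hbz).2⟩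
    have hae : pol Q a e = 0 := by
      by_contra hae
      refine hzs (Submodule.mem_span_singleton.2 ⟨(pol Q a e)⁻¹ * (pol Q a z + Q z * pol Q a e), ?_⟩)
      rw [mul_smul, ← sub_eq_zero.1 hx, smul_smul, inv_mul_cancel₀ hae, one_smul]
    rw [hae, zero_smul, mul_zero, add_zero, zero_sub, neg_eq_zero, smul_eq_zero] at hx
    exact hor.elim (fun h => h hae) fun h => hx.elim h he0
  by_cases hb0 : b = 0
  · obtain ⟨e, he, hee, hae⟩ := exists_singular_not_orth hQ hX (by omega) ha ha0
    obtain ⟨z, hz, hez, hzs⟩ := exists_orth_off hQ hD hk4 j e e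
    exact fin e he hee (by rw [hb0, pol_zero_left hQ]) (fun h => hae (by rw [h, pol_zero_right hQ])) z hz
      ((pol_comm _ _).trans hez) (by rw [hb0, pol_zero_left hQ]) hzs (Or.inl hae)
  by_cases hbb : Q b = 0
  · have hbp : pol Q b b = 0 := by rw [pol_self hQ, hbb, mul_zero]
    by_cases hpab : pol Q a b = 0
    swap
    · obtain ⟨z, hz, hzb, hzs⟩ := exists_orth_off hQ hD hk4 j b b
      exact fin b hb hbb hbp hb0 z hz ((pol_comm _ _).trans hzb) ((pol_comm _ _).trans hzb) hzs (Or.inl hpab)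
    obtain ⟨φ, hφ, hφa⟩ := exists_dual hab
    obtain ⟨z, hz, hz'⟩ := exists_rep hQ hX φ
    have hbz : pol Q b z = 0 := by rw [← hz' b hb]; exact hφ b (Submodule.mem_span_singleton_self b)
    have haz : pol Q a z = 1 := by rw [← hz' a ha, hφa]
    refine fin b hb hbb hbp hb0 z hz hbz hbz (fun hm => ?_) (Or.inr (by rw [haz]; exact one_ne_zero))
    obtain ⟨c, rfl⟩ := Submodule.mem_span_singleton.1 hm
    rw [pol_smul_right hQ, hpab, mul_zero] at haz
    exact zero_ne_one haz
  by_cases h2 : (2 : F) = 0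
  swap
  · obtain ⟨hP, hPd⟩ := nondeg_perp hQ h2 hX hb hbb
    rw [hfr] at hPd
    obtain ⟨a', ha', hpa'⟩ := exists_proj hQ hP a
    have ha'0 : a' ≠ 0 := fun h0 => hab (Submodule.mem_span_singleton.2 ⟨pol Q a b / (2 * Q b), by
      have hz : a - (pol Q a b / (2 * Q b)) • b = 0 := by
        have hm : a - (pol Q a b / (2 * Q b)) • b ∈ D j ⊓ orth hQ (Submodule.span F {b}) :=
          ⟨(D j).sub_mem ha ((D j).smul_mem _ hb), (mem_orth_span hQ).2 (by
            rintro u rfl
            rw [pol_sub_right hQ, pol_smul_right hQ, pol_self hQ, div_mul_cancel₀ _ (mul_ne_zero h2 hbb),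
              pol_comm u a, sub_self])⟩
        refine hP _ hm fun w hw => ?_
        have h1 := hpa' w hw
        rw [h0, sub_zero] at h1
        rw [pol_sub_right hQ, pol_smul_right hQ, pol_comm w b, hw.2 b (Submodule.mem_span_singleton_self b),
          mul_zero, sub_zero, h1]
      exact (sub_eq_zero.1 hz).symm⟩)
    obtain ⟨e, he, hee, hae⟩ := exists_singular_not_orth hQ hP (by omega) ha' ha'0
    have hbP : ∀ z ∈ D j ⊓ orth hQ (Submodule.span F {b}), pol Q b z = 0 := fun z hz =>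
      hz.2 b (Submodule.mem_span_singleton_self b)
    have hae' : pol Q a e ≠ 0 := by
      have := hpa' e he
      rw [pol_sub_right hQ, sub_eq_zero] at this
      rw [pol_comm, this, pol_comm]; exact hae
    obtain ⟨z, hz, hzz⟩ : ∃ z ∈ D j, z ∉ Submodule.span F {e} ∧ pol Q e z = 0 ∧ pol Q b z = 0 := by
      obtain ⟨f, hf, hff, hef⟩ := exists_partner hQ hP he (fun h => hae (by rw [h, pol_zero_right hQ])) hee
      obtain ⟨hPn, hP2⟩ := nondeg_pair hQ hee hff hef
      have hle : Submodule.span F ({e, f} : Set (ι → F)) ≤ D j ⊓ orth hQ (Submodule.span F {b}) :=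
        Submodule.span_le.2 (by rintro x (rfl | rfl) <;> assumption)
      have hd := finrank_inf_orth_add hQ hPn hle
      obtain ⟨z, hz, hz0⟩ := (D j ⊓ orth hQ (Submodule.span F {b}) ⊓
          orth hQ (Submodule.span F ({e, f} : Set (ι → F)))).ne_bot_iff.1 fun h => by
        rw [h, finrank_bot, hP2] at hd; omega
      refine ⟨z, hz.1.1, fun hm => ?_, hz.2 e (Submodule.subset_span (Set.mem_insert _ _)), hbP z hz.1⟩
      obtain ⟨c, rfl⟩ := Submodule.mem_span_singleton.1 hm
      have := hz.2 f (Submodule.subset_span (Set.mem_insert_of_mem _ rfl))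
      rw [pol_smul_right hQ, pol_comm f e, hef, mul_one] at this
      exact hz0 (by rw [this, zero_smul])
    exact fin e he.1 hee (hbP e he) (fun h => hae (by rw [h, pol_zero_right hQ])) z hz hzz.2.1 hzz.2.2 hzz.1
      (Or.inl hae')
  have hbp : pol Q b b = 0 := by rw [pol_self hQ, h2, zero_mul]
  have hbs : ∀ e, Q e = 0 → e ≠ 0 → b ∉ Submodule.span F {e} := fun e hee _ hm => by
    obtain ⟨c, rfl⟩ := Submodule.mem_span_singleton.1 hm
    exact hbb (by rw [q_smul hQ, hee, mul_zero])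
  by_cases hpab : pol Q a b = 0
  · obtain ⟨e, he, hee, hbe, hae⟩ := exists_singular_lift hQ hD h2 ha hb hbb hab hpab
    have he0 : e ≠ 0 := fun h => hae (by rw [h, pol_zero_right hQ])
    exact fin e he hee hbe he0 b hb ((pol_comm _ _).trans hbe) hbp (hbs e hee he0) (Or.inl hae)
  · obtain ⟨e, he, he0, hee, heb⟩ := exists_singular_orth hQ hD hk4 j b
    exact fin e he hee ((pol_comm _ _).trans heb) he0 b hb heb hbp (hbs e hee he0) (Or.inr hpab)

/-- Over two elements the shift can avoid the component of the singular end. -/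
theorem exists_comp_two (hF : ∀ c : F, c = 0 ∨ c = 1) {j : Fin t} {v y a b : ι → F} (hvv : Q v = 0)
    (hvy : pol Q v y = 0) (h : LineIn Q M v y) (ha : a ∈ D j) (hya : y - a ∈ orth hQ (D j)) (hb : b ∈ D j)
    (hvb : v - b ∈ orth hQ (D j)) (hbb : Q b ≠ 0) (hab : a ∉ Submodule.span F {b})
    (hcase : pol Q a b ≠ 0 → 5 ≤ k ∨ (Q a ≠ 0 ∧
      ∀ e f, e ∈ D j → f ∈ D j → Q e = 0 → Q f = 0 → pol Q e f = 0 → f ∉ Submodule.span F {e} → e = 0)) :
    ∃ x ∈ D j, x ≠ 0 ∧ b + x ≠ 0 ∧ pol Q v x = 0 ∧ LineIn Q M v x := by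
  have h2 := two_of_fin hQ hD hn hHM hMS hF
  have hQb := (hF _).resolve_left hbb
  have hbp : pol Q b b = 0 := by rw [pol_self hQ, h2, zero_mul]
  obtain ⟨e, he, hee, hbe, he0, hne⟩ : ∃ e ∈ D j, Q e = 0 ∧ pol Q b e = 0 ∧ e ≠ 0 ∧ pol Q a e ≠ pol Q a b := by
    by_cases hpab : pol Q a b = 0
    · obtain ⟨e, he, hee, hbe, hae⟩ := exists_singular_lift hQ hD h2 ha hb hbb hab hpab
      exact ⟨e, he, hee, hbe, fun h => hae (by rw [h, pol_zero_right hQ]), by rwa [hpab]⟩
    have hab1 := (hF _).resolve_left hpab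
    have hba1 : pol Q b a = 1 := (pol_comm _ _).trans hab1
    have hU : Nondeg Q (Submodule.span F ({a, b} : Set (ι → F))) := by
      intro z hz hall
      obtain ⟨p, q, rfl⟩ := Submodule.mem_span_pair.1 hz
      have h1 := hall a (Submodule.subset_span (Set.mem_insert _ _))
      have h3 := hall b (Submodule.subset_span (Set.mem_insert_of_mem _ rfl))
      rw [pol_add_right hQ, pol_smul_right hQ, pol_smul_right hQ, pol_self hQ, h2] at h1
      rw [pol_add_right hQ, pol_smul_right hQ, pol_smul_right hQ, hbp, hba1] at h3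
      rw [hab1] at h1
      rw [show q = 0 by linear_combination h1, show p = 0 by linear_combination h3]
      simp
    have hle : Submodule.span F ({a, b} : Set (ι → F)) ≤ D j := Submodule.span_le.2 (by
      rintro x (rfl | rfl) <;> assumption)
    have hd := finrank_inf_orth_add hQ hU hle
    have hU2 : Module.finrank F ↥(Submodule.span F ({a, b} : Set (ι → F))) ≤ 2 := by
      classical
      exact (finrank_span_le_card _).trans
        (by rw [Set.toFinset_insert, Set.toFinset_singleton]; exact Finset.card_le_two)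
    rw [hD.decomp.decomp.finrank_eq] at hd
    set P := D j ⊓ orth hQ (Submodule.span F ({a, b} : Set (ι → F))) with hPdef
    have hPo : ∀ p ∈ P, pol Q a p = 0 ∧ pol Q b p = 0 := fun p hp =>
      ⟨hp.2 a (Submodule.subset_span (Set.mem_insert _ _)), hp.2 b (Submodule.subset_span (Set.mem_insert_of_mem _ rfl))⟩
    suffices ∃ e ∈ P, Q e = 0 ∧ e ≠ 0 by
      obtain ⟨e, he, hee, he0⟩ := this
      exact ⟨e, he.1, hee, (hPo e he).2, he0, by rw [(hPo e he).1, hab1]; exact zero_ne_one⟩
    rcases hcase hpab with hk5 | ⟨hQa, hminus⟩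
    · obtain ⟨e, he, he0, hee⟩ := exists_singular hQ (X := P) (by omega)
      exact ⟨e, he, hee, he0⟩
    by_contra hc
    push Not at hc
    have hPv : ∀ p ∈ P, p ≠ 0 → Q p = 1 := fun p hp hp0 => (hF _).resolve_left fun h => hp0 (hc p hp h)
    obtain ⟨p, hp, hp0⟩ := P.ne_bot_iff.1 fun h => by rw [h, finrank_bot] at hd; omega
    obtain ⟨p', hp', hpp'⟩ : ∃ p' ∈ P, pol Q p p' ≠ 0 := by
      by_contra hall
      push Not at hall
      exact hp0 (nondeg_inf_orth hQ hU (block_nondeg hD j) hle p hp fun w hw => (pol_comm _ _).trans (hall w hw))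
    have hp'0 : p' ≠ 0 := fun h => hpp' (by rw [h, pol_zero_right hQ])
    have hQa1 := (hF _).resolve_left hQa
    have hap := hPo p hp
    have hap' := hPo p' hp'
    have h11 : (1 : F) + 1 = 0 := by linear_combination h2
    refine absurd (hminus (a + p) (b + p') ((D j).add_mem ha hp.1) ((D j).add_mem hb hp'.1) ?_ ?_ ?_ ?_) fun h0 => ?_
    · rw [q_add hQ, hQa1, hPv p hp hp0, hap.1, add_zero, h11]
    · rw [q_add hQ, hQb, hPv p' hp' hp'0, hap'.2, add_zero, h11]
    · rw [pol_add_left hQ, pol_add_right hQ, pol_add_right hQ, hab1, hap'.1, pol_comm p b, hap.2,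
        (hF _).resolve_left hpp', add_zero, zero_add, h11]
    · intro hm
      obtain ⟨c, hc'⟩ := Submodule.mem_span_singleton.1 hm
      have := congrArg (fun z => pol Q z a) hc'
      simp only [pol_smul_left hQ, pol_add_left hQ, pol_self hQ, h2, hba1, pol_comm p a, hap.1, pol_comm p' a,
        hap'.1] at this
      exact zero_ne_one (by linear_combination this)
    · have := congrArg (fun z => pol Q z b) h0
      simp only [pol_add_left hQ, hab1, pol_comm p b, hap.2, pol_zero_left hQ] at this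
      exact one_ne_zero (by linear_combination this)
  obtain ⟨hxD, hvx, hl⟩ := shift_mem hQ hD hn hHM hMS hvv hvy h hya hvb he hee hbe hb ((pol_comm _ _).trans hbe) hbp
  have hbne : ∀ c : F, b + c • e ≠ 0 := fun c h0 => hbb (by
    rw [show b = -(c • e) from eq_neg_of_add_eq_zero_left h0, q_neg hQ, q_smul hQ, hee, mul_zero])
  refine ⟨_, hxD, ?_, ?_, hvx, hl⟩
  all_goals
    rw [hQb]
    rcases hF (pol Q a e) with h | h
    · rcases hF (pol Q a b) with h' | h'
      · exact absurd (h.trans h'.symm) hne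
      · rw [h, h']
        simp only [zero_smul, mul_zero, add_zero, one_smul, zero_sub]
        first
          | exact neg_ne_zero.2 he0
          | (rw [← neg_one_smul F e]; exact hbne _)
    · rcases hF (pol Q a b) with h' | h'
      · rw [h, h']
        simp only [one_smul, one_mul, zero_add]
        first
          | (rw [sub_eq_add_neg, ← neg_one_smul F e]; exact hbne _)
          | (rw [← add_sub_assoc, ← two_smul F b, h2, zero_smul, zero_sub]; exact neg_ne_zero.2 he0)
      · exact absurd (h.trans h'.symm) hne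

end Cfsg.Agent.Transvec.Orth
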