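/-
Orthogonal decompositions into planes: components and the geometry of one plane.
-/
import Cfsg.Agent.Lib.Transvec.OrthWreathFour
import Cfsg.Agent.Lib.Transvec.OrthFrameBasic
set_option autoImplicit false
set_option linter.unusedSectionVars false

namespace Cfsg.Agent.Transvec.Planes

open scoped Matrix
open Matrix Cfsg.Agent.Transvec Cfsg.Agent.Transvec.Orth
open Cfsg.Agent.Transvec.OFr (R)

variable {ι : Type} [Fintype ι] [DecidableEq ι] {F : Type*} [Field F] [Fintype F] {Q : (ι → F) → F}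
variable {t : ℕ} {D : Fin t → Submodule F (ι → F)}

/-- No member has a non-zero singular vector. -/
def Minus (Q : (ι → F) → F) (D : Fin t → Submodule F (ι → F)) : Prop := ∀ i, ∀ x ∈ D i, Q x = 0 → x = 0

/-- Every member has a non-zero singular vector. -/
def Plus (Q : (ι → F) → F) (D : Fin t → Submodule F (ι → F)) : Prop := ∀ i, ∃ x ∈ D i, x ≠ 0 ∧ Q x = 0

/-- A decomposition into planes outside the excluded cases. -/
structure Pl (Q : (ι → F) → F) {t : ℕ} (D : Fin t → Submodule F (ι → F)) : Prop where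
  nd : Geo.IsNondegenerateQuadraticForm Q
  dec : Geo.IsOrthogonalMDecomposition Q 2 D
  hn : 7 ≤ Fintype.card ι
  ht : 5 ≤ t
  big : (Minus Q D ∧ Fintype.card F ≠ 3) ∨ (Plus Q D ∧ 7 ≤ Fintype.card F)

variable (hP : Pl Q D)
include hP

/-! ### Reflections -/

theorem R_spec {a : ι → F} (ha : Q a ≠ 0) : R Q a ∈ isometryGroup F Q ∧ IsRefl Q (R Q a) a := by
  classical
  rw [R, dif_pos (exists_refl hP.nd ha)]
  exact (exists_refl hP.nd ha).choose_spec

theorem R_apply {a : ι → F} (ha : Q a ≠ 0) (z : ι → F) : mv (R Q a) z = z - (pol Q z a / Q a) • a :=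
  (R_spec hP ha).2.2 z

theorem R_fix {a z : ι → F} (ha : Q a ≠ 0) (hz : pol Q z a = 0) : mv (R Q a) z = z := by
  rw [R_apply hP ha, hz, zero_div, zero_smul, sub_zero]

theorem R_sq {a : ι → F} (ha : Q a ≠ 0) : R Q a * R Q a = 1 := isRefl_sq hP.nd (R_spec hP ha).2

theorem R_inv {a : ι → F} (ha : Q a ≠ 0) : (R Q a)⁻¹ = R Q a := inv_eq_of_mul_eq_one_right (R_sq hP ha)

theorem R_RR {a : ι → F} (ha : Q a ≠ 0) (z : ι → F) : mv (R Q a) (mv (R Q a) z) = z := by
  rw [← mv_mul, R_sq hP ha, mv_one]

theorem R_conj {g : GL ι F} (hg : g ∈ isometryGroup F Q) {a : ι → F} (ha : Q a ≠ 0) :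
    g * R Q a * g⁻¹ = R Q (mv g a) :=
  isRefl_unique (isRefl_conj hP.nd hg (R_spec hP ha).2)
    (R_spec hP (by rw [mem_isometry.1 hg]; exact ha)).2

theorem R_smul {a : ι → F} (ha : Q a ≠ 0) {l : F} (hl : l ≠ 0) : R Q (l • a) = R Q a := by
  have h' : Q (l • a) ≠ 0 := by rw [q_smul hP.nd]; exact mul_ne_zero (pow_ne_zero 2 hl) ha
  refine ext_mv fun z => ?_
  rw [R_apply hP h', R_apply hP ha, q_smul hP.nd, pol_smul_right hP.nd, smul_smul]
  congr 2
  field_simp

theorem R_omega {a b : ι → F} (ha : Q a ≠ 0) (hab : Q a = Q b) : R Q a * R Q b ∈ Geo.omegaGL Q :=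
  refl_pair_mem hP.nd hP.hn (R_spec hP ha).1 (R_spec hP ha).2 (R_spec hP (hab ▸ ha)).2 hab

theorem R_stab {a : ι → F} {j : Fin t} (haj : a ∈ D j) (ha : Q a ≠ 0) :
    R Q a ∈ Geo.decompositionStabilizer D :=
  mem_decomp_of_maps hP.nd hP.dec fun i => ⟨i, fun _ hu => refl_block hP.nd hP.dec haj (R_spec hP ha).2 i hu⟩

/-! ### Components -/

/-- The component of x in the member with index j. -/
noncomputable def pr (hP : Pl Q D) (j : Fin t) (x : ι → F) : ι → F :=
  (exists_proj hP.nd (block_nondeg hP.dec j) x).choose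

theorem pr_mem (j : Fin t) (x : ι → F) : pr hP j x ∈ D j :=
  (exists_proj hP.nd (block_nondeg hP.dec j) x).choose_spec.1

theorem pr_orth (j : Fin t) (x : ι → F) : x - pr hP j x ∈ orth hP.nd (D j) :=
  (exists_proj hP.nd (block_nondeg hP.dec j) x).choose_spec.2

theorem pol_pr {j : Fin t} {w : ι → F} (hw : w ∈ D j) (x : ι → F) : pol Q w x = pol Q w (pr hP j x) :=
  proj_pol hP.nd hP.dec (pr_orth hP j x) hw

theorem pr_unique {j : Fin t} {x b : ι → F} (hb : b ∈ D j) (h : ∀ w ∈ D j, pol Q w x = pol Q w b) :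
    pr hP j x = b :=
  sub_eq_zero.1 (block_nondeg hP.dec j _ ((D j).sub_mem (pr_mem hP j x) hb) fun w hw => by
    rw [pol_sub_right hP.nd, ← pol_pr hP hw x, h w hw, sub_self])

theorem pr_self {j : Fin t} {x : ι → F} (hx : x ∈ D j) : pr hP j x = x := pr_unique hP hx fun _ _ => rfl

theorem pr_other {i j : Fin t} (h : i ≠ j) {x : ι → F} (hx : x ∈ D i) : pr hP j x = 0 :=
  pr_unique hP (Submodule.zero_mem _) fun w hw => by rw [block_orth hP.dec h.symm hw hx, pol_zero_right hP.nd]

theorem pr_add (j : Fin t) (x y : ι → F) : pr hP j (x + y) = pr hP j x + pr hP j y :=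
  pr_unique hP ((D j).add_mem (pr_mem hP j x) (pr_mem hP j y)) fun w hw => by
    rw [pol_add_right hP.nd, pol_add_right hP.nd, ← pol_pr hP hw, ← pol_pr hP hw]

theorem pr_smul (j : Fin t) (c : F) (x : ι → F) : pr hP j (c • x) = c • pr hP j x :=
  pr_unique hP ((D j).smul_mem c (pr_mem hP j x)) fun w hw => by
    rw [pol_smul_right hP.nd, pol_smul_right hP.nd, ← pol_pr hP hw]

theorem pr_sub (j : Fin t) (x y : ι → F) : pr hP j (x - y) = pr hP j x - pr hP j y := by
  rw [sub_eq_add_neg, ← neg_one_smul F y, pr_add hP, pr_smul hP, neg_one_smul, sub_eq_add_neg]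

theorem pr_zero (j : Fin t) : pr hP j 0 = 0 := pr_self hP (Submodule.zero_mem _)

theorem pr_eq_zero {j : Fin t} {x : ι → F} : pr hP j x = 0 ↔ ∀ w ∈ D j, pol Q w x = 0 :=
  ⟨fun h w hw => by rw [pol_pr hP hw, h, pol_zero_right hP.nd],
    fun h => pr_unique hP (Submodule.zero_mem _) fun w hw => by rw [h w hw, pol_zero_right hP.nd]⟩

theorem ext_pr {x y : ι → F} (h : ∀ j, pr hP j x = pr hP j y) : x = y :=
  sub_eq_zero.1 (eq_zero_of_orth_all hP.nd hP.dec fun j w hw => by
    rw [pol_sub_right hP.nd, pol_pr hP hw, pol_pr hP hw y, h, sub_self])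

theorem mem_iff_pr {j : Fin t} {x : ι → F} : x ∈ D j ↔ ∀ i, i ≠ j → pr hP i x = 0 :=
  ⟨fun h _ hij => pr_other hP hij.symm h, fun h => by
    have : x = pr hP j x := ext_pr hP fun i => by
      rcases eq_or_ne i j with rfl | hij
      · rw [pr_self hP (pr_mem hP i x)]
      · rw [h i hij, pr_other hP hij.symm (pr_mem hP j x)]
    rw [this]; exact pr_mem hP j x⟩

theorem pr_eq_zero_of_mem {W : Submodule F (ι → F)} {j : Fin t} (h : ∀ w ∈ W, ∀ d ∈ D j, pol Q d w = 0)
    {x : ι → F} (hx : x ∈ W) : pr hP j x = 0 := (pr_eq_zero hP).2 fun w hw => h x hx w hw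

/-! ### One plane -/

theorem span_two {j : Fin t} {a b : ι → F}
    (ha : a ∈ D j) (ha0 : a ≠ 0) (hb : b ∈ D j) (hab : b ∉ Submodule.span F {a}) {x : ι → F} (hx : x ∈ D j) :
    ∃ r s : F, x = r • a + s • b := by
  classical
  have hli : LinearIndependent F ![a, b] := by
    rw [LinearIndependent.pair_iff' ha0]
    intro c hc
    exact hab (Submodule.mem_span_singleton.2 ⟨c, hc⟩)
  have hle : Submodule.span F (Set.range ![a, b]) ≤ D j := Submodule.span_le.2 (by
    rintro z ⟨i, rfl⟩; fin_cases i <;> assumption)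
  have heq := Submodule.eq_of_le_of_finrank_le hle (by
    rw [finrank_span_eq_card hli, hP.dec.decomp.decomp.finrank_eq, Fintype.card_fin])
  rw [← heq, Submodule.mem_span_range_iff_exists_fun] at hx
  obtain ⟨c, hc⟩ := hx
  exact ⟨c 0, c 1, by rw [← hc, Fin.sum_univ_two]; simp⟩

theorem ext_two {j : Fin t} {a b : ι → F} (ha : a ∈ D j) (ha0 : a ≠ 0) (hb : b ∈ D j)
    (hab : b ∉ Submodule.span F {a}) {x : ι → F} (hxa : pol Q a x = 0) (hxb : pol Q b x = 0) :
    ∀ w ∈ D j, pol Q w x = 0 := fun w hw => by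
  obtain ⟨r, s, rfl⟩ := span_two hP ha ha0 hb hab hw
  rw [pol_add_left hP.nd, pol_smul_left hP.nd, pol_smul_left hP.nd, hxa, hxb]; ring

/-- The vectors of a plane orthogonal to a non-zero vector of it form a line. -/
theorem perp_line {j : Fin t} {a x y : ι → F} (ha : a ∈ D j) (ha0 : a ≠ 0) (hx : x ∈ D j) (hxa : pol Q a x = 0)
    (hy : y ∈ D j) (hya : pol Q a y = 0) (hy0 : y ≠ 0) : x ∈ Submodule.span F {y} := by
  by_contra hxy
  refine ha0 (block_nondeg hP.dec j a ha (ext_two hP hy hy0 hx hxy ?_ ?_))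
  · rw [pol_comm, hya]
  · rw [pol_comm, hxa]

/-- The perpendicular of an anisotropic vector of a plane is anisotropic. -/
theorem exists_perp {j : Fin t} {a : ι → F} (ha : a ∈ D j) (haa : Q a ≠ 0) :
    ∃ u ∈ D j, pol Q a u = 0 ∧ Q u ≠ 0 := by
  by_cases h2 : (2 : F) = 0
  · exact ⟨a, ha, by rw [pol_self hP.nd, h2, zero_mul], haa⟩
  · obtain ⟨hn', hd⟩ := nondeg_perp hP.nd h2 (block_nondeg hP.dec j) ha haa
    obtain ⟨u, hu, huu⟩ := exists_anisotropic hP.nd hn' fun h => by
      rw [h, finrank_bot, hP.dec.decomp.decomp.finrank_eq] at hd; omega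
    exact ⟨u, hu.1, hu.2 a (Submodule.mem_span_singleton_self a), huu⟩

/-- Two vectors of equal value with equal product against an anisotropic vector. -/
theorem fibre {j : Fin t} {s u c c' : ι → F} (hs : s ∈ D j) (hss : Q s ≠ 0) (hu : u ∈ D j) (hsu : pol Q s u = 0)
    (huu : Q u ≠ 0) (hc : c ∈ D j) (hc' : c' ∈ D j) (hq : Q c' = Q c) (hp : pol Q c' s = pol Q c s) :
    c' = c ∨ c' = mv (R Q u) c := by
  have hu0 : u ≠ 0 := fun h => huu (by rw [h, q_zero hP.nd])
  obtain ⟨l, hl⟩ := Submodule.mem_span_singleton.1 (perp_line hP hs (fun h => hss (by rw [h, q_zero hP.nd]))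
    ((D j).sub_mem hc' hc) (by rw [pol_sub_right hP.nd, pol_comm s c', pol_comm s c, hp, sub_self]) hu hsu hu0)
  have hc'' : c' = c + l • u := by rw [hl]; abel
  rw [hc'', q_add hP.nd, q_smul hP.nd, pol_smul_right hP.nd] at hq
  rcases mul_eq_zero.1 (show l * (l * Q u + pol Q c u) = 0 by linear_combination hq) with h | h
  · exact Or.inl (by rw [hc'', h, zero_smul, add_zero])
  · refine Or.inr ?_
    rw [hc'', R_apply hP huu, show l = -(pol Q c u / Q u) by field_simp; linear_combination h]
    module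

/-- The difference from an anisotropic vector to another one of its value is anisotropic. -/
theorem diff_ne {j : Fin t} {a c : ι → F} (ha : a ∈ D j) (haa : Q a ≠ 0) (hc : c ∈ D j) (hq : Q c = Q a)
    (hne : c ≠ a) : Q (c - a) ≠ 0 := fun h => by
  obtain ⟨u, hu, hau, huu⟩ := exists_perp hP ha haa
  rw [q_sub hP.nd, hq] at h
  rcases fibre hP ha haa hu hau huu ha hc hq (by rw [pol_self hP.nd]; linear_combination -h) with h' | h'
  · exact hne h'
  · exact hne (by rw [h', R_fix hP huu hau])

open scoped Classical in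
/-- The vectors of one value in one member. -/
noncomputable def circ (Q : (ι → F) → F) (D : Fin t → Submodule F (ι → F)) (j : Fin t) (α : F) : Finset (ι → F) :=
  Finset.univ.filter fun x => x ∈ D j ∧ Q x = α

theorem mem_circ {j : Fin t} {α : F} {x : ι → F} : x ∈ circ Q D j α ↔ x ∈ D j ∧ Q x = α := by
  classical
  simp [circ]

theorem card_sub : 2 ≤ Fintype.card F := Fintype.one_lt_card

theorem exists_value {j : Fin t} (a : F) : ∃ c ∈ D j, Q c = a := by
  have hd := hP.dec.decomp.decomp.finrank_eq j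
  by_cases h2 : (2 : F) = 0
  · obtain ⟨c, hc, hcc⟩ := exists_anisotropic hP.nd (block_nondeg hP.dec j) fun h => by
      rw [h, finrank_bot] at hd; omega
    obtain ⟨r, hr⟩ := two_cases h2 (a / Q c)
    exact ⟨r • c, (D j).smul_mem r hc, by rw [q_smul hP.nd, hr, div_mul_cancel₀ _ hcc]⟩
  · exact exists_value_plane hP.nd h2 (block_nondeg hP.dec j) hd.ge a

theorem card_circ_plus (hp : Plus Q D) (j : Fin t) {α : F} (hα : α ≠ 0) :
    Fintype.card F ≤ (circ Q D j α).card + 1 := by
  classical
  obtain ⟨e, he, he0, hee⟩ := hp j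
  obtain ⟨f, hf, hff, hef⟩ := exists_partner hP.nd (block_nondeg hP.dec j) he he0 hee
  have hsub : ((Finset.univ.erase (0 : F)).image fun r => r • e + (α / r) • f) ⊆ circ Q D j α := by
    intro x hx
    obtain ⟨r, hr, rfl⟩ := Finset.mem_image.1 hx
    refine (mem_circ hP).2 ⟨(D j).add_mem ((D j).smul_mem _ he) ((D j).smul_mem _ hf), ?_⟩
    rw [q_add hP.nd, q_smul hP.nd, q_smul hP.nd, pol_smul_left hP.nd, pol_smul_right hP.nd, hee, hff, hef]
    field_simp [Finset.ne_of_mem_erase hr]
    ring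
  have hinj : Set.InjOn (fun r => r • e + (α / r) • f) ↑(Finset.univ.erase (0 : F)) := by
    intro r _ r' _ h
    have := congrArg (fun z => pol Q z f) h
    simpa [pol_add_left hP.nd, pol_smul_left hP.nd, pol_self hP.nd, hff, hef] using this
  have := Finset.card_le_card hsub
  rw [Finset.card_image_of_injOn hinj, Finset.card_erase_of_mem (Finset.mem_univ _), Finset.card_univ] at this
  omega

theorem card_circ_minus (hm : Minus Q D) (j : Fin t) {α : F} (hα : α ≠ 0) :
    Fintype.card F + 1 ≤ (circ Q D j α).card := by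
  classical
  obtain ⟨a, ha, haa⟩ := exists_value hP (j := j) α
  have ha0 : a ≠ 0 := fun h => hα (by rw [← haa, h, q_zero hP.nd])
  obtain ⟨d, hd, hda⟩ : ∃ d ∈ D j, d ∉ Submodule.span F {a} := by
    by_contra h
    push Not at h
    have h1 := Submodule.finrank_mono (s := D j) (t := Submodule.span F {a}) h
    rw [hP.dec.decomp.decomp.finrank_eq, finrank_span_singleton ha0] at h1
    omega
  let w : Option F → ι → F := fun m => m.elim a fun r => d + r • a
  have hw : ∀ m, w m ∈ D j ∧ Q (w m) ≠ 0 := by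
    rintro (_ | r)
    · exact ⟨ha, haa ▸ hα⟩
    · refine ⟨(D j).add_mem hd ((D j).smul_mem _ ha), fun h => hda ?_⟩
      have h1 := hm j _ ((D j).add_mem hd ((D j).smul_mem _ ha)) h
      rw [eq_neg_of_add_eq_zero_left h1]
      exact Submodule.neg_mem _ (Submodule.smul_mem _ _ (Submodule.mem_span_singleton_self a))
  have hinj : Function.Injective fun m => mv (R Q (w m)) a := by
    intro m m' h
    simp only [R_apply hP (hw m).2, R_apply hP (hw m').2] at h
    have h' := sub_right_injective h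
    have hspan : w m' ∈ Submodule.span F {w m} := by
      by_cases hp : pol Q a (w m') = 0
      · rw [hp, zero_div, zero_smul, smul_eq_zero] at h'
        have hpm : pol Q a (w m) = 0 := by
          rcases h' with h' | h'
          · exact (div_eq_zero_iff.1 h').resolve_right (hw m).2
          · rw [h', pol_zero_right hP.nd]
        exact perp_line hP ha ha0 (hw m').1 hp (hw m).1 hpm fun h => (hw m).2 (by rw [h, q_zero hP.nd])
      · refine Submodule.mem_span_singleton.2 ⟨(pol Q a (w m') / Q (w m'))⁻¹ * (pol Q a (w m) / Q (w m)), ?_⟩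
        rw [mul_smul, h', smul_smul, inv_mul_cancel₀ (div_ne_zero hp (hw m').2), one_smul]
    obtain ⟨s, hs⟩ := Submodule.mem_span_singleton.1 hspan
    rcases m with _ | r <;> rcases m' with _ | r' <;> simp only [w, Option.elim] at hs
    · rfl
    · refine absurd (Submodule.mem_span_singleton.2 ⟨s - r', ?_⟩) hda
      rw [sub_smul, hs]; abel
    · rcases eq_or_ne s 0 with rfl | hs0
      · rw [zero_smul] at hs; exact absurd hs.symm ha0
      refine absurd (Submodule.mem_span_singleton.2 ⟨s⁻¹ - r, ?_⟩) hda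
      have : d + r • a = s⁻¹ • a := by
        conv_rhs => arg 2; rw [← hs]
        rw [smul_smul, inv_mul_cancel₀ hs0, one_smul]
      rw [sub_smul, ← this]; abel
    · have hs1 : s = 1 := by
        by_contra h1
        refine hda (Submodule.mem_span_singleton.2 ⟨(s - 1)⁻¹ * (r' - s * r), ?_⟩)
        rw [mul_smul, inv_smul_eq_iff₀ (sub_ne_zero.2 h1)]
        linear_combination (norm := module) -hs
      rw [hs1, one_smul] at hs
      exact congrArg some (smul_left_injective F ha0 (add_left_cancel hs))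
  have := Finset.card_le_card (s := Finset.univ.image fun m => mv (R Q (w m)) a) (t := circ Q D j α) (by
    intro x hx
    obtain ⟨m, -, rfl⟩ := Finset.mem_image.1 hx
    exact (mem_circ hP).2 ⟨refl_block hP.nd hP.dec (hw m).1 (R_spec hP (hw m).2).2 j ha,
      by rw [mem_isometry.1 (R_spec hP (hw m).2).1, haa]⟩)
  rw [Finset.card_image_of_injective _ hinj, Finset.card_univ, Fintype.card_option] at this
  exact this

theorem card_circ (j : Fin t) {α : F} (hα : α ≠ 0) :
    (2 : F) = 0 ∧ 3 ≤ (circ Q D j α).card ∨ 5 ≤ (circ Q D j α).card := by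
  rcases hP.big with ⟨hm, hq⟩ | ⟨hp, hq⟩
  · have h1 := card_circ_minus hP hm j hα
    rcases Nat.lt_or_ge (Fintype.card F) 4 with h | h
    · have h2 : Fintype.card F = 2 := by have := Fintype.one_lt_card (α := F); omega
      refine Or.inl ⟨?_, by omega⟩
      exact_mod_cast h2 ▸ Nat.cast_card_eq_zero F
    · exact Or.inr (by omega)
  · have := card_circ_plus hP hp j hα
    exact Or.inr (by omega)

/-- A vector of given value off two given lines. -/
theorem exists_third (j : Fin t) {α : F} (hα : α ≠ 0) (p r : ι → F) :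
    ∃ c ∈ D j, Q c = α ∧ c ∉ Submodule.span F {p} ∧ c ∉ Submodule.span F {r} := by
  classical
  have hline : ∀ p : ι → F, ((circ Q D j α).filter fun c => c ∈ Submodule.span F {p}).card ≤
      if (2 : F) = 0 then 1 else 2 := by
    intro p
    rcases ((circ Q D j α).filter fun c => c ∈ Submodule.span F {p}).eq_empty_or_nonempty with h | ⟨c, hc⟩
    · rw [h]; simp
    obtain ⟨hc', hcp⟩ := Finset.mem_filter.1 hc
    obtain ⟨l, hl⟩ := Submodule.mem_span_singleton.1 hcp
    have hcc := ((mem_circ hP).1 hc').2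
    have hl0 : l ≠ 0 := fun h => hα (by rw [← hcc, ← hl, h, zero_smul, q_zero hP.nd])
    have hsub : ((circ Q D j α).filter fun c => c ∈ Submodule.span F {p}) ⊆ {c, -c} := by
      intro d hd
      obtain ⟨hd', hdp⟩ := Finset.mem_filter.1 hd
      obtain ⟨m, hm⟩ := Submodule.mem_span_singleton.1 hdp
      have hdc : d = (m / l) • c := by rw [← hl, ← hm, smul_smul, div_mul_cancel₀ _ hl0]
      have hm2 : (m / l) ^ 2 = 1 := by
        have := ((mem_circ hP).1 hd').2
        rw [hdc, q_smul hP.nd, hcc] at this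
        exact mul_right_cancel₀ hα (by rw [this, one_mul])
      rcases sq_eq_one_iff.1 hm2 with h | h <;> rw [hdc, h] <;> simp
    refine (Finset.card_le_card hsub).trans ?_
    split_ifs with h2
    · rw [show -c = c by
        rw [neg_eq_iff_add_eq_zero, ← two_smul F c, h2, zero_smul]]
      simp
    · exact Finset.card_le_two
  by_contra hc
  push Not at hc
  have hsub : circ Q D j α ⊆ ((circ Q D j α).filter fun c => c ∈ Submodule.span F {p}) ∪
      ((circ Q D j α).filter fun c => c ∈ Submodule.span F {r}) := by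
    intro c hcm
    obtain ⟨h1, h2⟩ := (mem_circ hP).1 hcm
    by_cases hp : c ∈ Submodule.span F {p}
    · exact Finset.mem_union_left _ (Finset.mem_filter.2 ⟨hcm, hp⟩)
    · exact Finset.mem_union_right _ (Finset.mem_filter.2 ⟨hcm, hc c h1 h2 hp⟩)
  have h := (Finset.card_le_card hsub).trans (Finset.card_union_le _ _)
  have h1 := hline p
  have h3 := hline r
  rcases card_circ hP j hα with ⟨h2, h5⟩ | h5
  · rw [if_pos h2] at h1 h3; omega
  · split_ifs at h1 h3 <;> omega

/-- A vector of the same value, independent and not orthogonal. -/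
theorem exists_turn {j : Fin t} {a : ι → F} (ha : a ∈ D j) (haa : Q a ≠ 0) :
    ∃ c ∈ D j, Q c = Q a ∧ c ∉ Submodule.span F {a} ∧ pol Q a c ≠ 0 := by
  obtain ⟨u, hu, hau, huu⟩ := exists_perp hP ha haa
  obtain ⟨c, hc, hcq, hca, hcu⟩ := exists_third hP j haa a u
  exact ⟨c, hc, hcq, hca, fun h => hcu (perp_line hP ha (fun h => haa (by rw [h, q_zero hP.nd])) hc h hu hau
    fun h => huu (by rw [h, q_zero hP.nd]))⟩

open scoped Classical in
/-- The values of the differences to a fixed vector of the same value. -/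
noncomputable def vals (Q : (ι → F) → F) (D : Fin t → Submodule F (ι → F)) (j : Fin t) (a : ι → F) : Finset F :=
  (circ Q D j (Q a)).image fun c => Q (c - a)

theorem mem_vals {j : Fin t} {a : ι → F} {A : F} :
    A ∈ vals Q D j a ↔ ∃ c ∈ D j, Q c = Q a ∧ Q (c - a) = A := by
  classical
  simp [vals, mem_circ hP, and_assoc]

open scoped Classical in
theorem card_vals {j : Fin t} {a : ι → F} (ha : a ∈ D j) (haa : Q a ≠ 0) :
    (circ Q D j (Q a)).card + (if (2 : F) = 0 then 1 else 2) ≤ 2 * (vals Q D j a).card := by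
  classical
  obtain ⟨u, hu, hau, huu⟩ := exists_perp hP ha haa
  set C := circ Q D j (Q a) with hC
  set Fx : Finset (ι → F) := {a, -a} with hFx
  set f : (ι → F) → F := fun c => Q (c - a) with hf
  have hfx : ∀ x ∈ Fx, x ∈ C ∧ mv (R Q u) x = x := by
    intro x hx
    simp only [hFx, Finset.mem_insert, Finset.mem_singleton] at hx
    rcases hx with rfl | rfl
    · exact ⟨(mem_circ hP).2 ⟨ha, rfl⟩, R_fix hP huu hau⟩
    · exact ⟨(mem_circ hP).2 ⟨(D j).neg_mem ha, q_neg hP.nd a⟩,
        R_fix hP huu (by rw [pol_neg_left hP.nd, hau, neg_zero])⟩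
  have hfib : ∀ c ∈ C, ∀ d ∈ C, f d = f c → d = c ∨ d = mv (R Q u) c := by
    intro c hc d hd h
    obtain ⟨h1, h2⟩ := (mem_circ hP).1 hc
    obtain ⟨h3, h4⟩ := (mem_circ hP).1 hd
    refine fibre hP ha haa hu hau huu h1 h3 (h4.trans h2.symm) ?_
    simp only [hf, q_sub hP.nd, h2, h4] at h
    linear_combination -h
  have hdis : Disjoint ((C \ Fx).image f) (Fx.image f) := by
    rw [Finset.disjoint_left]
    intro A h1 h2
    obtain ⟨c, hc, rfl⟩ := Finset.mem_image.1 h1
    obtain ⟨x, hx, hxc⟩ := Finset.mem_image.1 h2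
    obtain ⟨hcC, hcF⟩ := Finset.mem_sdiff.1 hc
    rcases hfib x (hfx x hx).1 c hcC hxc.symm with h | h
    · exact hcF (h ▸ hx)
    · rw [(hfx x hx).2] at h; exact hcF (h ▸ hx)
  have h1 : (C \ Fx).card ≤ 2 * ((C \ Fx).image f).card := by
    refine Finset.card_le_mul_card_image _ 2 fun A hA => ?_
    obtain ⟨c, hc, rfl⟩ := Finset.mem_image.1 hA
    refine (Finset.card_le_card (t := {c, mv (R Q u) c}) fun d hd => ?_).trans Finset.card_le_two
    obtain ⟨hd1, hd2⟩ := Finset.mem_filter.1 hd
    rcases hfib c (Finset.mem_sdiff.1 hc).1 d (Finset.mem_sdiff.1 hd1).1 hd2 with h | h <;> simp [h]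
  have hinj : Set.InjOn f ↑Fx := by
    intro x hx y hy h
    rcases hfib y (hfx y hy).1 x (hfx x hx).1 h with h' | h'
    · exact h'
    · rwa [(hfx y hy).2] at h'
  have h3 : ((C \ Fx).image f ∪ Fx.image f).card ≤ (vals Q D j a).card := Finset.card_le_card (by
    rw [← Finset.image_union, Finset.sdiff_union_of_subset fun x hx => (hfx x hx).1]
    exact subset_rfl)
  rw [Finset.card_union_of_disjoint hdis, Finset.card_image_of_injOn hinj] at h3
  have h4 : C.card ≤ (C \ Fx).card + Fx.card := by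
    rw [← Finset.card_union_of_disjoint Finset.sdiff_disjoint]
    exact Finset.card_le_card (by rw [Finset.sdiff_union_self_eq_union]; exact Finset.subset_union_left)
  have h5 : Fx.card = if (2 : F) = 0 then 1 else 2 := by
    split_ifs with h2
    · rw [hFx, show -a = a by rw [neg_eq_iff_add_eq_zero, ← two_smul F a, h2, zero_smul]]; simp
    · rw [hFx, Finset.card_pair]
      intro h
      have : (2 : F) • a = 0 := by rw [two_smul]; exact eq_neg_iff_add_eq_zero.1 h
      exact haa (by rw [(smul_eq_zero.1 this).resolve_left h2, q_zero hP.nd])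
  omega

/-- Two sets of field elements of total size above the field size cover every sum. -/
theorem cover {A B : Finset F} (h : Fintype.card F < A.card + B.card) (T : F) : ∃ a ∈ A, ∃ b ∈ B, a + b = T := by
  classical
  have hB : (B.image fun b => T - b).card = B.card :=
    Finset.card_image_of_injective _ fun x y h => by simpa using h
  obtain ⟨a, ha⟩ : (A ∩ B.image fun b => T - b).Nonempty := by
    by_contra hc
    rw [Finset.not_nonempty_iff_eq_empty, ← Finset.disjoint_iff_inter_eq_empty] at hc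
    have h1 := Finset.card_union_of_disjoint hc
    have h3 := (A ∪ B.image fun b => T - b).card_le_univ
    omega
  obtain ⟨h1, h2⟩ := Finset.mem_inter.1 ha
  obtain ⟨b, hb, hb'⟩ := Finset.mem_image.1 h2
  exact ⟨a, h1, b, hb, by rw [← hb']; ring⟩

/-- An isometry moving a vector of a plane to another of its value, fixing the other members. -/
theorem exists_carry {j : Fin t} {a c : ι → F} (ha : a ∈ D j) (haa : Q a ≠ 0) (hc : c ∈ D j) (hq : Q c = Q a) :
    ∃ h ∈ Geo.decompositionStabilizer D ⊓ isometryGroup F Q,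
      mv h a = c ∧ ∀ z, pr hP j z = 0 → mv h z = z := by
  rcases eq_or_ne c a with rfl | hne
  · exact ⟨1, one_mem _, mv_one _, fun z _ => mv_one z⟩
  have hd := diff_ne hP ha haa hc hq hne
  have hd' : Q (a - c) ≠ 0 := by rwa [← q_neg hP.nd, neg_sub]
  exact ⟨R Q (a - c), ⟨R_stab hP ((D j).sub_mem ha hc) hd', (R_spec hP hd').1⟩,
    isRefl_move hP.nd hq.symm (R_spec hP hd').2, fun z hz => R_fix hP hd'
      ((pol_comm _ _).trans ((pr_eq_zero hP).1 hz _ ((D j).sub_mem ha hc)))⟩

end Cfsg.Agent.Transvec.Planes
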