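/-
Elements of small displacement in the stabiliser of an orthogonal decomposition into planes.
-/
import Cfsg.Agent.Lib.Transvec.OrthPlanesBasic
set_option autoImplicit false
set_option linter.unusedSectionVars false

namespace Cfsg.Agent.Transvec.Planes

open scoped Matrix
open Matrix Cfsg.Agent.Transvec Cfsg.Agent.Transvec.Orth
open Cfsg.Agent.Transvec.OFr (R)

variable {ι : Type} [Fintype ι] [DecidableEq ι] {F : Type*} [Field F] [Fintype F] {Q : (ι → F) → F}
variable {t : ℕ} {D : Fin t → Submodule F (ι → F)} (hP : Pl Q D)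
include hP

theorem stab_maps {g : GL ι F} (hg : g ∈ Geo.decompositionStabilizer D) :
    ∃ σ : Equiv.Perm (Fin t), ∀ i, ∀ u ∈ D i, mv g u ∈ D (σ i) := by
  obtain ⟨σ, hσ⟩ := hg
  exact ⟨σ, fun i u hu => (hσ i).le ⟨u, hu, by simp [mv]⟩⟩

omit hP in
theorem mem_range {g : GL ι F} (z : ι → F) : mv g z - z ∈ LinearMap.range (moveLin g) :=
  ⟨z, moveLin_apply g z⟩

theorem fix_of_pr {g : GL ι F} (hg : g ∈ isometryGroup F Q) {o : Fin t} (h : ∀ u ∈ D o, mv g u = u) {x : ι → F}
    (hx : x ∈ LinearMap.range (moveLin g)) : pr hP o x = 0 := (pr_eq_zero hP).2 fun w hw => by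
  obtain ⟨z, rfl⟩ := hx
  rw [moveLin_apply, pol_sub_right hP.nd]
  nth_rw 1 [← h w hw]
  rw [pol_mv hP.nd hg, sub_self]

theorem pr_mv {g : GL ι F} (hg : g ∈ isometryGroup F Q) {i : Fin t} (h : ∀ u ∈ D i, mv g u ∈ D i) (x : ι → F) :
    pr hP i (mv g x) = mv g (pr hP i x) :=
  pr_unique hP (h _ (pr_mem hP i x)) fun w hw => by
    obtain ⟨z, hz, rfl⟩ : ∃ z ∈ D i, mv g z = w := by
      have hinj : Function.Injective (mvLin g) := fun x y h => mv_inj g (by simpa using h)
      have heq : (D i).map (mvLin g) = D i := by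
        refine Submodule.eq_of_le_of_finrank_eq ?_ ?_
        · rintro _ ⟨u, hu, rfl⟩; simpa using h u hu
        · rw [← LinearEquiv.finrank_eq (Submodule.equivMapOfInjective (mvLin g) hinj (D i))]
      obtain ⟨z, hz, hz'⟩ := heq.ge hw
      exact ⟨z, hz, by simpa using hz'⟩
    rw [pol_mv hP.nd hg, pol_mv hP.nd hg, pol_pr hP hz]

/-- An isometry moving a plane along one line acts on it as a reflection. -/
theorem line_move {g : GL ι F} (hg : g ∈ isometryGroup F Q) {j : Fin t} {d : ι → F} (hd : d ∈ D j) (hd0 : d ≠ 0)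
    (hline : ∀ u ∈ D j, mv g u - u ∈ Submodule.span F {d}) (hmove : ∃ u ∈ D j, mv g u ≠ u) :
    Q d ≠ 0 ∧ ∀ u ∈ D j, mv g u = mv (R Q d) u := by
  obtain ⟨u₀, hu₀, hne⟩ := hmove
  have hφ : ∀ u ∈ D j, ∃ c : F, mv g u = u + c • d ∧ c * (pol Q u d + c * Q d) = 0 := by
    intro u hu
    obtain ⟨c, hc⟩ := Submodule.mem_span_singleton.1 (hline u hu)
    have he : mv g u = u + c • d := by rw [hc]; abel
    refine ⟨c, he, ?_⟩
    have := mem_isometry.1 hg u
    rw [he, q_add hP.nd, q_smul hP.nd, pol_smul_right hP.nd] at this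
    linear_combination this
  have hdd : Q d ≠ 0 := by
    intro hdd
    obtain ⟨c, hc, hc'⟩ := hφ u₀ hu₀
    have hc0 : c ≠ 0 := fun h => hne (by rw [hc, h, zero_smul, add_zero])
    have h0 : pol Q u₀ d = 0 := by
      have := (mul_eq_zero.1 hc').resolve_left hc0
      rwa [hdd, mul_zero, add_zero] at this
    obtain ⟨v, hv, hvd⟩ : ∃ v ∈ D j, pol Q v d ≠ 0 := by
      by_contra hh
      push Not at hh
      exact hd0 (block_nondeg hP.dec j d hd hh)
    obtain ⟨e, he, he'⟩ := hφ v hv
    obtain ⟨f, hf, hf'⟩ := hφ (u₀ + v) ((D j).add_mem hu₀ hv)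
    have he0 : e = 0 := by
      rw [hdd, mul_zero, add_zero, mul_eq_zero, or_iff_left hvd] at he'; exact he'
    have hf0 : f = 0 := by
      rw [hdd, mul_zero, add_zero, pol_add_left hP.nd, h0, zero_add, mul_eq_zero, or_iff_left hvd] at hf'
      exact hf'
    rw [mv_add, hc, he, he0, hf0, zero_smul, add_zero, add_zero] at hf
    have h5 : c • d = 0 := by linear_combination (norm := module) hf
    exact hc0 ((smul_eq_zero.1 h5).resolve_right hd0)
  refine ⟨hdd, fun u hu => ?_⟩
  obtain ⟨c₀, hc₀, hc₀'⟩ := hφ u₀ hu₀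
  have hc0 : c₀ ≠ 0 := fun h => hne (by rw [hc₀, h, zero_smul, add_zero])
  have hp0 : pol Q u₀ d = -(c₀ * Q d) := by linear_combination (mul_eq_zero.1 hc₀').resolve_left hc0
  obtain ⟨c, hc, -⟩ := hφ u hu
  have hiso := pol_mv hP.nd hg u u₀
  rw [hc, hc₀, pol_add_left hP.nd, pol_add_right hP.nd, pol_add_right hP.nd, pol_smul_left hP.nd,
    pol_smul_left hP.nd, pol_smul_right hP.nd, pol_smul_right hP.nd, pol_self hP.nd, pol_comm d u₀, hp0] at hiso
  have hcc : c * Q d + pol Q u d = 0 :=
    (mul_eq_zero.1 (show c₀ * (c * Q d + pol Q u d) = 0 by linear_combination hiso)).resolve_left hc0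
  rw [hc, R_apply hP hdd, show c = -(pol Q u d / Q d) by field_simp; linear_combination hcc]
  module

/-- The displacement space of an element of small displacement of order above two is a member. -/
theorem range_block {x : GL ι F} (hxI : x ∈ isometryGroup F Q) (hxS : x ∈ Geo.decompositionStabilizer D)
    (hx2 : x * x ≠ 1) (hr : Module.finrank F ↥(LinearMap.range (moveLin x)) ≤ 2) :
    ∃ l, LinearMap.range (moveLin x) = D l := by
  classical
  obtain ⟨σ, hσ⟩ := stab_maps hP hxS
  set P := LinearMap.range (moveLin x) with hPdef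
  by_cases hperm : ∃ i, σ i ≠ i
  · obtain ⟨i, hi⟩ := hperm
    exfalso
    set j := σ i
    have hinj : Function.Injective ((moveLin x).comp (D i).subtype) := by
      rw [← LinearMap.ker_eq_bot, Submodule.eq_bot_iff]
      intro u hu
      have h0 : mv x (u : ι → F) = u := by
        have := LinearMap.mem_ker.1 hu
        rwa [LinearMap.comp_apply, moveLin_apply, sub_eq_zero] at this
      refine Subtype.ext ?_
      have h1 := hσ i u u.2
      rw [h0] at h1
      rw [← pr_self hP u.2, Submodule.coe_zero]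
      exact pr_other hP hi h1
    have hP2 : P ≤ LinearMap.range ((moveLin x).comp (D i).subtype) := by
      refine (Submodule.eq_of_le_of_finrank_le (LinearMap.range_comp_le_range _ _) ?_).ge
      rw [LinearMap.finrank_range_of_inj hinj, hP.dec.decomp.decomp.finrank_eq]
      exact hr
    have rep : ∀ z, ∃ u ∈ D i, mv x z - z = mv x u - u := fun z => by
      obtain ⟨u, hu⟩ := hP2 (mem_range z)
      exact ⟨u, u.2, by rw [← hu, LinearMap.comp_apply, moveLin_apply, Submodule.subtype_apply]⟩
    have hji : σ j ≠ j := fun h => hi (σ.injective h)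
    have two : ∀ w ∈ D j, ∃ u ∈ D i, mv x u = -w ∧ mv x w = -u := by
      intro w hw
      obtain ⟨u, hu, he⟩ := rep w
      have e1 := congrArg (pr hP j) he
      rw [pr_sub hP, pr_sub hP, pr_self hP hw, pr_other hP hji (hσ j w hw), pr_self hP (hσ i u hu),
        pr_other hP (Ne.symm hi) hu, zero_sub, sub_zero] at e1
      refine ⟨u, hu, e1.symm, ?_⟩
      have h2 : mv x w = mv x u - u + w := by rw [← he]; abel
      rw [h2, ← e1]; abel
    have hsq : ∀ z, mv x (mv x z) = z := by
      have hi2 : ∀ u ∈ D i, mv x (mv x u) = u := fun u hu => by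
        obtain ⟨u', hu', h1, h2⟩ := two (mv x u) (hσ i u hu)
        have : u = -u' := mv_inj x (by rw [mv_neg, h1, neg_neg])
        rw [h2, this]
      refine fun z => ext_pr hP fun m => ?_
      obtain ⟨u, hu, he⟩ := rep z
      have h2 : mv x (mv x z) = mv x (mv x u) - mv x u + mv x z := by
        rw [← mv_sub, ← he, ← mv_add]; congr 1; abel
      rw [hi2 u hu, show mv x z = mv x u - u + z by rw [← he]; abel] at h2
      rw [show mv x (mv x z) = z by
        conv_lhs => rw [show mv x z = mv x u - u + z by rw [← he]; abel, mv_add, mv_sub, hi2 u hu,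
          show mv x z = mv x u - u + z by rw [← he]; abel]
        abel]
    exact hx2 (ext_mv fun z => by rw [mv_mul, hsq, mv_one])
  push Not at hperm
  have hfix : ∀ i, ∀ u ∈ D i, mv x u ∈ D i := fun i u hu => by
    have := hσ i u hu; rwa [hperm i] at this
  have hpr : ∀ m z, pr hP m (mv x z - z) = mv x (pr hP m z) - pr hP m z := fun m z => by
    rw [pr_sub hP, pr_mv hP hxI (hfix m)]
  obtain ⟨l, u, hu, hune⟩ : ∃ l, ∃ u ∈ D l, mv x u ≠ u := by
    by_contra h
    push Not at h
    refine hx2 (ext_mv fun z => ?_)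
    have : mv x z = z := ext_pr hP fun m => by rw [pr_mv hP hxI (hfix m), h m _ (pr_mem hP m z)]
    rw [mv_mul, this, this, mv_one]
  have hmem : ∀ i, ∀ u ∈ D i, mv x u - u ∈ P ⊓ D i := fun i u hu =>
    ⟨mem_range u, (D i).sub_mem (hfix i u hu) hu⟩
  by_cases htwo : ∀ u' ∈ D l, mv x u' - u' ∈ Submodule.span F {mv x u - u}
  · exfalso
    have hd0 : mv x u - u ≠ 0 := sub_ne_zero.2 hune
    -- every member is moved along at most one line
    have hone : ∀ i, ∀ v ∈ D i, ∀ v' ∈ D i, mv x v ≠ v → mv x v' - v' ∈ Submodule.span F {mv x v - v} := by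
      intro i v hv v' hv' hv0
      rcases eq_or_ne i l with rfl | hil
      · obtain ⟨c, hc⟩ := Submodule.mem_span_singleton.1 (htwo v hv)
        obtain ⟨c', hc'⟩ := Submodule.mem_span_singleton.1 (htwo v' hv')
        have hc0 : c ≠ 0 := fun h => hv0 (by rw [h, zero_smul] at hc; exact sub_eq_zero.1 hc.symm)
        exact Submodule.mem_span_singleton.2 ⟨c' / c, by rw [← hc, ← hc', smul_smul, div_mul_cancel₀ _ hc0]⟩
      by_contra hc
      have hli : LinearIndependent F ![mv x u - u, mv x v - v, mv x v' - v'] := by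
        rw [Fintype.linearIndependent_iff]
        intro g hg
        simp [Fin.sum_univ_three] at hg
        have e1 := congrArg (pr hP l) hg
        rw [pr_add hP, pr_add hP, pr_smul hP, pr_smul hP, pr_smul hP, pr_self hP (hmem l u hu).2,
          pr_other hP hil (hmem i v hv).2, pr_other hP hil (hmem i v' hv').2, pr_zero hP, smul_zero, smul_zero,
          add_zero, add_zero, smul_eq_zero, or_iff_left hd0] at e1
        rw [e1, zero_smul, zero_add] at hg
        have h2 : g 2 = 0 := by
          by_contra h2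
          refine hc (Submodule.mem_span_singleton.2 ⟨-(g 1 / g 2), ?_⟩)
          refine smul_right_injective _ h2 ?_
          simp only [smul_smul]
          rw [show g 2 * -(g 1 / g 2) = -g 1 by field_simp]
          linear_combination (norm := module) -hg
        rw [h2, zero_smul, add_zero, smul_eq_zero, or_iff_left (sub_ne_zero.2 hv0)] at hg
        intro k; fin_cases k <;> assumption
      have hle : Submodule.span F (Set.range ![mv x u - u, mv x v - v, mv x v' - v']) ≤ P :=
        Submodule.span_le.2 (by rintro z ⟨k, rfl⟩; fin_cases k <;> exact mem_range _)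
      have := Submodule.finrank_mono hle
      rw [finrank_span_eq_card hli, Fintype.card_fin] at this
      omega
    refine hx2 (ext_mv fun z => ext_pr hP fun i => ?_)
    rw [mv_mul, mv_one, pr_mv hP hxI (hfix i), pr_mv hP hxI (hfix i)]
    by_cases hmv : ∃ v ∈ D i, mv x v ≠ v
    · obtain ⟨v, hv, hv0⟩ := hmv
      obtain ⟨hdd, hR⟩ := line_move hP hxI (hmem i v hv).2 (sub_ne_zero.2 hv0)
        (fun v' hv' => hone i v hv v' hv' hv0) ⟨v, hv, hv0⟩
      rw [hR _ (pr_mem hP i z), hR _ (refl_block hP.nd hP.dec (hmem i v hv).2 (R_spec hP hdd).2 i (pr_mem hP i z)),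
        R_RR hP hdd]
    · push Not at hmv
      rw [hmv _ (pr_mem hP i z), hmv _ (pr_mem hP i z)]
  push Not at htwo
  obtain ⟨v, hv, hvs⟩ := htwo
  refine ⟨l, (Submodule.eq_of_le_of_finrank_le (fun w hw => ?_) ?_).symm⟩
  · obtain ⟨r, s, rfl⟩ := span_two hP (hmem l u hu).2 (sub_ne_zero.2 hune) (hmem l v hv).2 hvs hw
    exact P.add_mem (P.smul_mem _ (mem_range u)) (P.smul_mem _ (mem_range v))
  · rw [hP.dec.decomp.decomp.finrank_eq]; exact hr

/-- An involution of the stabiliser of small displacement fixes a member pointwise. -/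
theorem exists_fixed_block {x : GL ι F} (hxI : x ∈ isometryGroup F Q) (hxS : x ∈ Geo.decompositionStabilizer D)
    (hx2 : x * x = 1) (hr : Module.finrank F ↥(LinearMap.range (moveLin x)) < t) :
    ∃ o, ∀ u ∈ D o, mv x u = u := by
  classical
  by_contra hc
  push Not at hc
  obtain ⟨σ, hσ⟩ := stab_maps hP hxS
  have hne : ∀ i, D i ≠ ⊥ := fun i h => by
    have := hP.dec.decomp.decomp.finrank_eq i; rw [h, finrank_bot] at this; omega
  choose a ha haa using fun i => exists_anisotropic hP.nd (block_nondeg hP.dec i) (hne i)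
  choose b hb _hbq hbs _hbp using fun i => exists_turn hP (ha i) (haa i)
  choose f hf hfne using hc
  have hσσ : ∀ i, σ (σ i) = i := by
    intro i
    by_contra h
    have h1 : a i ∈ D (σ (σ i)) := by
      have := hσ _ _ (hσ i _ (ha i))
      rwa [← mv_mul, hx2, mv_one] at this
    have h2 := pr_other hP h h1
    rw [pr_self hP (ha i)] at h2
    exact haa i (by rw [h2, q_zero hP.nd])
  let u : Fin t → ι → F := fun l => if σ l = l then f l else if l < σ l then a l else b (σ l)
  let d : Fin t → ι → F := fun l => mv x (u l) - u l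
  have hli : LinearIndependent F d := by
    rw [Fintype.linearIndependent_iff]
    intro g hg
    -- the component at a representative
    have hpr : ∀ m, m ≤ σ m → (∑ l, g l • pr hP m (d l)) = 0 := fun m _ => by
      have := congrArg (pr hP m) hg
      rw [pr_zero hP] at this
      rw [← this]
      clear this hg
      induction (Finset.univ : Finset (Fin t)) using Finset.induction_on with
      | empty => rw [Finset.sum_empty, Finset.sum_empty, pr_zero hP]
      | insert l s hl ih => rw [Finset.sum_insert hl, Finset.sum_insert hl, pr_add hP, pr_smul hP, ih]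
    have hd : ∀ l, ∀ m, m ≠ l → m ≠ σ l → pr hP m (d l) = 0 := by
      intro l m h1 h2
      simp only [d, u]
      split_ifs with e1 e2
      · rw [pr_sub hP, pr_other hP h2.symm (hσ l _ (hf l)), pr_other hP h1.symm (hf l), sub_zero]
      · rw [pr_sub hP, pr_other hP h2.symm (hσ l _ (ha l)), pr_other hP h1.symm (ha l), sub_zero]
      · rw [pr_sub hP, pr_other hP h2.symm (hb (σ l)), pr_other hP ?_ (hσ _ _ (hb (σ l))), sub_zero]
        rw [hσσ]; exact h1.symm
    intro l
    wlog hlm : l ≤ σ l generalizing l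
    · have hl' : σ l ≤ σ (σ l) := by rw [hσσ]; exact (not_le.1 hlm).le
      have key := hpr (σ l) hl'
      have hne' : σ l ≠ l := fun h => hlm h.ge
      rw [Finset.sum_eq_add (σ l) l hne' (fun m _ hm => by
        rw [hd m (σ l) hm.1.symm (fun h => hm.2 (by rw [σ.injective h])), smul_zero])
        (fun h => absurd (Finset.mem_univ _) h) (fun h => absurd (Finset.mem_univ _) h)] at key
      have h1 : g (σ l) = 0 := this (σ l) hl'
      rw [h1, zero_smul, zero_add] at key
      refine (smul_eq_zero.1 key).resolve_right ?_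
      simp only [d, u]
      rw [if_neg hne', if_neg (fun h => hlm h.le), pr_sub hP,
        pr_other hP (by rw [hσσ]; exact hne'.symm) (hσ _ _ (hb (σ l))), pr_self hP (hb (σ l)), zero_sub]
      refine neg_ne_zero.2 fun h => hbs (σ l) ?_
      rw [h]; exact Submodule.zero_mem _
    by_cases hfixl : σ l = l
    · have key := hpr l hlm
      rw [Finset.sum_eq_single l (fun m _ hm => by
        rw [hd m l hm.symm (fun h => hm (σ.injective (h.symm.trans hfixl.symm))), smul_zero])
        (fun h => absurd (Finset.mem_univ _) h)] at key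
      refine (smul_eq_zero.1 key).resolve_right ?_
      simp only [d, u]
      rw [if_pos hfixl, pr_sub hP, pr_self hP (hf l)]
      have := hσ l _ (hf l)
      rw [hfixl] at this
      rw [pr_self hP this]
      exact sub_ne_zero.2 (hfne l)
    · have hlt : l < σ l := lt_of_le_of_ne hlm (Ne.symm hfixl)
      have key := hpr l hlm
      rw [Finset.sum_eq_add l (σ l) (Ne.symm hfixl) (fun m _ hm => by
        rw [hd m l hm.1.symm (fun h => hm.2 (by rw [h, hσσ])), smul_zero])
        (fun h => absurd (Finset.mem_univ _) h) (fun h => absurd (Finset.mem_univ _) h)] at key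
      simp only [d, u] at key
      rw [if_neg hfixl, if_pos hlt, if_neg (show ¬ σ (σ l) = σ l from fun h => hfixl (σ.injective h)),
        if_neg (show ¬ σ l < σ (σ l) by rw [hσσ]; exact hlt.le.not_gt), hσσ, pr_sub hP, pr_sub hP,
        pr_other hP hfixl (hσ l _ (ha l)), pr_self hP (ha l), pr_other hP hfixl (hσ l _ (hb l)),
        pr_self hP (hb l)] at key
      by_contra hgl
      by_cases h2 : g (σ l) = 0
      · rw [h2, zero_smul, add_zero, zero_sub, smul_eq_zero, neg_eq_zero] at key
        rcases key with key | key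
        · exact hgl key
        · exact haa l (by rw [key, q_zero hP.nd])
      · refine hbs l (Submodule.mem_span_singleton.2 ⟨-(g l / g (σ l)), ?_⟩)
        refine smul_right_injective _ h2 ?_
        simp only [smul_smul]
        rw [show g (σ l) * -(g l / g (σ l)) = -g l by field_simp]
        linear_combination (norm := module) key
  have hle : Submodule.span F (Set.range d) ≤ LinearMap.range (moveLin x) :=
    Submodule.span_le.2 (by rintro z ⟨l, rfl⟩; exact mem_range _)
  have := Submodule.finrank_mono hle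
  rw [finrank_span_eq_card hli, Fintype.card_fin] at this
  omega

/-- A non-trivial isometry fixing every member has an anisotropic displacement in a member. -/
theorem exists_anis_range {x : GL ι F} (hxI : x ∈ isometryGroup F Q) (hfix : ∀ i, ∀ u ∈ D i, mv x u ∈ D i)
    (hx : x ≠ 1) : ∃ i, ∃ a ∈ D i, Q a ≠ 0 ∧ a ∈ LinearMap.range (moveLin x) := by
  obtain ⟨l, u, hu, hune⟩ : ∃ l, ∃ u ∈ D l, mv x u ≠ u := by
    by_contra h
    push Not at h
    exact hx (ext_mv fun z => ext_pr hP fun m => by rw [mv_one, pr_mv hP hxI (hfix m), h m _ (pr_mem hP m z)])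
  have hd : mv x u - u ∈ D l := (D l).sub_mem (hfix l u hu) hu
  by_cases htwo : ∀ v ∈ D l, mv x v - v ∈ Submodule.span F {mv x u - u}
  · exact ⟨l, _, hd, (line_move hP hxI hd (sub_ne_zero.2 hune) htwo ⟨u, hu, hune⟩).1, mem_range u⟩
  push Not at htwo
  obtain ⟨v, hv, hvs⟩ := htwo
  obtain ⟨a, ha, haa⟩ := exists_anisotropic hP.nd (block_nondeg hP.dec l) fun h => by
    have := hP.dec.decomp.decomp.finrank_eq l; rw [h, finrank_bot] at this; omega
  refine ⟨l, a, ha, haa, ?_⟩
  obtain ⟨r, s, rfl⟩ := span_two hP hd (sub_ne_zero.2 hune) ((D l).sub_mem (hfix l v hv) hv) hvs ha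
  exact Submodule.add_mem _ (Submodule.smul_mem _ _ (mem_range u)) (Submodule.smul_mem _ _ (mem_range v))

end Cfsg.Agent.Transvec.Planes
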