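/-
Overgroups of the stabiliser of planes: some element outside carries an anisotropic vector of a member into a member.
-/
import Cfsg.Agent.Lib.Transvec.OrthPlanesStab
import Cfsg.Agent.Lib.Transvec.HermFrameOddA
set_option autoImplicit false
set_option linter.unusedSectionVars false

namespace Cfsg.Agent.Transvec.Planes

open scoped Matrix
open Matrix Cfsg.Agent.Transvec Cfsg.Agent.Transvec.Orth
open Cfsg.Agent.Transvec.OFr (R)

variable {ι : Type} [Fintype ι] [DecidableEq ι] {F : Type*} [Field F] [Fintype F] {Q : (ι → F) → F}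
variable {t : ℕ} {D : Fin t → Submodule F (ι → F)} {M : Subgroup (GL ι F)}

/-- An overgroup of the stabiliser of the planes inside the commutator subgroup. -/
structure Ctx (Q : (ι → F) → F) {t : ℕ} (D : Fin t → Submodule F (ι → F)) (M : Subgroup (GL ι F)) : Prop where
  pl : Pl Q D
  le_M : Geo.decompositionStabilizer D ⊓ Geo.omegaGL Q ≤ M
  le_S : M ≤ Geo.omegaGL Q

/-- An element is in the stabiliser as soon as one anisotropic vector of a member goes into a member. -/
def Rigid (Q : (ι → F) → F) (D : Fin t → Submodule F (ι → F)) (M : Subgroup (GL ι F)) : Prop :=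
  ∀ g ∈ M, ∀ i A, ∀ a ∈ D i, Q a ≠ 0 → mv g a ∈ D A → g ∈ Geo.decompositionStabilizer D

/-- An involution fixing every member, pointwise outside a small set of them. -/
structure Diag (Q : (ι → F) → F) (D : Fin t → Submodule F (ι → F)) (u : GL ι F) (B : Finset (Fin t)) : Prop where
  iso : u ∈ isometryGroup F Q
  sq : u * u = 1
  ne : u ≠ 1
  maps : ∀ i, ∀ z ∈ D i, mv u z ∈ D i
  fix : ∀ i, i ∉ B → ∀ z ∈ D i, mv u z = z
  card : B.card ≤ 4
  rank : Module.finrank F ↥(LinearMap.range (moveLin u)) ≤ 4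
  odd : (2 : F) ≠ 0 → B.card ≤ 2
  refl : (2 : F) = 0 → ∀ i ∈ B, ∃ d ∈ D i, Q d ≠ 0 ∧ ∀ z ∈ D i, mv u z = mv (R Q d) z

theorem finrank_range_mul (g h : GL ι F) : Module.finrank F ↥(LinearMap.range (moveLin (g * h))) ≤
    Module.finrank F ↥(LinearMap.range (moveLin g)) + Module.finrank F ↥(LinearMap.range (moveLin h)) := by
  refine (Submodule.finrank_mono ?_).trans (Submodule.finrank_add_le_finrank_add_finrank _ _)
  rintro z ⟨y, rfl⟩
  rw [moveLin_apply, mv_mul, show mv g (mv h y) - y = (mv g (mv h y) - mv h y) + (mv h y - y) by abel]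
  exact Submodule.add_mem_sup (mem_range _) (mem_range _)

theorem finrank_range_conj (g h : GL ι F) : Module.finrank F ↥(LinearMap.range (moveLin (g * h * g⁻¹))) ≤
    Module.finrank F ↥(LinearMap.range (moveLin h)) := by
  refine (Submodule.finrank_mono (t := (LinearMap.range (moveLin h)).map (mvLin g)) ?_).trans
    (Submodule.finrank_map_le _ _)
  rintro z ⟨y, rfl⟩
  refine ⟨mv h (mv g⁻¹ y) - mv g⁻¹ y, mem_range _, ?_⟩
  rw [moveLin_apply, mv_mul, mv_mul]
  simp [mv_sub, mv_mv_inv]

theorem range_conj_mem {g h : GL ι F} {a : ι → F} (ha : a ∈ LinearMap.range (moveLin h)) :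
    mv g a ∈ LinearMap.range (moveLin (g * h * g⁻¹)) := by
  obtain ⟨z, rfl⟩ := ha
  refine ⟨mv g z, ?_⟩
  rw [moveLin_apply, moveLin_apply, mv_mul, mv_mul, mv_inv_mv, mv_sub]

variable (hC : Ctx Q D M)
include hC

theorem le_iso : M ≤ isometryGroup F Q := hC.le_S.trans (omega_le_isometry hC.pl.nd)

theorem mem_H {g : GL ι F} (hg : g ∈ Geo.decompositionStabilizer D) (hg' : g ∈ Geo.omegaGL Q) : g ∈ M :=
  hC.le_M ⟨hg, hg'⟩

theorem pair_mem {i j : Fin t} {a b : ι → F} (ha : a ∈ D i) (hb : b ∈ D j) (haa : Q a ≠ 0) (hab : Q a = Q b) :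
    R Q a * R Q b ∈ M :=
  mem_H hC (Subgroup.mul_mem _ (R_stab hC.pl ha haa) (R_stab hC.pl hb (hab ▸ haa))) (R_omega hC.pl haa hab)

theorem finrank_range_R {a : ι → F} (ha : Q a ≠ 0) : Module.finrank F ↥(LinearMap.range (moveLin (R Q a))) ≤ 1 := by
  refine (Submodule.finrank_mono (t := Submodule.span F {a}) ?_).trans ?_
  · rintro z ⟨y, rfl⟩
    rw [moveLin_apply, R_apply hC.pl ha, show y - (pol Q y a / Q a) • a - y = (-(pol Q y a / Q a)) • a by module]
    exact Submodule.smul_mem _ _ (Submodule.mem_span_singleton_self a)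
  · rw [finrank_span_singleton fun h => ha (by rw [h, q_zero hC.pl.nd])]

theorem prop_of_R_eq {x y : ι → F} (hx : Q x ≠ 0) (hy : Q y ≠ 0) (h : R Q x = R Q y) : y ∈ Submodule.span F {x} := by
  obtain ⟨w, hw⟩ : ∃ w, pol Q w y ≠ 0 := by
    by_contra hh
    push Not at hh
    exact hy (by rw [nondeg_top hC.pl.nd y Submodule.mem_top fun w _ => hh w, q_zero hC.pl.nd])
  have h1 := congrArg (fun g => mv g w) h
  simp only [R_apply hC.pl hx, R_apply hC.pl hy] at h1
  have h' := sub_right_injective h1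
  refine Submodule.mem_span_singleton.2 ⟨(pol Q w y / Q y)⁻¹ * (pol Q w x / Q x), ?_⟩
  rw [mul_smul, h', smul_smul, inv_mul_cancel₀ (div_ne_zero hw hy), one_smul]

theorem sparse (hR : Rigid Q D M) {g : GL ι F} (hg : g ∈ M) {i l : Fin t} {a : ι → F} (ha : a ∈ D i)
    (haa : Q a ≠ 0) (hl : pr hC.pl l (mv g a) = 0) : g ∈ Geo.decompositionStabilizer D := by
  have hP := hC.pl
  obtain ⟨p, hp, hpp⟩ := exists_anisotropic hP.nd (block_nondeg hP.dec l) fun h => by
    have := hP.dec.decomp.decomp.finrank_eq l; rw [h, finrank_bot] at this; omega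
  obtain ⟨c, hc, hcq, hcp, hpc⟩ := exists_turn hP hp hpp
  have hcc : Q c ≠ 0 := hcq ▸ hpp
  have hp0 := (pr_eq_zero hP).1 hl
  set r := R Q p * R Q c with hr
  have hrM : r ∈ M := pair_mem hC hp hc hpp hcq.symm
  set x := g⁻¹ * r * g with hxdef
  have hxM : x ∈ M := M.mul_mem (M.mul_mem (M.inv_mem hg) hrM) hg
  have hxa : mv x a = a := by
    rw [hxdef, mv_mul, mv_mul, hr, mv_mul, R_fix hP hcc ((pol_comm _ _).trans (hp0 c hc)),
      R_fix hP hpp ((pol_comm _ _).trans (hp0 p hp)), mv_inv_mv]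
  have hxS := hR x hxM i i a ha haa (by rwa [hxa])
  have hx2 : x * x ≠ 1 := fun h => by
    have h1 : r * r = 1 := by
      rw [show r * r = g * (x * x) * g⁻¹ by rw [hxdef]; group, h, mul_one, mul_inv_cancel]
    have h2 : R Q p * R Q c * (R Q p)⁻¹ = R Q c := by
      rw [R_inv hP hpp]
      calc R Q p * R Q c * R Q p = R Q p * R Q c * R Q p * (R Q c * R Q c) := by rw [R_sq hP hcc, mul_one]
        _ = r * r * R Q c := by rw [hr]; group
        _ = R Q c := by rw [h1, one_mul]
    rw [R_conj hP (R_spec hP hpp).1 hcc] at h2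
    have h3 := prop_of_R_eq hC hcc (by rw [mem_isometry.1 (R_spec hP hpp).1]; exact hcc) h2.symm
    rw [R_apply hP hpp] at h3
    have h4 := (Submodule.span F {c}).sub_mem (Submodule.mem_span_singleton_self c) h3
    rw [sub_sub_cancel] at h4
    obtain ⟨s, hs⟩ := Submodule.mem_span_singleton.1
      ((Submodule.smul_mem_iff _ (div_ne_zero (by rwa [pol_comm]) hpp)).1 h4)
    have hs0 : s ≠ 0 := fun h => hpp (by rw [← hs, h, zero_smul, q_zero hP.nd])
    exact hcp (Submodule.mem_span_singleton.2 ⟨s⁻¹, by rw [← hs, smul_smul, inv_mul_cancel₀ hs0, one_smul]⟩)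
  have hr2 : Module.finrank F ↥(LinearMap.range (moveLin x)) ≤ 2 := by
    have h1 := finrank_range_conj g⁻¹ r
    rw [inv_inv] at h1
    have h3 := finrank_range_mul (R Q p) (R Q c)
    have h4 := finrank_range_R hC hpp
    have h5 := finrank_range_R hC hcc
    rw [← hr] at h3
    exact h1.trans (by omega)
  obtain ⟨m, hm⟩ := range_block hP (le_iso hC hxM) hxS hx2 hr2
  obtain ⟨d, hd, hdd⟩ := exists_anisotropic hP.nd (block_nondeg hP.dec m) fun h => by
    have := hP.dec.decomp.decomp.finrank_eq m; rw [h, finrank_bot] at this; omega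
  refine hR g hg m l d hd hdd ?_
  obtain ⟨z, hz⟩ := hm.ge hd
  rw [← hz, moveLin_apply, mv_sub, hxdef, mv_mul, mv_mul, mv_mv_inv, hr, mv_mul, R_apply hP hpp, R_apply hP hcc,
    show mv g z - (pol Q (mv g z) c / Q c) • c - (pol Q (mv g z - (pol Q (mv g z) c / Q c) • c) p / Q p) • p -
      mv g z = -((pol Q (mv g z) c / Q c) • c + (pol Q (mv g z - (pol Q (mv g z) c / Q c) • c) p / Q p) • p) by abel]
  exact (D l).neg_mem ((D l).add_mem ((D l).smul_mem _ hc) ((D l).smul_mem _ hp))

theorem stab_of_conj (hR : Rigid Q D M) {x w : GL ι F} (hx : x ∈ M) {B : Finset (Fin t)} (hw : Diag Q D w B)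
    (hxw : x * w * x⁻¹ ∈ Geo.decompositionStabilizer D) : x ∈ Geo.decompositionStabilizer D := by
  have hP := hC.pl
  have hI : x * w * x⁻¹ ∈ isometryGroup F Q :=
    Subgroup.mul_mem _ (Subgroup.mul_mem _ (le_iso hC hx) hw.iso) (Subgroup.inv_mem _ (le_iso hC hx))
  obtain ⟨o, ho⟩ := exists_fixed_block hP hI hxw
    (by rw [show x * w * x⁻¹ * (x * w * x⁻¹) = x * (w * w) * x⁻¹ by group, hw.sq, mul_one, mul_inv_cancel])
    (by have := finrank_range_conj x w; have := hw.rank; have := hP.ht; omega)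
  obtain ⟨i, a, ha, haa, har⟩ := exists_anis_range hP hw.iso hw.maps hw.ne
  exact sparse hC hR hx ha haa (fix_of_pr hP hI ho (range_conj_mem har))

/-- A double of two members. -/
theorem double_diag {l m : Fin t} (hlm : l ≠ m) {d e : ι → F} (hd : d ∈ D l) (he : e ∈ D m) (hdd : Q d ≠ 0)
    (hee : Q e ≠ 0) : Diag Q D (R Q d * R Q e) {l, m} := by
  have hP := hC.pl
  have hI : ∀ {b : ι → F}, Q b ≠ 0 → R Q b ∈ isometryGroup F Q := fun h => (R_spec hP h).1
  have hpol : pol Q e d = 0 := block_orth hP.dec hlm.symm he hd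
  refine ⟨Subgroup.mul_mem _ (hI hdd) (hI hee), ?_, fun h1 => ?_, fun i z hz => ?_, fun i hi z hz => ?_, ?_, ?_,
    fun _ => Finset.card_le_two, fun _ i hi => ?_⟩
  · have h1 : R Q d * R Q e * R Q d = R Q e := by
      nth_rw 2 [← R_inv hP hdd]
      rw [R_conj hP (hI hdd) hee, R_fix hP hdd hpol]
    rw [← mul_assoc, h1, R_sq hP hee]
  · have h3 := prop_of_R_eq hC hee hdd (by rw [mul_eq_one_iff_eq_inv, R_inv hP hee] at h1; exact h1.symm)
    obtain ⟨s, hs⟩ := Submodule.mem_span_singleton.1 h3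
    have := pr_other hP hlm.symm ((D m).smul_mem s he)
    rw [hs, pr_self hP hd] at this
    exact hdd (by rw [this, q_zero hP.nd])
  · rw [mv_mul]
    exact refl_block hP.nd hP.dec hd (R_spec hP hdd).2 i (refl_block hP.nd hP.dec he (R_spec hP hee).2 i hz)
  · rw [Finset.mem_insert, Finset.mem_singleton, not_or] at hi
    rw [mv_mul, R_fix hP hee (block_orth hP.dec hi.2 hz he), R_fix hP hdd (block_orth hP.dec hi.1 hz hd)]
  · exact Finset.card_le_two.trans (by norm_num)
  · have h3 := finrank_range_mul (R Q d) (R Q e)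
    have h4 := finrank_range_R hC hdd
    have h5 := finrank_range_R hC hee
    omega
  · rw [Finset.mem_insert, Finset.mem_singleton] at hi
    rcases hi with rfl | rfl
    · exact ⟨d, hd, hdd, fun z hz => by rw [mv_mul, R_fix hP hee (block_orth hP.dec hlm hz he)]⟩
    · refine ⟨e, he, hee, fun z hz => ?_⟩
      rw [mv_mul, R_fix hP hdd (block_orth hP.dec hlm.symm (refl_block hP.nd hP.dec he (R_spec hP hee).2 _ hz) hd)]

theorem stab_of_comm (hR : Rigid Q D M) {y i : GL ι F} (hy : y ∈ M) (hiI : i ∈ isometryGroup F Q)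
    (hmaps : ∀ j, ∀ z ∈ D j, mv i z ∈ D j) (hi1 : i ≠ 1) (hc : i * y = y * i)
    (hfix : (∃ o, ∀ z ∈ D o, mv i z = z) ∨ ((2 : F) = 0 ∧ ∃ l m, l ≠ m ∧
      (∃ d ∈ D l, Q d ≠ 0 ∧ ∀ z ∈ D l, mv i z = mv (R Q d) z) ∧
      (∃ d ∈ D m, Q d ≠ 0 ∧ ∀ z ∈ D m, mv i z = mv (R Q d) z))) : y ∈ Geo.decompositionStabilizer D := by
  have hP := hC.pl
  obtain ⟨j, a, ha, haa, har⟩ := exists_anis_range hP hiI hmaps hi1
  have hya : mv y a ∈ LinearMap.range (moveLin i) := by
    obtain ⟨z, rfl⟩ := har
    refine ⟨mv y z, ?_⟩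
    rw [moveLin_apply, moveLin_apply, mv_sub, ← mv_mul, hc, mv_mul]
  rcases hfix with ⟨o, ho⟩ | ⟨h2, l, m, hlm, ⟨d, hd, hdd, hdR⟩, e, he, hee, heR⟩
  · exact sparse hC hR hy ha haa (fix_of_pr hP hiI ho hya)
  have perp : ∀ {l : Fin t} {d : ι → F}, d ∈ D l → Q d ≠ 0 → (∀ z ∈ D l, mv i z = mv (R Q d) z) →
      pol Q (mv y a) d = 0 := by
    intro l d hd hdd hdR
    obtain ⟨z, hz⟩ := hya
    rw [← hz, moveLin_apply, pol_comm, pol_pr hP hd, pr_sub hP, pr_mv hP hiI (hmaps l), hdR _ (pr_mem hP l z),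
      R_apply hP hdd, show pr hP l z - (pol Q (pr hP l z) d / Q d) • d - pr hP l z =
        (-(pol Q (pr hP l z) d / Q d)) • d by module, pol_smul_right hP.nd, pol_self hP.nd, h2]
    ring
  obtain ⟨r, hr⟩ := two_cases h2 (Q d / Q e)
  have hr0 : r ≠ 0 := fun h => by
    rw [h, zero_pow two_ne_zero] at hr
    exact div_ne_zero hdd hee hr.symm
  have hre : Q (r • e) = Q d := by rw [q_smul hP.nd, hr, div_mul_cancel₀ _ hee]
  set p := R Q d * R Q (r • e) with hp
  have hpM : p ∈ M := pair_mem hC hd ((D m).smul_mem r he) hdd hre.symm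
  have hpfix : mv p (mv y a) = mv y a := by
    rw [hp, mv_mul, R_smul hP hee hr0, R_fix hP hee (perp he hee heR), R_fix hP hdd (perp hd hdd hdR)]
  have hxS : y⁻¹ * p * y⁻¹⁻¹ ∈ Geo.decompositionStabilizer D := by
    rw [inv_inv]
    exact hR _ (M.mul_mem (M.mul_mem (M.inv_mem hy) hpM) hy) j j a ha haa
      (by rwa [mv_mul, mv_mul, hpfix, mv_inv_mv])
  have hpdiag : Diag Q D p {l, m} := double_diag hC hlm hd ((D m).smul_mem r he) hdd (hre ▸ hdd)
  have := stab_of_conj hC hR (M.inv_mem hy) hpdiag hxS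
  simpa using Subgroup.inv_mem _ this

theorem diag_sq_mul {g h : GL ι F} {B B' : Finset (Fin t)} (hg : Diag Q D g B) (hh : Diag Q D h B')
    (hd : ∀ i ∈ B, i ∉ B') : g * h * (g * h) = 1 := by
  have hP := hC.pl
  refine ext_mv fun z => ext_pr hP fun i => ?_
  rw [mv_one, mv_mul, mv_mul, mv_mul, pr_mv hP hg.iso (hg.maps i), pr_mv hP hh.iso (hh.maps i),
    pr_mv hP hg.iso (hg.maps i), pr_mv hP hh.iso (hh.maps i)]
  have hw := pr_mem hP i z
  by_cases hi : i ∈ B
  · rw [hh.fix i (hd i hi) _ hw, hh.fix i (hd i hi) _ (hg.maps i _ hw), ← mv_mul, hg.sq, mv_one]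
  · rw [hg.fix i hi _ (hh.maps i _ (hg.maps i _ (hh.maps i _ hw))), hg.fix i hi _ (hh.maps i _ hw), ← mv_mul, hh.sq,
      mv_one]

/-- An involution of the stabiliser moving at least three dimensions. -/
theorem exists_big : ∃ u ∈ M, ∃ B, Diag Q D u B ∧ 3 ≤ Module.finrank F ↥(LinearMap.range (moveLin u)) := by
  classical
  have hP := hC.pl
  have ht := hP.ht
  set l : Fin 4 → Fin t := fun i => ⟨i.1, by omega⟩
  have hl : ∀ {i j : Fin 4}, i ≠ j → l i ≠ l j := fun h h' => h (Fin.ext (by simpa [l] using h'))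
  have h01 : l 0 ≠ l 1 := hl (by decide)
  by_cases h2 : (2 : F) = 0
  · choose a ha haq using fun i : Fin 4 => exists_value hP (j := l i) (1 : F)
    have hq : ∀ i, Q (a i) ≠ 0 := fun i => by rw [haq]; exact one_ne_zero
    have d1 := double_diag hC h01 (ha 0) (ha 1) (hq 0) (hq 1)
    have d2 := double_diag hC (hl (show (2 : Fin 4) ≠ 3 by decide)) (ha 2) (ha 3) (hq 2) (hq 3)
    set g := R Q (a 0) * R Q (a 1)
    set h := R Q (a 2) * R Q (a 3)
    have hlow : ∀ i, i ∈ ({l 0, l 1} : Finset (Fin t)) → i ∉ ({l 2, l 3} : Finset (Fin t)) := by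
      intro i hi hi'
      simp only [Finset.mem_insert, Finset.mem_singleton] at hi hi'
      rcases hi with rfl | rfl <;> rcases hi' with h | h <;> exact hl (by decide) h
    have hsq : g * h * (g * h) = 1 := diag_sq_mul hC d1 d2 hlow
    obtain ⟨z, hz, hzp⟩ : ∃ z : Fin 4 → ι → F, (∀ i, z i ∈ D (l i)) ∧ ∀ i, pol Q (z i) (a i) = 1 := by
      choose z hz hz' using fun i => exists_rep hP.nd (block_nondeg hP.dec (l i))
        ((exists_dual (W := (⊥ : Submodule F (ι → F))) (u := a i)
          (by simpa using fun h : a i = 0 => hq i (by rw [h, q_zero hP.nd]))).choose)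
      refine ⟨z, hz, fun i => ?_⟩
      rw [pol_comm, ← hz' i _ (ha i)]
      exact ((exists_dual (W := (⊥ : Submodule F (ι → F))) (u := a i)
          (by simpa using fun h : a i = 0 => hq i (by rw [h, q_zero hP.nd]))).choose_spec).2
    have hmove : ∀ i : Fin 4, mv (g * h) (z i) - z i = -a i := by
      intro i
      have hzk : ∀ k : Fin 4, pol Q (z i) (a k) = if k = i then 1 else 0 := fun k => by
        split_ifs with h
        · rw [h]; exact hzp i
        · exact block_orth hP.dec (hl (Ne.symm h)) (hz i) (ha k)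
      have hak : ∀ j k : Fin 4, pol Q (a j) (a k) = 0 := fun j k => by
        rcases eq_or_ne j k with rfl | h
        · rw [pol_self hP.nd, h2, zero_mul]
        · exact block_orth hP.dec (hl h) (ha j) (ha k)
      simp only [g, h, mv_mul, R_apply hP (hq _), pol_sub_left hP.nd, pol_smul_left hP.nd, haq, div_one, hzk, hak]
      fin_cases i <;> simp
    refine ⟨g * h, M.mul_mem (pair_mem hC (ha 0) (ha 1) (hq 0) ((haq 0).trans (haq 1).symm))
      (pair_mem hC (ha 2) (ha 3) (hq 2) ((haq 2).trans (haq 3).symm)), {l 0, l 1} ∪ {l 2, l 3}, ?_, ?_⟩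
    · refine ⟨Subgroup.mul_mem _ d1.iso d2.iso, hsq, fun h1 => ?_, fun i z hz => by rw [mv_mul]; exact d1.maps i _ (d2.maps i z hz),
        fun i hi z hz => ?_, ?_, ?_, fun h => absurd h2 h, fun _ i hi => ?_⟩
      · have := hmove 0
        rw [h1, mv_one, sub_self, eq_comm, neg_eq_zero] at this
        exact hq 0 (by rw [this, q_zero hP.nd])
      · rw [Finset.mem_union, not_or] at hi
        rw [mv_mul, d2.fix i hi.2 z hz, d1.fix i hi.1 z hz]
      · exact (Finset.card_union_le _ _).trans (Nat.add_le_add Finset.card_le_two Finset.card_le_two)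
      · have h3 := finrank_range_mul g h
        have e1 := finrank_range_mul (R Q (a 0)) (R Q (a 1))
        have e2 := finrank_range_mul (R Q (a 2)) (R Q (a 3))
        have e3 := fun i => finrank_range_R hC (hq i)
        have := e3 0; have := e3 1; have := e3 2; have := e3 3
        simp only [g, h] at h3 ⊢
        omega
      · rcases Finset.mem_union.1 hi with hi | hi
        · obtain ⟨d, hd, hdd, hdR⟩ := d1.refl h2 i hi
          exact ⟨d, hd, hdd, fun z hz => by rw [mv_mul, d2.fix i (hlow i hi) z hz, hdR z hz]⟩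
        · obtain ⟨d, hd, hdd, hdR⟩ := d2.refl h2 i hi
          exact ⟨d, hd, hdd, fun z hz => by
            rw [mv_mul, d1.fix i (fun h => hlow i h hi) _ (d2.maps i z hz), hdR z hz]⟩
    · have hli : LinearIndependent F ![a 0, a 1, a 2] := by
        rw [Fintype.linearIndependent_iff]
        intro c hc k
        simp [Fin.sum_univ_three] at hc
        have e := fun m : Fin 4 => congrArg (pr hP (l m)) hc
        simp only [pr_add hP, pr_smul hP, pr_zero hP] at e
        have p0 := e 0; have p1 := e 1; have p2 := e 2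
        rw [pr_self hP (ha 0), pr_other hP (hl (by decide)) (ha 1), pr_other hP (hl (by decide)) (ha 2)] at p0
        rw [pr_self hP (ha 1), pr_other hP (hl (by decide)) (ha 0), pr_other hP (hl (by decide)) (ha 2)] at p1
        rw [pr_self hP (ha 2), pr_other hP (hl (by decide)) (ha 0), pr_other hP (hl (by decide)) (ha 1)] at p2
        have hn : ∀ i, a i ≠ 0 := fun i h => hq i (by rw [h, q_zero hP.nd])
        fin_cases k <;> simp_all
      have hle : Submodule.span F (Set.range ![a 0, a 1, a 2]) ≤ LinearMap.range (moveLin (g * h)) :=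
        Submodule.span_le.2 (by
          rintro x ⟨k, rfl⟩
          have : ∀ i : Fin 4, a i ∈ LinearMap.range (moveLin (g * h)) := fun i => by
            rw [← neg_neg (a i), ← hmove i]; exact Submodule.neg_mem _ (mem_range _)
          fin_cases k <;> simp [this])
      have := Submodule.finrank_mono hle
      rwa [finrank_span_eq_card hli, Fintype.card_fin] at this
  · obtain ⟨a, ha, haq⟩ := exists_value hP (j := l 0) (1 : F)
    have haa : Q a ≠ 0 := by rw [haq]; exact one_ne_zero
    obtain ⟨a', ha', hperp, ha'q⟩ := exists_perp hP ha haa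
    obtain ⟨e, he⟩ := hP.dec.isometric (l 0) (l 1)
    set b : ι → F := ((e ⟨a, ha⟩ : D (l 1)) : ι → F) with hbdef
    set b' : ι → F := ((e ⟨a', ha'⟩ : D (l 1)) : ι → F) with hb'def
    have hbq : Q a = Q b := (he ⟨a, ha⟩).symm
    have hb'q : Q a' = Q b' := (he ⟨a', ha'⟩).symm
    have hbperp : pol Q b b' = 0 := by
      have h := he (⟨a, ha⟩ + ⟨a', ha'⟩)
      rw [map_add, Submodule.coe_add, Submodule.coe_add, q_add hP.nd, q_add hP.nd, ← hbdef, ← hb'def, ← hbq,
        ← hb'q, hperp] at h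
      linear_combination h
    have hb : b ∈ D (l 1) := Subtype.prop _
    have hb' : b' ∈ D (l 1) := Subtype.prop _
    have d1 := double_diag hC h01 ha hb haa (hbq ▸ haa)
    have d2 := double_diag hC h01 ha' hb' ha'q (hb'q ▸ ha'q)
    have hI : ∀ {b : ι → F}, Q b ≠ 0 → R Q b ∈ isometryGroup F Q := fun h => (R_spec hP h).1
    set g := R Q a * R Q b
    set h := R Q a' * R Q b'
    have hgh : g * h = h * g := by
      have e1 : g * R Q a' * g⁻¹ = R Q a' := by
        rw [R_conj hP d1.iso ha'q]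
        congr 1
        rw [mv_mul, R_fix hP (hbq ▸ haa) (block_orth hP.dec h01 ha' hb), R_fix hP haa ((pol_comm _ _).trans hperp)]
      have e2 : g * R Q b' * g⁻¹ = R Q b' := by
        rw [R_conj hP d1.iso (hb'q ▸ ha'q)]
        congr 1
        rw [mv_mul, R_fix hP (hbq ▸ haa) ((pol_comm _ _).trans hbperp),
          R_fix hP haa (block_orth hP.dec h01.symm hb' ha)]
      calc g * h = g * R Q a' * g⁻¹ * (g * R Q b' * g⁻¹) * g := by simp only [h]; group
        _ = h * g := by rw [e1, e2]
    have hsq : g * h * (g * h) = 1 := by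
      rw [show g * h * (g * h) = g * (h * g) * h by group, ← hgh, show g * (g * h) * h = g * g * (h * h) by group,
        d1.sq, d2.sq, mul_one]
    obtain ⟨z, hz, hzp⟩ : ∃ z ∈ D (l 0), pol Q z a ≠ 0 ∧ pol Q z a' = 0 := ⟨a, ha, by
      rw [pol_self hP.nd, haq, mul_one]; exact h2, hperp⟩
    have hma : mv (g * h) a - a = (-2 : F) • a := by
      simp only [g, h, mv_mul]
      rw [R_fix hP (hb'q ▸ ha'q) (block_orth hP.dec h01 ha hb'), R_fix hP ha'q hperp,
        R_fix hP (hbq ▸ haa) (block_orth hP.dec h01 ha hb), R_apply hP haa, pol_self hP.nd,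
        mul_div_cancel_right₀ _ haa]
      module
    have hma' : mv (g * h) a' - a' = (-2 : F) • a' := by
      simp only [g, h, mv_mul]
      rw [R_fix hP (hb'q ▸ ha'q) (block_orth hP.dec h01 ha' hb'), R_apply hP ha'q, pol_self hP.nd,
        mul_div_cancel_right₀ _ ha'q,
        show a' - (2 : F) • a' = (-1 : F) • a' by module, mv_smul, mv_smul,
        R_fix hP (hbq ▸ haa) (block_orth hP.dec h01 ha' hb), R_fix hP haa ((pol_comm _ _).trans hperp)]
      module
    have hmb : mv (g * h) b - b = (-2 : F) • b := by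
      simp only [g, h, mv_mul]
      rw [R_fix hP (hb'q ▸ ha'q) hbperp, R_fix hP ha'q (block_orth hP.dec h01.symm hb ha'),
        R_apply hP (show Q b ≠ 0 from hbq ▸ haa), pol_self hP.nd, mul_div_cancel_right₀ _ (show Q b ≠ 0 from hbq ▸ haa),
        show b - (2 : F) • b = (-1 : F) • b by module, mv_smul, R_fix hP haa (block_orth hP.dec h01.symm hb ha)]
      module
    refine ⟨g * h, M.mul_mem (pair_mem hC ha hb haa hbq) (pair_mem hC ha' hb' ha'q hb'q), {l 0, l 1}, ?_, ?_⟩
    · refine ⟨Subgroup.mul_mem _ d1.iso d2.iso, hsq, fun h1 => ?_,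
        fun i z hz => by rw [mv_mul]; exact d1.maps i _ (d2.maps i z hz),
        fun i hi z hz => by rw [mv_mul, d2.fix i hi z hz, d1.fix i hi z hz],
        Finset.card_le_two.trans (by norm_num), ?_, fun _ => Finset.card_le_two, fun h => absurd h h2⟩
      · rw [h1, mv_one, sub_self, eq_comm, smul_eq_zero, or_iff_right (neg_ne_zero.2 h2)] at hma
        exact haa (by rw [hma, q_zero hP.nd])
      · have := finrank_range_mul g h
        have e1 := finrank_range_mul (R Q a) (R Q b)
        have e2 := finrank_range_mul (R Q a') (R Q b')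
        have := finrank_range_R hC haa
        have := finrank_range_R hC ha'q
        have := finrank_range_R hC (show Q b ≠ 0 from hbq ▸ haa)
        have := finrank_range_R hC (show Q b' ≠ 0 from hb'q ▸ ha'q)
        simp only [g, h] at *
        omega
    · have hin : ∀ x, mv (g * h) x - x = (-2 : F) • x → x ∈ LinearMap.range (moveLin (g * h)) := fun x hx => by
        have := mem_range (g := g * h) x
        rw [hx] at this
        exact (Submodule.smul_mem_iff _ (neg_ne_zero.2 h2)).1 this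
      have hli : LinearIndependent F ![a, a', b] := by
        rw [Fintype.linearIndependent_iff]
        intro c hc
        simp [Fin.sum_univ_three] at hc
        have p0 := congrArg (pr hP (l 0)) hc
        have p1 := congrArg (pr hP (l 1)) hc
        rw [pr_add hP, pr_add hP, pr_smul hP, pr_smul hP, pr_smul hP, pr_self hP ha, pr_self hP ha',
          pr_other hP h01.symm hb, pr_zero hP, smul_zero, add_zero] at p0
        rw [pr_add hP, pr_add hP, pr_smul hP, pr_smul hP, pr_smul hP, pr_self hP hb, pr_other hP h01 ha,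
          pr_other hP h01 ha', pr_zero hP, smul_zero, smul_zero, zero_add, zero_add, smul_eq_zero] at p1
        have hc2 := p1.resolve_right fun h => haa (by rw [hbq, h, q_zero hP.nd])
        have hc0 : c 0 = 0 := by
          have := congrArg (fun x => pol Q x a) p0
          simp only [pol_add_left hP.nd, pol_smul_left hP.nd, pol_self hP.nd, pol_comm a' a, hperp,
            pol_zero_left hP.nd, haq] at this
          exact (mul_eq_zero.1 (show c 0 * 2 = 0 by linear_combination this)).resolve_right h2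
        rw [hc0, zero_smul, zero_add, smul_eq_zero] at p0
        have hc1 := p0.resolve_right fun h => ha'q (by rw [h, q_zero hP.nd])
        intro k; fin_cases k <;> assumption
      have hle : Submodule.span F (Set.range ![a, a', b]) ≤ LinearMap.range (moveLin (g * h)) :=
        Submodule.span_le.2 (by
          rintro x ⟨k, rfl⟩
          fin_cases k
          · exact hin a hma
          · exact hin a' hma'
          · exact hin b hmb)
      have := Submodule.finrank_mono hle
      rwa [finrank_span_eq_card hli, Fintype.card_fin] at this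

/-- Some element outside the stabiliser carries an anisotropic vector of a member into a member. -/
theorem not_rigid (hnm : ∃ g ∈ M, g ∉ Geo.decompositionStabilizer D) :
    ∃ g ∈ M, g ∉ Geo.decompositionStabilizer D ∧ ∃ i A, ∃ a ∈ D i, Q a ≠ 0 ∧ mv g a ∈ D A := by
  classical
  by_contra hcon
  push Not at hcon
  have hR : Rigid Q D M := fun g hg i A a ha haa h => by
    by_contra hm; exact hcon g hg hm i A a ha haa h
  have hP := hC.pl
  have ht := hP.ht
  obtain ⟨g, hg, hgm⟩ := hnm
  obtain ⟨u, huM, B, hu, hu3⟩ := exists_big hC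
  set l₀ : Fin t := ⟨0, by omega⟩
  set l₁ : Fin t := ⟨1, by omega⟩
  have h01 : l₀ ≠ l₁ := fun h => by simp [l₀, l₁] at h
  obtain ⟨a, ha, haq⟩ := exists_value hP (j := l₀) (1 : F)
  obtain ⟨b, hb, hbq⟩ := exists_value hP (j := l₁) (1 : F)
  have haa : Q a ≠ 0 := by rw [haq]; exact one_ne_zero
  have hbb : Q b ≠ 0 := by rw [hbq]; exact one_ne_zero
  set w := R Q a * R Q b with hwdef
  have hw := double_diag hC h01 ha hb haa hbb
  rw [← hwdef] at hw
  have hwM : w ∈ M := pair_mem hC ha hb haa (haq.trans hbq.symm)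
  have hw2 : Module.finrank F ↥(LinearMap.range (moveLin w)) ≤ 2 := by
    have := finrank_range_mul (R Q a) (R Q b)
    have := finrank_range_R hC haa
    have := finrank_range_R hC hbb
    rw [hwdef]; omega
  have hufix : ∃ o, ∀ z ∈ D o, mv u z = z := by
    obtain ⟨o, -, ho⟩ := Finset.exists_mem_notMem_of_card_lt_card (s := B) (t := (Finset.univ : Finset (Fin t)))
      (by have := hu.card; rw [Finset.card_univ, Fintype.card_fin]; omega)
    exact ⟨o, hu.fix o ho⟩
  set t' := g * w * g⁻¹ with ht'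
  have ht'M : t' ∈ M := M.mul_mem (M.mul_mem hg hwM) (M.inv_mem hg)
  have ht'2 : t' * t' = 1 := by
    rw [ht', show g * w * g⁻¹ * (g * w * g⁻¹) = g * (w * w) * g⁻¹ by group, hw.sq, mul_one, mul_inv_cancel]
  rcases Herm.dihedral_cases hu.sq ht'2 with ⟨j, hj⟩ | ⟨m, hm1, hm2, hmu, hmt, j, hj⟩
  · have : u = (u * t') ^ j * g * w * ((u * t') ^ j * g)⁻¹ := by
      conv_lhs => rw [← hj]
      rw [ht']; group
    have h1 := finrank_range_conj ((u * t') ^ j * g) w
    rw [← this] at h1
    omega
  · set i := (u * t') ^ m with hi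
    have hiM : i ∈ M := M.pow_mem (M.mul_mem huM ht'M) m
    have hiS := stab_of_comm hC hR hiM hu.iso hu.maps hu.ne hmu (Or.inl hufix)
    have huS : u ∈ Geo.decompositionStabilizer D := mem_decomp_of_maps hP.nd hP.dec fun k => ⟨k, hu.maps k⟩
    have hiuS := Subgroup.mul_mem _ hiS huS
    obtain ⟨x, hxM, W, v, hv, hxv⟩ : ∃ x ∈ M, ∃ (W : Finset (Fin t)) (v : GL ι F), Diag Q D v W ∧
        x * v * x⁻¹ = i * u := by
      rcases hj with hj | hj
      · exact ⟨_, M.pow_mem (M.mul_mem huM ht'M) j, B, u, hu, hj⟩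
      · exact ⟨_, M.mul_mem (M.pow_mem (M.mul_mem huM ht'M) j) hg, {l₀, l₁}, w, hw, by rw [← hj, ht']; group⟩
    have hxS := stab_of_conj hC hR hxM hv (hxv ▸ hiuS)
    have hxI := le_iso hC hxM
    obtain ⟨τ, hτ⟩ := stab_maps hP (Subgroup.inv_mem _ hxS)
    obtain ⟨σ, hσ⟩ := stab_maps hP hxS
    have hback : ∀ k, ∀ z ∈ D k, ∀ z' ∈ D (τ k), mv x z' ∈ D k := by
      intro k z _ z' hz'
      have hk : σ (τ k) = k := by
        by_contra h
        obtain ⟨d, hd, hdd⟩ := exists_anisotropic hP.nd (block_nondeg hP.dec k) fun h => by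
          have := hP.dec.decomp.decomp.finrank_eq k; rw [h, finrank_bot] at this; omega
        have h1 := hσ _ _ (hτ k d hd)
        rw [mv_mv_inv] at h1
        have := pr_other hP h h1
        rw [pr_self hP hd] at this
        exact hdd (by rw [this, q_zero hP.nd])
      have := hσ _ _ hz'
      rwa [hk] at this
    have hmaps' : ∀ k, ∀ z ∈ D k, mv (i * u) z ∈ D k := by
      intro k z hz
      rw [← hxv, mv_mul, mv_mul]
      exact hback k z hz _ (hv.maps _ _ (hτ k z hz))
    set W' := Finset.univ.filter fun k => τ k ∈ W with hW'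
    have hW'c : W'.card ≤ W.card :=
      Finset.card_le_card_of_injOn τ (fun k hk => (Finset.mem_filter.1 hk).2) τ.injective.injOn
    have hfix' : ∀ k, k ∉ W' → ∀ z ∈ D k, mv (i * u) z = z := by
      intro k hk z hz
      rw [← hxv, mv_mul, mv_mul, hv.fix _ (fun h => hk (Finset.mem_filter.2 ⟨Finset.mem_univ _, h⟩)) _ (hτ k z hz),
        mv_mv_inv]
    have hieq : i = i * u * u := by rw [mul_assoc, hu.sq, mul_one]
    have himaps : ∀ k, ∀ z ∈ D k, mv i z ∈ D k := fun k z hz => by
      rw [hieq, mv_mul]; exact hmaps' k _ (hu.maps k z hz)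
    have hiI := le_iso hC hiM
    have hfin : (∃ o, ∀ z ∈ D o, mv i z = z) ∨ ((2 : F) = 0 ∧ ∃ l m, l ≠ m ∧
        (∃ d ∈ D l, Q d ≠ 0 ∧ ∀ z ∈ D l, mv i z = mv (R Q d) z) ∧
        (∃ d ∈ D m, Q d ≠ 0 ∧ ∀ z ∈ D m, mv i z = mv (R Q d) z)) := by
      by_cases hall : ∃ o, o ∉ B ∧ o ∉ W'
      · obtain ⟨o, ho, ho'⟩ := hall
        exact Or.inl ⟨o, fun z hz => by rw [hieq, mv_mul, hu.fix o ho z hz, hfix' o ho' z hz]⟩
      push Not at hall
      have hcov : (Finset.univ : Finset (Fin t)) ⊆ B ∪ W' := fun o _ => by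
        by_cases ho : o ∈ B
        · exact Finset.mem_union_left _ ho
        · exact Finset.mem_union_right _ (hall o ho)
      have hcc := (Finset.card_le_card hcov).trans (Finset.card_union_le _ _)
      rw [Finset.card_univ, Fintype.card_fin] at hcc
      have h2 : (2 : F) = 0 := by
        by_contra h
        have := hu.odd h; have := hv.odd h
        omega
      have hdiff : 2 ≤ ((B \ W') ∪ (W' \ B)).card := by
        have h1 := Finset.card_sdiff_add_card B W'
        have h1' := Finset.card_sdiff_add_card W' B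
        have h3 := Finset.card_le_card hcov
        rw [Finset.card_univ, Fintype.card_fin] at h3
        rw [Finset.card_union_of_disjoint disjoint_sdiff_sdiff]
        rw [Finset.union_comm W' B] at h1'
        have := hu.card
        have := hv.card
        omega
      obtain ⟨l, hl, m', hm, hlm⟩ := Finset.one_lt_card.1 hdiff
      have href : ∀ k ∈ (B \ W') ∪ (W' \ B), ∃ d ∈ D k, Q d ≠ 0 ∧ ∀ z ∈ D k, mv i z = mv (R Q d) z := by
        intro k hk
        rcases Finset.mem_union.1 hk with hk | hk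
        · obtain ⟨hk1, hk2⟩ := Finset.mem_sdiff.1 hk
          obtain ⟨d, hd, hdd, hdR⟩ := hu.refl h2 k hk1
          exact ⟨d, hd, hdd, fun z hz => by rw [hieq, mv_mul, hfix' k hk2 _ (hu.maps k z hz), hdR z hz]⟩
        · obtain ⟨hk1, hk2⟩ := Finset.mem_sdiff.1 hk
          obtain ⟨d, hd, hdd, hdR⟩ := hv.refl h2 _ (Finset.mem_filter.1 hk1).2
          have hQd : Q (mv x d) = Q d := mem_isometry.1 hxI d
          refine ⟨mv x d, hback k 0 (Submodule.zero_mem _) d hd, by rwa [hQd], fun z hz => ?_⟩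
          rw [hieq, mv_mul, hu.fix k hk2 z hz, ← hxv, mv_mul, mv_mul, hdR _ (hτ k z hz), R_apply hP hdd,
            R_apply hP (by rwa [hQd]), mv_sub, mv_smul, mv_mv_inv, hQd]
          congr 3
          rw [← pol_mv hP.nd hxI (mv x⁻¹ z) d, mv_mv_inv]
      exact Or.inr ⟨h2, l, m', hlm, href l hl, href m' hm⟩
    exact hgm (stab_of_conj hC hR hg hw (stab_of_comm hC hR ht'M hiI himaps hm1 hmt.symm hfin))

end Cfsg.Agent.Transvec.Planes
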