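/-
Centres of overgroups of the stabiliser of an orthogonal decomposition into planes.
-/
import Cfsg.Agent.Lib.Transvec.OrthPlanesRigid
set_option autoImplicit false
set_option linter.unusedSectionVars false

namespace Cfsg.Agent.Transvec.Planes

open scoped Matrix
open Matrix Cfsg.Agent.Transvec Cfsg.Agent.Transvec.Orth
open Cfsg.Agent.Transvec.OFr (R)

variable {ι : Type} [Fintype ι] [DecidableEq ι] {F : Type*} [Field F] [Fintype F] {Q : (ι → F) → F}
variable {t : ℕ} {D : Fin t → Submodule F (ι → F)} {M : Subgroup (GL ι F)}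

/-- The vectors of value κ whose reflection differs by M from those of the members' vectors of this value. -/
def Cen (Q : (ι → F) → F) (D : Fin t → Submodule F (ι → F)) (M : Subgroup (GL ι F)) (κ : F) : Set (ι → F) :=
  {x | Q x = κ ∧ ∀ i, ∀ c ∈ D i, Q c = κ → R Q c * R Q x ∈ M}

/-- The group generated by the reflections of one member. -/
noncomputable def Supp (Q : (ι → F) → F) (D : Fin t → Submodule F (ι → F)) (o : Fin t) : Subgroup (GL ι F) :=
  Subgroup.closure {r | ∃ c ∈ D o, Q c ≠ 0 ∧ r = R Q c}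

variable (hC : Ctx Q D M)
include hC

theorem supp_spec {o : Fin t} {ρ : GL ι F} (hρ : ρ ∈ Supp Q D o) :
    ρ ∈ isometryGroup F Q ∧ ρ ∈ Geo.decompositionStabilizer D ∧ ∀ z, pr hC.pl o z = 0 → mv ρ z = z := by
  let G : Subgroup (GL ι F) :=
    { carrier := {g | g ∈ isometryGroup F Q ∧ g ∈ Geo.decompositionStabilizer D ∧
        ∀ z, pr hC.pl o z = 0 → mv g z = z}
      one_mem' := ⟨one_mem _, one_mem _, fun z _ => mv_one z⟩
      mul_mem' := fun {a b} ha hb => ⟨Subgroup.mul_mem _ ha.1 hb.1, Subgroup.mul_mem _ ha.2.1 hb.2.1,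
        fun z hz => by rw [mv_mul, hb.2.2 z hz, ha.2.2 z hz]⟩
      inv_mem' := fun {a} ha => ⟨Subgroup.inv_mem _ ha.1, Subgroup.inv_mem _ ha.2.1,
        fun z hz => by conv_lhs => rw [← ha.2.2 z hz, mv_inv_mv]⟩ }
  have hle : Supp Q D o ≤ G := (Subgroup.closure_le _).2 (by
    rintro r ⟨c, hc, hcc, rfl⟩
    exact ⟨(R_spec hC.pl hcc).1, R_stab hC.pl hc hcc,
      fun z hz => R_fix hC.pl hcc ((pol_comm _ _).trans ((pr_eq_zero hC.pl).1 hz c hc))⟩)
  exact hle hρ

/-- Every isometry is corrected into the commutator subgroup inside one member. -/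
theorem exists_corrected {g : GL ι F} (hg : g ∈ isometryGroup F Q) (o : Fin t) :
    ∃ ρ ∈ Supp Q D o, g * ρ ∈ Geo.omegaGL Q := by
  have hP := hC.pl
  have hSI : ∀ {ρ : GL ι F}, ρ ∈ Supp Q D o → ρ ∈ isometryGroup F Q := fun h => (supp_spec hC h).1
  let G : Subgroup (GL ι F) :=
    { carrier := {g | g ∈ isometryGroup F Q ∧ ∃ ρ ∈ Supp Q D o, g * ρ ∈ Geo.omegaGL Q}
      one_mem' := ⟨one_mem _, 1, one_mem _, by rw [one_mul]; exact one_mem _⟩
      mul_mem' := by
        rintro a b ⟨ha, h, hh, ho⟩ ⟨hb, h', hh', ho'⟩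
        refine ⟨Subgroup.mul_mem _ ha hb, h' * h, Subgroup.mul_mem _ hh' hh, ?_⟩
        rw [show a * b * (h' * h) = a * (b * h') * a⁻¹ * (a * h) by group]
        exact Subgroup.mul_mem _ (omega_conj hP.nd hP.hn ha ho') ho
      inv_mem' := by
        rintro a ⟨ha, h, hh, ho⟩
        refine ⟨Subgroup.inv_mem _ ha, h⁻¹, Subgroup.inv_mem _ hh, ?_⟩
        rw [show a⁻¹ * h⁻¹ = h * (a * h)⁻¹ * h⁻¹ by group]
        exact omega_conj hP.nd hP.hn (hSI hh) (Subgroup.inv_mem _ ho) }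
  suffices isometryGroup F Q ≤ G from (this hg).2
  refine (isometry_le hP.nd).trans ((Subgroup.closure_le _).2 ?_)
  rintro r (hr | ⟨hr, a, ha⟩)
  · exact ⟨siegelGroup_le_isometry hP.nd hr, 1, one_mem _, by rw [mul_one, omegaGL_eq hP.nd hP.hn]; exact hr⟩
  · obtain ⟨c, hc, hcv⟩ := exists_value hP (j := o) (Q a)
    refine ⟨hr, R Q c, Subgroup.subset_closure ⟨c, hc, hcv ▸ ha.1, rfl⟩, ?_⟩
    exact refl_pair_mem hP.nd hP.hn hr ha (R_spec hP (hcv ▸ ha.1)).2 hcv.symm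

variable {κ : F} (hκ : κ ≠ 0)
include hκ

theorem cen_q_ne {x : ι → F} (hx : x ∈ Cen Q D M κ) : Q x ≠ 0 := hx.1 ▸ hκ

theorem cen_of_one {x : ι → F} (hx : Q x = κ) {i : Fin t} {c : ι → F} (hc : c ∈ D i) (hcq : Q c = κ)
    (h : R Q c * R Q x ∈ M) : x ∈ Cen Q D M κ :=
  ⟨hx, fun j d hd hdq => by
    have := M.mul_mem (pair_mem hC hd hc (hdq ▸ hκ) (hdq.trans hcq.symm)) h
    rwa [mul_assoc, ← mul_assoc (R Q c), R_sq hC.pl (hcq ▸ hκ), one_mul] at this⟩

theorem cen_block {i : Fin t} {c : ι → F} (hc : c ∈ D i) (hcq : Q c = κ) : c ∈ Cen Q D M κ :=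
  ⟨hcq, fun _ d hd hdq => pair_mem hC hd hc (hdq ▸ hκ) (hdq.trans hcq.symm)⟩

theorem cen_pair {x y : ι → F} (hx : x ∈ Cen Q D M κ) (hy : y ∈ Cen Q D M κ) : R Q x * R Q y ∈ M := by
  obtain ⟨c, hc, hcq⟩ := exists_value hC.pl (j := ⟨0, by have := hC.pl.ht; omega⟩) κ
  have := M.mul_mem (M.inv_mem (hx.2 _ c hc hcq)) (hy.2 _ c hc hcq)
  rwa [_root_.mul_inv_rev, R_inv hC.pl (cen_q_ne hC hκ hx), mul_assoc, inv_mul_cancel_left] at this

theorem cen_refl {x y : ι → F} (hx : x ∈ Cen Q D M κ) (hy : y ∈ Cen Q D M κ) :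
    mv (R Q x) y ∈ Cen Q D M κ := by
  have hI := (R_spec hC.pl (cen_q_ne hC hκ hx)).1
  refine ⟨by rw [mem_isometry.1 hI, hy.1], fun i c hc hcq => ?_⟩
  rw [← R_conj hC.pl hI (cen_q_ne hC hκ hy), R_inv hC.pl (cen_q_ne hC hκ hx), ← mul_assoc, ← mul_assoc, mul_assoc]
  exact M.mul_mem (hx.2 i c hc hcq) (cen_pair hC hκ hy hx)

/-- An element of M carrying one centre to a centre carries all centres to centres. -/
theorem cen_mv {g : GL ι F} (hg : g ∈ M) {x : ι → F} (hx : x ∈ Cen Q D M κ) (hgx : mv g x ∈ Cen Q D M κ)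
    {y : ι → F} (hy : y ∈ Cen Q D M κ) : mv g y ∈ Cen Q D M κ := by
  have hI := le_iso hC hg
  have h := M.mul_mem (M.mul_mem hg (cen_pair hC hκ hx hy)) (M.inv_mem hg)
  rw [show g * (R Q x * R Q y) * g⁻¹ = (g * R Q x * g⁻¹) * (g * R Q y * g⁻¹) by group,
    R_conj hC.pl hI (cen_q_ne hC hκ hx), R_conj hC.pl hI (cen_q_ne hC hκ hy)] at h
  refine ⟨by rw [mem_isometry.1 hI, hy.1], fun i c hc hcq => ?_⟩
  have := M.mul_mem (hgx.2 i c hc hcq) h
  rwa [mul_assoc, ← mul_assoc (R Q (mv g x)), R_sq hC.pl (cen_q_ne hC hκ hgx), one_mul] at this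

theorem cen_stab_mv {g : GL ι F} (hg : g ∈ Geo.decompositionStabilizer D) (hg' : g ∈ Geo.omegaGL Q) {y : ι → F}
    (hy : y ∈ Cen Q D M κ) : mv g y ∈ Cen Q D M κ := by
  obtain ⟨σ, hσ⟩ := stab_maps hC.pl hg
  obtain ⟨c, hc, hcq⟩ := exists_value hC.pl (j := ⟨0, by have := hC.pl.ht; omega⟩) κ
  exact cen_mv hC hκ (mem_H hC hg hg') (cen_block hC hκ hc hcq)
    (cen_block hC hκ (hσ _ c hc) (by rw [mem_isometry.1 (omega_le_isometry hC.pl.nd hg'), hcq])) hy

/-- Stabiliser isometries carry a centre to centres, provided it has a zero component or all values are squares. -/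
theorem cen_move {x : ι → F} (hx : x ∈ Cen Q D M κ) (hz : (∃ o, pr hC.pl o x = 0) ∨ (2 : F) = 0) {h : GL ι F}
    (hh : h ∈ Geo.decompositionStabilizer D) (hhI : h ∈ isometryGroup F Q) : mv h x ∈ Cen Q D M κ := by
  have hP := hC.pl
  rcases hz with ⟨o, ho⟩ | h2
  · obtain ⟨ρ, hρ, hρo⟩ := exists_corrected hC hhI o
    have := cen_stab_mv hC hκ (Subgroup.mul_mem _ hh (supp_spec hC hρ).2.1) hρo hx
    rwa [mv_mul, (supp_spec hC hρ).2.2 x ho] at this
  set o : Fin t := ⟨0, by have := hP.ht; omega⟩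
  obtain ⟨ρ, hρ, hρo⟩ := exists_corrected hC hhI o
  let G : Subgroup (GL ι F) :=
    { carrier := {g | ∀ y ∈ Cen Q D M κ, mv g y ∈ Cen Q D M κ ∧ mv g⁻¹ y ∈ Cen Q D M κ}
      one_mem' := fun y hy => ⟨by rwa [mv_one], by rwa [inv_one, mv_one]⟩
      mul_mem' := fun {a b} ha hb y hy => ⟨by rw [mv_mul]; exact (ha _ (hb y hy).1).1,
        by rw [_root_.mul_inv_rev, mv_mul]; exact (hb _ (ha y hy).2).2⟩
      inv_mem' := fun {a} ha y hy => ⟨(ha y hy).2, by rw [inv_inv]; exact (ha y hy).1⟩ }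
  have hle : Supp Q D o ≤ G := (Subgroup.closure_le _).2 (by
    rintro r ⟨c, hc, hcc, rfl⟩ y hy
    obtain ⟨s, hs⟩ := two_cases h2 (κ / Q c)
    have hs0 : s ≠ 0 := fun h => by
      rw [h, zero_pow two_ne_zero] at hs
      exact div_ne_zero hκ hcc hs.symm
    have : mv (R Q c) y ∈ Cen Q D M κ := by
      rw [← R_smul hP hcc hs0]
      exact cen_refl hC hκ (cen_block hC hκ ((D o).smul_mem s hc)
        (by rw [q_smul hP.nd, hs, div_mul_cancel₀ _ hcc])) hy
    exact ⟨this, by rwa [R_inv hP hcc]⟩)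
  have := cen_stab_mv hC hκ (Subgroup.mul_mem _ hh (supp_spec hC hρ).2.1) hρo (hle hρ x hx).2
  rwa [mv_mul, mv_mv_inv] at this

/-- One component of a centre is replaced by any vector of its value. -/
theorem cen_change {x : ι → F} (hx : x ∈ Cen Q D M κ) (hz : (∃ o, pr hC.pl o x = 0) ∨ (2 : F) = 0) {l : Fin t}
    (hl : Q (pr hC.pl l x) ≠ 0) {c : ι → F} (hc : c ∈ D l) (hcq : Q c = Q (pr hC.pl l x)) :
    x + (c - pr hC.pl l x) ∈ Cen Q D M κ := by
  obtain ⟨h, ⟨hh, hhI⟩, hha, hfix⟩ := exists_carry hC.pl (pr_mem hC.pl l x) hl hc hcq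
  have := cen_move hC hκ hx hz hh hhI
  rwa [show mv h x = x + (c - pr hC.pl l x) by
    conv_lhs => rw [show x = pr hC.pl l x + (x - pr hC.pl l x) by abel, mv_add, hha,
      hfix (x - pr hC.pl l x) (by rw [pr_sub hC.pl, pr_self hC.pl (pr_mem hC.pl l x), sub_self])]
    abel] at this

omit hκ

/-- Outside the stabiliser there is a centre lying in no member. -/
theorem exists_start (hnm : ∃ g ∈ M, g ∉ Geo.decompositionStabilizer D) :
    ∃ κ : F, κ ≠ 0 ∧ ∃ x ∈ Cen Q D M κ, ∀ i, x ∉ D i := by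
  have hP := hC.pl
  obtain ⟨g, hg, hgS, i, A, a, ha, haa, hga⟩ := not_rigid hC hnm
  refine ⟨Q a, haa, ?_⟩
  have hgI := le_iso hC hg
  by_contra hcon
  push Not at hcon
  have hblock : ∀ j, ∀ d ∈ D j, Q d = Q a → ∃ B, mv g d ∈ D B := fun j d hd hdq =>
    hcon _ (cen_mv hC haa hg (cen_block hC haa ha rfl)
      (cen_block hC haa hga (mem_isometry.1 hgI a)) (cen_block hC haa hd hdq))
  refine hgS (mem_decomp_of_maps hP.nd hP.dec fun j => ?_)
  obtain ⟨c, hc, hcq⟩ := exists_value hP (j := j) (Q a)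
  obtain ⟨d, hd, hdq, hds, hdc⟩ := exists_turn hP hc (hcq ▸ haa)
  obtain ⟨B, hB⟩ := hblock j c hc hcq
  obtain ⟨B', hB'⟩ := hblock j d hd (hdq.trans hcq)
  have hBB : B' = B := by
    by_contra h
    exact hdc (by rw [← pol_mv hP.nd hgI]; exact block_orth hP.dec (Ne.symm h) hB hB')
  refine ⟨B, fun u hu => ?_⟩
  obtain ⟨r, s, rfl⟩ := span_two hP hc (fun h => haa (by rw [← hcq, h, q_zero hP.nd])) hd hds hu
  rw [mv_add, mv_smul, mv_smul]
  exact (D B).add_mem ((D B).smul_mem _ hB) ((D B).smul_mem _ (hBB ▸ hB'))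

include hκ

/-- A centre with exactly two components gives one with three. -/
theorem exists_three_of_two {x : ι → F} (hx : x ∈ Cen Q D M κ) {l m : Fin t} (hlm : l ≠ m)
    (hl : Q (pr hC.pl l x) ≠ 0) (hm : Q (pr hC.pl m x) ≠ 0)
    (hrest : ∀ i, i ≠ l → i ≠ m → pr hC.pl i x = 0) :
    ∃ y ∈ Cen Q D M κ, ∃ i j k : Fin t, i ≠ j ∧ i ≠ k ∧ j ≠ k ∧ pr hC.pl i y ≠ 0 ∧ pr hC.pl j y ≠ 0 ∧
      pr hC.pl k y ≠ 0 ∧ ∃ o, pr hC.pl o y = 0 := by
  classical
  have hP := hC.pl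
  have ht := hP.ht
  obtain ⟨r, -, hr⟩ := Finset.exists_mem_notMem_of_card_lt_card (s := ({l, m} : Finset (Fin t)))
    (t := (Finset.univ : Finset (Fin t)))
    (by rw [Finset.card_univ, Fintype.card_fin]; exact Finset.card_le_two.trans_lt (by omega))
  obtain ⟨o, -, ho⟩ := Finset.exists_mem_notMem_of_card_lt_card (s := ({l, m, r} : Finset (Fin t)))
    (t := (Finset.univ : Finset (Fin t)))
    (by rw [Finset.card_univ, Fintype.card_fin]; exact Finset.card_le_three.trans_lt (by omega))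
  simp only [Finset.mem_insert, Finset.mem_singleton, not_or] at hr ho
  set b := pr hP m x
  set a := pr hP l x
  obtain ⟨b', hb', hbq, hbs, hbb⟩ := exists_turn hP (pr_mem hP m x) hm
  have hz : ∃ o, pr hP o x = 0 := ⟨o, hrest o ho.1 ho.2.1⟩
  have hx₁ := cen_change hC hκ hx (Or.inl hz) hm hb' hbq
  obtain ⟨sw, e, hswI, hswl, hswr, hswf⟩ := exists_block_swap hP.nd hP.dec (i := l) (l := r) (Ne.symm hr.1)
  have hswS : sw ∈ Geo.decompositionStabilizer D := mem_decomp_of_maps hP.nd hP.dec fun p => by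
    rcases eq_or_ne p l with rfl | hpl
    · exact ⟨r, fun u hu => by rw [show u = ((⟨u, hu⟩ : D p) : ι → F) from rfl, hswl]; exact (e _).2⟩
    rcases eq_or_ne p r with rfl | hpr
    · exact ⟨l, fun u hu => by rw [show u = ((⟨u, hu⟩ : D p) : ι → F) from rfl, hswr]; exact (e.symm _).2⟩
    exact ⟨p, fun u hu => by
      rw [hswf u (fun w hw => block_orth hP.dec hpl.symm hw hu) (fun w hw => block_orth hP.dec hpr.symm hw hu)]
      exact hu⟩
  have hx₂ := cen_move hC hκ hx₁ (Or.inl ⟨o, by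
    rw [pr_add hP, pr_sub hP, hrest o ho.1 ho.2.1, pr_other hP (Ne.symm ho.2.1) hb',
      pr_other hP (Ne.symm ho.2.1) (pr_mem hP m x), sub_zero, add_zero]⟩) hswS hswI
  set a' : ι → F := ((e ⟨a, pr_mem hP l x⟩ : D r) : ι → F) with ha'
  have hsum : x = a + b := ext_pr hP fun i => by
    rw [pr_add hP]
    rcases eq_or_ne i l with rfl | hil
    · rw [pr_self hP (pr_mem hP i x), pr_other hP hlm.symm (pr_mem hP m x), add_zero]
    rcases eq_or_ne i m with rfl | him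
    · rw [pr_self hP (pr_mem hP i x), pr_other hP hlm (pr_mem hP l x), zero_add]
    · rw [hrest i hil him, pr_other hP hil.symm (pr_mem hP l x), pr_other hP him.symm (pr_mem hP m x), add_zero]
  have hx₂' : mv sw (x + (b' - b)) = a' + b' := by
    rw [show x + (b' - b) = a + b' by rw [hsum]; abel, mv_add,
      hswf b' (fun w hw => block_orth hP.dec hlm hw hb') (fun w hw => block_orth hP.dec hr.2 hw hb')]
    congr 1
    exact hswl ⟨a, pr_mem hP l x⟩
  rw [hx₂'] at hx₂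
  set y := mv (R Q x) (a' + b') with hy
  have ha'm : a' ∈ D r := Subtype.prop _
  have hpol : pol Q (a' + b') x = pol Q b b' := by
    rw [hsum, pol_add_left hP.nd, pol_add_right hP.nd, pol_add_right hP.nd,
      block_orth hP.dec hr.1 ha'm (pr_mem hP l x), block_orth hP.dec hr.2 ha'm (pr_mem hP m x),
      block_orth hP.dec hlm.symm hb' (pr_mem hP l x), pol_comm b' b]
    ring
  have hye : y = a' + b' - (pol Q b b' / κ) • (a + b) := by
    rw [hy, R_apply hP (cen_q_ne hC hκ hx), hpol, hx.1, hsum]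
  have hlam : pol Q b b' / κ ≠ 0 := div_ne_zero hbb hκ
  refine ⟨y, cen_refl hC hκ hx hx₂, l, m, r, hlm, Ne.symm hr.1, Ne.symm hr.2, ?_, ?_, ?_, o, ?_⟩
  all_goals rw [hye, pr_sub hP, pr_smul hP, pr_add hP, pr_add hP]
  · rw [pr_other hP hr.1 ha'm, pr_other hP hlm.symm hb', pr_self hP (pr_mem hP l x),
      pr_other hP hlm.symm (pr_mem hP m x), add_zero, zero_sub, add_zero]
    exact neg_ne_zero.2 (smul_ne_zero hlam fun h => hl (by show Q a = 0; rw [show a = 0 from h, q_zero hP.nd]))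
  · rw [pr_other hP hr.2 ha'm, pr_self hP hb', pr_other hP hlm (pr_mem hP l x), pr_self hP (pr_mem hP m x),
      zero_add, zero_add, sub_ne_zero]
    intro h
    exact hbs (Submodule.mem_span_singleton.2 ⟨_, h.symm⟩)
  · rw [pr_self hP ha'm, pr_other hP (Ne.symm hr.2) hb', pr_other hP (Ne.symm hr.1) (pr_mem hP l x),
      pr_other hP (Ne.symm hr.2) (pr_mem hP m x), add_zero, add_zero, smul_zero, sub_zero]
    intro h
    have h1 : e ⟨a, pr_mem hP l x⟩ = 0 := Subtype.ext h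
    rw [LinearEquiv.map_eq_zero_iff] at h1
    exact hl (by show Q a = 0; rw [show a = 0 from congrArg Subtype.val h1, q_zero hP.nd])
  · rw [pr_other hP (Ne.symm ho.2.2) ha'm, pr_other hP (Ne.symm ho.2.1) hb',
      pr_other hP (Ne.symm ho.1) (pr_mem hP l x), pr_other hP (Ne.symm ho.2.1) (pr_mem hP m x), add_zero,
      smul_zero, sub_zero]

end Cfsg.Agent.Transvec.Planes
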