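/-
A centre outside the members with a vanishing component.
-/
import Cfsg.Agent.Lib.Transvec.OrthPlanesCentres
set_option autoImplicit false
set_option linter.unusedSectionVars false
set_option maxHeartbeats 1000000

namespace Cfsg.Agent.Transvec.Planes

open scoped Matrix
open Matrix Cfsg.Agent.Transvec Cfsg.Agent.Transvec.Orth
open Cfsg.Agent.Transvec.OFr (R)

variable {ι : Type} [Fintype ι] [DecidableEq ι] {F : Type*} [Field F] [Fintype F] {Q : (ι → F) → F}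
variable {t : ℕ} {D : Fin t → Submodule F (ι → F)}

/-- The class of an isometry modulo the commutator subgroup, against a fixed element. -/
def Par (Q : (ι → F) → F) (τ h : GL ι F) (σ : Bool) : Prop :=
  if σ then h * τ ∈ Geo.omegaGL Q else h ∈ Geo.omegaGL Q

variable (hP : Pl Q D)
include hP

omit hP in
theorem isSquare_mul_of_not {a b : F} (ha : ¬ IsSquare a) (hb : ¬ IsSquare b) : IsSquare (a * b) := by
  classical
  have ha0 : a ≠ 0 := fun h => ha (h ▸ ⟨0, by simp⟩)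
  have hb0 : b ≠ 0 := fun h => hb (h ▸ ⟨0, by simp⟩)
  rw [← quadraticChar_one_iff_isSquare (mul_ne_zero ha0 hb0), map_mul, quadraticChar_neg_one_iff_not_isSquare.2 ha,
    quadraticChar_neg_one_iff_not_isSquare.2 hb]
  norm_num

/-- Two reflections of proportional square class. -/
theorem pair_square {a b : ι → F} (ha : Q a ≠ 0) (hb : Q b ≠ 0) (h : IsSquare (Q a * Q b)) :
    R Q a * R Q b ∈ Geo.omegaGL Q := by
  obtain ⟨s, hs⟩ := h
  have hs0 : s ≠ 0 := fun h => mul_ne_zero ha hb (by rw [hs, h, zero_mul])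
  have hl : s / Q b ≠ 0 := div_ne_zero hs0 hb
  rw [← R_smul hP hb hl]
  refine R_omega hP ha ?_
  rw [q_smul hP.nd]
  field_simp
  linear_combination hs

/-- An element of one member deciding the class of every pair of reflections. -/
theorem exists_twist (s : Fin t) : ∃ τ : GL ι F, τ ∈ isometryGroup F Q ∧ τ ∈ Geo.decompositionStabilizer D ∧
    (∀ z, pr hP s z = 0 → mv τ z = z) ∧ τ * τ ∈ Geo.omegaGL Q ∧
    (∀ h ∈ isometryGroup F Q, (∀ z ∈ D s, mv h z = z) → h * τ = τ * h) ∧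
    (∀ w u : ι → F, Q w ≠ 0 → Q u ≠ 0 → ∃ σ, Par Q τ (R Q w * R Q u) σ) ∧
    (∀ w u : ι → F, Q w ≠ 0 → Q u ≠ 0 → ¬ IsSquare (Q w * Q u) → Par Q τ (R Q w * R Q u) true) ∧
    ((2 : F) = 0 → ∀ g σ σ', Par Q τ g σ → Par Q τ g σ') := by
  classical
  by_cases h2 : (2 : F) = 0
  · have hsq : ∀ x : F, IsSquare x := fun x => by
      obtain ⟨c, hc⟩ := two_cases h2 x; exact ⟨c, by rw [← hc, pow_two]⟩
    exact ⟨1, one_mem _, one_mem _, fun z _ => mv_one z, by rw [one_mul]; exact one_mem _,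
      fun h _ _ => by rw [mul_one, one_mul],
      fun w u hw hu => ⟨false, pair_square hP hw hu (hsq _)⟩, fun w u hw hu h => absurd (hsq _) h,
      fun _ g σ σ' h => by cases σ <;> cases σ' <;> simp_all [Par]⟩
  obtain ⟨ν, hν⟩ := FiniteField.exists_nonsquare (F := F) (fun h => h2 (by
    have : CharP F 2 := ringChar.eq_iff.1 h
    exact CharP.cast_eq_zero F 2))
  have hν0 : ν ≠ 0 := fun h => hν (h ▸ ⟨0, by simp⟩)
  obtain ⟨p, hp, hpq⟩ := exists_value hP (j := s) (1 : F)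
  obtain ⟨q, hq, hqq⟩ := exists_value hP (j := s) ν
  have hpp : Q p ≠ 0 := by rw [hpq]; exact one_ne_zero
  have hqq0 : Q q ≠ 0 := hqq ▸ hν0
  have hI : ∀ {b : ι → F}, Q b ≠ 0 → R Q b ∈ isometryGroup F Q := fun h => (R_spec hP h).1
  have odd : ∀ w u : ι → F, Q w ≠ 0 → Q u ≠ 0 → ¬ IsSquare (Q w * Q u) →
      Par Q (R Q p * R Q q) (R Q w * R Q u) true := by
    intro w u hw hu hwu
    show R Q w * R Q u * (R Q p * R Q q) ∈ Geo.omegaGL Q
    by_cases hwp : IsSquare (Q w * Q p)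
    · rw [show R Q w * R Q u * (R Q p * R Q q) = (R Q w * R Q p) * ((R Q p)⁻¹ * R Q u * (R Q p)⁻¹⁻¹ * R Q q) by group,
        R_conj hP (Subgroup.inv_mem _ (hI hpp)) hu]
      have hq' : Q (mv (R Q p)⁻¹ u) = Q u := mem_isometry.1 (Subgroup.inv_mem _ (hI hpp)) u
      refine Subgroup.mul_mem _ (pair_square hP hw hpp hwp) (pair_square hP (by rw [hq']; exact hu) hqq0 ?_)
      rw [hq', hqq]
      refine isSquare_mul_of_not (fun hu' => hwu ?_) hν
      exact (by simpa [hpq] using hwp : IsSquare (Q w)).mul hu'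
    · have hw' : ¬ IsSquare (Q w) := fun h => hwp (by rwa [hpq, mul_one])
      have hu' : IsSquare (Q u) := by
        by_contra h
        exact hwu (isSquare_mul_of_not hw' h)
      rw [show R Q w * R Q u * (R Q p * R Q q) = (R Q w * R Q q) *
        (((R Q q)⁻¹ * R Q u * (R Q q)⁻¹⁻¹) * ((R Q q)⁻¹ * R Q p * (R Q q)⁻¹⁻¹)) by group,
        R_conj hP (Subgroup.inv_mem _ (hI hqq0)) hu, R_conj hP (Subgroup.inv_mem _ (hI hqq0)) hpp]
      have e1 := mem_isometry.1 (Subgroup.inv_mem _ (hI hqq0)) u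
      have e2 := mem_isometry.1 (Subgroup.inv_mem _ (hI hqq0)) p
      refine Subgroup.mul_mem _ (pair_square hP hw hqq0 (isSquare_mul_of_not hw' (hqq ▸ hν))) (pair_square hP
        (by rw [e1]; exact hu) (by rw [e2]; exact hpp) ?_)
      rw [e1, e2, hpq, mul_one]; exact hu'
  refine ⟨R Q p * R Q q, Subgroup.mul_mem _ (hI hpp) (hI hqq0),
    Subgroup.mul_mem _ (R_stab hP hp hpp) (R_stab hP hq hqq0), fun z hz => ?_, ?_, fun h hh hfix => ?_,
    fun w u hw hu => ?_, odd, fun h => absurd h h2⟩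
  · rw [mv_mul, R_fix hP hqq0 ((pol_comm _ _).trans ((pr_eq_zero hP).1 hz q hq)),
      R_fix hP hpp ((pol_comm _ _).trans ((pr_eq_zero hP).1 hz p hp))]
  · rw [show R Q p * R Q q * (R Q p * R Q q) = (R Q p * (R Q q * R Q p * (R Q q)⁻¹)) *
      (R Q q * R Q q) by group, R_conj hP (hI hqq0) hpp, R_sq hP hqq0, mul_one]
    exact R_omega hP hpp (mem_isometry.1 (hI hqq0) p).symm
  · calc h * (R Q p * R Q q) = (h * R Q p * h⁻¹) * (h * R Q q * h⁻¹) * h := by group
      _ = R Q p * R Q q * h := by rw [R_conj hP hh hpp, R_conj hP hh hqq0, hfix p hp, hfix q hq]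
  · by_cases hwu : IsSquare (Q w * Q u)
    · exact ⟨false, pair_square hP hw hu hwu⟩
    · exact ⟨true, odd w u hw hu hwu⟩

/-- A change of x inside the members indexed by S with a given class. -/
def Mov (hP : Pl Q D) (τ : GL ι F) (x : ι → F) (S : Finset (Fin t)) (d : ι → F) (σ : Bool) : Prop :=
  ∃ h, h ∈ isometryGroup F Q ∧ h ∈ Geo.decompositionStabilizer D ∧
    (∀ z, (∀ l ∈ S, pr hP l z = 0) → mv h z = z) ∧ Par Q τ h σ ∧ mv h x - x = d

theorem mov_supp {τ : GL ι F} {x d : ι → F} {S : Finset (Fin t)} {σ : Bool} (h : Mov hP τ x S d σ) {l : Fin t}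
    (hl : l ∉ S) : pr hP l d = 0 := by
  obtain ⟨g, hg, -, hfix, -, rfl⟩ := h
  exact fix_of_pr hP hg (fun u hu => hfix u fun i hi => pr_other hP (fun h => hl (by rw [h]; exact hi)) hu) (mem_range x)

theorem mov_none {τ x : _} : Mov hP (τ : GL ι F) (x : ι → F) ∅ 0 false :=
  ⟨1, one_mem _, one_mem _, fun z _ => mv_one z, show (1 : GL ι F) ∈ Geo.omegaGL Q from one_mem _,
    by rw [mv_one, sub_self]⟩

theorem mov_comb {τ : GL ι F} {s : Fin t} (hτ : ∀ h ∈ isometryGroup F Q, (∀ z ∈ D s, mv h z = z) → h * τ = τ * h)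
    (hτ2 : τ * τ ∈ Geo.omegaGL Q) {x d d' : ι → F} {S S' : Finset (Fin t)} {σ σ' : Bool}
    (h : Mov hP τ x S d σ) (h' : Mov hP τ x S' d' σ') (hdis : Disjoint S S') (hs : s ∉ S') :
    Mov hP τ x (S ∪ S') (d + d') (σ ^^ σ') := by
  obtain ⟨g, hg, hgS, hgf, hgp, rfl⟩ := h
  obtain ⟨g', hg', hg'S, hg'f, hg'p, rfl⟩ := h'
  have hd' : ∀ l ∈ S, pr hP l (mv g' x - x) = 0 := fun l hl =>
    fix_of_pr hP hg' (fun u hu => hg'f u fun i hi => pr_other hP (fun h => Finset.disjoint_left.1 hdis hl (by rw [h]; exact hi)) hu)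
      (mem_range x)
  have hc : g' * τ = τ * g' := hτ g' hg' fun z hz => hg'f z fun i hi => pr_other hP (fun h => hs (by rw [h]; exact hi)) hz
  refine ⟨g * g', Subgroup.mul_mem _ hg hg', Subgroup.mul_mem _ hgS hg'S, fun z hz => ?_, ?_, ?_⟩
  · rw [mv_mul, hg'f z fun l hl => hz l (Finset.mem_union_right _ hl),
      hgf z fun l hl => hz l (Finset.mem_union_left _ hl)]
  · cases σ <;> cases σ'
    · exact Subgroup.mul_mem _ hgp hg'p
    · show g * g' * τ ∈ Geo.omegaGL Q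
      rw [mul_assoc]; exact Subgroup.mul_mem _ hgp hg'p
    · show g * g' * τ ∈ Geo.omegaGL Q
      rw [mul_assoc, hc, ← mul_assoc]; exact Subgroup.mul_mem _ hgp hg'p
    · show g * g' ∈ Geo.omegaGL Q
      have := Subgroup.mul_mem _ (Subgroup.mul_mem _ (show g * τ ∈ Geo.omegaGL Q from hgp)
        (show g' * τ ∈ Geo.omegaGL Q from hg'p)) (Subgroup.inv_mem _ hτ2)
      rwa [show g * τ * (g' * τ) * (τ * τ)⁻¹ = g * (τ * g') * τ⁻¹ by group, ← hc,
        show g * (g' * τ) * τ⁻¹ = g * g' by group] at this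
  · have e := hgf _ hd'
    rw [mv_sub] at e
    rw [mv_mul, show mv g (mv g' x) = mv g x + (mv g' x - x) by linear_combination (norm := module) e]
    abel

theorem mov_turn {τ : GL ι F} (hclass : ∀ w u : ι → F, Q w ≠ 0 → Q u ≠ 0 → ∃ σ, Par Q τ (R Q w * R Q u) σ)
    {x : ι → F} {l : Fin t} (hl : Q (pr hP l x) ≠ 0) {A : F} (hA : A ∈ vals Q D l (pr hP l x)) :
    ∃ d σ, Mov hP τ x {l} d σ ∧ d ∈ D l ∧ Q d = A := by
  obtain ⟨c, hc, hcq, hcA⟩ := (mem_vals hP).1 hA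
  set a := pr hP l x
  have ha := pr_mem hP l x
  rcases eq_or_ne c a with rfl | hne
  · exact ⟨0, false, ⟨1, one_mem _, one_mem _, fun z _ => mv_one z,
      show (1 : GL ι F) ∈ Geo.omegaGL Q from one_mem _, by rw [mv_one, sub_self]⟩, Submodule.zero_mem _,
      by rw [← hcA, sub_self]⟩
  have hd := diff_ne hP ha hl hc hcq hne
  have hd' : Q (a - c) ≠ 0 := by rwa [← q_neg hP.nd, neg_sub]
  obtain ⟨u, hu, hau, huu⟩ := exists_perp hP ha hl
  obtain ⟨σ, hσ⟩ := hclass (a - c) u hd' huu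
  have hw : a - c ∈ D l := (D l).sub_mem ha hc
  refine ⟨c - a, σ, ⟨R Q (a - c) * R Q u, Subgroup.mul_mem _ (R_spec hP hd').1 (R_spec hP huu).1,
    Subgroup.mul_mem _ (R_stab hP hw hd') (R_stab hP hu huu), fun z hz => ?_, hσ, ?_⟩, (D l).sub_mem hc ha, hcA⟩
  · have h0 := (pr_eq_zero hP).1 (hz l (Finset.mem_singleton_self l))
    rw [mv_mul, R_fix hP huu ((pol_comm _ _).trans (h0 u hu)), R_fix hP hd' ((pol_comm _ _).trans (h0 _ hw))]
  · rw [mv_mul, R_fix hP huu ((pol_comm _ _).trans ((pol_pr hP hu x).trans ((pol_comm _ _).trans hau)))]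
    conv_lhs => arg 1; rw [show x = a + (x - a) by abel, mv_add]
    rw [isRefl_move hP.nd hcq.symm (R_spec hP hd').2, R_fix hP hd' ((pol_comm _ _).trans
      ((pr_eq_zero hP).1 (show pr hP l (x - a) = 0 by rw [pr_sub hP, pr_self hP ha, sub_self]) _ hw))]
    abel

theorem cover_vals (hno : (2 : F) = 0 → Minus Q D) {x : ι → F} (hx : ∀ l, Q (pr hP l x) ≠ 0) (l m : Fin t) (T : F) :
    ∃ A ∈ vals Q D l (pr hP l x), ∃ B ∈ vals Q D m (pr hP m x), A + B = T := by
  classical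
  refine cover hP ?_ T
  have h : ∀ i, Fintype.card F < 2 * (vals Q D i (pr hP i x)).card := by
    intro i
    have h1 := card_vals hP (pr_mem hP i x) (hx i)
    rcases hP.big with ⟨hm, -⟩ | ⟨hp, -⟩
    · have := card_circ_minus hP hm i (hx i)
      split_ifs at h1 <;> omega
    · by_cases h2 : (2 : F) = 0
      · have := card_circ_minus hP (hno h2) i (hx i)
        rw [if_pos h2] at h1; omega
      · have := card_circ_plus hP hp i (hx i)
        rw [if_neg h2] at h1; omega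
  have := h l; have := h m
  omega

omit hP in
theorem q_two_orth (hP : Pl Q D) {x y : ι → F} (h : pol Q x y = 0) : Q (x + y) = Q x + Q y := by
  rw [q_add hP.nd, h, add_zero]

theorem pol_of_supp {S S' : Finset (Fin t)} {d d' : ι → F} (hd : ∀ l, l ∉ S → pr hP l d = 0)
    (hd' : ∀ l, l ∉ S' → pr hP l d' = 0) (h : Disjoint S S') : pol Q d d' = 0 := by
  classical
  have hsum : d = ∑ l ∈ S, pr hP l d := ext_pr hP fun i => by
    have hlin : ∀ s : Finset (Fin t), pr hP i (∑ l ∈ s, pr hP l d) = ∑ l ∈ s, pr hP i (pr hP l d) := by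
      intro s
      induction s using Finset.induction_on with
      | empty => rw [Finset.sum_empty, Finset.sum_empty, pr_zero hP]
      | insert a s ha ih => rw [Finset.sum_insert ha, Finset.sum_insert ha, pr_add hP, ih]
    rw [hlin]
    by_cases hi : i ∈ S
    · rw [Finset.sum_eq_single_of_mem i hi fun l _ hl => pr_other hP hl (pr_mem hP l d),
        pr_self hP (pr_mem hP i d)]
    · rw [hd i hi, Finset.sum_eq_zero fun l hl => pr_other hP (fun h => hi (by rw [← h]; exact hl)) (pr_mem hP l d)]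
  rw [hsum, pol_comm, show pol Q d' (∑ l ∈ S, pr hP l d) = formQ hP.nd d' (∑ l ∈ S, pr hP l d) from pol_comm _ _,
    map_sum]
  simp only [formQ_apply hP.nd]
  exact Finset.sum_eq_zero fun l hl => by
    rw [pol_pr hP (pr_mem hP l d), hd' l (Finset.disjoint_left.1 h hl), pol_zero_right hP.nd]

theorem q_diff_orth {v v' : ι → F} (hv : Q v' = Q v) (h0 : pol Q v v' = 0) : Q (v - v') = 2 * Q v := by
  rw [q_sub hP.nd, h0, hv]; ring

theorem span_of_orth (h2 : (2 : F) ≠ 0) {j : Fin t} {v w : ι → F} (hv : v ∈ D j) (hw : w ∈ D j) (hvv : Q v ≠ 0)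
    (hww : Q w ≠ 0) (hvw : pol Q v w = 0) {z : ι → F} (hz : z ∈ D j) : ∃ r s : F, z = r • v + s • w := by
  classical
  have hli : LinearIndependent F ![v, w] := by
    rw [LinearIndependent.pair_iff]
    intro r s h
    have e1 := congrArg (fun x => pol Q x v) h
    have e2 := congrArg (fun x => pol Q x w) h
    simp only [pol_add_left hP.nd, pol_smul_left hP.nd, pol_self hP.nd, pol_comm w v, hvw, pol_zero_left hP.nd,
      mul_zero, add_zero, zero_add] at e1 e2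
    exact ⟨(mul_eq_zero.1 e1).resolve_right (mul_ne_zero h2 hvv), (mul_eq_zero.1 e2).resolve_right (mul_ne_zero h2 hww)⟩
  have hle : Submodule.span F (Set.range ![v, w]) ≤ D j := Submodule.span_le.2 (by
    rintro x ⟨k, rfl⟩; fin_cases k <;> assumption)
  have heq := Submodule.eq_of_le_of_finrank_le hle (by
    rw [finrank_span_eq_card hli, Fintype.card_fin, hP.dec.decomp.decomp.finrank_eq])
  rw [← heq, Submodule.mem_span_range_iff_exists_fun] at hz
  obtain ⟨c, hc⟩ := hz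
  exact ⟨c 0, c 1, by rw [← hc, Fin.sum_univ_two]; rfl⟩

/-- An exchange of two members carrying one orthogonal basis to another. -/
theorem swap (h2 : (2 : F) ≠ 0) {l m : Fin t} (hlm : l ≠ m) {v w v' w' : ι → F} (hv : v ∈ D l) (hw : w ∈ D l)
    (hv' : v' ∈ D m) (hw' : w' ∈ D m) (hvv : Q v ≠ 0) (hww : Q w ≠ 0) (hqv : Q v' = Q v) (hqw : Q w' = Q w)
    (hvw : pol Q v w = 0) (hvw' : pol Q v' w' = 0) :
    ∃ x y : ι → F, Q x = 2 * Q v ∧ Q y = 2 * Q w ∧
      (∀ k, k ≠ l → k ≠ m → ∀ z ∈ D k, pol Q z x = 0 ∧ pol Q z y = 0) ∧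
      (∀ r s : F, mv (R Q x * R Q y) (r • v + s • w) = r • v' + s • w') ∧
      (∀ r s : F, mv (R Q x * R Q y) (r • v' + s • w') = r • v + s • w) ∧
      R Q x * R Q y ∈ Geo.decompositionStabilizer D := by
  have o : ∀ {p q : ι → F}, p ∈ D l → q ∈ D m → pol Q p q = 0 ∧ pol Q q p = 0 := fun hp hq =>
    ⟨block_orth hP.dec hlm hp hq, block_orth hP.dec hlm.symm hq hp⟩
  have hx : Q (v - v') = 2 * Q v := q_diff_orth hP hqv (o hv hv').1
  have hy : Q (w - w') = 2 * Q w := q_diff_orth hP hqw (o hw hw').1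
  have hx0 : Q (v - v') ≠ 0 := hx ▸ mul_ne_zero h2 hvv
  have hy0 : Q (w - w') ≠ 0 := hy ▸ mul_ne_zero h2 hww
  have hxy : pol Q v (w - w') = 0 ∧ pol Q v' (w - w') = 0 ∧ pol Q w (v - v') = 0 ∧ pol Q w' (v - v') = 0 := by
    simp only [pol_sub_right hP.nd, hvw, hvw', (o hv hw').1, (o hw hv').1, (o hw hv').2, (o hv hw').2,
      pol_comm w v, pol_comm w' v', sub_zero, and_self]
  have ev : mv (R Q (v - v')) v = v' := isRefl_move hP.nd hqv.symm (R_spec hP hx0).2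
  have ev' : mv (R Q (v - v')) v' = v := by
    have e := congrArg (mv (R Q (v - v'))) ev
    rw [← mv_mul, R_sq hP hx0, mv_one] at e
    exact e.symm
  have ew : mv (R Q (w - w')) w = w' := isRefl_move hP.nd hqw.symm (R_spec hP hy0).2
  have ew' : mv (R Q (w - w')) w' = w := by
    have e := congrArg (mv (R Q (w - w'))) ew
    rw [← mv_mul, R_sq hP hy0, mv_one] at e
    exact e.symm
  have H : ∀ r s : F, mv (R Q (v - v') * R Q (w - w')) (r • v + s • w) = r • v' + s • w' := fun r s => by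
    rw [mv_mul, mv_add, mv_smul, mv_smul, R_fix hP hy0 hxy.1, ew, mv_add, mv_smul, mv_smul, ev, R_fix hP hx0 hxy.2.2.2]
  have H' : ∀ r s : F, mv (R Q (v - v') * R Q (w - w')) (r • v' + s • w') = r • v + s • w := fun r s => by
    rw [mv_mul, mv_add, mv_smul, mv_smul, R_fix hP hy0 hxy.2.1, ew', mv_add, mv_smul, mv_smul, ev', R_fix hP hx0 hxy.2.2.1]
  have hfix : ∀ k, k ≠ l → k ≠ m → ∀ z ∈ D k, pol Q z (v - v') = 0 ∧ pol Q z (w - w') = 0 := fun k hl hm z hz => by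
    simp only [pol_sub_right hP.nd, block_orth hP.dec hl hz hv, block_orth hP.dec hm hz hv',
      block_orth hP.dec hl hz hw, block_orth hP.dec hm hz hw', sub_zero, and_self]
  refine ⟨v - v', w - w', hx, hy, hfix, H, H', mem_decomp_of_maps hP.nd hP.dec fun k => ?_⟩
  by_cases hl : k = l
  · refine ⟨m, fun z hz => ?_⟩
    obtain ⟨r, s, rfl⟩ := span_of_orth hP h2 hv hw hvv hww hvw (hl ▸ hz)
    rw [H]; exact (D m).add_mem ((D m).smul_mem _ hv') ((D m).smul_mem _ hw')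
  by_cases hm : k = m
  · refine ⟨l, fun z hz => ?_⟩
    obtain ⟨r, s, rfl⟩ := span_of_orth hP h2 hv' hw' (hqv ▸ hvv) (hqw ▸ hww) hvw' (hm ▸ hz)
    rw [H']; exact (D l).add_mem ((D l).smul_mem _ hv) ((D l).smul_mem _ hw)
  refine ⟨k, fun z hz => ?_⟩
  rw [mv_mul, R_fix hP hy0 (hfix k hl hm z hz).2, R_fix hP hx0 (hfix k hl hm z hz).1]
  exact hz

/-- An exchange with prescribed reflection values carrying the component of one member to a given vector. -/
theorem swap_to (h2 : (2 : F) ≠ 0) {l m : Fin t} (hlm : l ≠ m) {α β : F} (hα : α ≠ 0) (hβ : β ≠ 0)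
    (hb : ∃ v ∈ D l, ∃ w ∈ D l, Q v = α ∧ Q w = β ∧ pol Q v w = 0)
    {a c : ι → F} (ha : a ∈ D l) (haa : Q a ≠ 0) (hc : c ∈ D m) (hca : Q c = Q a) :
    ∃ x y : ι → F, Q x = 2 * α ∧ Q y = 2 * β ∧
      (∀ k, k ≠ l → k ≠ m → ∀ z ∈ D k, pol Q z x = 0 ∧ pol Q z y = 0) ∧
      mv (R Q x * R Q y) a = c ∧ (∀ z ∈ D m, mv (R Q x * R Q y) z ∈ D l) ∧
      (∀ z, mv (R Q x * R Q y) (mv (R Q x * R Q y) z) = z) ∧
      R Q x * R Q y ∈ Geo.decompositionStabilizer D ∧ R Q x * R Q y ∈ isometryGroup F Q := by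
  obtain ⟨v, hv, w, hw, hqv, hqw, hvw⟩ := hb
  obtain ⟨φ, hφ⟩ := hP.dec.isometric l m
  set a₀ : ι → F := ((φ ⟨a, ha⟩ : D m) : ι → F) with ha₀
  have ha₀q : Q a₀ = Q a := hφ ⟨a, ha⟩
  obtain ⟨g, hgI, hgm, hga⟩ : ∃ g ∈ isometryGroup F Q, (∀ z ∈ D m, mv g z ∈ D m) ∧ mv g a₀ = c := by
    rcases eq_or_ne a₀ c with h | h
    · exact ⟨1, one_mem _, fun z hz => by rwa [mv_one], by rw [mv_one, h]⟩
    · have hd : Q (a₀ - c) ≠ 0 :=
        diff_ne hP hc (hca ▸ haa) (Subtype.prop _) (ha₀q.trans hca.symm) h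
      exact ⟨R Q (a₀ - c), (R_spec hP hd).1,
        fun z hz => refl_block hP.nd hP.dec ((D m).sub_mem (Subtype.prop _) hc) (R_spec hP hd).2 m hz,
        isRefl_move hP.nd (ha₀q.trans hca.symm) (R_spec hP hd).2⟩
  set v' := mv g ((φ ⟨v, hv⟩ : D m) : ι → F) with hv'
  set w' := mv g ((φ ⟨w, hw⟩ : D m) : ι → F) with hw'
  have hqv' : Q v' = Q v := (mem_isometry.1 hgI _).trans (hφ ⟨v, hv⟩)
  have hqw' : Q w' = Q w := (mem_isometry.1 hgI _).trans (hφ ⟨w, hw⟩)
  have hvw' : pol Q v' w' = 0 := by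
    have e := hφ (⟨v, hv⟩ + ⟨w, hw⟩)
    rw [map_add, Submodule.coe_add, Submodule.coe_add, q_add hP.nd, q_add hP.nd, hφ, hφ, hvw] at e
    rw [hv', hw', pol_mv hP.nd hgI]
    linear_combination e
  have hvv : Q v ≠ 0 := hqv ▸ hα
  have hww : Q w ≠ 0 := hqw ▸ hβ
  obtain ⟨x, y, hx, hy, hfix, H, H', hS⟩ :=
    swap hP h2 hlm hv hw (hgm _ (Subtype.prop _)) (hgm _ (Subtype.prop _)) hvv hww hqv' hqw' hvw hvw'
  have hx0 : Q x ≠ 0 := hx ▸ mul_ne_zero h2 hvv
  have hy0 : Q y ≠ 0 := hy ▸ mul_ne_zero h2 hww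
  have hI := Subgroup.mul_mem _ (R_spec hP hx0).1 (R_spec hP hy0).1
  have hsq : ∀ z, mv (R Q x * R Q y) (mv (R Q x * R Q y) z) = z := fun z => by
    have : ∀ k, ∀ u ∈ D k, mv (R Q x * R Q y) (mv (R Q x * R Q y) u) = u := by
      intro k u hu
      by_cases hl : k = l
      · obtain ⟨r, s, rfl⟩ := span_of_orth hP h2 hv hw hvv hww hvw (hl ▸ hu)
        rw [H, H']
      by_cases hm : k = m
      · obtain ⟨r, s, rfl⟩ := span_of_orth hP h2 (hgm _ (Subtype.prop _)) (hgm _ (Subtype.prop _)) (hqv' ▸ hvv)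
          (hqw' ▸ hww) hvw' (hm ▸ hu)
        rw [H', H]
      have e : mv (R Q x * R Q y) u = u := by
        rw [mv_mul, R_fix hP hy0 (hfix k hl hm u hu).2, R_fix hP hx0 (hfix k hl hm u hu).1]
      rw [e, e]
    refine ext_pr hP fun k => sub_eq_zero.1 ?_
    rw [← pr_sub hP, pr_eq_zero hP]
    intro u hu
    rw [pol_sub_right hP.nd]
    conv_lhs => arg 1; rw [← this k u hu]
    rw [pol_mv hP.nd hI, pol_mv hP.nd hI, sub_self]
  obtain ⟨r, s, hrs⟩ := span_of_orth hP h2 hv hw hvv hww hvw ha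
  refine ⟨x, y, hx.trans (by rw [hqv]), hy.trans (by rw [hqw]), hfix, ?_, fun z hz => ?_, hsq, hS, hI⟩
  · have e : (⟨a, ha⟩ : D l) = r • ⟨v, hv⟩ + s • ⟨w, hw⟩ := Subtype.ext (by simpa using hrs)
    rw [hrs, H, ← mv_smul, ← mv_smul, ← mv_add, ← hga, ha₀, e, map_add, map_smul, map_smul]
    simp
  · obtain ⟨r, s, rfl⟩ := span_of_orth hP h2 (hgm _ (Subtype.prop _)) (hgm _ (Subtype.prop _)) (hqv' ▸ hvv)
      (hqw' ▸ hww) hvw' hz
    rw [H']; exact (D l).add_mem ((D l).smul_mem _ hv) ((D l).smul_mem _ hw)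

/-- The values reached by exchanging two members whose components have values of one square class. -/
theorem exists_swap_vals (h2 : (2 : F) ≠ 0) {x : ι → F} {l m : Fin t} (hlm : l ≠ m)
    (hl : Q (pr hP l x) ≠ 0) (hm : Q (pr hP m x) ≠ 0) (hsq : IsSquare (Q (pr hP l x) * Q (pr hP m x))) :
    ∃ U : Finset F, Fintype.card F < 2 * U.card ∧ ∀ T ∈ U, ∃ c ∈ D m, Q c = Q (pr hP l x) ∧
      2 * Q (c - pr hP m x) = T := by
  classical
  set a := pr hP l x
  set b := pr hP m x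
  have hb : b ∈ D m := pr_mem hP m x
  obtain ⟨r, hr⟩ := hsq
  have hr0 : r ≠ 0 := fun h => mul_ne_zero hl hm (by rw [hr, h, zero_mul])
  set s : F := r / Q b with hs
  have hs0 : s ≠ 0 := div_ne_zero hr0 hm
  have hsb : Q (s • b) = Q a := by
    rw [q_smul hP.nd, hs]; field_simp; linear_combination -hr
  refine ⟨(vals Q D m (s • b)).image fun A => 2 * (Q a + Q b - (2 * Q a - A) / s), ?_, fun T hT => ?_⟩
  · rw [Finset.card_image_of_injective _ fun A A' h => by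
      have := mul_left_cancel₀ h2 h
      field_simp at this
      linear_combination this]
    have h1 := card_vals hP (j := m) ((D m).smul_mem s hb) (by rw [hsb]; exact hl)
    rw [if_neg h2, hsb] at h1
    rcases hP.big with ⟨hmi, -⟩ | ⟨hp, -⟩
    · have := card_circ_minus hP hmi m hl; omega
    · have := card_circ_plus hP hp m hl; omega
  · obtain ⟨A, hA, rfl⟩ := Finset.mem_image.1 hT
    obtain ⟨c, hc, hcq, rfl⟩ := (mem_vals hP).1 hA
    refine ⟨c, hc, hcq.trans hsb, ?_⟩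
    rw [q_sub hP.nd, q_sub hP.nd, hsb, hcq.trans hsb, pol_smul_right hP.nd]
    field_simp
    ring

omit hP in
theorem exists_equal_pair {s : Finset (Fin t)} (hs : 3 ≤ s.card) (f : Fin t → Bool) :
    ∃ l ∈ s, ∃ m ∈ s, l ≠ m ∧ f l = f m := by
  obtain ⟨l, hl, m, hm, hlm, h⟩ := Finset.exists_ne_map_eq_of_card_lt_of_maps_to
    (s := s) (t := (Finset.univ : Finset Bool)) (f := f) (by simp; omega) (fun a _ => Finset.mem_univ _)
  exact ⟨l, hl, m, hm, hlm, h⟩

/-- Two exchanges give a difference of any value with an untouched member. -/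
theorem exists_sparse_odd {M : Subgroup (GL ι F)} (hC : Ctx Q D M) (h2 : (2 : F) ≠ 0) {κ : F} (hκ : κ ≠ 0) {x : ι → F}
    (hx : x ∈ Cen Q D M κ) (hall : ∀ l, Q (pr hP l x) ≠ 0) :
    ∃ y ∈ Cen Q D M κ, (∀ i, y ∉ D i) ∧ ∃ o, pr hP o y = 0 := by
  classical
  have ht := hP.ht
  set f : Fin t → Bool := fun l => decide (IsSquare (Q (pr hP l x)))
  have hcls : ∀ l m, f l = f m → IsSquare (Q (pr hP l x) * Q (pr hP m x)) := fun l m h => by
    simp only [f, decide_eq_decide] at h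
    by_cases hl : IsSquare (Q (pr hP l x))
    · exact hl.mul (h.1 hl)
    · exact isSquare_mul_of_not hl (fun hm => hl (h.2 hm))
  obtain ⟨l, -, m, -, hlm, hflm⟩ := exists_equal_pair (s := (Finset.univ : Finset (Fin t)))
    (by rw [Finset.card_univ, Fintype.card_fin]; omega) f
  set s : Finset (Fin t) := Finset.univ \ {l, m} with hs
  have hsc : 3 ≤ s.card := by
    have := Finset.le_card_sdiff ({l, m} : Finset (Fin t)) Finset.univ
    rw [Finset.card_univ, Fintype.card_fin, Finset.card_pair hlm] at this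
    rw [hs]; omega
  obtain ⟨p, hp, n, hn, hpn, hfpn⟩ := exists_equal_pair hsc f
  obtain ⟨o, ho, ho'⟩ : ∃ o ∈ s, o ∉ ({p, n} : Finset (Fin t)) := Finset.exists_mem_notMem_of_card_lt_card
    (by rw [Finset.card_pair hpn]; omega)
  simp only [hs, Finset.mem_sdiff, Finset.mem_univ, true_and, Finset.mem_insert, Finset.mem_singleton, not_or] at hp hn ho ho'
  obtain ⟨U, hU, hUv⟩ := exists_swap_vals hP h2 hlm (hall l) (hall m) (hcls l m hflm)
  obtain ⟨U', hU', hU'v⟩ := exists_swap_vals hP h2 hpn (hall p) (hall n) (hcls p n hfpn)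
  obtain ⟨T, hT, T', hT', hTT⟩ := cover hP (A := U) (B := U') (by omega) κ
  obtain ⟨c, hc, hcq, hcT⟩ := hUv T hT
  obtain ⟨c', hc', hc'q, hc'T⟩ := hU'v T' hT'
  -- one orthogonal basis fixes both pairs of values
  obtain ⟨u, hu, hau, huu⟩ := exists_perp hP (pr_mem hP l x) (hall l)
  have hbasis : ∀ k, ∃ v ∈ D k, ∃ w ∈ D k, Q v = Q (pr hP l x) ∧ Q w = Q u ∧ pol Q v w = 0 := fun k => by
    obtain ⟨φ, hφ⟩ := hP.dec.isometric l k
    refine ⟨_, Subtype.prop (φ ⟨_, pr_mem hP l x⟩), _, Subtype.prop (φ ⟨u, hu⟩), hφ _, hφ _, ?_⟩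
    have e := hφ (⟨_, pr_mem hP l x⟩ + ⟨u, hu⟩)
    rw [map_add, Submodule.coe_add, Submodule.coe_add, q_add hP.nd, q_add hP.nd, hφ, hφ, hau] at e
    linear_combination e
  obtain ⟨x₁, y₁, qx₁, qy₁, hf₁, e₁, m₁, s₁, S₁, I₁⟩ :=
    swap_to hP h2 hlm (hall l) huu (hbasis l) (pr_mem hP l x) (hall l) hc hcq
  obtain ⟨x₂, y₂, qx₂, qy₂, hf₂, e₂, m₂, s₂, S₂, I₂⟩ :=
    swap_to hP h2 hpn (hall l) huu (hbasis p) (pr_mem hP p x) (hall p) hc' hc'q
  set h₁ := R Q x₁ * R Q y₁ with h₁def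
  set h₂ := R Q x₂ * R Q y₂ with h₂def
  have nx₁ : Q x₁ ≠ 0 := qx₁ ▸ mul_ne_zero h2 (hall l)
  have ny₁ : Q y₁ ≠ 0 := qy₁ ▸ mul_ne_zero h2 huu
  have nx₂ : Q x₂ ≠ 0 := qx₂ ▸ mul_ne_zero h2 (hall l)
  have ny₂ : Q y₂ ≠ 0 := qy₂ ▸ mul_ne_zero h2 huu
  have hΩ : h₁ * h₂ ∈ Geo.omegaGL Q := by
    have hcom : R Q y₁ * R Q x₂ = R Q (mv (R Q y₁) x₂) * R Q y₁ := by
      rw [← R_conj hP (R_spec hP ny₁).1 nx₂]; group
    rw [h₁def, h₂def, show R Q x₁ * R Q y₁ * (R Q x₂ * R Q y₂) = R Q x₁ * (R Q y₁ * R Q x₂) * R Q y₂ by group, hcom,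
      show R Q x₁ * (R Q (mv (R Q y₁) x₂) * R Q y₁) * R Q y₂ = (R Q x₁ * R Q (mv (R Q y₁) x₂)) * (R Q y₁ * R Q y₂) by group]
    exact Subgroup.mul_mem _ (R_omega hP nx₁ (by rw [mem_isometry.1 (R_spec hP ny₁).1, qx₁, qx₂]))
      (R_omega hP ny₁ (qy₁.trans qy₂.symm))
  have fixes : ∀ {i j : Fin t} {h : GL ι F} {a b : ι → F}, h = R Q a * R Q b → Q a ≠ 0 → Q b ≠ 0 →
      (∀ k, k ≠ i → k ≠ j → ∀ z ∈ D k, pol Q z a = 0 ∧ pol Q z b = 0) → ∀ z, pr hP i z = 0 → pr hP j z = 0 →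
      mv h z = z := by
    intro i j h a b hh na nb hf z hi hj
    have aux : ∀ w : ι → F, (∀ k, k ≠ i → k ≠ j → ∀ u ∈ D k, pol Q u w = 0) → pol Q z w = 0 := by
      intro w hw
      have hwsupp : ∀ k, k ∉ ({i, j} : Finset (Fin t)) → pr hP k w = 0 := fun k hk => by
        simp only [Finset.mem_insert, Finset.mem_singleton, not_or] at hk
        exact (pr_eq_zero hP).2 fun u hu => hw k hk.1 hk.2 u hu
      refine pol_of_supp hP (S := Finset.univ \ {i, j}) (S' := {i, j}) (fun k hk => ?_) hwsupp Finset.sdiff_disjoint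
      simp only [Finset.mem_sdiff, Finset.mem_univ, true_and, not_not, Finset.mem_insert, Finset.mem_singleton] at hk
      rcases hk with rfl | rfl <;> assumption
    rw [hh, mv_mul, R_fix hP nb (aux b fun k h h' u hu => (hf k h h' u hu).2),
      R_fix hP na (aux a fun k h h' u hu => (hf k h h' u hu).1)]
  -- the change of each pair
  have step : ∀ {i j : Fin t} {h : GL ι F} {a b c : ι → F}, i ≠ j → h = R Q a * R Q b → Q a ≠ 0 → Q b ≠ 0 →
      (∀ k, k ≠ i → k ≠ j → ∀ z ∈ D k, pol Q z a = 0 ∧ pol Q z b = 0) → mv h (pr hP i x) = c → c ∈ D j →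
      (∀ z ∈ D j, mv h z ∈ D i) → (∀ z, mv h (mv h z) = z) → h ∈ isometryGroup F Q →
      ∃ e ∈ D i, mv h x - x = e + (c - pr hP j x) ∧ Q (e + (c - pr hP j x)) = 2 * Q (c - pr hP j x) ∧
        mv h e = -(c - pr hP j x) := by
    intro i j h a b c hij hh na nb hf hc hcD hmap hsq hI
    refine ⟨mv h (pr hP j x) - pr hP i x, (D i).sub_mem (hmap _ (pr_mem hP j x)) (pr_mem hP i x), ?_, ?_, ?_⟩
    · have hz : mv h (x - pr hP i x - pr hP j x) = x - pr hP i x - pr hP j x := by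
        refine fixes hh na nb hf _ ?_ ?_
        · rw [pr_sub hP, pr_sub hP, pr_self hP (pr_mem hP i x), pr_other hP hij.symm (pr_mem hP j x), sub_self, sub_zero]
        · rw [pr_sub hP, pr_sub hP, pr_self hP (pr_mem hP j x), pr_other hP hij (pr_mem hP i x), sub_zero, sub_self]
      rw [mv_sub, mv_sub, hc] at hz
      linear_combination (norm := module) hz
    · rw [q_two_orth hP (block_orth hP.dec hij ((D i).sub_mem (hmap _ (pr_mem hP j x)) (pr_mem hP i x))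
        ((D j).sub_mem hcD (pr_mem hP j x)))]
      rw [show mv h (pr hP j x) - pr hP i x = mv h (pr hP j x - c) by rw [mv_sub, ← hc, hsq], mem_isometry.1 hI,
        ← neg_sub c, q_neg hP.nd]
      ring
    · rw [mv_sub, hsq, hc]; abel
  obtain ⟨d₁, hd₁, hm1, hq1, hn1⟩ := step hlm h₁def nx₁ ny₁ hf₁ e₁ hc m₁ s₁ I₁
  obtain ⟨d₂, hd₂, hm2, hq2, hn2⟩ := step hpn h₂def nx₂ ny₂ hf₂ e₂ hc' m₂ s₂ I₂
  set E₁ := d₁ + (c - pr hP m x) with hE₁
  set E₂ := d₂ + (c' - pr hP n x) with hE₂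
  have hcm : c - pr hP m x ∈ D m := (D m).sub_mem hc (pr_mem hP m x)
  have hcn : c' - pr hP n x ∈ D n := (D n).sub_mem hc' (pr_mem hP n x)
  have p1 : ∀ k, k ≠ l → k ≠ m → pr hP k E₁ = 0 := fun k hl hm => by
    rw [hE₁, pr_add hP, pr_other hP hl.symm hd₁, pr_other hP hm.symm hcm, add_zero]
  have p2 : ∀ k, k ≠ p → k ≠ n → pr hP k E₂ = 0 := fun k hl hm => by
    rw [hE₂, pr_add hP, pr_other hP hl.symm hd₂, pr_other hP hm.symm hcn, add_zero]
  set d := E₁ + E₂ with hddef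
  have hmove : mv (h₁ * h₂) x - x = d := by
    have e := fixes h₁def nx₁ ny₁ hf₁ E₂ (p2 l (Ne.symm hp.1) (Ne.symm hn.1)) (p2 m (Ne.symm hp.2) (Ne.symm hn.2))
    rw [← hm2, mv_sub] at e
    rw [mv_mul, hddef, ← hm1, ← hm2]
    linear_combination (norm := module) e
  have hdq : Q d = κ := by
    have h0 : pol Q E₁ E₂ = 0 := pol_of_supp hP (S := {l, m}) (S' := {p, n})
      (fun k hk => by simp only [Finset.mem_insert, Finset.mem_singleton, not_or] at hk; exact p1 k hk.1 hk.2)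
      (fun k hk => by simp only [Finset.mem_insert, Finset.mem_singleton, not_or] at hk; exact p2 k hk.1 hk.2)
      (by
        rw [Finset.disjoint_left]; intro k hk hk'
        simp only [Finset.mem_insert, Finset.mem_singleton] at hk hk'
        rcases hk with rfl | rfl <;> rcases hk' with h | h
        exacts [hp.1 h.symm, hn.1 h.symm, hp.2 h.symm, hn.2 h.symm])
    rw [hddef, q_two_orth hP h0, hq1, hq2, hcT, hc'T, hTT]
  have hd : d ∈ Cen Q D M κ := by
    have hy := cen_refl hC hκ hx (cen_stab_mv hC hκ (Subgroup.mul_mem _ S₁ S₂) hΩ hx)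
    have hpol : pol Q (mv (h₁ * h₂) x) x = κ := by
      have h1 := hdq
      rw [← hmove, q_sub hP.nd, mem_isometry.1 (Subgroup.mul_mem _ I₁ I₂), hx.1] at h1
      linear_combination -h1
    rwa [R_apply hP (cen_q_ne hC hκ hx), hpol, hx.1, div_self hκ, one_smul, hmove] at hy
  refine ⟨d, hd, fun i hi => ?_, o, by rw [hddef, pr_add hP, p1 o ho.1 ho.2, p2 o ho'.1 ho'.2, add_zero]⟩
  -- a member would hold both components of a pair
  have one : ∀ {i' j' : Fin t} {h : GL ι F} {e f : ι → F}, i' ≠ j' → e ∈ D i' → f ∈ D j' → mv h e = -f →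
      (pr hP i' d = e ∧ pr hP j' d = f) → e = 0 ∧ f = 0 := by
    intro i' j' h e f hij he hf hef hpr
    rcases eq_or_ne i i' with rfl | hi'
    · have : f = 0 := hpr.2 ▸ pr_other hP hij hi
      exact ⟨mv_inj h (by rw [hef, this, neg_zero, mv_zero]), this⟩
    · have : e = 0 := hpr.1 ▸ pr_other hP hi' hi
      refine ⟨this, ?_⟩
      rwa [this, mv_zero, eq_comm, neg_eq_zero] at hef
  have z1 := one hlm hd₁ hcm hn1 ⟨by
    rw [hddef, pr_add hP, p2 l (Ne.symm hp.1) (Ne.symm hn.1), hE₁, pr_add hP, pr_self hP hd₁, pr_other hP hlm.symm hcm,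
      add_zero, add_zero], by
    rw [hddef, pr_add hP, p2 m (Ne.symm hp.2) (Ne.symm hn.2), hE₁, pr_add hP, pr_self hP hcm, pr_other hP hlm hd₁,
      zero_add, add_zero]⟩
  have z2 := one hpn hd₂ hcn hn2 ⟨by
    rw [hddef, pr_add hP, p1 p hp.1 hp.2, hE₂, pr_add hP, pr_self hP hd₂, pr_other hP hpn.symm hcn, zero_add, add_zero],
    by
    rw [hddef, pr_add hP, p1 n hn.1 hn.2, hE₂, pr_add hP, pr_self hP hcn, pr_other hP hpn hd₂, zero_add, zero_add]⟩
  apply hκ
  rw [← hdq, hddef, hE₁, hE₂, z1.1, z1.2, z2.1, z2.2, add_zero, add_zero, q_zero hP.nd]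

/-- A centre with all components anisotropic gives one with a vanishing component. -/
theorem exists_sparse {M : Subgroup (GL ι F)} (hC : Ctx Q D M) {κ : F} (hκ : κ ≠ 0) {x : ι → F}
    (hx : x ∈ Cen Q D M κ) (hall : ∀ l, Q (pr hC.pl l x) ≠ 0) (hno : (2 : F) = 0 → Minus Q D) :
    ∃ y ∈ Cen Q D M κ, (∀ i, y ∉ D i) ∧ ∃ o, pr hC.pl o y = 0 := by
  classical
  have ht := hC.pl.ht
  by_cases h2 : (2 : F) = 0
  swap
  · exact exists_sparse_odd hC.pl hC h2 hκ hx hall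
  set b : Fin 4 → Fin t := fun i => ⟨i.1, by omega⟩
  have hb : ∀ {i j : Fin 4}, i ≠ j → b i ≠ b j := fun h h' => h (Fin.ext (by simpa [b] using h'))
  obtain ⟨τ, -, -, -, hτ2, hτc, hclass, -, hflip⟩ := exists_twist hC.pl (b 3)
  have comb := @mov_comb ι _ _ F _ _ Q t D hC.pl τ (b 3) hτc hτ2 x
  have hne3 : ∀ {i : Fin 4}, i ≠ 3 → b 3 ∉ ({b i} : Finset (Fin t)) := fun h => by
    rw [Finset.mem_singleton]; exact hb h.symm
  have turn : ∀ i A, A ∈ vals Q D i (pr hC.pl i x) → ∃ d σ, Mov hC.pl τ x {i} d σ ∧ d ∈ D i ∧ Q d = A :=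
    fun i A hA => mov_turn hC.pl hclass (hall i) hA
  -- a difference of value κ inside the centre
  have fin : ∀ S d, Mov hC.pl τ x S d false → Q d = κ → (∀ i, d ∉ D i) → (∃ o, o ∉ S) →
      ∃ y ∈ Cen Q D M κ, (∀ i, y ∉ D i) ∧ ∃ o, pr hC.pl o y = 0 := by
    intro S d hd hdq hdD ho
    obtain ⟨o, ho⟩ := ho
    have hsupp := mov_supp hC.pl hd ho
    obtain ⟨h, hI, hS, -, hp, hdx⟩ := hd
    have hy := cen_refl hC hκ hx (cen_stab_mv hC hκ hS hp hx)
    have hpol : pol Q (mv h x) x = κ := by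
      have h1 := hdq
      rw [← hdx, q_sub hC.pl.nd, mem_isometry.1 hI, hx.1] at h1
      linear_combination -h1
    rw [R_apply hC.pl (cen_q_ne hC hκ hx), hpol, hx.1, div_self hκ, one_smul, hdx] at hy
    exact ⟨d, hy, hdD, o, hsupp⟩
  have notin : ∀ i₀ (d₀ d : ι → F), d₀ ∈ D i₀ → Q d₀ ≠ 0 → Q d₀ ≠ κ → pr hC.pl i₀ d = 0 → Q (d₀ + d) = κ →
      ∀ i, d₀ + d ∉ D i := by
    intro i₀ d₀ d hd₀ hne hnk hd hq i hi
    rcases eq_or_ne i i₀ with rfl | hii
    · have : d ∈ D i := by simpa using (D i).sub_mem hi hd₀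
      rw [pr_self hC.pl this] at hd
      rw [hd, add_zero] at hq
      exact hnk hq
    · have := pr_other hC.pl hii hi
      rw [pr_add hC.pl, pr_self hC.pl hd₀, hd, add_zero] at this
      exact hne (by rw [this, q_zero hC.pl.nd])
  by_cases hA : ∃ A ∈ vals Q D (b 0) (pr hC.pl (b 0) x), A ≠ 0 ∧ A ≠ κ
  · obtain ⟨A, hA, hA0, hAκ⟩ := hA
    obtain ⟨d₀, σ₀, hm₀, hd₀, hq₀⟩ := turn _ A hA
    have pair : ∀ i j : Fin 4, i ≠ j → j ≠ 3 → ∀ T, ∃ d σ, Mov hC.pl τ x {b i, b j} d σ ∧ Q d = T := by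
      intro i j hij hj3 T
      obtain ⟨A', hA', B', hB', hAB⟩ := cover_vals hC.pl hno hall (b i) (b j) T
      obtain ⟨d, σ, hm, hdD, hdq⟩ := turn _ A' hA'
      obtain ⟨d', σ', hm', hd'D, hd'q⟩ := turn _ B' hB'
      exact ⟨d + d', _, comb hm hm' (Finset.disjoint_singleton.2 (hb hij)) (hne3 hj3),
        by rw [q_two_orth hC.pl (block_orth hC.pl.dec (hb hij) hdD hd'D), hdq, hd'q, hAB]⟩
    obtain ⟨d₁, σ₁, hm₁, hq₁⟩ := pair 1 2 (by decide) (by decide) (κ - A)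
    have hdis : Disjoint ({b 0} : Finset (Fin t)) {b 1, b 2} := by
      simp [hb (show (0 : Fin 4) ≠ 1 by decide), hb (show (0 : Fin 4) ≠ 2 by decide)]
    have hm := comb hm₀ hm₁ hdis (by
      simp [hb (show (3 : Fin 4) ≠ 1 by decide), hb (show (3 : Fin 4) ≠ 2 by decide)])
    obtain ⟨g, g1, gS, g3, g4, g5⟩ := hm
    have hq : Q (d₀ + d₁) = κ := by
      rw [q_two_orth hC.pl (pol_of_supp hC.pl (fun l hl => mov_supp hC.pl hm₀ hl) (fun l hl => mov_supp hC.pl hm₁ hl)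
        hdis), hq₀, hq₁, add_sub_cancel]
    refine fin _ _ ⟨g, g1, gS, g3, hflip h2 g _ false g4, g5⟩ hq (notin (b 0) d₀ _ hd₀ (hq₀ ▸ hA0) (hq₀ ▸ hAκ)
      (mov_supp hC.pl hm₁ (Finset.disjoint_left.1 hdis (Finset.mem_singleton_self _))) hq) ⟨b 3, ?_⟩
    simp [hb (show (3 : Fin 4) ≠ 0 by decide), hb (show (3 : Fin 4) ≠ 1 by decide),
      hb (show (3 : Fin 4) ≠ 2 by decide)]
  push Not at hA
  -- all changes have value κ
  have hmin := hno h2
  have hq2 : Fintype.card F = 2 := by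
    by_contra hq
    have h1 := card_vals hC.pl (pr_mem hC.pl (b 0) x) (hall (b 0))
    rw [if_pos h2] at h1
    have hsub : vals Q D (b 0) (pr hC.pl (b 0) x) ⊆ {0, κ} := fun A hA' => by
      simp only [Finset.mem_insert, Finset.mem_singleton]
      exact or_iff_not_imp_left.2 (hA A hA')
    have := (Finset.card_le_card hsub).trans Finset.card_le_two
    have := card_circ_minus hC.pl hmin (b 0) (hall (b 0))
    have := Fintype.one_lt_card (α := F)
    omega
  have two : ∀ c : F, c = 0 ∨ c = 1 := by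
    intro c
    by_contra hc
    push Not at hc
    have : ({0, 1, c} : Finset F).card = 3 := Finset.card_eq_three.2 ⟨0, 1, c, zero_ne_one, hc.1.symm, hc.2.symm, rfl⟩
    have := ({0, 1, c} : Finset F).card_le_univ
    omega
  have three : ∀ i, ∃ d, Mov hC.pl τ x {i} d false ∧ d ∈ D i ∧ Q d = 1 := by
    intro i
    obtain ⟨c, hc, hcq, hcs, -⟩ := exists_turn hC.pl (pr_mem hC.pl i x) (hall i)
    have hne : c ≠ pr hC.pl i x := fun h => hcs (h ▸ Submodule.mem_span_singleton_self _)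
    obtain ⟨d, σ, ⟨g, h1, hgS, h3, h4, h5⟩, hdD, hdq⟩ := turn i (Q (c - pr hC.pl i x))
      ((mem_vals hC.pl).2 ⟨c, hc, hcq, rfl⟩)
    exact ⟨d, ⟨g, h1, hgS, h3, hflip h2 g σ false h4, h5⟩, hdD,
      hdq.trans ((two _).resolve_left (diff_ne hC.pl (pr_mem hC.pl i x) (hall i) hc hcq hne))⟩
  choose d hd hdD hdq using fun i : Fin 4 => three (b i)
  have hκ1 : κ = 1 := (two κ).resolve_left hκ
  have hm := comb (hd 0) (comb (hd 1) (hd 2) (Finset.disjoint_singleton.2 (hb (by decide))) (hne3 (by decide)))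
    (by simp [hb (show (0 : Fin 4) ≠ 1 by decide), hb (show (0 : Fin 4) ≠ 2 by decide)])
    (by simp [hb (show (3 : Fin 4) ≠ 1 by decide), hb (show (3 : Fin 4) ≠ 2 by decide)])
  have e12 : Q (d 1 + d 2) = 0 := by
    rw [q_two_orth hC.pl (block_orth hC.pl.dec (hb (by decide)) (hdD 1) (hdD 2)), hdq, hdq]
    linear_combination h2
  have hq : Q (d 0 + (d 1 + d 2)) = κ := by
    rw [q_two_orth hC.pl (by rw [pol_add_right hC.pl.nd, block_orth hC.pl.dec (hb (by decide)) (hdD 0) (hdD 1),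
      block_orth hC.pl.dec (hb (by decide)) (hdD 0) (hdD 2), add_zero]), e12, hdq, hκ1, add_zero]
  refine fin _ _ hm hq (fun i hi => ?_) ⟨b 3, by
    simp [hb (show (3 : Fin 4) ≠ 0 by decide), hb (show (3 : Fin 4) ≠ 1 by decide),
      hb (show (3 : Fin 4) ≠ 2 by decide)]⟩
  rcases eq_or_ne i (b 0) with rfl | hi0
  · have h1 := pr_other hC.pl (hb (show (0 : Fin 4) ≠ 1 by decide)) hi
    rw [pr_add hC.pl, pr_add hC.pl, pr_other hC.pl (hb (by decide)) (hdD 0), pr_self hC.pl (hdD 1),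
      pr_other hC.pl (hb (by decide)) (hdD 2), zero_add, add_zero] at h1
    exact one_ne_zero (by rw [← hdq 1, h1, q_zero hC.pl.nd])
  · have h1 := pr_other hC.pl hi0 hi
    rw [pr_add hC.pl, pr_add hC.pl, pr_self hC.pl (hdD 0), pr_other hC.pl (hb (by decide)) (hdD 1),
      pr_other hC.pl (hb (by decide)) (hdD 2), add_zero, add_zero] at h1
    exact one_ne_zero (by rw [← hdq 0, h1, q_zero hC.pl.nd])

end Cfsg.Agent.Transvec.Planes
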