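/-
Centres give Siegel elements; finishing for planes without singular vectors.
-/
import Cfsg.Agent.Lib.Transvec.OrthPlanesSparse
set_option autoImplicit false
set_option linter.unusedSectionVars false
set_option maxHeartbeats 800000

namespace Cfsg.Agent.Transvec.Planes

open scoped Matrix
open Matrix Cfsg.Agent.Transvec Cfsg.Agent.Transvec.Orth
open Cfsg.Agent.Transvec.OFr (R)

variable {ι : Type} [Fintype ι] [DecidableEq ι] {F : Type*} [Field F] [Fintype F] {Q : (ι → F) → F}
variable {t : ℕ} {D : Fin t → Submodule F (ι → F)} {M : Subgroup (GL ι F)}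
variable (hC : Ctx Q D M) {κ : F} (hκ : κ ≠ 0)
include hC hκ

/-- A centre and its translate along an orthogonal singular vector give a Siegel element. -/
theorem siegel_of_cen {x v : ι → F} (hx : x ∈ Cen Q D M κ) (hxv : x + v ∈ Cen Q D M κ) (hvv : Q v = 0)
    (hp : pol Q x v = 0) : ∃ g ∈ M, IsSiegel Q g v (κ⁻¹ • x) := by
  refine ⟨_, cen_pair hC hκ hx hxv, fun z => ?_⟩
  rw [mv_mul, R_apply hC.pl (cen_q_ne hC hκ hxv), R_apply hC.pl (cen_q_ne hC hκ hx), hxv.1, hx.1,
    pol_sub_left hC.pl.nd, pol_smul_left hC.pl.nd, pol_add_right hC.pl.nd, pol_add_left hC.pl.nd,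
    pol_self hC.pl.nd, hx.1, pol_comm v x, hp, q_smul hC.pl.nd, hx.1, pol_smul_right hC.pl.nd]
  match_scalars <;> field_simp <;> ring

omit hκ in
/-- The additive group of the vectors y with a Siegel element of v and y in M. -/
def gv (hC : Ctx Q D M) {v : ι → F} (hvv : Q v = 0) : AddSubgroup (ι → F) where
  carrier := {w | pol Q v w = 0 ∧ ∃ g ∈ M, IsSiegel Q g v w}
  zero_mem' := ⟨pol_zero_right hC.pl.nd v, 1, M.one_mem, isSiegel_zero hC.pl.nd v⟩
  add_mem' := by
    rintro a b ⟨ha, g, hg, hga⟩ ⟨hb, g', hg', hgb⟩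
    exact ⟨by rw [pol_add_right hC.pl.nd, ha, hb, add_zero], g * g', M.mul_mem hg hg',
      isSiegel_mul hC.pl.nd hvv ha hb hga hgb⟩
  neg_mem' := by
    rintro a ⟨ha, g, hg, hga⟩
    have hna : pol Q v (-a) = 0 := by rw [pol_neg_right hC.pl.nd, ha, neg_zero]
    obtain ⟨g', -, hg'⟩ := exists_siegel hC.pl.nd hvv hna
    have h := isSiegel_mul hC.pl.nd hvv ha hna hga hg'
    rw [add_neg_cancel] at h
    have h1 : g * g' = 1 := isSiegel_unique h (isSiegel_zero hC.pl.nd v)
    exact ⟨hna, g', by rw [eq_inv_of_mul_eq_one_right h1]; exact M.inv_mem hg, hg'⟩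

omit hκ in
theorem lineIn_of_gv {v w : ι → F} (hvv : Q v = 0) (h : ∀ l : F, l • w ∈ gv hC hvv) :
    pol Q v w = 0 ∧ LineIn Q M v w :=
  ⟨by have := (h 1).1; rwa [one_smul] at this, fun l => (h l).2⟩

omit hκ in
/-- An additive group containing all differences of one circle contains the plane. -/
theorem plane_le (hm : Minus Q D) {S : AddSubgroup (ι → F)} {j : Fin t} {α : F} (hα : α ≠ 0)
    (h : ∀ c ∈ circ Q D j α, ∀ c' ∈ circ Q D j α, c' - c ∈ S) : ∀ w ∈ D j, w ∈ S := by
  classical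
  have hP := hC.pl
  let T : AddSubgroup (D j) := S.comap (D j).subtype.toAddMonoidHom
  suffices hT : T = ⊤ by
    intro w hw
    have : (⟨w, hw⟩ : D j) ∈ T := by rw [hT]; exact AddSubgroup.mem_top _
    exact this
  set C := circ Q D j α
  set Tf : Finset (ι → F) := Finset.univ.filter fun w => w ∈ D j ∧ w ∈ S with hTf
  have hcard : Tf.card = Nat.card T := by
    rw [Nat.card_eq_fintype_card, hTf, ← Fintype.card_coe]
    exact Fintype.card_congr
      { toFun := fun w => ⟨⟨w.1, (Finset.mem_filter.1 w.2).2.1⟩, (Finset.mem_filter.1 w.2).2.2⟩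
        invFun := fun w => ⟨w.1.1, Finset.mem_filter.2 ⟨Finset.mem_univ _, w.1.2, w.2⟩⟩
        left_inv := fun w => rfl
        right_inv := fun w => rfl }
  have hfib : C.offDiag.card ≤ 2 * (C.offDiag.image fun p => p.2 - p.1).card := by
    refine Finset.card_le_mul_card_image _ 2 fun s hs => ?_
    obtain ⟨⟨c, c'⟩, hp, rfl⟩ := Finset.mem_image.1 hs
    obtain ⟨hc, hc', hne⟩ := Finset.mem_offDiag.1 hp
    obtain ⟨h1, h2⟩ := (mem_circ hP).1 hc
    obtain ⟨h3, h4⟩ := (mem_circ hP).1 hc'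
    dsimp only at h1 h2 h3 h4 hne ⊢
    have hsD : c' - c ∈ D j := (D j).sub_mem h3 h1
    have hss : Q (c' - c) ≠ 0 := diff_ne hP h1 (by rw [h2]; exact hα) h3 (h4.trans h2.symm) hne.symm
    obtain ⟨u, hu, hsu, huu⟩ := exists_perp hP hsD hss
    refine (Finset.card_le_card (t := {(c, c + (c' - c)), (mv (R Q u) c, mv (R Q u) c + (c' - c))})
      fun p hp => ?_).trans Finset.card_le_two
    obtain ⟨hp1, hp2⟩ := Finset.mem_filter.1 hp
    obtain ⟨hd, hd', -⟩ := Finset.mem_offDiag.1 hp1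
    obtain ⟨g1, g2⟩ := (mem_circ hP).1 hd
    obtain ⟨g3, g4⟩ := (mem_circ hP).1 hd'
    have hp' : p.2 = p.1 + (c' - c) := by rw [← hp2]; abel
    have e1 : ∀ d : ι → F, Q (d + (c' - c)) = α → Q d = α → pol Q d (c' - c) = -Q (c' - c) := fun d e e' => by
      rw [q_add hP.nd, e'] at e; linear_combination e
    have hpol : pol Q p.1 (c' - c) = pol Q c (c' - c) := by
      rw [e1 p.1 (hp' ▸ g4) g2, e1 c (by rw [add_sub_cancel]; exact h4) h2]
    rcases fibre hP hsD hss hu hsu huu h1 g1 (g2.trans h2.symm) hpol with hh | hh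
    · simp only [Finset.mem_insert, Finset.mem_singleton]; exact Or.inl (Prod.ext hh (by rw [hp', hh]))
    · simp only [Finset.mem_insert, Finset.mem_singleton]; exact Or.inr (Prod.ext hh (by rw [hp', hh]))
  have hsub : (C.offDiag.image fun p => p.2 - p.1) ⊆ Tf.erase 0 := by
    intro s hs
    obtain ⟨⟨c, c'⟩, hp, rfl⟩ := Finset.mem_image.1 hs
    obtain ⟨hc, hc', hne⟩ := Finset.mem_offDiag.1 hp
    exact Finset.mem_erase.2 ⟨sub_ne_zero.2 hne.symm, Finset.mem_filter.2 ⟨Finset.mem_univ _,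
      (D j).sub_mem ((mem_circ hP).1 hc').1 ((mem_circ hP).1 hc).1, h c hc c' hc'⟩⟩
  have h0 : (0 : ι → F) ∈ Tf := Finset.mem_filter.2 ⟨Finset.mem_univ _, Submodule.zero_mem _, S.zero_mem⟩
  have h1 := Finset.card_le_card hsub
  rw [Finset.card_erase_of_mem h0] at h1
  rw [Finset.offDiag_card] at hfib
  have hC1 : Fintype.card F + 1 ≤ C.card := card_circ_minus hP hm j hα
  have hq := Fintype.one_lt_card (α := F)
  have hmono : Fintype.card F * (Fintype.card F + 1) ≤ C.card * C.card - C.card := by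
    rw [show C.card * C.card - C.card = (C.card - 1) * C.card by rw [Nat.sub_mul, one_mul]]
    exact Nat.mul_le_mul (by omega) hC1
  have hDcard : Nat.card (D j) = Fintype.card F * Fintype.card F := by
    rw [Module.natCard_eq_pow_finrank (K := F), hP.dec.decomp.decomp.finrank_eq, Nat.card_eq_fintype_card, pow_two]
  have hmul := T.card_mul_index
  rw [hDcard, ← hcard] at hmul
  rw [← AddSubgroup.index_eq_one]
  have hT0 : 1 ≤ Tf.card := Finset.card_pos.2 ⟨0, h0⟩
  have hbig : Fintype.card F * Fintype.card F < 2 * Tf.card := by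
    have : Fintype.card F * (Fintype.card F + 1) = Fintype.card F * Fintype.card F + Fintype.card F := by ring
    omega
  by_contra hne
  have hi0 : T.index ≠ 0 := fun h => by
    rw [h, mul_zero] at hmul
    have : 0 < Fintype.card F * Fintype.card F := Nat.mul_pos (by omega) (by omega)
    omega
  have : Tf.card * 2 ≤ Tf.card * T.index := Nat.mul_le_mul_left _ (by omega)
  omega

/-- A member outside the support of v is in the line space of v once a centre pair moves in it. -/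
theorem block_line (hm : Minus Q D) {v z : ι → F} (hvv : Q v = 0) (hz : z ∈ Cen Q D M κ)
    (hzv : z + v ∈ Cen Q D M κ) (hp : pol Q z v = 0) {p o : Fin t} (hvp : pr hC.pl p v = 0)
    (hzp : pr hC.pl p z ≠ 0) (hoz : pr hC.pl o z = 0) (hov : pr hC.pl o v = 0) :
    ∀ w ∈ D p, pol Q v w = 0 ∧ LineIn Q M v w := by
  have hP := hC.pl
  set a := pr hP p z
  have haa : Q a ≠ 0 := fun h => hzp (hm p _ (pr_mem hP p z) h)
  have hvw : ∀ w ∈ D p, pol Q v w = 0 := fun w hw => (pol_comm _ _).trans ((pr_eq_zero hP).1 hvp w hw)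
  have hmem : ∀ c ∈ circ Q D p (Q a), κ⁻¹ • (c - a) ∈ gv hC hvv := by
    intro c hc
    obtain ⟨hcD, hcq⟩ := (mem_circ hP).1 hc
    have h1 := cen_change hC hκ hz (Or.inl ⟨o, hoz⟩) haa hcD hcq
    have hpz : pr hP p (z + v) = a := by rw [pr_add hP, hvp, add_zero]
    have h2 := cen_change hC hκ hzv (Or.inl ⟨o, by rw [pr_add hP, hoz, hov, add_zero]⟩) (by rw [hpz]; exact haa)
      hcD (by rw [hpz, hcq])
    rw [hpz, add_right_comm] at h2
    have hp' : pol Q (z + (c - a)) v = 0 := by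
      rw [pol_add_left hP.nd, hp, pol_comm (c - a) v, hvw _ ((D p).sub_mem hcD (pr_mem hP p z)), add_zero]
    have m1 : κ⁻¹ • (z + (c - a)) ∈ gv hC hvv :=
      ⟨by rw [pol_smul_right hP.nd, pol_comm, hp', mul_zero], siegel_of_cen hC hκ h1 h2 hvv hp'⟩
    have m2 : κ⁻¹ • z ∈ gv hC hvv :=
      ⟨by rw [pol_smul_right hP.nd, pol_comm, hp, mul_zero], siegel_of_cen hC hκ hz hzv hvv hp⟩
    have := (gv hC hvv).sub_mem m1 m2
    rwa [← smul_sub, add_sub_cancel_left] at this
  let S : AddSubgroup (ι → F) := (gv hC hvv).comap (DistribMulAction.toAddMonoidHom (ι → F) κ⁻¹)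
  have hS := plane_le hC hm (S := S) haa fun c hc c' hc' => by
    show κ⁻¹ • (c' - c) ∈ gv hC hvv
    have := (gv hC hvv).sub_mem (hmem c' hc') (hmem c hc)
    rwa [← smul_sub, sub_sub_sub_cancel_right] at this
  intro w hw
  refine lineIn_of_gv hC hvv fun l => ?_
  have : κ⁻¹ • ((κ * l) • w) ∈ gv hC hvv := hS _ ((D p).smul_mem _ hw)
  rwa [smul_smul, inv_mul_cancel_left₀ hκ] at this

/-- Three anisotropic components and a vanishing one give everything when there are no singular vectors. -/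
theorem eq_omega_minus (hm : Minus Q D) {x : ι → F} (hx : x ∈ Cen Q D M κ) {l m r o : Fin t} (hlm : l ≠ m)
    (hlr : l ≠ r) (hmr : m ≠ r) (hxl : pr hC.pl l x ≠ 0) (hxm : pr hC.pl m x ≠ 0) (hxr : pr hC.pl r x ≠ 0)
    (hxo : pr hC.pl o x = 0) : M = Geo.omegaGL Q := by
  classical
  have hP := hC.pl
  have hMO := le_iso hC
  set a := pr hP l x
  set b := pr hP m x
  have haa : Q a ≠ 0 := fun h => hxl (hm l _ (pr_mem hP l x) h)
  have hbb : Q b ≠ 0 := fun h => hxm (hm m _ (pr_mem hP m x) h)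
  have hol : o ≠ l := fun h => hxl (by subst h; exact hxo)
  have hom : o ≠ m := fun h => hxm (by subst h; exact hxo)
  have hor : o ≠ r := fun h => hxr (h ▸ hxo)
  -- opposite non-zero differences
  obtain ⟨A, hA0, hA, hB⟩ : ∃ A, A ≠ 0 ∧ A ∈ vals Q D l a ∧ -A ∈ vals Q D m b := by
    set U := (vals Q D l a).erase 0
    set W := ((vals Q D m b).erase 0).image fun B => -B
    have hW : W.card = ((vals Q D m b).erase 0).card := Finset.card_image_of_injective _ neg_injective
    have hz : ∀ {i : Fin t} {e : ι → F}, e ∈ D i → Q e ≠ 0 → (0 : F) ∈ vals Q D i e := fun he hee =>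
      (mem_vals hP).2 ⟨_, he, rfl, by rw [sub_self, q_zero hP.nd]⟩
    have h1 := card_vals hP (a := a) (pr_mem hP l x) haa
    have h2 := card_vals hP (a := b) (pr_mem hP m x) hbb
    have c1 := card_circ_minus hP hm l haa
    have c2 := card_circ_minus hP hm m hbb
    have hU0 : U.card = (vals Q D l a).card - 1 := Finset.card_erase_of_mem (hz (pr_mem hP l x) haa)
    have hW0 : W.card = (vals Q D m b).card - 1 := hW.trans (Finset.card_erase_of_mem (hz (pr_mem hP m x) hbb))
    obtain ⟨A, hA⟩ : (U ∩ W).Nonempty := by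
      by_contra hc
      rw [Finset.not_nonempty_iff_eq_empty, ← Finset.disjoint_iff_inter_eq_empty] at hc
      have hsub : U ∪ W ⊆ (Finset.univ : Finset F).erase 0 := by
        intro A hA
        refine Finset.mem_erase.2 ⟨?_, Finset.mem_univ _⟩
        rcases Finset.mem_union.1 hA with h | h
        · exact (Finset.mem_erase.1 h).1
        · obtain ⟨B, hB, rfl⟩ := Finset.mem_image.1 h
          exact neg_ne_zero.2 (Finset.mem_erase.1 hB).1
      have h3 := Finset.card_le_card hsub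
      rw [Finset.card_union_of_disjoint hc, Finset.card_erase_of_mem (Finset.mem_univ _), Finset.card_univ] at h3
      have hq := Fintype.one_lt_card (α := F)
      split_ifs at h1 h2 <;> omega
    obtain ⟨hA1, hA2⟩ := Finset.mem_inter.1 hA
    obtain ⟨B, hB, rfl⟩ := Finset.mem_image.1 hA2
    exact ⟨-B, (Finset.mem_erase.1 hA1).1, (Finset.mem_erase.1 hA1).2,
      by rw [neg_neg]; exact (Finset.mem_erase.1 hB).2⟩
  obtain ⟨c, hc, hcq, hcA⟩ := (mem_vals hP).1 hA
  obtain ⟨c', hc', hc'q, hc'B⟩ := (mem_vals hP).1 hB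
  have hδl : c - a ∈ D l := (D l).sub_mem hc (pr_mem hP l x)
  have hδm : c' - b ∈ D m := (D m).sub_mem hc' (pr_mem hP m x)
  set δl := c - a
  set δm := c' - b
  set v := δl + δm with hvdef
  have hvv : Q v = 0 := by rw [q_two_orth hP (block_orth hP.dec hlm hδl hδm), hcA, hc'B, add_neg_cancel]
  have hvpr : ∀ p, p ≠ l → p ≠ m → pr hP p v = 0 := fun p hpl hpm => by
    rw [pr_add hP, pr_other hP hpl.symm hδl, pr_other hP hpm.symm hδm, add_zero]
  have hy : x + v ∈ Cen Q D M κ := by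
    have h1 := cen_change hC hκ hx (Or.inl ⟨o, hxo⟩) haa hc hcq
    have hpm : pr hP m (x + (c - a)) = b := by rw [pr_add hP, pr_other hP hlm hδl, add_zero]
    have h2 := cen_change hC hκ h1 (Or.inl ⟨o, by rw [pr_add hP, hxo, pr_other hP hol.symm hδl, add_zero]⟩)
      (by rw [hpm]; exact hbb) hc' (by rw [hpm, hc'q])
    rwa [hpm, add_assoc] at h2
  have hxv : pol Q x v = 0 := by
    have := hy.1
    rw [q_add hP.nd, hx.1, hvv] at this
    linear_combination this
  -- the line space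
  let Y : Submodule F (ι → F) :=
    { carrier := {w | pol Q v w = 0 ∧ LineIn Q M v w}
      add_mem' := fun {p q} hp hq => ⟨by rw [pol_add_right hP.nd, hp.1, hq.1, add_zero],
        lineIn_add hP.nd hvv hp.1 hq.1 hp.2 hq.2⟩
      zero_mem' := ⟨pol_zero_right hP.nd v, by simpa using lineIn_self hP.nd (M := M) hvv 0⟩
      smul_mem' := fun s w hw => ⟨by rw [pol_smul_right hP.nd, hw.1, mul_zero], lineIn_smul s hw.2⟩ }
  have hvY : v ∈ Y := ⟨by rw [pol_self hP.nd, hvv, mul_zero], by simpa using lineIn_self hP.nd (M := M) hvv 1⟩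
  have hvo : pr hP o v = 0 := hvpr o hol hom
  have hDr : ∀ w ∈ D r, w ∈ Y := block_line hC hκ hm hvv hx hy hxv (hvpr r hlr.symm hmr.symm) hxr hxo hvo
  have hDp : ∀ p, p ≠ l → p ≠ m → ∀ w ∈ D p, w ∈ Y := by
    intro p hpl hpm
    by_cases hxp : pr hP p x ≠ 0
    · exact block_line hC hκ hm hvv hx hy hxv (hvpr p hpl hpm) hxp hxo hvo
    push Not at hxp
    have hpr : p ≠ r := fun h => hxr (h ▸ hxp)
    obtain ⟨sw, e, hswI, hswr, hswp, hswf⟩ := exists_block_swap hP.nd hP.dec (i := r) (l := p) hpr.symm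
    have hswS : sw ∈ Geo.decompositionStabilizer D := mem_decomp_of_maps hP.nd hP.dec fun i => by
      rcases eq_or_ne i r with rfl | hir
      · exact ⟨p, fun u hu => by rw [show u = ((⟨u, hu⟩ : D i) : ι → F) from rfl, hswr]; exact (e _).2⟩
      rcases eq_or_ne i p with rfl | hip
      · exact ⟨r, fun u hu => by rw [show u = ((⟨u, hu⟩ : D i) : ι → F) from rfl, hswp]; exact (e.symm _).2⟩
      exact ⟨i, fun u hu => by
        rw [hswf u (fun w hw => block_orth hP.dec hir.symm hw hu) (fun w hw => block_orth hP.dec hip.symm hw hu)]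
        exact hu⟩
    have hswv : mv sw v = v := hswf v (fun w hw => (pr_eq_zero hP).1 (hvpr r hlr.symm hmr.symm) w hw)
      fun w hw => (pr_eq_zero hP).1 (hvpr p hpl hpm) w hw
    have hz := cen_move hC hκ hx (Or.inl ⟨o, hxo⟩) hswS hswI
    have hz' := cen_move hC hκ hy (Or.inl ⟨o, by rw [pr_add hP, hxo, hvo, add_zero]⟩) hswS hswI
    rw [mv_add, hswv] at hz'
    have hzp : pr hP p (mv sw x) = mv sw (pr hP r x) := pr_unique hP
      (by rw [show pr hP r x = ((⟨_, pr_mem hP r x⟩ : D r) : ι → F) from rfl, hswr]; exact (e _).2) fun w hw => by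
        obtain ⟨u, hu, rfl⟩ : ∃ u ∈ D r, mv sw u = w := ⟨e.symm ⟨w, hw⟩, (e.symm _).2, by
          rw [hswr, LinearEquiv.apply_symm_apply]⟩
        rw [pol_mv hP.nd hswI, pol_mv hP.nd hswI, pol_pr hP hu]
    have hzr : pr hP r (mv sw x) = 0 := (pr_eq_zero hP).2 fun w hw => by
      obtain ⟨u, hu, rfl⟩ : ∃ u ∈ D p, mv sw u = w := ⟨e ⟨w, hw⟩, (e _).2, by
        rw [hswp, LinearEquiv.symm_apply_apply]⟩
      rw [pol_mv hP.nd hswI, pol_pr hP hu, hxp, pol_zero_right hP.nd]
    refine block_line hC hκ hm hvv hz hz' ?_ (hvpr p hpl hpm) (fun h => hxr ?_) hzr (hvpr r hlr.symm hmr.symm)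
    · rw [← hswv, pol_mv hP.nd hswI, hxv]
    · refine mv_inj sw ?_
      rw [← hzp, h, ← sub_self (0 : ι → F), mv_sub, sub_self, sub_self]
  -- vectors of the two members
  obtain ⟨c₀, hc₀, hc₀q⟩ := exists_value hP (j := o) κ
  have hc₀v : pol Q c₀ v = 0 := (pr_eq_zero hP).1 hvo _ hc₀
  have hπl : ∀ u ∈ D l, pol Q u v = pol Q u δl := fun u hu => by
    rw [hvdef, pol_add_right hP.nd, block_orth hP.dec hlm hu hδm, add_zero]
  have hπm : ∀ u ∈ D m, pol Q u v = pol Q u δm := fun u hu => by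
    rw [hvdef, pol_add_right hP.nd, block_orth hP.dec hlm.symm hu hδl, zero_add]
  have hmix : ∀ e ∈ D l, ∀ e' ∈ D m, Q e = κ → Q e' = κ → pol Q e v ≠ 0 → pol Q e' v ≠ 0 →
      e' - (pol Q e' v / pol Q e v) • e ∈ Y := by
    intro e he e' he' heq he'q hπ hπ'
    set π := pol Q e v with hπdef
    set π' := pol Q e' v with hπ'def
    obtain ⟨d, hd, hdq⟩ := exists_value hP (j := r) (-κ / π ^ 2)
    obtain ⟨g, hg, hgs⟩ := (hDr d hd).2 1
    rw [one_smul] at hgs
    have hvd : pol Q d v = 0 := (pr_eq_zero hP).1 (hvpr r hlr.symm hmr.symm) _ hd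
    have hgc₀ : mv g c₀ = c₀ := isSiegel_fix hP.nd hgs hc₀v (block_orth hP.dec hor hc₀ hd)
    have hz := cen_mv hC hκ hg (cen_block hC hκ hc₀ hc₀q) (by rw [hgc₀]; exact cen_block hC hκ hc₀ hc₀q)
      (cen_block hC hκ he heq)
    have hge : mv g e = e + π • d - (Q d * π) • v := by
      rw [hgs, ← hπdef, block_orth hP.dec hlr he hd]; module
    rw [hge] at hz
    set z := e + π • d - (Q d * π) • v with hzdef
    have hw := cen_refl hC hκ hz (cen_block hC hκ he' he'q)
    have hez : pol Q e' z = -(Q d * π * π') := by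
      rw [hzdef, pol_sub_right hP.nd, pol_add_right hP.nd, pol_smul_right hP.nd, pol_smul_right hP.nd,
        block_orth hP.dec hlm.symm he' he, block_orth hP.dec hmr he' hd, ← hπ'def]
      ring
    have hwe : mv (R Q z) e' = e' - (π' / π) • z := by
      rw [R_apply hP (cen_q_ne hC hκ hz), hez, hz.1, hdq]
      congr 2
      field_simp
    rw [hwe] at hw
    set w := e' - (π' / π) • z with hwdef
    have hzv : pol Q z v = π := by
      rw [hzdef, pol_sub_left hP.nd, pol_add_left hP.nd, pol_smul_left hP.nd, pol_smul_left hP.nd, hvd,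
        pol_self hP.nd, hvv, ← hπdef]
      ring
    have hwv : pol Q w v = 0 := by
      rw [hwdef, pol_sub_left hP.nd, pol_smul_left hP.nd, hzv, ← hπ'def, div_mul_cancel₀ _ hπ, sub_self]
    have hwexp : w = e' - (π' / π) • e - π' • d + (π' / π * (Q d * π)) • v := by
      rw [hwdef, hzdef]; match_scalars <;> field_simp
    have hwo : pr hP o w = 0 := by
      rw [hwexp, pr_add hP, pr_sub hP, pr_sub hP, pr_smul hP, pr_smul hP, pr_smul hP, pr_other hP hom.symm he',
        pr_other hP hol.symm he, pr_other hP hor.symm hd, hvo]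
      simp
    have hwr : pr hP r w = -(π' • d) := by
      rw [hwexp, pr_add hP, pr_sub hP, pr_sub hP, pr_smul hP, pr_smul hP, pr_smul hP, pr_other hP hmr he',
        pr_other hP hlr he, pr_self hP hd, hvpr r hlr.symm hmr.symm]
      simp
    obtain ⟨d', hd', hd'w⟩ : ∃ d' ∈ D r, pol Q d' w ≠ 0 := by
      by_contra h
      push Not at h
      have := (pr_eq_zero hP).2 h
      rw [hwr, neg_eq_zero, smul_eq_zero, or_iff_right hπ'] at this
      rw [this, q_zero hP.nd] at hdq
      exact div_ne_zero (neg_ne_zero.2 hκ) (pow_ne_zero 2 hπ) hdq.symm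
    set h := R Q w * R Q c₀ with hhdef
    have hhM : h ∈ M := cen_pair hC hκ hw (cen_block hC hκ hc₀ hc₀q)
    have hc₀0 : Q c₀ ≠ 0 := hc₀q ▸ hκ
    have hhv : mv h v = v := by
      rw [hhdef, mv_mul, R_fix hP hc₀0 ((pol_comm _ _).trans hc₀v),
        R_fix hP (cen_q_ne hC hκ hw) ((pol_comm _ _).trans hwv)]
    have hhd : mv h d' = d' - (pol Q d' w / κ) • w := by
      rw [hhdef, mv_mul, R_fix hP hc₀0 (block_orth hP.dec hor.symm hd' hc₀), R_apply hP (cen_q_ne hC hκ hw), hw.1]
    have h1 := lineIn_conj hP.nd (hMO) hhM (hDr d' hd').2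
    rw [hhv, hhd] at h1
    have hY1 : d' - (pol Q d' w / κ) • w ∈ Y := ⟨by
      rw [pol_sub_right hP.nd, (hDr d' hd').1, pol_smul_right hP.nd, pol_comm v w, hwv]; ring, h1⟩
    have h2 := Y.sub_mem (hDr d' hd') hY1
    rw [sub_sub_cancel] at h2
    have hwY : w ∈ Y := (Y.smul_mem_iff (div_ne_zero hd'w hκ)).1 h2
    have : e' - (π' / π) • e = w + π' • d - (π' / π * (Q d * π)) • v := by rw [hwexp]; abel
    rw [this]
    exact Y.sub_mem (Y.add_mem hwY (Y.smul_mem _ (hDr d hd))) (Y.smul_mem _ hvY)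
  -- two independent vectors of each member
  have two : ∀ i δ, δ ∈ D i → δ ≠ 0 → (∀ u ∈ D i, pol Q u v = pol Q u δ) → ∃ e₁ ∈ D i, ∃ e₂ ∈ D i,
      e₂ ∉ Submodule.span F {e₁} ∧ e₁ ≠ 0 ∧ Q e₁ = κ ∧ Q e₂ = κ ∧ pol Q e₁ v ≠ 0 ∧ pol Q e₂ v ≠ 0 := by
    intro i δ hδ hδ0 hπ
    obtain ⟨u, hu, hδu, huu⟩ := exists_perp hP hδ fun h => hδ0 (hm i δ hδ h)
    have hne : ∀ e ∈ D i, e ∉ Submodule.span F {u} → pol Q e v ≠ 0 := fun e he hes h => by
      rw [hπ e he, pol_comm] at h
      exact hes (perp_line hP hδ hδ0 he h hu hδu fun h => huu (by rw [h, q_zero hP.nd]))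
    obtain ⟨e₁, h1, h1q, h1u, -⟩ := exists_third hP i hκ u u
    obtain ⟨e₂, h2, h2q, h2u, h21⟩ := exists_third hP i hκ u e₁
    exact ⟨e₁, h1, e₂, h2, h21, fun h => hκ (by rw [← h1q, h, q_zero hP.nd]), h1q, h2q, hne e₁ h1 h1u,
      hne e₂ h2 h2u⟩
  have hδl0 : δl ≠ 0 := fun h => hA0 (by rw [← hcA, h, q_zero hP.nd])
  have hδm0 : δm ≠ 0 := fun h => hA0 (by rw [← neg_eq_zero, ← hc'B, h, q_zero hP.nd])
  obtain ⟨e₁, he₁, e₂, he₂, he21, he10, he1q, he2q, hπ1, hπ2⟩ := two l δl hδl hδl0 hπl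
  obtain ⟨f₁, hf₁, f₂, hf₂, hf21, hf10, hf1q, hf2q, hρ1, hρ2⟩ := two m δm hδm hδm0 hπm
  have hfull : v ∈ qFull Q M := by
    refine ⟨hvv, fun y hy => ?_⟩
    suffices y ∈ Y by
      obtain ⟨g, hg, hgs⟩ := this.2 1
      exact ⟨g, hg, by rwa [one_smul] at hgs⟩
    set p := pr hP l y
    set p' := pr hP m y
    have hrest : y - p - p' ∈ Y := by
      have heq : y - p - p' = ∑ i ∈ ((Finset.univ.erase l).erase m), pr hP i y := by
        refine ext_pr hP fun i => ?_
        have hlin : ∀ s : Finset (Fin t), pr hP i (∑ k ∈ s, pr hP k y) = ∑ k ∈ s, pr hP i (pr hP k y) := by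
          intro s
          induction s using Finset.induction_on with
          | empty => rw [Finset.sum_empty, Finset.sum_empty, pr_zero hP]
          | insert a s ha ih => rw [Finset.sum_insert ha, Finset.sum_insert ha, pr_add hP, ih]
        rw [hlin, pr_sub hP, pr_sub hP]
        rcases eq_or_ne i l with rfl | hil
        · rw [pr_self hP (pr_mem hP i y), pr_other hP hlm.symm (pr_mem hP m y),
            Finset.sum_eq_zero fun k hk => pr_other hP (Finset.mem_erase.1 (Finset.mem_of_mem_erase hk)).1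
              (pr_mem hP k y)]
          simp
        rcases eq_or_ne i m with rfl | him
        · rw [pr_self hP (pr_mem hP i y), pr_other hP hlm (pr_mem hP l y),
            Finset.sum_eq_zero fun k hk => pr_other hP (Finset.mem_erase.1 hk).1 (pr_mem hP k y)]
          simp
        rw [pr_other hP hil.symm (pr_mem hP l y), pr_other hP him.symm (pr_mem hP m y),
          Finset.sum_eq_single i (fun k _ hk => pr_other hP hk (pr_mem hP k y))
            (fun h => absurd (Finset.mem_erase.2 ⟨him, Finset.mem_erase.2 ⟨hil, Finset.mem_univ _⟩⟩) h),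
          pr_self hP (pr_mem hP i y)]
        simp
      rw [heq]
      exact Y.sum_mem fun i hi => hDp i (Finset.mem_erase.1 (Finset.mem_of_mem_erase hi)).1
        (Finset.mem_erase.1 hi).1 _ (pr_mem hP i y)
    have hpp : pol Q p v + pol Q p' v = 0 := by
      have h1 : pol Q v y = pol Q p v + pol Q p' v := by
        rw [hvdef, pol_add_left hP.nd, pol_pr hP hδl, pol_pr hP hδm, ← hvdef, hπl p (pr_mem hP l y),
          hπm p' (pr_mem hP m y), pol_comm δl, pol_comm δm]
      rw [← h1, hy]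
    obtain ⟨α', β', hp'⟩ := span_two hP hf₁ hf10 hf₂ hf21 (pr_mem hP m y)
    obtain ⟨α, β, hp⟩ := span_two hP he₁ he10 he₂ he21 (pr_mem hP l y)
    have m1 := hmix e₁ he₁ f₁ hf₁ he1q hf1q hπ1 hρ1
    have m2 := hmix e₁ he₁ f₂ hf₂ he1q hf2q hπ1 hρ2
    have m3 := hmix e₂ he₂ f₁ hf₁ he2q hf1q hπ2 hρ1
    have m4 := Y.smul_mem (pol Q e₁ v / pol Q f₁ v) (Y.sub_mem m3 m1)
    have hy' : y = (y - p - p') + (α' • (f₁ - (pol Q f₁ v / pol Q e₁ v) • e₁) +
        β' • (f₂ - (pol Q f₂ v / pol Q e₁ v) • e₁)) +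
        (α + (α' * pol Q f₁ v + β' * pol Q f₂ v) / pol Q e₁ v) • ((pol Q e₁ v / pol Q f₁ v) •
          (f₁ - (pol Q f₁ v / pol Q e₂ v) • e₂ - (f₁ - (pol Q f₁ v / pol Q e₁ v) • e₁))) := by
      simp only [p, p'] at hpp
      rw [hp, hp', pol_add_left hP.nd, pol_add_left hP.nd, pol_smul_left hP.nd, pol_smul_left hP.nd,
        pol_smul_left hP.nd, pol_smul_left hP.nd] at hpp
      simp only [p, p', hp, hp']
      match_scalars <;> field_simp <;> (first | ring1 | linear_combination hpp | linear_combination -hpp)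
    rw [hy']
    exact Y.add_mem (Y.add_mem hrest (Y.add_mem (Y.smul_mem _ m1) (Y.smul_mem _ m2))) (Y.smul_mem _ m4)
  -- a second full vector
  obtain ⟨a', ha', ha'q⟩ := exists_value hP (j := l) (1 : F)
  have ha'0 : Q a' ≠ 0 := by rw [ha'q]; exact one_ne_zero
  obtain ⟨b', hb', hb'q, hb's, -⟩ := exists_turn hP ha' ha'0
  have hb'0 : Q b' ≠ 0 := hb'q ▸ ha'0
  set h := R Q a' * R Q b' with hhdef
  have hhM : h ∈ M := pair_mem hC ha' hb' ha'0 hb'q.symm
  set e := mv h δl - δl with hedef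
  have heD : e ∈ D l := (D l).sub_mem (by
    rw [hhdef, mv_mul]
    exact refl_block hP.nd hP.dec ha' (R_spec hP ha'0).2 l (refl_block hP.nd hP.dec hb' (R_spec hP hb'0).2 l hδl)) hδl
  have he0 : e ≠ 0 := fun h0 => hδl0 (block_nondeg hP.dec l δl hδl (by
    have h1 : mv (R Q a') δl = mv (R Q b') δl := by
      rw [hedef, sub_eq_zero, hhdef, mv_mul] at h0
      conv_lhs => rw [← h0]
      rw [R_RR hP ha'0]
    rw [R_apply hP ha'0, R_apply hP hb'0] at h1
    have h2 := sub_right_injective h1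
    have hb0 : pol Q δl b' = 0 := by
      by_contra hne
      refine hb's (Submodule.mem_span_singleton.2 ⟨(pol Q δl b' / Q b')⁻¹ * (pol Q δl a' / Q a'), ?_⟩)
      rw [mul_smul, h2, smul_smul, inv_mul_cancel₀ (div_ne_zero hne hb'0), one_smul]
    rw [hb0, zero_div, zero_smul, smul_eq_zero, div_eq_zero_iff] at h2
    have ha0 : pol Q δl a' = 0 := (h2.resolve_right fun h => ha'0 (by rw [h, q_zero hP.nd])).resolve_right ha'0
    exact ext_two hP ha' (fun h => ha'0 (by rw [h, q_zero hP.nd])) hb' hb's ((pol_comm _ _).trans ha0)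
      ((pol_comm _ _).trans hb0)))
  have hhm : mv h δm = δm := by
    rw [hhdef, mv_mul, R_fix hP hb'0 (block_orth hP.dec hlm.symm hδm hb'),
      R_fix hP ha'0 (block_orth hP.dec hlm.symm hδm ha')]
  have hhv : mv h v = v + e := by rw [hvdef, mv_add, hhm, hedef]; abel
  have hpe : pol Q v (mv h v) ≠ 0 := by
    rw [hhv, pol_add_right hP.nd, pol_self hP.nd, hvv, mul_zero, zero_add, pol_comm, hπl e heD]
    intro h0
    have h1 : Q (mv h δl) = Q δl := mem_isometry.1 (hMO hhM) δl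
    rw [show mv h δl = e + δl by rw [hedef]; abel, q_add hP.nd, h0, add_zero] at h1
    exact he0 (hm l e heD (by linear_combination h1))
  refine eq_omega_of_pair hP.nd hP.hn hC.le_S hfull (v := (pol Q v (mv h v))⁻¹ • mv h v) ?_ ?_
  · exact qFull_smul hP.nd (qFull_mv hP.nd hMO hhM hfull) _
  · rw [pol_smul_right hP.nd, inv_mul_cancel₀ hpe]

end Cfsg.Agent.Transvec.Planes
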