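/-
Finishing for planes with singular vectors: a centre with a singular component gives everything.
-/
import Cfsg.Agent.Lib.Transvec.OrthPlanesSparse
import Cfsg.Agent.Lib.Transvec.OrthPlanesLines
set_option autoImplicit false
set_option linter.unusedSectionVars false
set_option maxHeartbeats 1000000

namespace Cfsg.Agent.Transvec.Planes

open scoped Matrix
open Matrix Cfsg.Agent.Transvec Cfsg.Agent.Transvec.Orth
open Cfsg.Agent.Transvec.OFr (R)

variable {ι : Type} [Fintype ι] [DecidableEq ι] {F : Type*} [Field F] [Fintype F] {Q : (ι → F) → F}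
variable {t : ℕ} {D : Fin t → Submodule F (ι → F)}

theorem sum_pr (hP : Pl Q D) (x : ι → F) : x = ∑ i, pr hP i x := ext_pr hP fun i => by
  classical
  have hlin : ∀ s : Finset (Fin t), pr hP i (∑ k ∈ s, pr hP k x) = ∑ k ∈ s, pr hP i (pr hP k x) := by
    intro s
    induction s using Finset.induction_on with
    | empty => rw [Finset.sum_empty, Finset.sum_empty, pr_zero hP]
    | insert a s ha ih => rw [Finset.sum_insert ha, Finset.sum_insert ha, pr_add hP, ih]
  rw [hlin, Finset.sum_eq_single i (fun k _ hk => pr_other hP hk (pr_mem hP k x))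
    fun h => absurd (Finset.mem_univ i) h, pr_self hP (pr_mem hP i x)]

theorem q_sum_zero (hP : Pl Q D) {x : ι → F} (h : ∀ i, Q (pr hP i x) = 0) : Q x = 0 := by
  classical
  rw [sum_pr hP x]
  suffices ∀ s : Finset (Fin t), Q (∑ k ∈ s, pr hP k x) = 0 from this _
  intro s
  induction s using Finset.induction_on with
  | empty => rw [Finset.sum_empty, q_zero hP.nd]
  | insert a s ha ih =>
    rw [Finset.sum_insert ha, q_two_orth hP, h a, ih, add_zero]
    rw [pol_pr hP (pr_mem hP a x)]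
    have : pr hP a (∑ k ∈ s, pr hP k x) = 0 := by
      refine (pr_eq_zero hP).2 fun w hw => ?_
      rw [pol_comm, show pol Q (∑ k ∈ s, pr hP k x) w = formQ hP.nd w (∑ k ∈ s, pr hP k x) from rfl, map_sum]
      simp only [formQ_apply hP.nd]
      exact Finset.sum_eq_zero fun k hk =>
        block_orth hP.dec (fun h => ha (by rw [← h]; exact hk)) (pr_mem hP k x) hw
    rw [this, pol_zero_right hP.nd]

theorem plus_card (hP : Pl Q D) (hp : Plus Q D) : 7 ≤ Fintype.card F := by
  rcases hP.big with ⟨hm, -⟩ | ⟨-, h⟩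
  · obtain ⟨e, he, he0, hee⟩ := hp ⟨0, by have := hP.ht; omega⟩
    exact absurd (hm _ e he hee) he0
  · exact h

/-- An additive group containing the shifted non-zero squares is everything. -/
theorem shifted_squares (hq : 7 ≤ Fintype.card F) {T : AddSubgroup F}
    (h : ∀ δ : F, δ ≠ 0 → δ ^ 2 - 1 ∈ T) : ∀ l : F, l ∈ T := by
  classical
  intro l
  by_cases h2 : (2 : F) = 0
  · have hne : ∀ a : F, a ≠ 1 → a ∈ T := fun a ha => by
      obtain ⟨d, hd⟩ := two_cases h2 (a + 1)
      have hd0 : d ≠ 0 := fun h0 => ha (by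
        rw [h0, zero_pow two_ne_zero] at hd
        linear_combination -hd - h2)
      have := h d hd0
      rwa [hd, add_sub_cancel_right] at this
    rcases eq_or_ne l 1 with rfl | hl
    · obtain ⟨a, -, ha⟩ := Finset.exists_mem_notMem_of_card_lt_card (s := ({0, 1} : Finset F)) (t := Finset.univ)
        (by rw [Finset.card_univ]; exact Finset.card_le_two.trans_lt (by omega))
      simp only [Finset.mem_insert, Finset.mem_singleton, not_or] at ha
      have := T.add_mem (hne a ha.2) (hne (1 - a) fun h1 => ha.1 (by linear_combination -h1))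
      rwa [add_sub_cancel] at this
    · exact hne l hl
  · have hroots : ∀ c : F, (Finset.univ.filter fun b : F => b ^ 2 = c).card ≤ 2 := by
      intro c
      rcases (Finset.univ.filter fun b : F => b ^ 2 = c).eq_empty_or_nonempty with h0 | ⟨r, hr⟩
      · rw [h0]; simp
      refine (Finset.card_le_card (t := {r, -r}) fun b hb => ?_).trans Finset.card_le_two
      simp only [Finset.mem_filter, Finset.mem_univ, true_and] at hr hb
      simp only [Finset.mem_insert, Finset.mem_singleton]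
      exact sq_eq_sq_iff_eq_or_eq_neg.1 (hb.trans hr.symm)
    obtain ⟨b, -, hb⟩ := Finset.exists_mem_notMem_of_card_lt_card
      (s := insert (0 : F) ((Finset.univ.filter fun b : F => b ^ 2 = l) ∪ Finset.univ.filter fun b : F => b ^ 2 = -l))
      (t := Finset.univ) (by
        rw [Finset.card_univ]
        have h1 := hroots l
        have h3 := hroots (-l)
        have h4 := Finset.card_insert_le (0 : F)
          ((Finset.univ.filter fun b : F => b ^ 2 = l) ∪ Finset.univ.filter fun b : F => b ^ 2 = -l)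
        have h5 := Finset.card_union_le (Finset.univ.filter fun b : F => b ^ 2 = l)
          (Finset.univ.filter fun b : F => b ^ 2 = -l)
        omega)
    simp only [Finset.mem_insert, Finset.mem_union, Finset.mem_filter, Finset.mem_univ, true_and, not_or] at hb
    obtain ⟨hb0, hb1, hb2⟩ := hb
    set δ := (l / b + b) / 2 with hδ
    set ε := (l / b - b) / 2 with hε
    have hl : (δ ^ 2 - 1) - (ε ^ 2 - 1) = l := by rw [hδ, hε]; field_simp; ring
    have hδ0 : δ ≠ 0 := fun h0 => hb2 (by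
      rw [hδ] at h0; field_simp at h0; linear_combination h0)
    have hε0 : ε ≠ 0 := fun h0 => hb1 (by
      rw [hε] at h0; field_simp at h0; linear_combination -h0)
    rw [← hl]
    exact T.sub_mem (h δ hδ0) (h ε hε0)

variable {M : Subgroup (GL ι F)}
variable (hC : Ctx Q D M) {κ : F} (hκ : κ ≠ 0)
include hC hκ

/-- A centre with a non-zero singular component gives everything. -/
theorem eq_omega_of_singular_pr (hp : Plus Q D) {x : ι → F} (hx : x ∈ Cen Q D M κ) {j : Fin t}
    (hs0 : pr hC.pl j x ≠ 0) (hss : Q (pr hC.pl j x) = 0) : M = Geo.omegaGL Q := by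
  classical
  have hP := hC.pl
  have hnd := hP.nd
  have hMO := le_iso hC
  set s := pr hP j x with hsdef
  have hs := pr_mem hP j x
  set w := x - s with hwdef
  have hwj : pr hP j w = 0 := by rw [hwdef, pr_sub hP, pr_self hP hs, sub_self]
  have hsw : pol Q s w = 0 := (pr_eq_zero hP).1 hwj s hs
  have hxw : x = s + w := by rw [hwdef]; abel
  have hww : Q w = κ := by
    have := hx.1
    rwa [hxw, q_add hnd, hss, hsw, zero_add, add_zero] at this
  obtain ⟨f, hf, hff, hsf⟩ := exists_partner hnd (block_nondeg hP.dec j) hs hs0 hss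
  -- scalings of the singular component
  have hscale : ∀ δ : F, δ ≠ 0 → κ⁻¹ • ((δ ^ 2 - 1) • w) ∈ gv hC hss := by
    intro δ hδ
    set a := s + f with hadef
    set c := δ⁻¹ • s + δ • f with hcdef
    have haD : a ∈ D j := (D j).add_mem hs hf
    have hcD : c ∈ D j := (D j).add_mem ((D j).smul_mem _ hs) ((D j).smul_mem _ hf)
    have haq : Q a = 1 := by rw [hadef, q_add hnd, hss, hff, hsf]; ring
    have hcq : Q c = 1 := by
      rw [hcdef, q_add hnd, q_smul hnd, q_smul hnd, pol_smul_left hnd, pol_smul_right hnd, hss, hff, hsf]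
      field_simp; ring
    have ha0 : Q a ≠ 0 := by rw [haq]; exact one_ne_zero
    have hc0 : Q c ≠ 0 := by rw [hcq]; exact one_ne_zero
    set g := R Q a * R Q c with hgdef
    have hgS : g ∈ Geo.decompositionStabilizer D := Subgroup.mul_mem _ (R_stab hP haD ha0) (R_stab hP hcD hc0)
    have hgO : g ∈ Geo.omegaGL Q := R_omega hP ha0 (haq.trans hcq.symm)
    have hgw : mv g w = w := by
      rw [hgdef, mv_mul, R_fix hP hc0 ((pol_comm _ _).trans ((pr_eq_zero hP).1 hwj c hcD)),
        R_fix hP ha0 ((pol_comm _ _).trans ((pr_eq_zero hP).1 hwj a haD))]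
    have hgs : mv g s = δ ^ 2 • s := by
      have hfs : pol Q f s = 1 := (pol_comm _ _).trans hsf
      have hsc : pol Q s c = δ := by
        rw [hcdef, pol_add_right hnd, pol_smul_right hnd, pol_smul_right hnd, pol_self hnd, hss, hsf]; ring
      have hsa : pol Q s a = 1 := by
        rw [hadef, pol_add_right hnd, pol_self hnd, hss, hsf]; ring
      have hfa : pol Q f a = 1 := by
        rw [hadef, pol_add_right hnd, pol_self hnd, hff, hfs]; ring
      rw [hgdef, mv_mul, R_apply hP hc0, hcq, hsc, R_apply hP ha0, haq, pol_sub_left hnd, pol_smul_left hnd,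
        hsa, hcdef, pol_add_left hnd, pol_smul_left hnd, pol_smul_left hnd, hsa, hfa, hadef]
      match_scalars <;> field_simp <;> ring
    have hgx := cen_stab_mv hC hκ hgS hgO hx
    rw [hxw, mv_add, hgw, hgs] at hgx
    have hvv : Q ((δ ^ 2 - 1) • s) = 0 := by rw [q_smul hnd, hss, mul_zero]
    have hxv : x + (δ ^ 2 - 1) • s = δ ^ 2 • s + w := by rw [hxw]; module
    obtain ⟨h, hh, hhs⟩ := siegel_of_cen hC hκ hx (by rw [hxv]; exact hgx) hvv (by
      rw [pol_smul_right hnd, hxw, pol_add_left hnd, pol_self hnd, hss, pol_comm w s, hsw]; ring)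
    rw [isSiegel_smul hnd] at hhs
    have hsy : pol Q s ((δ ^ 2 - 1) • κ⁻¹ • x) = 0 := by
      rw [pol_smul_right hnd, pol_smul_right hnd, hxw, pol_add_right hnd, pol_self hnd, hss, hsw]; ring
    refine ⟨by rw [pol_smul_right hnd, pol_smul_right hnd, hsw]; ring, h, hh, ?_⟩
    have := isSiegel_add_self hnd hss hsy (-((δ ^ 2 - 1) * κ⁻¹)) hhs
    rwa [show (δ ^ 2 - 1) • κ⁻¹ • x + -((δ ^ 2 - 1) * κ⁻¹) • s = κ⁻¹ • (δ ^ 2 - 1) • w by
      rw [hxw]; module] at this
  let T : AddSubgroup F :=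
    { carrier := {r | κ⁻¹ • (r • w) ∈ gv hC hss}
      zero_mem' := by
        show κ⁻¹ • ((0 : F) • w) ∈ gv hC hss
        rw [zero_smul, smul_zero]; exact AddSubgroup.zero_mem _
      add_mem' := fun {a b} ha hb => by
        show κ⁻¹ • ((a + b) • w) ∈ gv hC hss
        rw [add_smul, smul_add]; exact AddSubgroup.add_mem _ ha hb
      neg_mem' := fun {a} ha => by
        show κ⁻¹ • ((-a) • w) ∈ gv hC hss
        rw [neg_smul, smul_neg]; exact AddSubgroup.neg_mem _ ha }
  have hwline := lineIn_of_gv hC hss (w := w) fun l => by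
    have : κ⁻¹ • ((κ * l) • w) ∈ gv hC hss :=
      shifted_squares (plus_card hP hp) (T := T) hscale (κ * l)
    rwa [smul_smul, inv_mul_cancel_left₀ hκ] at this
  -- the line space
  let Y : Submodule F (ι → F) :=
    { carrier := {y | pol Q s y = 0 ∧ LineIn Q M s y}
      add_mem' := fun {a b} ha hb => ⟨by rw [pol_add_right hnd, ha.1, hb.1, add_zero],
        lineIn_add hnd hss ha.1 hb.1 ha.2 hb.2⟩
      zero_mem' := ⟨pol_zero_right hnd s, by simpa using lineIn_self hnd (M := M) hss 0⟩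
      smul_mem' := fun c y hy => ⟨by rw [pol_smul_right hnd, hy.1, mul_zero], lineIn_smul c hy.2⟩ }
  have hwY : w ∈ Y := hwline
  have hsY : s ∈ Y := ⟨by rw [pol_self hnd, hss, mul_zero], by simpa using lineIn_self hnd (M := M) hss 1⟩
  obtain ⟨p, hpj, hpp⟩ : ∃ p, p ≠ j ∧ Q (pr hP p w) ≠ 0 := by
    by_contra hc
    push Not at hc
    refine hκ (hww ▸ q_sum_zero hP fun i => ?_)
    rcases eq_or_ne i j with rfl | hij
    · rw [hwj, q_zero hnd]
    · exact hc i hij
  set u := pr hP p w with hudef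
  have hu := pr_mem hP p w
  obtain ⟨c, hc, hcq, hcu, hπ⟩ := exists_turn hP hu hpp
  set π := pol Q u c with hπdef
  set α := Q u with hαdef
  have hne : ∀ {a : ι → F}, a ∈ D p → Q a ≠ 0 → mv (R Q a) s = s := fun ha ha0 =>
    R_fix hP ha0 (block_orth hP.dec hpj.symm hs ha)
  have hmove : ∀ a b, a ∈ D p → b ∈ D p → Q a = α → Q b = α → mv (R Q a) (mv (R Q b) u) - u ∈ Y := by
    intro a b ha hb haq hbq
    have ha0 : Q a ≠ 0 := haq ▸ hpp
    have hb0 : Q b ≠ 0 := hbq ▸ hpp
    have hgM : R Q a * R Q b ∈ M := pair_mem hC ha hb ha0 (haq.trans hbq.symm)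
    have hgs : mv (R Q a * R Q b) s = s := by rw [mv_mul, hne hb hb0, hne ha ha0]
    have hgw : mv (R Q a * R Q b) w = w + (mv (R Q a) (mv (R Q b) u) - u) := by
      have h0 : pr hP p (w - u) = 0 := by rw [pr_sub hP, pr_self hP hu, sub_self]
      have hfix : mv (R Q a * R Q b) (w - u) = w - u := by
        rw [mv_mul, R_fix hP hb0 ((pol_comm _ _).trans ((pr_eq_zero hP).1 h0 b hb)),
          R_fix hP ha0 ((pol_comm _ _).trans ((pr_eq_zero hP).1 h0 a ha))]
      rw [mv_sub] at hfix
      rw [← mv_mul]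
      linear_combination (norm := module) hfix
    have h1 := lineIn_conj hnd hMO hgM hwY.2
    rw [hgs] at h1
    have : mv (R Q a * R Q b) w ∈ Y := ⟨by
      conv_lhs => rw [← hgs]
      rw [pol_mv hnd (hMO hgM), hsw], h1⟩
    rw [hgw] at this
    exact (Submodule.add_mem_iff_right Y hwY).1 this
  have hRu : mv (R Q u) u = -u := by
    rw [R_apply hP hpp, pol_self hnd, mul_div_assoc, div_self hpp]; module
  have hRc : mv (R Q c) u = u - (π / α) • c := by rw [R_apply hP (hcq ▸ hpp), hcq]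
  have hd1 := hmove c u hc hu hcq rfl
  have hd2 := hmove u c hu hc rfl hcq
  rw [hRu, mv_neg, hRc] at hd1
  rw [hRc, mv_sub, mv_smul, hRu, R_apply hP hpp, pol_comm c u, ← hπdef, ← hαdef] at hd2
  have hπ2 : π ^ 2 / α ^ 2 - 4 ≠ 0 := by
    have hm1 := diff_ne hP hu hpp hc hcq fun h => hcu (h ▸ Submodule.mem_span_singleton_self _)
    have hm2 := diff_ne hP hu hpp (Submodule.neg_mem _ hc) ((q_neg hnd c).trans hcq)
      fun h => hcu (by rw [← neg_neg c, h]; exact Submodule.neg_mem _ (Submodule.mem_span_singleton_self _))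
    rw [q_sub hnd, hcq, pol_comm c u] at hm1
    rw [q_sub hnd, q_neg hnd, hcq, pol_neg_left hnd, pol_comm c u] at hm2
    intro h
    simp only [hπdef, hαdef] at h hm1 hm2 hpp
    field_simp at h
    exact mul_ne_zero hm1 hm2 (by linear_combination -h)
  have huY : u ∈ Y := by
    refine (Y.smul_mem_iff hπ2).1 ?_
    convert Y.add_mem hd1 hd2 using 1
    match_scalars <;> field_simp <;> ring
  have hcY : c ∈ Y := by
    refine (Y.smul_mem_iff (div_ne_zero hπ hpp)).1 ?_
    have := Y.add_mem hd1 (Y.smul_mem 2 huY)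
    convert this using 1
    module
  have hDp : ∀ y ∈ D p, y ∈ Y := fun y hy => by
    obtain ⟨r, r', rfl⟩ := span_two hP hu (fun h => hpp (by rw [hαdef, hudef, show pr hP p w = 0 from h, q_zero hnd])) hc hcu hy
    exact Y.add_mem (Y.smul_mem _ huY) (Y.smul_mem _ hcY)
  have hD : ∀ i, i ≠ j → ∀ y ∈ D i, y ∈ Y := by
    intro i hij
    rcases eq_or_ne i p with rfl | hip
    · exact hDp
    intro y hy
    obtain ⟨sw, e, hswI, hswp, hswi, hswf⟩ := exists_block_swap hP.nd hP.dec (i := p) (l := i) hip.symm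
    have hswS : sw ∈ Geo.decompositionStabilizer D := mem_decomp_of_maps hP.nd hP.dec fun k => by
      rcases eq_or_ne k p with rfl | hkp
      · exact ⟨i, fun v hv => by rw [show v = ((⟨v, hv⟩ : D k) : ι → F) from rfl, hswp]; exact (e _).2⟩
      rcases eq_or_ne k i with rfl | hki
      · exact ⟨p, fun v hv => by rw [show v = ((⟨v, hv⟩ : D k) : ι → F) from rfl, hswi]; exact (e.symm _).2⟩
      exact ⟨k, fun v hv => by
        rw [hswf v (fun w hw => block_orth hP.dec hkp.symm hw hv) (fun w hw => block_orth hP.dec hki.symm hw hv)]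
        exact hv⟩
    obtain ⟨o, -, ho⟩ := Finset.exists_mem_notMem_of_card_lt_card (s := ({p, i, j} : Finset (Fin t)))
      (t := (Finset.univ : Finset (Fin t)))
      (by rw [Finset.card_univ, Fintype.card_fin]; exact Finset.card_le_three.trans_lt (by have := hP.ht; omega))
    simp only [Finset.mem_insert, Finset.mem_singleton, not_or] at ho
    obtain ⟨ρ, hρ, hρo⟩ := exists_corrected hC hswI o
    have hgM : sw * ρ ∈ M := mem_H hC (Subgroup.mul_mem _ hswS (supp_spec hC hρ).2.1) hρo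
    have hgs : mv (sw * ρ) s = s := by
      rw [mv_mul, (supp_spec hC hρ).2.2 s (pr_other hP (Ne.symm ho.2.2) hs)]
      exact hswf s (fun w hw => block_orth hP.dec hpj hw hs) fun w hw => block_orth hP.dec hij hw hs
    set y' := e.symm ⟨y, hy⟩ with hy'
    have hgy : mv (sw * ρ) (y' : ι → F) = y := by
      rw [mv_mul, (supp_spec hC hρ).2.2 _ (pr_other hP (Ne.symm ho.1) y'.2), hswp, hy',
        LinearEquiv.apply_symm_apply]
    have h1 := lineIn_conj hnd hMO hgM (hDp _ y'.2).2
    rw [hgs, hgy] at h1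
    exact ⟨block_orth hP.dec hij.symm hs hy, h1⟩
  have hfull : s ∈ qFull Q M := by
    refine ⟨hss, fun y hy => ?_⟩
    suffices y ∈ Y by
      obtain ⟨g, hg, hgs⟩ := this.2 1
      exact ⟨g, hg, by rwa [one_smul] at hgs⟩
    rw [sum_pr hP y]
    refine Y.sum_mem fun i _ => ?_
    rcases eq_or_ne i j with rfl | hij
    · rw [pol_pr hP hs] at hy
      obtain ⟨r, hr⟩ := Submodule.mem_span_singleton.1
        (perp_line hP hs hs0 (pr_mem hP i y) hy hs (by rw [pol_self hnd, hss, mul_zero]) hs0)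
      rw [← hr]
      exact Y.smul_mem r hsY
    · exact hD i hij _ (pr_mem hP i y)
  -- the partner
  have had : Q (s - f) = -1 := by rw [q_sub hnd, hss, hff, hsf]; ring
  obtain ⟨b, hb, hbq⟩ := exists_value hP (j := p) (-1 : F)
  have hsf0 : Q (s - f) ≠ 0 := by rw [had]; exact neg_ne_zero.2 one_ne_zero
  have hb0 : Q b ≠ 0 := by rw [hbq]; exact neg_ne_zero.2 one_ne_zero
  have hgM : R Q (s - f) * R Q b ∈ M := pair_mem hC ((D j).sub_mem hs hf) hb hsf0 (had.trans hbq.symm)
  have hgs : mv (R Q (s - f) * R Q b) s = f := by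
    rw [mv_mul, R_fix hP hb0 (block_orth hP.dec hpj.symm hs hb), R_apply hP hsf0, had, pol_sub_right hnd,
      pol_self hnd, hss, hsf]
    match_scalars <;> ring
  have hffull := qFull_mv hnd hMO hgM hfull
  rw [hgs] at hffull
  exact eq_omega_of_pair hnd hP.hn hC.le_S hfull hffull hsf

omit hκ in
theorem exists_shear (hp : Plus Q D) {l : Fin t} {a : ι → F} (ha : a ∈ D l) (haa : Q a ≠ 0) {μ : F} (h0 : μ ≠ 0)
    (h1 : μ ≠ 1) (h2 : μ ≠ 2) : ∃ (s : ι → F) (ν : F), s ∈ D l ∧ s ≠ 0 ∧ Q s = 0 ∧ ν ≠ 0 ∧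
      Q ((1 - μ) • a + ν • s) = Q a ∧ (1 - μ) * Q ((1 - μ) • a + ν • s - a) = -(Q a * μ ^ 2) := by
  have hP := hC.pl
  have hnd := hP.nd
  obtain ⟨e, he, he0, hee⟩ := hp l
  obtain ⟨f, hf, hff, hef⟩ := exists_partner hnd (block_nondeg hP.dec l) he he0 hee
  obtain ⟨s, hs, hss, hπ⟩ : ∃ s ∈ D l, Q s = 0 ∧ pol Q a s ≠ 0 := by
    by_contra hc
    push Not at hc
    have hae := hc e he hee
    have haf := hc f hf hff
    have hfe : f ∉ Submodule.span F {e} := fun hm => by
      obtain ⟨r, rfl⟩ := Submodule.mem_span_singleton.1 hm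
      rw [pol_smul_right hnd, pol_self hnd, hee] at hef
      exact zero_ne_one (α := F) (by linear_combination hef)
    exact haa (by rw [block_nondeg hP.dec l a ha (ext_two hP he he0 hf hfe ((pol_comm _ _).trans hae)
      ((pol_comm _ _).trans haf)), q_zero hnd])
  have hs0 : s ≠ 0 := fun h => hπ (by rw [h, pol_zero_right hnd])
  have hμ : 1 - μ ≠ 0 := sub_ne_zero.2 h1.symm
  set ν := Q a * (1 - (1 - μ) ^ 2) / ((1 - μ) * pol Q a s) with hν
  refine ⟨s, ν, hs, hs0, hss, div_ne_zero (mul_ne_zero haa ?_) (mul_ne_zero hμ hπ), ?_, ?_⟩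
  · intro h
    rcases mul_eq_zero.1 (show μ * (2 - μ) = 0 by linear_combination h) with h' | h'
    · exact h0 h'
    · exact h2 (by linear_combination -h')
  · rw [q_add hnd, q_smul hnd, q_smul hnd, pol_smul_left hnd, pol_smul_right hnd, hss, hν]
    field_simp; ring
  · rw [show (1 - μ) • a + ν • s - a = (-μ) • a + ν • s by module, q_add hnd, q_smul hnd, q_smul hnd,
      pol_smul_left hnd, pol_smul_right hnd, hss, hν]
    field_simp; ring

/-- A centre close enough to x reflects to one with a singular component. -/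
theorem eq_omega_of_near (hp : Plus Q D) {x y : ι → F} (hx : x ∈ Cen Q D M κ) (hy : y ∈ Cen Q D M κ) {l : Fin t}
    {s : ι → F} (hs : s ∈ D l) (hs0 : s ≠ 0) (hss : Q s = 0) {μ ν : F} (hν : ν ≠ 0)
    (hl : pr hC.pl l y = (1 - μ) • pr hC.pl l x + ν • s) (hd : Q (y - x) = κ * (1 + μ)) :
    M = Geo.omegaGL Q := by
  have hP := hC.pl
  have hpol : pol Q y x = κ * (1 - μ) := by
    have := hd
    rw [q_sub hP.nd, hx.1, hy.1] at this
    linear_combination -this
  have hz := cen_refl hC hκ hx hy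
  rw [R_apply hP (cen_q_ne hC hκ hx), hpol, hx.1, mul_div_cancel_left₀ _ hκ] at hz
  have hzl : pr hP l (y - (1 - μ) • x) = ν • s := by
    rw [pr_sub hP, pr_smul hP, hl]; abel
  refine eq_omega_of_singular_pr hC hκ hp hz (j := l) ?_ ?_
  · rw [hzl]; exact smul_ne_zero hν hs0
  · rw [hzl, q_smul hP.nd, hss, mul_zero]

/-- With singular vectors in the members a centre outside them gives everything. -/
theorem eq_omega_plus (hp : Plus Q D) {x : ι → F} (hx : x ∈ Cen Q D M κ) (hxD : ∀ i, x ∉ D i) :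
    M = Geo.omegaGL Q := by
  classical
  have hP := hC.pl
  have hnd := hP.nd
  have hq := plus_card hP hp
  have ht := hP.ht
  have two : ∀ z : ι → F, (∀ i, z ∉ D i) → ∃ l m, l ≠ m ∧ pr hP l z ≠ 0 ∧ pr hP m z ≠ 0 := by
    intro z hz
    have hex : ∀ i, ∃ k, k ≠ i ∧ pr hP k z ≠ 0 := fun i => by
      by_contra hc
      push Not at hc
      exact hz i ((mem_iff_pr hP).2 hc)
    obtain ⟨l, -, hl⟩ := hex ⟨0, by omega⟩
    obtain ⟨m, hml, hm⟩ := hex l
    exact ⟨l, m, hml.symm, hl, hm⟩
  by_cases hsing : ∃ j, pr hP j x ≠ 0 ∧ Q (pr hP j x) = 0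
  · obtain ⟨j, h1, h2⟩ := hsing
    exact eq_omega_of_singular_pr hC hκ hp hx h1 h2
  push Not at hsing
  by_cases h2 : (2 : F) = 0
  · by_cases hne : ∃ l, pr hP l x ≠ 0 ∧ Q (pr hP l x) ≠ κ
    · obtain ⟨l, hl0, hlκ⟩ := hne
      set a := pr hP l x
      have haa := hsing l hl0
      obtain ⟨ρ, hρ⟩ := two_cases h2 (Q a / κ)
      have hρ0 : ρ ≠ 0 := fun h => by
        rw [h, zero_pow two_ne_zero] at hρ
        exact div_ne_zero haa hκ hρ.symm
      have hρ1 : ρ + 1 ≠ 0 := fun h => hlκ (by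
        have : ρ = 1 := by linear_combination h - h2
        rw [this, one_pow] at hρ
        field_simp at hρ
        exact hρ.symm)
      set μ := (ρ + 1)⁻¹ with hμ
      obtain ⟨s, ν, hs, hs0, hss, hν, hcq, hcA⟩ := exists_shear hC hp (pr_mem hP l x) haa (μ := μ)
        (inv_ne_zero hρ1) (fun h => hρ0 (by rw [hμ, inv_eq_one] at h; linear_combination h))
        (fun h => inv_ne_zero hρ1 (h.trans h2))
      have hcD : (1 - μ) • a + ν • s ∈ D l :=
        (D l).add_mem ((D l).smul_mem _ (pr_mem hP l x)) ((D l).smul_mem _ hs)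
      have hy := cen_change hC hκ hx (Or.inr h2) haa hcD hcq
      refine eq_omega_of_near hC hκ hp hx hy (μ := μ) hs hs0 hss hν ?_ ?_
      · rw [pr_add hP, pr_self hP ((D l).sub_mem hcD (pr_mem hP l x))]; abel
      · rw [add_sub_cancel_left]
        have h1μ : (1 : F) - μ ≠ 0 := sub_ne_zero.2 fun h =>
          hρ0 (by rw [hμ, eq_comm, inv_eq_one] at h; linear_combination h)
        refine mul_left_cancel₀ h1μ (hcA.trans ?_)
        rw [show Q a = κ * ρ ^ 2 by rw [hρ]; field_simp, hμ]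
        field_simp
        ring_nf
        linear_combination (-ρ - ρ ^ 2) * h2
    push Not at hne
    obtain ⟨l, m, hlm, hl0, hm0⟩ := two x hxD
    set a := pr hP l x
    set b := pr hP m x
    have haa := hsing l hl0
    have hbb := hsing m hm0
    have hbκ : Q b = κ := hne m hm0
    obtain ⟨B, hB, hB0, hBκ⟩ : ∃ B ∈ vals Q D m b, B ≠ 0 ∧ B ≠ κ := by
      by_contra hc
      push Not at hc
      have h1 := card_vals hP (a := b) (pr_mem hP m x) hbb
      have h3 := card_circ_plus hP hp m (α := Q b) hbb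
      rw [if_pos h2] at h1
      have hsub : vals Q D m b ⊆ {0, κ} := fun A hA => by
        simp only [Finset.mem_insert, Finset.mem_singleton]
        exact or_iff_not_imp_left.2 (hc A hA)
      have := (Finset.card_le_card hsub).trans Finset.card_le_two
      omega
    obtain ⟨b', hb', hb'q, hb'B⟩ := (mem_vals hP).1 hB
    set μ := κ / B + 1 with hμ
    have hμ1 : 1 - μ ≠ 0 := by
      rw [hμ, show 1 - (κ / B + 1) = -(κ / B) by ring]
      exact neg_ne_zero.2 (div_ne_zero hκ hB0)
    obtain ⟨s, ν, hs, hs0, hss, hν, hcq, hcA⟩ := exists_shear hC hp (pr_mem hP l x) haa (μ := μ)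
      (fun h => hBκ (by rw [hμ] at h; field_simp at h; linear_combination h + (-κ) * h2))
      (fun h => hμ1 (by rw [h, sub_self]))
      (fun h => hBκ (by rw [hμ, h2] at h; field_simp at h; linear_combination h + (-κ) * h2))
    have hcD : (1 - μ) • a + ν • s ∈ D l :=
      (D l).add_mem ((D l).smul_mem _ (pr_mem hP l x)) ((D l).smul_mem _ hs)
    have hy₁ := cen_change hC hκ hx (Or.inr h2) haa hcD hcq
    set d := (1 - μ) • a + ν • s - a
    have hdD : d ∈ D l := (D l).sub_mem hcD (pr_mem hP l x)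
    have hm₁ : pr hP m (x + d) = b := by rw [pr_add hP, pr_other hP hlm hdD, add_zero]
    have hy := cen_change hC hκ hy₁ (Or.inr h2) (by rw [hm₁]; exact hbb) hb' (by rw [hm₁, hb'q])
    rw [hm₁] at hy
    have hd'D : b' - b ∈ D m := (D m).sub_mem hb' (pr_mem hP m x)
    refine eq_omega_of_near hC hκ hp hx hy (μ := μ) hs hs0 hss hν ?_ ?_
    · rw [pr_add hP, pr_add hP, pr_self hP hdD, pr_other hP hlm.symm hd'D, add_zero]; simp only [d]; abel
    · rw [add_assoc, add_sub_cancel_left, q_two_orth hP (block_orth hP.dec hlm hdD hd'D), hb'B]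
      refine mul_left_cancel₀ hμ1 ?_
      rw [mul_add, hcA, hne l hl0, hμ]
      field_simp
      ring_nf
      linear_combination (-κ * B ^ 2) * h2
  -- odd characteristic
  obtain ⟨y, hy, hyD, o, hyo⟩ : ∃ y ∈ Cen Q D M κ, (∀ i, y ∉ D i) ∧ ∃ o, pr hP o y = 0 := by
    by_cases hz : ∃ o, pr hP o x = 0
    · exact ⟨x, hx, hxD, hz⟩
    push Not at hz
    exact exists_sparse hP hC hκ hx (fun l => hsing l (hz l)) fun h => absurd h h2
  have three : ∀ z ∈ Cen Q D M κ, ∀ l m r : Fin t, l ≠ m → l ≠ r → m ≠ r → pr hP l z ≠ 0 → pr hP m z ≠ 0 →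
      pr hP r z ≠ 0 → (∃ o, pr hP o z = 0) → M = Geo.omegaGL Q := by
    intro z hz l m r hlm hlr hmr hl0 hm0 hr0 ⟨o, ho⟩
    by_cases hsz : ∃ j, pr hP j z ≠ 0 ∧ Q (pr hP j z) = 0
    · obtain ⟨j, h1, h3⟩ := hsz
      exact eq_omega_of_singular_pr hC hκ hp hz h1 h3
    push Not at hsz
    set a := pr hP l z
    set b := pr hP m z
    set e := pr hP r z
    have haa := hsz l hl0
    have hbb := hsz m hm0
    have hee := hsz r hr0
    obtain ⟨μ, -, hμ⟩ := Finset.exists_mem_notMem_of_card_lt_card (s := ({0, 1, 2} : Finset F)) (t := Finset.univ)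
      (by rw [Finset.card_univ]; exact Finset.card_le_three.trans_lt (by omega))
    simp only [Finset.mem_insert, Finset.mem_singleton, not_or] at hμ
    obtain ⟨s, ν, hs, hs0, hss, hν, hcq, -⟩ := exists_shear hC hp (pr_mem hP l z) haa hμ.1 hμ.2.1 hμ.2.2
    set c := (1 - μ) • a + ν • s with hc
    obtain ⟨B, hB, E, hE, hBE⟩ := cover hP (A := vals Q D m b) (B := vals Q D r e) (by
      have h1 := card_vals hP (a := b) (pr_mem hP m z) hbb
      have h3 := card_vals hP (a := e) (pr_mem hP r z) hee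
      have h4 := card_circ_plus hP hp m (α := Q b) hbb
      have h5 := card_circ_plus hP hp r (α := Q e) hee
      rw [if_neg h2] at h1 h3
      omega) (κ * (1 + μ) - Q (c - a))
    obtain ⟨b', hb', hb'q, hb'B⟩ := (mem_vals hP).1 hB
    obtain ⟨e', he', he'q, he'E⟩ := (mem_vals hP).1 hE
    have hcD : c ∈ D l := (D l).add_mem ((D l).smul_mem _ (pr_mem hP l z)) ((D l).smul_mem _ hs)
    have hd₁ : c - a ∈ D l := (D l).sub_mem hcD (pr_mem hP l z)
    have hd₂ : b' - b ∈ D m := (D m).sub_mem hb' (pr_mem hP m z)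
    have hd₃ : e' - e ∈ D r := (D r).sub_mem he' (pr_mem hP r z)
    have hol : o ≠ l := fun h => hl0 (by show pr hP l z = 0; rw [← h]; exact ho)
    have hom : o ≠ m := fun h => hm0 (by show pr hP m z = 0; rw [← h]; exact ho)
    have hy₁ := cen_change hC hκ hz (Or.inl ⟨o, ho⟩) haa hcD hcq
    have hm₁ : pr hP m (z + (c - a)) = b := by rw [pr_add hP, pr_other hP hlm hd₁, add_zero]
    have ho₁ : pr hP o (z + (c - a)) = 0 := by rw [pr_add hP, ho, pr_other hP hol.symm hd₁, add_zero]
    have hy₂ := cen_change hC hκ hy₁ (Or.inl ⟨o, ho₁⟩) (by rw [hm₁]; exact hbb) hb' (by rw [hm₁, hb'q])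
    rw [hm₁] at hy₂
    have hr₂ : pr hP r (z + (c - a) + (b' - b)) = e := by
      rw [pr_add hP, pr_add hP, pr_other hP hlr hd₁, pr_other hP hmr hd₂, add_zero, add_zero]
    have ho₂ : pr hP o (z + (c - a) + (b' - b)) = 0 := by
      rw [pr_add hP, ho₁, pr_other hP hom.symm hd₂, add_zero]
    have hy₃ := cen_change hC hκ hy₂ (Or.inl ⟨o, ho₂⟩) (by rw [hr₂]; exact hee) he' (by rw [hr₂, he'q])
    rw [hr₂] at hy₃
    refine eq_omega_of_near hC hκ hp hz hy₃ (μ := μ) hs hs0 hss hν ?_ ?_
    · rw [pr_add hP, pr_add hP, pr_add hP, pr_self hP hd₁, pr_other hP hlm.symm hd₂, pr_other hP hlr.symm hd₃,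
        add_zero, add_zero]
      simp only [c]; abel
    · rw [add_assoc, add_assoc, add_sub_cancel_left, q_two_orth hP (by
          rw [pol_add_right hnd, block_orth hP.dec hlm hd₁ hd₂, block_orth hP.dec hlr hd₁ hd₃, add_zero]),
        q_two_orth hP (block_orth hP.dec hmr hd₂ hd₃), hb'B, he'E, hBE]
      ring
  by_cases hsy : ∃ j, pr hP j y ≠ 0 ∧ Q (pr hP j y) = 0
  · obtain ⟨j, h1, h3⟩ := hsy
    exact eq_omega_of_singular_pr hC hκ hp hy h1 h3
  push Not at hsy
  obtain ⟨l, m, hlm, hl0, hm0⟩ := two y hyD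
  by_cases h3 : ∃ r, r ≠ l ∧ r ≠ m ∧ pr hP r y ≠ 0
  · obtain ⟨r, hrl, hrm, hr0⟩ := h3
    exact three y hy l m r hlm hrl.symm hrm.symm hl0 hm0 hr0 ⟨o, hyo⟩
  push Not at h3
  obtain ⟨z, hz, i, j, k, hij, hik, hjk, hi, hj, hk, hzo⟩ :=
    exists_three_of_two hC hκ hy hlm (hsy l hl0) (hsy m hm0) h3
  exact three z hz i j k hij hik hjk hi hj hk hzo

end Cfsg.Agent.Transvec.Planes
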