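/-
The stabiliser of an orthogonal decomposition into blocks of dimension at least four is maximal, any characteristic.
-/
import Cfsg.Agent.Lib.Transvec.OrthWreathFour
set_option autoImplicit false

namespace Cfsg.Agent.Transvec.Orth

open scoped Matrix
open Matrix Cfsg.Agent.Transvec

variable {ι : Type} [Fintype ι] [DecidableEq ι] {F : Type*} [Field F] [Fintype F] {Q : (ι → F) → F}
variable (hQ : Geo.IsNondegenerateQuadraticForm Q)
include hQ
variable {t k : ℕ} {D : Fin t → Submodule F (ι → F)} (hD : Geo.IsOrthogonalMDecomposition Q k D)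
include hD

/-- The commutator subgroup does not stabilise the decomposition. -/
theorem omega_not_stab (hn : 7 ≤ Fintype.card ι) (hk2 : 2 ≤ k) (ht : 3 ≤ t) :
    Geo.decompositionStabilizer D ⊓ Geo.omegaGL Q < Geo.omegaGL Q := by
  refine lt_of_le_of_ne inf_le_right fun he => ?_
  set a : Fin t := ⟨0, by omega⟩
  set b : Fin t := ⟨1, by omega⟩
  set c : Fin t := ⟨2, by omega⟩
  have hab : a ≠ b := fun h => by simp [a, b, Fin.ext_iff] at h
  have hac : a ≠ c := fun h => by simp [a, c, Fin.ext_iff] at h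
  have hbc : b ≠ c := fun h => by simp [b, c, Fin.ext_iff] at h
  have hU : 3 ≤ Module.finrank F ↥(D a ⊔ D b) := by
    have hd : D a ⊓ D b = ⊥ := (Submodule.eq_bot_iff _).2 fun x hx =>
      block_nondeg hD a x hx.1 fun w hw => block_orth hD hab hw hx.2
    have := Submodule.finrank_sup_add_finrank_inf_eq (D a) (D b)
    rw [hd, finrank_bot, hD.decomp.decomp.finrank_eq, hD.decomp.decomp.finrank_eq] at this
    omega
  obtain ⟨u, hu, hu0, huu⟩ := exists_singular hQ hU
  obtain ⟨y, hy, hyy⟩ := exists_anisotropic hQ (block_nondeg hD c) fun h => by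
    have := hD.decomp.decomp.finrank_eq c; rw [h, finrank_bot] at this; omega
  have huc : ∀ z ∈ D c, pol Q u z = 0 := fun z hz => by
    obtain ⟨p, hp, q, hq, rfl⟩ := Submodule.mem_sup.1 hu
    rw [pol_add_left hQ, block_orth hD hac hp hz, block_orth hD hbc hq hz, add_zero]
  obtain ⟨g, -, hg⟩ := exists_siegel hQ huu (huc y hy)
  obtain ⟨l, hlc, f, hf, huf⟩ : ∃ l, l ≠ c ∧ ∃ f ∈ D l, pol Q u f ≠ 0 := by
    by_contra h
    push Not at h
    exact hu0 (eq_zero_of_orth_all hQ hD fun l w hw => by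
      rcases eq_or_ne l c with rfl | hlc
      · exact (pol_comm _ _).trans (huc w hw)
      · exact (pol_comm _ _).trans (h l hlc w hw))
  obtain ⟨σ, hσ⟩ := (he.ge (siegel_mem_omega hQ hn huu (huc y hy) hg)).1
  have hm : mv g f ∈ D (σ l) := (hσ l).le ⟨f, hf, by simp [mv]⟩
  have hgf : mv g f = f + pol Q u f • y - (Q y * pol Q u f) • u := by
    rw [hg, pol_comm f u, block_orth hD hlc hf hy, zero_add]
  rw [hgf] at hm
  by_cases h : σ l = c
  · have h1 := huc _ (h ▸ hm)
    rw [pol_sub_right hQ, pol_add_right hQ, pol_smul_right hQ, pol_smul_right hQ, huc y hy, pol_self hQ, huu] at h1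
    exact huf (by linear_combination h1)
  · obtain ⟨w, hw, hwy⟩ : ∃ w ∈ D c, pol Q w y ≠ 0 := by
      by_contra hc
      push Not at hc
      exact hyy (by rw [block_nondeg hD c y hy hc, q_zero hQ])
    have h1 := block_orth hD (Ne.symm h) hw hm
    rw [pol_sub_right hQ, pol_add_right hQ, pol_smul_right hQ, pol_smul_right hQ, block_orth hD hlc.symm hw hf,
      pol_comm w u, huc w hw] at h1
    exact mul_ne_zero huf hwy (by linear_combination h1)

/-- The commutator subgroup does not stabilise a decomposition into blocks of dimension at least three. -/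
theorem omega_not_stab_big (hn : 7 ≤ Fintype.card ι) (hk3 : 3 ≤ k) :
    Geo.decompositionStabilizer D ⊓ Geo.omegaGL Q < Geo.omegaGL Q := by
  refine lt_of_le_of_ne inf_le_right fun he => ?_
  have ht := hD.decomp.decomp.two_le
  set a : Fin t := ⟨0, by omega⟩
  set b : Fin t := ⟨1, by omega⟩
  have hab : a ≠ b := fun h => by simp [a, b, Fin.ext_iff] at h
  have h3 : ∀ i, 3 ≤ Module.finrank F (D i) := fun i => by rw [hD.decomp.decomp.finrank_eq]; exact hk3
  obtain ⟨u, hu, hu0, huu⟩ := exists_singular hQ (h3 a)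
  obtain ⟨f, hf, -, huf⟩ := exists_partner hQ (block_nondeg hD a) hu hu0 huu
  obtain ⟨y, hy, hyy⟩ := exists_anisotropic hQ (block_nondeg hD b) fun h => by
    have := h3 b; rw [h, finrank_bot] at this; omega
  have huy : pol Q u y = 0 := block_orth hD hab hu hy
  obtain ⟨g, -, hg⟩ := exists_siegel hQ huu huy
  obtain ⟨σ, hσ⟩ := (he.ge (siegel_mem_omega hQ hn huu huy hg)).1
  have hm : mv g f ∈ D (σ a) := (hσ a).le ⟨f, hf, by simp [mv]⟩
  have hgf : mv g f = f + y - Q y • u := by
    rw [hg, pol_comm f u, huf, block_orth hD hab hf hy]; module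
  rw [hgf] at hm
  by_cases h : σ a = b
  · have h1 := block_orth hD (h ▸ hab : a ≠ σ a) hu hm
    rw [pol_sub_right hQ, pol_add_right hQ, pol_smul_right hQ, huf, huy, pol_self hQ, huu] at h1
    exact one_ne_zero (α := F) (by linear_combination h1)
  · refine hyy ?_
    rw [block_nondeg hD b y hy fun w hw => ?_, q_zero hQ]
    have h1 := block_orth hD (Ne.symm h) hw hm
    rw [pol_sub_right hQ, pol_add_right hQ, pol_smul_right hQ, block_orth hD hab.symm hw hf,
      block_orth hD hab.symm hw hu] at h1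
    linear_combination h1

theorem orth_wreath_maximal_four (hn : 7 ≤ Fintype.card ι) (hk4 : 4 ≤ k)
    (hminus : (∀ c : F, c = 0 ∨ c = 1) → k = 4 → ∀ i, ∀ e f, e ∈ D i → f ∈ D i → Q e = 0 → Q f = 0 →
      pol Q e f = 0 → f ∉ Submodule.span F {e} → e = 0) :
    Geo.IsMaximalIn (Geo.omegaGL Q) (Geo.decompositionStabilizer D ⊓ Geo.omegaGL Q) := by
  have hN := fun i => block_nondeg hD i
  have h3 : ∀ i, 3 ≤ Module.finrank F (D i) := fun i => by rw [hD.decomp.decomp.finrank_eq]; omega
  refine ⟨omega_not_stab_big hQ hD hn (by omega), fun M hHM hMS => ?_⟩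
  have hMO : M ≤ isometryGroup F Q := hMS.trans (omega_le_isometry hQ)
  by_cases hall : ∀ g ∈ M, g ∈ Geo.decompositionStabilizer D
  · exact Or.inl (le_antisymm (fun g hg => ⟨hall g hg, hMS hg⟩) hHM)
  refine Or.inr ?_
  push Not at hall
  obtain ⟨g, hg, hgD⟩ := hall
  obtain ⟨i₀, hi₀⟩ : ∃ i, ∀ j, ¬ ∀ u ∈ D i, mv g u ∈ D j := by
    by_contra h
    push Not at h
    exact hgD (mem_decomp_of_maps hQ hD h)
  have hgI := hMO hg
  -- a singular vector of the block leaving every block
  obtain ⟨u, hu, huu, hu0, hgu⟩ : ∃ u ∈ D i₀, Q u = 0 ∧ u ≠ 0 ∧ ∀ j, mv g u ∉ D j := by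
    by_contra h
    push Not at h
    obtain ⟨e, he, he0, hee⟩ := exists_singular hQ (h3 i₀)
    obtain ⟨f, hf, hff, hef⟩ := exists_partner hQ (hN i₀) he he0 hee
    obtain ⟨A, hA⟩ := h e he hee he0
    have key : ∀ w ∈ D i₀, Q w = 0 → ∀ z, mv g z ∈ D A → pol Q w z ≠ 0 → mv g w ∈ D A := by
      intro w hw hww z hz hwz
      have hw0 : w ≠ 0 := fun h => hwz (by rw [h, pol_zero_left hQ])
      obtain ⟨B, hB⟩ := h w hw hww hw0
      rcases eq_or_ne B A with rfl | hne
      · exact hB
      · exact absurd (by rw [← pol_mv hQ hgI]; exact block_orth hD hne hB hz) hwz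
    have hfA := key f hf hff e hA (by rw [pol_comm, hef]; exact one_ne_zero)
    refine hi₀ A fun x hx => ?_
    set x' := x - pol Q x f • e - pol Q x e • f with hx'def
    have hfe : pol Q f e = 1 := (pol_comm _ _).trans hef
    have hx'e : pol Q x' e = 0 := by
      rw [hx'def, pol_sub_left hQ, pol_sub_left hQ, pol_smul_left hQ, pol_smul_left hQ, pol_self hQ, hee, hfe]
      ring
    have hx'f : pol Q x' f = 0 := by
      rw [hx'def, pol_sub_left hQ, pol_sub_left hQ, pol_smul_left hQ, pol_smul_left hQ, pol_self hQ, hff, hef]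
      ring
    have hw := key (x' + e - Q x' • f) ((D i₀).sub_mem ((D i₀).add_mem ((D i₀).sub_mem ((D i₀).sub_mem hx
        ((D i₀).smul_mem _ he)) ((D i₀).smul_mem _ hf)) he) ((D i₀).smul_mem _ hf))
      (by
        rw [q_sub hQ, q_add hQ, q_smul hQ, pol_add_left hQ, pol_smul_right hQ, pol_smul_right hQ, hee, hff, hx'e,
          hx'f, hef]
        ring) f hfA
      (by
        rw [pol_sub_left hQ, pol_add_left hQ, pol_smul_left hQ, hx'f, hef, pol_self hQ, hff]
        simp)
    rw [mv_sub, mv_add, mv_smul] at hw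
    rw [show x = (x' + e - Q x' • f) + (Q x' + pol Q x e) • f + (pol Q x f - 1) • e by rw [hx'def]; module,
      mv_add, mv_add, mv_smul, mv_smul, mv_sub, mv_add, mv_smul]
    exact (D A).add_mem ((D A).add_mem hw ((D A).smul_mem _ hfA)) ((D A).smul_mem _ hA)
  set v := mv g u with hvdef
  have hvv : Q v = 0 := by rw [hvdef, mem_isometry.1 hgI, huu]
  set U := (LinearMap.ker ((formQ hQ u).comp (D i₀).subtype)).map (D i₀).subtype with hU
  have hUm : ∀ x ∈ U, x ∈ D i₀ ∧ pol Q u x = 0 := by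
    rintro _ ⟨x, hx, rfl⟩
    exact ⟨x.2, (pol_comm _ _).trans (LinearMap.mem_ker.1 hx)⟩
  have hUd := perp_finrank hQ hD i₀ u
  rw [← hU] at hUd
  have hvy : ∀ x ∈ U, pol Q v (mv g x) = 0 := fun x hx => by rw [hvdef, pol_mv hQ hgI, (hUm x hx).2]
  have hline : ∀ x ∈ U, LineIn Q M v (mv g x) := fun x hx => lineIn_conj hQ hMO hg fun l => by
    obtain ⟨s, hs, hss, -⟩ := block_siegel hQ hD hn hHM hu ((D i₀).smul_mem l (hUm x hx).1) huu
      (by rw [pol_smul_right hQ, (hUm x hx).2, mul_zero])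
    exact ⟨s, hs, hss⟩
  choose b hb hvb using fun j => exists_proj hQ (hN j) v
  -- finish from an independent component
  have fin : ∀ x ∈ U, ∀ l a, a ∈ D l → mv g x - a ∈ orth hQ (D l) → a ∉ Submodule.span F {b l} →
      ((∀ c : F, c = 0 ∨ c = 1) → Q (b l) ≠ 0 → ∀ i, v - b l ∉ D i) → M = Geo.omegaGL Q := by
    intro x hx l a ha hya hab hcond
    obtain ⟨z, hz, hz0, hvz, hzl⟩ := exists_comp hQ hD hn hk4 hHM hMS hvv (hvy x hx) (hline x hx) ha hya (hb l)
      (hvb l) hab
    refine eq_omega_of_comp hQ hD hn hk4 hHM hMS hvv hz hz0 hvz (hgu l) (hb l) (hvb l) (fun hF hbb _ => ?_) hzl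
    by_cases hbz : b l + z = 0
    · intro i
      have h2 := two_of_fin hQ hD hn hHM hMS hF
      rw [show z = -(b l) from eq_neg_of_add_eq_zero_right hbz, ← sub_eq_add_neg]
      exact hcond hF hbb i
    · exact not_in_block hQ hD (hb l) (hvb l) (hgu l) hz hbz
  by_cases hbad : ∃ x ∈ U, ∃ l a, a ∈ D l ∧ mv g x - a ∈ orth hQ (D l) ∧ a ∉ Submodule.span F {b l}
  · obtain ⟨x, hx, l, a, ha, hya, hab⟩ := hbad
    by_cases hsimple : (∀ c : F, c = 0 ∨ c = 1) ∧ Q (b l) ≠ 0 ∧ ∃ i, v - b l ∈ D i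
    swap
    · exact fin x hx l a ha hya hab fun hF hbb i hi => hsimple ⟨hF, hbb, i, hi⟩
    obtain ⟨hF, hbb, i, hi⟩ := hsimple
    have hil : i ≠ l := by
      rintro rfl
      exact hgu i (by simpa using (D i).add_mem hi (hb i))
    have hbi : v - b l = b i := by
      refine sub_eq_zero.1 (hN i _ ((D i).sub_mem hi (hb i)) fun w hw => ?_)
      rw [pol_sub_right hQ, pol_sub_right hQ, block_orth hD hil hw (hb l), proj_pol hQ hD (hvb i) hw]
      ring
    have hother : ∀ m, m ≠ i → m ≠ l → b m = 0 := fun m hmi hml => hN m _ (hb m) fun w hw => by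
      rw [← proj_pol hQ hD (hvb m) hw, show v = b l + b i by rw [← hbi]; abel, pol_add_right hQ,
        block_orth hD hml hw (hb l), block_orth hD hmi hw (hb i), add_zero]
    obtain ⟨z, hzU, hzs⟩ : ∃ z ∈ U, mv g z ∉ Submodule.span F ({b i, b l} : Set (ι → F)) := by
      by_contra h
      push Not at h
      classical
      have hinj : Function.Injective (mvLin g) := fun x y h => mv_inj g (by simpa using h)
      have h1 := Submodule.finrank_mono (s := U.map (mvLin g))
        (t := Submodule.span F ({b i, b l} : Set (ι → F))) (by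
          rintro _ ⟨z, hz, rfl⟩; simpa using h z hz)
      rw [← LinearEquiv.finrank_eq (Submodule.equivMapOfInjective (mvLin g) hinj U)] at h1
      have h5 : Module.finrank F ↥(Submodule.span F ({b i, b l} : Set (ι → F))) ≤ 2 :=
        (finrank_span_le_card _).trans
          (by rw [Set.toFinset_insert, Set.toFinset_singleton]; exact Finset.card_le_two)
      omega
    choose c hc hzc using fun m => exists_proj hQ (hN m) (mv g z)
    by_cases hout : ∃ m, m ≠ i ∧ m ≠ l ∧ c m ≠ 0
    · obtain ⟨m, hmi, hml, hm⟩ := hout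
      refine fin z hzU m (c m) (hc m) (hzc m) (fun h => hm ?_) fun _ h => absurd (by rw [hother m hmi hml, q_zero hQ]) h
      rw [hother m hmi hml, Submodule.span_zero_singleton, Submodule.mem_bot] at h
      exact h
    push Not at hout
    have hsum : mv g z = c i + c l := sub_eq_zero.1 <| eq_zero_of_orth_all hQ hD fun m w hw => by
      rw [pol_sub_right hQ, proj_pol hQ hD (hzc m) hw, pol_add_right hQ]
      rcases eq_or_ne m i with rfl | hmi
      · rw [block_orth hD hil hw (hc l)]; ring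
      rcases eq_or_ne m l with rfl | hml
      · rw [block_orth hD hil.symm hw (hc i)]; ring
      · rw [hout m hmi hml, pol_zero_right hQ, block_orth hD hmi hw (hc i), block_orth hD hml hw (hc l)]; ring
    have hbb' : Q (b i) ≠ 0 := fun h => hbb (by
      have := hvv
      rw [show v = b l + b i by rw [← hbi]; abel, q_add hQ, h, block_orth hD hil.symm (hb l) (hb i)] at this
      simpa using this)
    -- the two members
    have pair : ∀ p q, (p = i ∧ q = l ∨ p = l ∧ q = i) → c p ∉ Submodule.span F {b p} →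
        (pol Q (c p) (b p) = 0 ∨ 5 ≤ k ∨ Q (c p) ≠ 0) → M = Geo.omegaGL Q := by
      intro p q hpq hcp hor
      have hbp : Q (b p) ≠ 0 := by rcases hpq with ⟨rfl, -⟩ | ⟨rfl, -⟩ <;> assumption
      obtain ⟨x', hx', hx'0, hbx, hvx, hl⟩ := exists_comp_two hQ hD hn hk4 hHM hMS hF hvv (hvy z hzU) (hline z hzU)
        (hc p) (hzc p) (hb p) (hvb p) hbp hcp (fun hne => by
          rcases hor with h | h | h
          · exact absurd h hne
          · exact Or.inl h
          · by_cases hk5 : 5 ≤ k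
            · exact Or.inl hk5
            · exact Or.inr ⟨h, hminus hF (by omega) p⟩)
      exact eq_omega_of_comp hQ hD hn hk4 hHM hMS hvv hx' hx'0 hvx (hgu p) (hb p) (hvb p)
        (fun _ _ _ => not_in_block hQ hD (hb p) (hvb p) (hgu p) hx' hbx) hl
    have hpol : pol Q (c i) (b i) + pol Q (c l) (b l) = 0 := by
      have := hvy z hzU
      rw [hsum, show v = b l + b i by rw [← hbi]; abel, pol_add_left hQ, pol_add_right hQ, pol_add_right hQ,
        block_orth hD hil.symm (hb l) (hc i), block_orth hD hil (hb i) (hc l), pol_comm (b i), pol_comm (b l)] at this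
      linear_combination this
    have hself : ∀ p, ∀ w ∈ Submodule.span F {b p}, pol Q w (b p) = 0 := fun p w hw => by
      obtain ⟨r, rfl⟩ := Submodule.mem_span_singleton.1 hw
      rw [pol_smul_left hQ, pol_self hQ, two_of_fin hQ hD hn hHM hMS hF]; ring
    by_cases hci : c i ∈ Submodule.span F {b i}
    · by_cases hcl : c l ∈ Submodule.span F {b l}
      · refine absurd ?_ hzs
        rw [hsum]
        refine Submodule.add_mem _ (Submodule.span_mono ?_ hci) (Submodule.span_mono ?_ hcl) <;> simp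
      · exact pair l i (Or.inr ⟨rfl, rfl⟩) hcl (Or.inl (by rw [hself i _ hci] at hpol; linear_combination hpol))
    by_cases hcl : c l ∈ Submodule.span F {b l}
    · exact pair i l (Or.inl ⟨rfl, rfl⟩) hci (Or.inl (by rw [hself l _ hcl] at hpol; linear_combination hpol))
    by_cases hk5 : 5 ≤ k
    · exact pair i l (Or.inl ⟨rfl, rfl⟩) hci (Or.inr (Or.inl hk5))
    by_cases hqi : Q (c i) = 0
    swap
    · exact pair i l (Or.inl ⟨rfl, rfl⟩) hci (Or.inr (Or.inr hqi))
    refine pair l i (Or.inr ⟨rfl, rfl⟩) hcl (Or.inr (Or.inr fun hql => ?_))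
    have hzz : Q z = 0 := by
      rw [← mem_isometry.1 hgI z, hsum, q_add hQ, hqi, hql, block_orth hD hil (hc i) (hc l)]; ring
    refine hu0 (hminus hF (by omega) i₀ u z hu (hUm z hzU).1 huu hzz (hUm z hzU).2 fun hm => hzs ?_)
    obtain ⟨r, rfl⟩ := Submodule.mem_span_singleton.1 hm
    rw [mv_smul, ← hvdef, show v = b l + b i by rw [← hbi]; abel]
    exact Submodule.smul_mem _ _ (Submodule.add_mem _ (Submodule.subset_span (Set.mem_insert_of_mem _ rfl))
      (Submodule.subset_span (Set.mem_insert _ _)))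
  push Not at hbad
  -- proportional components
  obtain ⟨j₀, hbj₀⟩ : ∃ j, b j ≠ 0 := by
    by_contra h
    push Not at h
    exact hgu i₀ (by
      rw [eq_zero_of_orth_all hQ hD (x := v) fun l w hw => by rw [proj_pol hQ hD (hvb l) hw, h l, pol_zero_right hQ]]
      exact Submodule.zero_mem _)
  obtain ⟨i, hij, hbi⟩ : ∃ i ≠ j₀, b i ≠ 0 := by
    obtain ⟨i, hij, w, hw, hwv⟩ := exists_other hQ hD (hgu j₀)
    exact ⟨i, hij, fun h => hwv (by rw [proj_pol hQ hD (hvb i) hw, h, pol_zero_right hQ])⟩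
  have dual : ∀ p, b p ≠ 0 → ∃ w ∈ D p, pol Q w (b p) = 1 := fun p hp => by
    obtain ⟨φ, -, hφ⟩ := exists_dual (W := (⊥ : Submodule F (ι → F))) (u := b p) (by simpa using hp)
    obtain ⟨w, hw, hw'⟩ := exists_rep hQ (hN p) φ
    exact ⟨w, hw, by rw [pol_comm, ← hw' _ (hb p), hφ]⟩
  obtain ⟨wi, hwi, hwi'⟩ := dual i hbi
  obtain ⟨wj, hwj, hwj'⟩ := dual j₀ hbj₀
  set δ : (ι → F) → F := fun x => pol Q wi (mv g x) - pol Q wj (mv g x) with hδ
  obtain ⟨x, hx, hne⟩ : ∃ x ∈ U, δ x ≠ Q x := by
    by_contra h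
    push Not at h
    have h1 := finrank_totally_orth_le hQ (hN i₀) (L := U) (fun x hx => (hUm x hx).1) fun x hx y hy => by
      have e1 := h x hx
      have e2 := h y hy
      have e3 := h (x + y) (U.add_mem hx hy)
      simp only [hδ, mv_add, pol_add_right hQ, q_add hQ] at e1 e2 e3
      linear_combination e1 + e2 - e3
    rw [hD.decomp.decomp.finrank_eq] at h1
    omega
  set y := mv g x with hydef
  choose a ha hya using fun m => exists_proj hQ (hN m) y
  choose r hr using fun m => Submodule.mem_span_singleton.1 (hbad x hx m (a m) (ha m) (hya m))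
  have py : ∀ m, ∀ w ∈ D m, pol Q w y = r m * pol Q w (b m) := fun m w hw => by
    rw [proj_pol hQ hD (hya m) hw, ← hr m, pol_smul_right hQ]
  have hδx : δ x = r i - r j₀ := by
    rw [hδ]; simp only
    rw [← hydef, py i wi hwi, py j₀ wj hwj, hwi', hwj']; ring
  have hQy : Q y = Q x := by rw [hydef, mem_isometry.1 hgI]
  obtain ⟨T, hT, hTs⟩ := hline x hx 1
  rw [one_smul, ← hydef] at hTs
  obtain ⟨e, he, hee, hbe⟩ := exists_singular_not_orth hQ (hN j₀) (h3 j₀) (hb j₀) hbj₀
  obtain ⟨x₁, hx₁, hx₁0, hx₁e, hx₁b⟩ := exists_orth_two hQ hD hk4 j₀ e (b j₀)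
  set κ := pol Q e (b j₀) with hκ
  have hκ0 : κ ≠ 0 := fun h => hbe ((pol_comm _ _).trans h)
  have hTe : mv T e = e + κ • y - ((r j₀ + Q y) * κ) • v := by
    rw [hTs, proj_pol hQ hD (hvb j₀) he, py j₀ e he]; module
  have hTx : mv T x₁ = x₁ := isSiegel_fix hQ hTs (by rw [proj_pol hQ hD (hvb j₀) hx₁, hx₁b])
    (by rw [py j₀ x₁ hx₁, hx₁b, mul_zero])
  set b₂ := e - (Q y * κ) • b j₀ with hb₂
  have hb₂m : b₂ ∈ D j₀ := (D j₀).sub_mem he ((D j₀).smul_mem _ (hb j₀))
  have hvb₂ : mv T e - b₂ ∈ orth hQ (D j₀) := fun w hw => by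
    rw [hTe, hb₂]
    simp only [pol_sub_right hQ, pol_add_right hQ, pol_smul_right hQ, py j₀ w hw, proj_pol hQ hD (hvb j₀) hw]
    ring
  have hv2 : mv T e ∉ D j₀ := fun hm => by
    have h1 := block_orth hD hij hwi hm
    rw [hTe, pol_sub_right hQ, pol_add_right hQ, pol_smul_right hQ, pol_smul_right hQ, py i wi hwi,
      proj_pol hQ hD (hvb i) hwi, hwi', block_orth hD hij hwi he] at h1
    refine hne ?_
    rw [hδx, ← hQy]
    have h4 : κ * (r i - r j₀ - Q y) = 0 := by linear_combination h1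
    linear_combination (mul_eq_zero.1 h4).resolve_left hκ0
  have hindep : x₁ ∉ Submodule.span F {b₂} := fun hm => by
    obtain ⟨s, hs⟩ := Submodule.mem_span_singleton.1 hm
    have e1 := hx₁e
    have e2 := hx₁b
    rw [← hs, hb₂, pol_smul_left hQ, pol_sub_left hQ, pol_smul_left hQ, pol_self hQ, pol_comm (b j₀) e, ← hκ,
      hee] at e1
    rw [← hs, hb₂, pol_smul_left hQ, pol_sub_left hQ, pol_smul_left hQ, pol_self hQ, ← hκ] at e2
    have e3 : s * Q y = 0 := (mul_eq_zero.1 (show s * Q y * (κ * κ) = 0 by linear_combination -e1)).resolve_right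
      (mul_ne_zero hκ0 hκ0)
    have : s * κ = 0 := by linear_combination e2 + (κ * (2 * Q (b j₀))) * e3
    rw [(mul_eq_zero.1 this).resolve_right hκ0, zero_smul] at hs
    exact hx₁0 hs.symm
  refine eq_omega_of_comp hQ hD hn hk4 hHM hMS (v := mv T e) (by rw [mem_isometry.1 (hMO hT), hee]) hx₁ hx₁0
    (by conv_lhs => arg 3; rw [← hTx]
        rw [pol_mv hQ (hMO hT), pol_comm, hx₁e]) hv2 hb₂m hvb₂ (fun hF _ _ => ?_) ?_
  · refine not_in_block hQ hD hb₂m hvb₂ hv2 hx₁ fun h0 => hindep ?_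
    rw [show x₁ = -b₂ from eq_neg_of_add_eq_zero_right h0]
    exact Submodule.neg_mem _ (Submodule.mem_span_singleton_self _)
  · have h1 : LineIn Q M e x₁ := fun m => by
      obtain ⟨s, hs, hss, -⟩ := block_siegel hQ hD hn hHM he ((D j₀).smul_mem m hx₁) hee
        (by rw [pol_smul_right hQ, pol_comm, hx₁e, mul_zero])
      exact ⟨s, hs, hss⟩
    have h2 := lineIn_conj hQ hMO hT h1
    rwa [hTx] at h2

end Cfsg.Agent.Transvec.Orth
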