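/-
The stabiliser of an orthogonal decomposition into blocks of dimension at least three is maximal, odd characteristic.
-/
import Cfsg.Agent.Lib.Transvec.OrthWreath
set_option autoImplicit false

namespace Cfsg.Agent.Transvec.Orth

open scoped Matrix
open Matrix Cfsg.Agent.Transvec

variable {ι : Type} [Fintype ι] [DecidableEq ι] {F : Type*} [Field F] [Fintype F] {Q : (ι → F) → F}
variable (hQ : Geo.IsNondegenerateQuadraticForm Q)
include hQ

theorem orth_wreath_maximal {t k : ℕ} {D : Fin t → Submodule F (ι → F)} (hD : Geo.IsOrthogonalMDecomposition Q k D)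
    (hn : 7 ≤ Fintype.card ι) (h2 : (2 : F) ≠ 0) (hk : k = 3 ∨ 5 ≤ k) (hq : k = 3 → 5 ≤ Fintype.card F) :
    Geo.IsMaximalIn (Geo.omegaGL Q) (Geo.decompositionStabilizer D ⊓ Geo.omegaGL Q) := by
  have hN := fun i => block_nondeg hD i
  have h3 : ∀ i, 3 ≤ Module.finrank F (D i) := fun i => by rw [hD.decomp.decomp.finrank_eq]; omega
  -- an anisotropic vector orthogonal to a given pair
  have perp : ∀ (i : Fin t) (e f : ι → F), e ∈ D i → f ∈ D i → Q e = 0 → Q f = 0 → pol Q e f = 1 →
      ∃ x ∈ D i, Q x ≠ 0 ∧ pol Q e x = 0 ∧ pol Q f x = 0 := by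
    intro i e f he hf hee hff hef
    obtain ⟨hPn, hP2⟩ := nondeg_pair hQ hee hff hef
    have hle : Submodule.span F ({e, f} : Set (ι → F)) ≤ D i := Submodule.span_le.2 (by
      rintro x (rfl | rfl) <;> assumption)
    have hd := finrank_inf_orth_add hQ hPn hle
    obtain ⟨x, hx, hxx⟩ := exists_anisotropic hQ (nondeg_inf_orth hQ hPn (hN i) hle) fun h => by
      rw [h, finrank_bot, hP2] at hd; have := h3 i; omega
    exact ⟨x, hx.1, hxx, hx.2 e (Submodule.subset_span (Set.mem_insert _ _)),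
      hx.2 f (Submodule.subset_span (Set.mem_insert_of_mem _ rfl))⟩
  refine ⟨lt_of_le_of_ne inf_le_right fun he => ?_, fun M hHM hMS => ?_⟩
  · have ht := hD.decomp.decomp.two_le
    set a : Fin t := ⟨0, by omega⟩
    set b : Fin t := ⟨1, by omega⟩
    have hab : a ≠ b := fun h => by simp [a, b, Fin.ext_iff] at h
    obtain ⟨u, hu, hu0, huu⟩ := exists_singular hQ (h3 a)
    obtain ⟨f, hf, hff, huf⟩ := exists_partner hQ (hN a) hu hu0 huu
    obtain ⟨y, hy, hyy⟩ := exists_anisotropic hQ (hN b) fun h => by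
      have := h3 b; rw [h, finrank_bot] at this; omega
    have huy : pol Q u y = 0 := block_orth hD hab hu hy
    obtain ⟨g, -, hg⟩ := exists_siegel hQ huu huy
    obtain ⟨σ, hσ⟩ := (he.ge (siegel_mem_omega hQ hn huu huy hg)).1
    have hm : mv g f ∈ D (σ a) := (hσ a).le ⟨f, hf, by simp [mv]⟩
    have hgf : mv g f = f + y - Q y • u := by
      rw [hg, pol_comm f u, huf, block_orth hD hab hf hy]; module
    rw [hgf] at hm
    by_cases h : σ a = b
    · have h1 := block_orth hD (h ▸ hab : a ≠ σ a) hu hm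
      rw [pol_sub_right hQ, pol_add_right hQ, pol_smul_right hQ, huf, huy, pol_self hQ, huu] at h1
      exact one_ne_zero (α := F) (by linear_combination h1)
    · have h1 := block_orth hD (Ne.symm h) hy hm
      rw [pol_sub_right hQ, pol_add_right hQ, pol_smul_right hQ, block_orth hD hab.symm hy hf,
        pol_comm y u, huy, pol_self hQ] at h1
      exact mul_ne_zero h2 hyy (by linear_combination h1)
  have hMO : M ≤ isometryGroup F Q := hMS.trans (omega_le_isometry hQ)
  by_cases hall : ∀ g ∈ M, g ∈ Geo.decompositionStabilizer D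
  · exact Or.inl (le_antisymm (fun g hg => ⟨hall g hg, hMS hg⟩) hHM)
  refine Or.inr ?_
  push Not at hall
  obtain ⟨g, hg, hgD⟩ := hall
  obtain ⟨i₀, hi₀⟩ : ∃ i, ∀ j, ¬ ∀ u ∈ D i, mv g u ∈ D j := by
    by_contra h
    push Not at h
    exact hgD (mem_decomp_of_maps hQ hD h)
  have hgI := hMO hg
  -- a singular vector of the block leaving every block
  obtain ⟨u, hu, huu, hu0, hgu⟩ : ∃ u ∈ D i₀, Q u = 0 ∧ u ≠ 0 ∧ ∀ j, mv g u ∉ D j := by
    by_contra h
    push Not at h
    obtain ⟨e, he, he0, hee⟩ := exists_singular hQ (h3 i₀)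
    obtain ⟨f, hf, hff, hef⟩ := exists_partner hQ (hN i₀) he he0 hee
    have hf0 : f ≠ 0 := fun h => by rw [h, pol_zero_right hQ] at hef; exact zero_ne_one hef
    obtain ⟨A, hA⟩ := h e he hee he0
    have key : ∀ w ∈ D i₀, Q w = 0 → ∀ z, mv g z ∈ D A → pol Q w z ≠ 0 → mv g w ∈ D A := by
      intro w hw hww z hz hwz
      have hw0 : w ≠ 0 := fun h => hwz (by rw [h, pol_zero_left hQ])
      obtain ⟨B, hB⟩ := h w hw hww hw0
      rcases eq_or_ne B A with rfl | hne
      · exact hB
      · exact absurd (by rw [← pol_mv hQ hgI]; exact block_orth hD hne hB hz) hwz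
    have hfA := key f hf hff e hA (by rw [pol_comm, hef]; exact one_ne_zero)
    refine hi₀ A fun x hx => ?_
    set x' := x - pol Q x f • e - pol Q x e • f with hx'def
    have hfe : pol Q f e = 1 := (pol_comm _ _).trans hef
    have hx'e : pol Q x' e = 0 := by
      rw [hx'def, pol_sub_left hQ, pol_sub_left hQ, pol_smul_left hQ, pol_smul_left hQ, pol_self hQ, hee, hfe]
      ring
    have hx'f : pol Q x' f = 0 := by
      rw [hx'def, pol_sub_left hQ, pol_sub_left hQ, pol_smul_left hQ, pol_smul_left hQ, pol_self hQ, hff, hef]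
      ring
    have hw := key (x' + e - Q x' • f) ((D i₀).sub_mem ((D i₀).add_mem ((D i₀).sub_mem ((D i₀).sub_mem hx
        ((D i₀).smul_mem _ he)) ((D i₀).smul_mem _ hf)) he) ((D i₀).smul_mem _ hf))
      (by
        rw [q_sub hQ, q_add hQ, q_smul hQ, pol_add_left hQ, pol_smul_right hQ, pol_smul_right hQ, hee, hff, hx'e,
          hx'f, hef]
        ring) f hfA
      (by
        rw [pol_sub_left hQ, pol_add_left hQ, pol_smul_left hQ, hx'f, hef, pol_self hQ, hff]
        simp)
    rw [mv_sub, mv_add, mv_smul] at hw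
    rw [show x = (x' + e - Q x' • f) + (Q x' + pol Q x e) • f + (pol Q x f - 1) • e by rw [hx'def]; module,
      mv_add, mv_add, mv_smul, mv_smul, mv_sub, mv_add, mv_smul]
    exact (D A).add_mem ((D A).add_mem hw ((D A).smul_mem _ hfA)) ((D A).smul_mem _ hA)
  obtain ⟨f, hf, hff, huf⟩ := exists_partner hQ (hN i₀) hu hu0 huu
  obtain ⟨x, hx, hxx, hux, -⟩ := perp i₀ u f hu hf huu hff huf
  set v := mv g u with hvdef
  set y := mv g x with hydef
  have hvv : Q v = 0 := by rw [hvdef, mem_isometry.1 hgI, huu]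
  have hvy : pol Q v y = 0 := by rw [hvdef, hydef, pol_mv hQ hgI, hux]
  have hline : LineIn Q M v y := lineIn_conj hQ hMO hg fun l => by
    obtain ⟨s, hs, hss, -⟩ := block_siegel hQ hD hn hHM hu ((D i₀).smul_mem l hx) huu
      (by rw [pol_smul_right hQ, hux, mul_zero])
    exact ⟨s, hs, hss⟩
  choose a ha hya using fun j => exists_proj hQ (hN j) y
  choose b hb hvb using fun j => exists_proj hQ (hN j) v
  by_cases hind : ∃ j, a j ∉ Submodule.span F {b j}
  · obtain ⟨j, hj⟩ := hind
    exact eq_omega_of_indep hQ hD hn h2 hk hHM hMS hq hvv hvy (ha j) (hya j) (hb j) (hvb j) hj (hgu j) hline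
  push Not at hind
  choose c hc using fun j => Submodule.mem_span_singleton.1 (hind j)
  have pv : ∀ j, ∀ w ∈ D j, pol Q w v = pol Q w (b j) := fun j w hw => by
    have := hvb j w hw
    rwa [pol_sub_right hQ, sub_eq_zero] at this
  have py : ∀ j, ∀ w ∈ D j, pol Q w y = c j * pol Q w (b j) := fun j w hw => by
    have := hya j w hw
    rw [pol_sub_right hQ, sub_eq_zero, ← hc j, pol_smul_right hQ] at this
    exact this
  have supp : ∀ j, ∃ i ≠ j, b i ≠ 0 := fun j => by
    obtain ⟨i, hij, w, hw, hwv⟩ := exists_other hQ hD (hgu j)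
    exact ⟨i, hij, fun h => hwv (by rw [pv i w hw, h, pol_zero_right hQ])⟩
  obtain ⟨i, l, hil, hbi, hbl, hne⟩ : ∃ i l, i ≠ l ∧ b i ≠ 0 ∧ b l ≠ 0 ∧ c i - c l - Q y ≠ 0 := by
    by_contra h
    push Not at h
    obtain ⟨i₁, -, hi₁⟩ := supp i₀
    have heq : ∀ p, b p ≠ 0 → c p = c i₁ := fun p hp => by
      rcases eq_or_ne p i₁ with rfl | hne
      · rfl
      have e1 := h p i₁ hne hp hi₁
      have e2 := h i₁ p hne.symm hi₁ hp
      have : (2 : F) * (c p - c i₁) = 0 := by linear_combination e1 - e2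
      exact sub_eq_zero.1 ((mul_eq_zero.1 this).resolve_left h2)
    have h0 : y - c i₁ • v = 0 := eq_zero_of_orth_all hQ hD fun p w hw => by
      rw [pol_sub_right hQ, pol_smul_right hQ, py p w hw, pv p w hw]
      by_cases hp : b p = 0
      · rw [hp, pol_zero_right hQ]; ring
      · rw [heq p hp]; ring
    rw [hydef, hvdef, ← mv_smul, sub_eq_zero] at h0
    exact hxx (by rw [mv_inj g h0, q_smul hQ, huu, mul_zero])
  obtain ⟨T, hT, hTs⟩ := hline 1
  rw [one_smul] at hTs
  obtain ⟨e, he, hee, hbe⟩ := exists_singular_not_orth hQ (hN l) (h3 l) (hb l) hbl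
  obtain ⟨e', he', he'e', hee'⟩ := exists_partner hQ (hN l) he (fun h => hbe (by rw [h, pol_zero_right hQ])) hee
  obtain ⟨x₁, hx₁, hx₁x, hex, -⟩ := perp l e e' he he' hee he'e' hee'
  have hline' : LineIn Q M e x₁ := fun m => by
    obtain ⟨s, hs, hss, -⟩ := block_siegel hQ hD hn hHM he ((D l).smul_mem m hx₁) hee
      (by rw [pol_smul_right hQ, hex, mul_zero])
    exact ⟨s, hs, hss⟩
  have hTz : ∀ z ∈ D l, mv T z = z + pol Q z (b l) • y - ((c l + Q y) * pol Q z (b l)) • v := fun z hz => by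
    rw [hTs, pv l z hz, py l z hz]; module
  have hcomp : ∀ z ∈ D l, mv T z - (z - (Q y * pol Q z (b l)) • b l) ∈ orth hQ (D l) := fun z hz w hw => by
    rw [hTz z hz]
    simp only [pol_sub_right hQ, pol_add_right hQ, pol_smul_right hQ, py l w hw, pv l w hw]
    ring
  set κ := pol Q e (b l) with hκ
  have hκ0 : κ ≠ 0 := fun h => hbe ((pol_comm _ _).trans h)
  refine eq_omega_of_indep hQ hD hn h2 hk hHM hMS hq (v := mv T e) (y := mv T x₁) (j := l)
    (by rw [mem_isometry.1 (hMO hT), hee]) (by rw [pol_mv hQ (hMO hT), hex])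
    ((D l).sub_mem hx₁ ((D l).smul_mem _ (hb l))) (hcomp x₁ hx₁)
    ((D l).sub_mem he ((D l).smul_mem _ (hb l))) (hcomp e he) (fun hmem => ?_) (fun hmem => ?_)
    (lineIn_conj hQ hMO hT hline')
  · obtain ⟨r, hr⟩ := Submodule.mem_span_singleton.1 hmem
    have hxe : pol Q x₁ e = 0 := (pol_comm _ _).trans hex
    have h1 := congrArg (fun z => pol Q z e) hr
    simp only [pol_smul_left hQ, pol_sub_left hQ, pol_self hQ, hee, hxe] at h1
    rw [pol_comm (b l) e, ← hκ] at h1
    have h4 : Q y * (pol Q x₁ (b l) - r * κ) = 0 :=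
      (mul_eq_zero.1 (show Q y * (pol Q x₁ (b l) - r * κ) * κ = 0 by linear_combination h1)).resolve_right hκ0
    have h5 : x₁ = r • e := by
      linear_combination (norm := module) -hr + h4 • b l
    exact hx₁x (by rw [h5, q_smul hQ, hee, mul_zero])
  · obtain ⟨w, hw, hwb⟩ : ∃ w ∈ D i, pol Q w (b i) ≠ 0 := by
      by_contra hc
      push Not at hc
      exact hbi (hN i _ (hb i) hc)
    have h1 := block_orth hD hil hw hmem
    rw [hTz e he, pol_sub_right hQ, pol_add_right hQ, pol_smul_right hQ, pol_smul_right hQ, py i w hw, pv i w hw,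
      block_orth hD hil hw he, ← hκ] at h1
    exact mul_ne_zero (mul_ne_zero hκ0 hne) hwb (by linear_combination h1)

end Cfsg.Agent.Transvec.Orth
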