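/-
The stabiliser of an orthogonal decomposition into isometric members is maximal.
-/
import Cfsg.Agent.Lib.Transvec.OrthPlanesPlus
import Cfsg.Agent.Lib.Transvec.OrthWreathFourMax
import Cfsg.Agent.Lib.Transvec.OrthWreathMax
set_option autoImplicit false
set_option linter.unusedSectionVars false

namespace Cfsg.Agent.Transvec.Planes

open scoped Matrix
open Matrix Cfsg.Agent.Transvec Cfsg.Agent.Transvec.Orth

variable {ι : Type} [Fintype ι] [DecidableEq ι] {F : Type*} [Field F] [Fintype F] {Q : (ι → F) → F}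
variable {t : ℕ} {D : Fin t → Submodule F (ι → F)}

theorem eq_omega_minus_start {M : Subgroup (GL ι F)} (hC : Ctx Q D M) {κ : F} (hκ : κ ≠ 0) (hm : Minus Q D)
    {x : ι → F} (hx : x ∈ Cen Q D M κ) (hxD : ∀ i, x ∉ D i) : M = Geo.omegaGL Q := by
  classical
  have hP := hC.pl
  have ht := hP.ht
  obtain ⟨y, hy, hyD, o, hyo⟩ : ∃ y ∈ Cen Q D M κ, (∀ i, y ∉ D i) ∧ ∃ o, pr hP o y = 0 := by
    by_cases hz : ∃ o, pr hP o x = 0
    · exact ⟨x, hx, hxD, hz⟩
    push Not at hz
    exact exists_sparse hP hC hκ hx (fun l h => hz l (hm l _ (pr_mem hP l x) h)) fun _ => hm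
  have hex : ∀ i, ∃ k, k ≠ i ∧ pr hP k y ≠ 0 := fun i => by
    by_contra hc
    push Not at hc
    exact hyD i ((mem_iff_pr hP).2 hc)
  obtain ⟨l, -, hl⟩ := hex ⟨0, by omega⟩
  obtain ⟨m, hml, hm0⟩ := hex l
  by_cases h3 : ∃ r, r ≠ l ∧ r ≠ m ∧ pr hP r y ≠ 0
  · obtain ⟨r, hrl, hrm, hr0⟩ := h3
    exact eq_omega_minus hC hκ hm hy hml.symm hrl.symm hrm.symm hl hm0 hr0 hyo
  push Not at h3
  obtain ⟨z, hz, i, j, k, hij, hik, hjk, hi, hj, hk, o', ho'⟩ := exists_three_of_two hC hκ hy hml.symm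
    (fun h => hl (hm l _ (pr_mem hP l y) h)) (fun h => hm0 (hm m _ (pr_mem hP m y) h)) h3
  exact eq_omega_minus hC hκ hm hz hij hik hjk hi hj hk ho'

/-- The stabiliser of an orthogonal decomposition into planes is maximal. -/
theorem planes_maximal (hP : Pl Q D) :
    Geo.IsMaximalIn (Geo.omegaGL Q) (Geo.decompositionStabilizer D ⊓ Geo.omegaGL Q) := by
  refine ⟨omega_not_stab hP.nd hP.dec hP.hn le_rfl (by have := hP.ht; omega), fun M hHM hMS => ?_⟩
  by_cases hall : ∀ g ∈ M, g ∈ Geo.decompositionStabilizer D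
  · exact Or.inl (le_antisymm (fun g hg => ⟨hall g hg, hMS hg⟩) hHM)
  push Not at hall
  refine Or.inr ?_
  have hC : Ctx Q D M := ⟨hP, hHM, hMS⟩
  obtain ⟨κ, hκ, x, hx, hxD⟩ := exists_start hC hall
  rcases hP.big with ⟨hm, -⟩ | ⟨hp, -⟩
  · exact eq_omega_minus_start hC hκ hm hx hxD
  · exact eq_omega_plus hC hκ hp hx hxD

theorem card_eq_mul' {k : ℕ} (hD : Geo.IsOrthogonalMDecomposition Q k D) : Fintype.card ι = t * k := by
  classical
  have hI : DirectSum.IsInternal D :=
    DirectSum.isInternal_submodule_of_iSupIndep_of_iSup_eq_top hD.decomp.decomp.indep hD.decomp.decomp.iSup_eq_top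
  let b : ∀ i, Module.Basis (Fin k) F (D i) := fun i =>
    Module.finBasisOfFinrankEq F (D i) (hD.decomp.decomp.finrank_eq i)
  have hcard := Module.finrank_eq_card_basis (hI.collectedBasis b)
  rw [Module.finrank_pi, Fintype.card_sigma] at hcard
  simpa [Finset.sum_const, smul_eq_mul] using hcard

/-- A pair of independent orthogonal singular vectors in one member of dimension four makes all members plus. -/
theorem all_plus_four (hQ : Geo.IsNondegenerateQuadraticForm Q) (hD : Geo.IsOrthogonalMDecomposition Q 4 D)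
    {i : Fin t} {e f : ι → F} (he : e ∈ D i) (hf : f ∈ D i) (hee : Q e = 0) (hff : Q f = 0) (hef : pol Q e f = 0)
    (hfe : f ∉ Submodule.span F {e}) (he0 : e ≠ 0) : ∀ j, Geo.IsPlusTypeOn Q (D j) := by
  intro j
  obtain ⟨φ, hφ⟩ := hD.isometric i j
  set e' : ι → F := ((φ ⟨e, he⟩ : D j) : ι → F) with he'
  set f' : ι → F := ((φ ⟨f, hf⟩ : D j) : ι → F) with hf'
  have hli : LinearIndependent F ![e', f'] := by
    rw [LinearIndependent.pair_iff]
    intro s r h
    have h1 : φ (s • (⟨e, he⟩ : D i) + r • ⟨f, hf⟩) = 0 := Subtype.ext (by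
      rw [map_add, map_smul, map_smul]; simpa [he', hf'] using h)
    rw [LinearEquiv.map_eq_zero_iff] at h1
    have h2 : s • e + r • f = 0 := by simpa using congrArg Subtype.val h1
    by_cases hr : r = 0
    · rw [hr, zero_smul, add_zero, smul_eq_zero, or_iff_left he0] at h2
      exact ⟨h2, hr⟩
    · refine absurd (Submodule.mem_span_singleton.2 ⟨-(r⁻¹ * s), ?_⟩) hfe
      rw [neg_smul, mul_smul, eq_neg_of_add_eq_zero_left h2, smul_neg, neg_neg, smul_smul, inv_mul_cancel₀ hr,
        one_smul]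
  have hQ' : ∀ s r : F, Q (s • e' + r • f') = 0 := fun s r => by
    have h1 := hφ (s • (⟨e, he⟩ : D i) + r • ⟨f, hf⟩)
    rw [map_add, map_smul, map_smul] at h1
    simp only [Submodule.coe_add, Submodule.coe_smul] at h1
    rw [he', hf', h1, q_add hQ, q_smul hQ, q_smul hQ, pol_smul_left hQ, pol_smul_right hQ, hee, hff, hef]
    ring
  refine ⟨Submodule.span F (Set.range ![e', f']), Submodule.span_le.2 ?_, fun w hw => ?_, ?_⟩
  · rintro z ⟨k, rfl⟩
    fin_cases k
    · exact Subtype.prop (φ ⟨e, he⟩)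
    · exact Subtype.prop (φ ⟨f, hf⟩)
  · rw [Submodule.mem_span_range_iff_exists_fun] at hw
    obtain ⟨c, rfl⟩ := hw
    rw [Fin.sum_univ_two]
    exact hQ' _ _
  · rw [finrank_span_eq_card hli, Fintype.card_fin, hD.decomp.decomp.finrank_eq]

/-- The stabiliser of an orthogonal decomposition is maximal outside the small cases. -/
theorem decomposition_maximal (hQ : Geo.IsNondegenerateQuadraticForm Q) (hn : 10 ≤ Fintype.card ι) {k : ℕ}
    (hk : 2 ≤ k) (hD : Geo.IsOrthogonalMDecomposition Q k D) (hko : Odd k → Odd (Fintype.card F))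
    (hex : ¬ ((k = 2 ∧ (Fintype.card F = 3 ∨ ((∀ i, Geo.IsPlusTypeOn Q (D i)) ∧
      (Fintype.card F = 2 ∨ Fintype.card F = 4 ∨ Fintype.card F = 5)))) ∨ (k = 3 ∧ Fintype.card F = 3) ∨
      (k = 4 ∧ Fintype.card F = 2 ∧ ∀ i, Geo.IsPlusTypeOn Q (D i)))) :
    Geo.IsMaximalIn (Geo.omegaGL Q) (Geo.decompositionStabilizer D ⊓ Geo.omegaGL Q) := by
  classical
  have hn' : 7 ≤ Fintype.card ι := by omega
  rcases Nat.even_or_odd k with hke | hodd
  · rcases eq_or_ne k 2 with rfl | hk2
    · have ht : 5 ≤ t := by have := card_eq_mul' hD; omega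
      refine planes_maximal ⟨hQ, hD, hn', ht, ?_⟩
      by_cases hs : ∃ i, ∃ x ∈ D i, x ≠ 0 ∧ Q x = 0
      · obtain ⟨i, x, hx, hx0, hxx⟩ := hs
        have hall : ∀ j, ∃ y ∈ D j, y ≠ 0 ∧ Q y = 0 := fun j => by
          obtain ⟨φ, hφ⟩ := hD.isometric i j
          refine ⟨((φ ⟨x, hx⟩ : D j) : ι → F), Subtype.prop _, fun h => hx0 ?_, by rw [hφ]; exact hxx⟩
          have h1 : φ ⟨x, hx⟩ = 0 := Subtype.ext h
          rw [LinearEquiv.map_eq_zero_iff] at h1
          exact congrArg Subtype.val h1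
        have hplus : ∀ j, Geo.IsPlusTypeOn Q (D j) := fun j => by
          obtain ⟨y, hy, hy0, hyy⟩ := hall j
          refine ⟨Submodule.span F {y}, (Submodule.span_singleton_le_iff_mem _ _).2 hy, fun w hw => ?_, ?_⟩
          · obtain ⟨c, rfl⟩ := Submodule.mem_span_singleton.1 hw
            rw [q_smul hQ, hyy, mul_zero]
          · rw [finrank_span_singleton hy0, hD.decomp.decomp.finrank_eq]
        refine Or.inr ⟨hall, ?_⟩
        have h1 := Fintype.one_lt_card (α := F)
        have h6 : Fintype.card F ≠ 6 := fun h => by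
          obtain ⟨p, hp⟩ := CharP.exists F
          obtain ⟨e, hpr, hpe⟩ := FiniteField.card F p
          rw [h] at hpe
          have h2 : (2 : ℕ) ∣ p ^ (e : ℕ) := ⟨3, hpe.symm.trans (by norm_num)⟩
          have h3 : (3 : ℕ) ∣ p ^ (e : ℕ) := ⟨2, hpe.symm.trans (by norm_num)⟩
          have := (Nat.prime_dvd_prime_iff_eq Nat.prime_two hpr).1 (Nat.prime_two.dvd_of_dvd_pow h2)
          have := (Nat.prime_dvd_prime_iff_eq Nat.prime_three hpr).1 (Nat.prime_three.dvd_of_dvd_pow h3)
          omega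
        by_contra hlt
        refine hex (Or.inl ⟨rfl, ?_⟩)
        by_cases h3 : Fintype.card F = 3
        · exact Or.inl h3
        · exact Or.inr ⟨hplus, by omega⟩
      · push Not at hs
        exact Or.inl ⟨fun i x hx hxx => by_contra fun h => hs i x hx h hxx, fun h => hex (Or.inl ⟨rfl, Or.inl h⟩)⟩
    · refine orth_wreath_maximal_four hQ hD hn' (by obtain ⟨r, rfl⟩ := hke; omega) fun hF hk4 i e f he hf hee hff hef
        hfe => ?_
      by_contra he0
      subst hk4
      refine hex (Or.inr (Or.inr ⟨rfl, ?_, all_plus_four hQ hD he hf hee hff hef hfe he0⟩))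
      refine le_antisymm ?_ Fintype.one_lt_card
      rw [← Finset.card_univ]
      refine (Finset.card_le_card (t := ({0, 1} : Finset F)) fun c _ => ?_).trans Finset.card_le_two
      simpa using hF c
  · have h2 := two_ne_zero_of_odd_card (hko hodd)
    refine orth_wreath_maximal hQ hD hn' h2 (by obtain ⟨r, rfl⟩ := hodd; omega) fun hk3 => ?_
    have h3 : Fintype.card F ≠ 3 := fun h => hex (Or.inr (Or.inl ⟨hk3, h⟩))
    have := Fintype.one_lt_card (α := F)
    obtain ⟨r, hr⟩ := hko hodd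
    omega

end Cfsg.Agent.Transvec.Planes
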