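/-
Subfield subgroups of the orthogonal groups in dimensions seven and eight: long root subgroups in odd characteristic,
involutions of rank at most four in characteristic two.
-/
import Cfsg.Agent.Lib.Transvec.OrthSubfieldMax
import Cfsg.Agent.Lib.Omega12.InvolConj
set_option autoImplicit false

namespace Cfsg.Agent.Transvec.Orth

open scoped Matrix
open Matrix Cfsg.Agent.Transvec

variable {ι : Type} [Fintype ι] [DecidableEq ι] {F : Type*} [Field F] {F₀ : Subfield F} {Q : (ι → F) → F}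
variable (hQ : Geo.IsNondegenerateQuadraticForm Q)

/-- A two by two matrix acting on the planes of (p, x) and (-u, w). -/
noncomputable def twoPlanes (u p x w : ι → F) (B : Matrix (Fin 2) (Fin 2) F) : Matrix ι ι F :=
  planeMap p x (formQ hQ w) (formQ hQ u) B + planeMap (-u) w (-(formQ hQ x)) (formQ hQ p) B - 1

include hQ in
theorem twoPlanes_mulVec (u p x w : ι → F) (B : Matrix (Fin 2) (Fin 2) F) (z : ι → F) :
    twoPlanes hQ u p x w B *ᵥ z = z + ((B 0 0 - 1) * pol Q z w + B 0 1 * pol Q z u) • p +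
      (B 1 0 * pol Q z w + (B 1 1 - 1) * pol Q z u) • x +
      ((B 0 0 - 1) * (-pol Q z x) + B 0 1 * pol Q z p) • (-u) +
      (B 1 0 * (-pol Q z x) + (B 1 1 - 1) * pol Q z p) • w := by
  rw [twoPlanes, Matrix.sub_mulVec, Matrix.add_mulVec, planeMap_mulVec, planeMap_mulVec, Matrix.one_mulVec]
  simp only [LinearMap.neg_apply, formQ_apply]
  abel

theorem twoPlanes_mul {u p x w : ι → F} (hu : Q u = 0) (hp : Q p = 0) (hx : Q x = 0) (hw : Q w = 0)
    (hup : pol Q u p = 0) (hxw : pol Q x w = 0) (hux : pol Q u x = 1) (huw : pol Q u w = 0)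
    (hpx : pol Q p x = 0) (hpw : pol Q p w = 1) (A B : Matrix (Fin 2) (Fin 2) F) :
    twoPlanes hQ u p x w (A * B) = twoPlanes hQ u p x w A * twoPlanes hQ u p x w B :=
  Matrix.ext_of_mulVec_single fun i => by
    have k1 := (pol_comm p u).trans hup
    have k2 := (pol_comm w x).trans hxw
    have k3 := (pol_comm x u).trans hux
    have k4 := (pol_comm w u).trans huw
    have k5 := (pol_comm x p).trans hpx
    have k6 := (pol_comm w p).trans hpw
    rw [← Matrix.mulVec_mulVec, twoPlanes_mulVec hQ, twoPlanes_mulVec hQ, twoPlanes_mulVec hQ]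
    simp only [pol_add_left hQ, pol_smul_left hQ, pol_neg_left hQ, pol_self hQ, hu, hp, hx, hw, hup, hxw, hux,
      huw, hpx, hpw, k1, k2, k3, k4, k5, k6, mul_zero, Matrix.mul_apply, Fin.sum_univ_two]
    module

variable (hV : ∀ x : ι → F, RatV F₀ x → Q x ∈ F₀) {M : Subgroup (GL ι F)}
include hQ hV

/-- If M contains the rational multiples of a long root element, its products with rational totally singular
lines are rational. -/
theorem pair_det_mem [Fintype F] {r : ℕ} (hr : r.Prime) (hr2 : r ≠ 2)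
    (hcard : Fintype.card F = Nat.card F₀ ^ r) (h2 : (2 : F) ≠ 0) (hn : 7 ≤ Fintype.card ι)
    (hH : ∀ g ∈ Geo.omegaGL Q, RatM F₀ (g : Matrix ι ι F) → g ∈ M) (hB : NoMix F₀ Q M)
    {x w : ι → F} (hxx : Q x = 0) (hww : Q w = 0) (hxw : pol Q x w = 0)
    (hM : ∀ c ∈ F₀, ∃ g ∈ M, IsSiegel Q g x (c • w))
    {u p : ι → F₀} (hu : Q (up u) = 0) (hp : Q (up p) = 0) (hup : pol Q (up u) (up p) = 0) :
    pol Q (up u) x * pol Q (up p) w - pol Q (up u) w * pol Q (up p) x ∈ F₀ := by
  by_contra hl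
  set a := pol Q (up u) x with ha
  set b := pol Q (up p) x with hb
  set c := pol Q (up u) w with hc
  set d := pol Q (up p) w with hd
  set δ := a * d - c * b with hδ
  have hδ0 : δ ≠ 0 := fun e => hl (e ▸ F₀.zero_mem)
  have hu0 : u ≠ 0 := fun h => hδ0 (by rw [hδ, ha, hc, h, up_zero, pol_zero_left hQ, pol_zero_left hQ]; ring)
  have hpu : p ∉ Submodule.span F₀ {u} := fun h => hδ0 (by
    obtain ⟨k, hk⟩ := Submodule.mem_span_singleton.1 h
    rw [hδ, hb, hd, ← hk, up_smul, pol_smul_left hQ, pol_smul_left hQ, ← ha, ← hc]; ring)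
  obtain ⟨x', hx'⟩ : ∃ x', x' = δ⁻¹ • (d • x - b • w) := ⟨_, rfl⟩
  obtain ⟨w', hw'⟩ : ∃ w', w' = δ⁻¹ • (a • w - c • x) := ⟨_, rfl⟩
  have hδ0' : a * d - c * b ≠ 0 := hδ0
  have ex : x = a • x' + b • w' := by
    rw [hx', hw', hδ]; match_scalars <;> field_simp <;> ring
  have ew : w = c • x' + d • w' := by
    rw [hx', hw', hδ]; match_scalars <;> field_simp <;> ring
  have hwx : pol Q w x = 0 := (pol_comm _ _).trans hxw
  have q1 : Q x' = 0 := by
    rw [hx', q_smul hQ, q_sub hQ, q_smul hQ, q_smul hQ, pol_smul_left hQ, pol_smul_right hQ, hxx, hww, hxw]; ring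
  have q2 : Q w' = 0 := by
    rw [hw', q_smul hQ, q_sub hQ, q_smul hQ, q_smul hQ, pol_smul_left hQ, pol_smul_right hQ, hxx, hww, hwx]; ring
  have q3 : pol Q x' w' = 0 := by
    rw [hx', hw']
    simp only [pol_smul_left hQ, pol_smul_right hQ, pol_sub_left hQ, pol_sub_right hQ, hxw, hwx, pol_self hQ, hxx, hww]
    ring
  have q4 : pol Q (up u) x' = 1 := by
    rw [hx', pol_smul_right hQ, pol_sub_right hQ, pol_smul_right hQ, pol_smul_right hQ, ← ha, ← hc, hδ]
    field_simp
  have q5 : pol Q (up u) w' = 0 := by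
    rw [hw', pol_smul_right hQ, pol_sub_right hQ, pol_smul_right hQ, pol_smul_right hQ, ← ha, ← hc]; ring
  have q6 : pol Q (up p) x' = 0 := by
    rw [hx', pol_smul_right hQ, pol_sub_right hQ, pol_smul_right hQ, pol_smul_right hQ, ← hb, ← hd]; ring
  have q7 : pol Q (up p) w' = 1 := by
    rw [hw', pol_smul_right hQ, pol_sub_right hQ, pol_smul_right hQ, pol_smul_right hQ, ← hb, ← hd, hδ]
    field_simp
  let Φ : Matrix.SpecialLinearGroup (Fin 2) F →* GL ι F :=
    MonoidHom.toHomUnits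
      { toFun := fun B => twoPlanes hQ (up u) (up p) x' w' (B : Matrix (Fin 2) (Fin 2) F)
        map_one' := by
          show planeMap _ _ _ _ 1 + planeMap _ _ _ _ 1 - 1 = (1 : Matrix ι ι F)
          rw [planeMap_one, planeMap_one, add_sub_cancel_right]
        map_mul' := fun A B => twoPlanes_mul hQ hu hp q1 q2 hup q3 q4 q5 q6 q7
          (A : Matrix (Fin 2) (Fin 2) F) B }
  have hΦ : ∀ B z, mv (Φ B) z = twoPlanes hQ (up u) (up p) x' w' (B : Matrix (Fin 2) (Fin 2) F) *ᵥ z :=
    fun B z => rfl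
  have hupp : ∀ t : F, IsSiegel Q (Φ (PStable.upp t)) (up u) (t • up p) := fun t z => by
    rw [hΦ, twoPlanes_mulVec hQ, PStable.upp_val, q_smul hQ, hp, pol_smul_right hQ]
    simp only [Matrix.of_apply, Matrix.cons_val', Matrix.cons_val_zero, Matrix.cons_val_one,
      Matrix.cons_val_fin_one, sub_self, zero_mul, mul_zero, add_zero, zero_add, zero_smul]
    module
  have hlow : ∀ t : F, IsSiegel Q (Φ (PStable.low (t * -δ))) x (t • w) := fun t z => by
    rw [hΦ, twoPlanes_mulVec hQ, PStable.low_val, q_smul hQ, hww, pol_smul_right hQ]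
    simp only [Matrix.of_apply, Matrix.cons_val', Matrix.cons_val_zero, Matrix.cons_val_one,
      Matrix.cons_val_fin_one, sub_self, zero_mul, mul_zero, add_zero, zero_add, zero_smul]
    rw [ex, ew, hδ]
    simp only [pol_add_right hQ, pol_smul_right hQ]
    module
  have h2k : (2 : F₀) ≠ 0 := fun e =>
    h2 (by have := congrArg F₀.subtype e; rwa [map_ofNat, map_zero] at this)
  have hl' : -δ ∉ F₀ := fun h => hl (neg_neg δ ▸ F₀.neg_mem h)
  have hsub : DicksonAlpha.grp (k := F₀) (-δ) ≤ M.comap Φ := by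
    rw [DicksonAlpha.grp, Subgroup.closure_le]
    rintro _ (⟨t, rfl⟩ | ⟨t, rfl⟩) <;> rw [SetLike.mem_coe, Subgroup.mem_comap]
    · obtain ⟨g, hg, hgs⟩ := siegel_rat_mem hQ hV hn hH (u := u) (y := t • p) hu
        (by rw [up_smul, pol_smul_right hQ, hup, mul_zero])
      rw [up_smul] at hgs
      exact isSiegel_unique hgs (hupp _) ▸ hg
    · obtain ⟨g, hg, hgs⟩ := hM _ t.2
      exact isSiegel_unique hgs (hlow _) ▸ hg
  rcases DicksonAlpha.finite_case' h2k (adjoin_eq_top hr hcard hl') (fun e => hl' (e ▸ F₀.zero_mem)) with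
    htop | ⟨hk3, γ, -, hγ⟩
  · have := hsub (htop ▸ Subgroup.mem_top (PStable.upp (-δ)))
    rw [Subgroup.mem_comap] at this
    exact hl' (hB u p hu hu0 hp hup hpu (-δ) ⟨_, this, hupp _⟩)
  · have e := congrArg (fun A : Matrix.SpecialLinearGroup (Fin 2) F => (A : Matrix (Fin 2) (Fin 2) F)) hγ
    simp only [Matrix.SpecialLinearGroup.coe_mul, PStable.upp_val] at e
    have e00 := congrFun (congrFun e 0) 0
    have e01 := congrFun (congrFun e 0) 1
    have hd' := PStable.det_one γ
    simp [Matrix.mul_apply, Fin.sum_univ_two] at e00 e01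
    have hsq : (γ.1 0 0) ^ 2 = -1 := by
      linear_combination -hd' + γ.1 0 0 * e01 - γ.1 0 1 * e00
    have hm := sq_mem_imp hr hr2 hcard (γ.1 0 0) (hsq ▸ F₀.neg_mem F₀.one_mem)
    haveI : Fintype F₀ := Fintype.ofFinite _
    set y : F₀ := ⟨_, hm⟩
    have hy : y ^ 2 = -1 := Subtype.ext (by simpa using hsq)
    have hy3 := FiniteField.pow_card y
    rw [← Nat.card_eq_fintype_card, hk3] at hy3
    have hy0 : y ≠ 0 := fun e => by simp [e] at hy
    apply h2k
    have : y ^ 2 = 1 := mul_right_cancel₀ hy0 (by rw [one_mul, ← pow_succ, hy3])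
    linear_combination hy - this

/-- The pairing of a rational pair with the exterior square of x, w. -/
def pairDet (Q : (ι → F) → F) (x w : ι → F) (y z : ι → F₀) : F :=
  pol Q (up y) x * pol Q (up z) w - pol Q (up y) w * pol Q (up z) x

/-- Rational products with totally singular rational lines give rational products with all rational lines. -/
theorem pairDet_mem [Finite F] (hn : 7 ≤ Fintype.card ι) (h2 : (2 : F) ≠ 0) {x w : ι → F}
    (h : ∀ u p : ι → F₀, Q (up u) = 0 → Q (up p) = 0 → pol Q (up u) (up p) = 0 → pairDet Q x w u p ∈ F₀)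
    (y z : ι → F₀) : pairDet Q x w y z ∈ F₀ := by
  have h₀ := qDown_nondegenerate hQ hV
  set D := pairDet (F₀ := F₀) Q x w with hD
  have addl : ∀ a b c, D (a + b) c = D a c + D b c := fun a b c => by
    simp only [hD, pairDet, up_add, pol_add_left hQ]; ring
  have addr : ∀ a b c, D a (b + c) = D a b + D a c := fun a b c => by
    simp only [hD, pairDet, up_add, pol_add_left hQ]; ring
  have smulr : ∀ (k : F₀) a b, D a (k • b) = (k : F) * D a b := fun k a b => by
    simp only [hD, pairDet, up_smul, pol_smul_left hQ]; ring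
  have self0 : ∀ a, D a a = 0 := fun a => by simp only [hD, pairDet]; ring
  have anti : ∀ a b, D a b = -D b a := fun a b => by simp only [hD, pairDet]; ring
  have q0 : ∀ {a : ι → F₀}, qDown hV a = 0 → Q (up a) = 0 := fun h => congrArg Subtype.val h
  have p0 : ∀ {a b : ι → F₀}, pol (qDown hV) a b = 0 → pol Q (up a) (up b) = 0 := fun h => up_pol_zero hV h
  have frame : ∀ {u : ι → F₀}, qDown hV u = 0 → u ≠ 0 → ∃ d, qDown hV d = 0 ∧ pol (qDown hV) u d = 1 ∧
      Nondeg (qDown hV) (orth h₀ (Submodule.span F₀ ({u, d} : Set (ι → F₀)))) ∧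
      2 + Module.finrank F₀ ↥(orth h₀ (Submodule.span F₀ ({u, d} : Set (ι → F₀)))) = Fintype.card ι := by
    intro u hu hu0
    obtain ⟨d, -, hdd, hud⟩ := exists_partner h₀ (nondeg_top h₀) (Submodule.mem_top (x := u)) hu0 hu
    obtain ⟨hPn, hP2⟩ := nondeg_pair h₀ hu hdd hud
    obtain ⟨hXn, hXd⟩ := orth_nondeg h₀ hPn
    rw [hP2] at hXd
    exact ⟨d, hdd, hud, hXn, hXd⟩
  have perp : ∀ u : ι → F₀, qDown hV u = 0 → ∀ q, pol (qDown hV) u q = 0 → D u q ∈ F₀ := by
    intro u hu q hq
    rcases eq_or_ne u 0 with rfl | hu0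
    · rw [show D 0 q = 0 by simp [hD, pairDet, up_zero, pol_zero_left hQ]]; exact F₀.zero_mem
    obtain ⟨d, hdd, hud, hXn, hXd⟩ := frame hu hu0
    set k := pol (qDown hV) q d
    have hmem : q - k • u ∈ orth h₀ (Submodule.span F₀ ({u, d} : Set (ι → F₀))) := (mem_orth_span h₀).2 (by
      rintro v (rfl | rfl)
      · rw [pol_sub_right h₀, pol_smul_right h₀, hq, pol_self h₀, hu]; ring
      · rw [pol_sub_right h₀, pol_smul_right h₀, pol_comm v u, hud, pol_comm v q]; ring)
    obtain ⟨a, ha, b, hb, haa, hbb, hab⟩ := split_singular h₀ hn hXn (by omega) hmem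
    have mu := fun {v : ι → F₀} (hv : v ∈ orth h₀ (Submodule.span F₀ ({u, d} : Set (ι → F₀)))) =>
      p0 (hv u (Submodule.subset_span (Set.mem_insert _ _)))
    rw [show q = a + b + k • u by rw [← hab, sub_add_cancel], addr, addr, smulr, self0, mul_zero, add_zero]
    exact F₀.add_mem (h u a (q0 hu) (q0 haa) (mu ha)) (h u b (q0 hu) (q0 hbb) (mu hb))
  have hyp : ∀ u : ι → F₀, qDown hV u = 0 → ∀ q, D u q ∈ F₀ := by
    intro u hu q
    rcases eq_or_ne u 0 with rfl | hu0
    · rw [show D 0 q = 0 by simp [hD, pairDet, up_zero, pol_zero_left hQ]]; exact F₀.zero_mem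
    obtain ⟨d, hdd, hud, hXn, hXd⟩ := frame hu hu0
    have hd : D u d ∈ F₀ := by
      obtain ⟨e, he, he0, hee⟩ := exists_singular h₀ (X := orth h₀ (Submodule.span F₀ ({u, d} : Set (ι → F₀))))
        (by omega)
      obtain ⟨f, hf, hff, hef⟩ := exists_partner h₀ hXn he he0 hee
      have mu := fun {v : ι → F₀} (hv : v ∈ orth h₀ (Submodule.span F₀ ({u, d} : Set (ι → F₀)))) =>
        And.intro (hv u (Submodule.subset_span (Set.mem_insert _ _)))
          (hv d (Submodule.subset_span (Set.mem_insert_of_mem _ rfl)))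
      obtain ⟨e1, e2⟩ := mu he
      obtain ⟨f1, f2⟩ := mu hf
      have e1' := (pol_comm e u).trans e1
      have f1' := (pol_comm f u).trans f1
      have e2' := (pol_comm e d).trans e2
      have f2' := (pol_comm f d).trans f2
      have hfe := (pol_comm f e).trans hef
      have sA : qDown hV (u + e) = 0 := by rw [q_add h₀, hu, hee, e1]; ring
      have sB : qDown hV (u + f) = 0 := by rw [q_add h₀, hu, hff, f1]; ring
      have pA : pol (qDown hV) (u + e) (d + (-1 : F₀) • f) = 0 := by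
        rw [pol_add_left h₀, pol_add_right h₀, pol_add_right h₀, pol_smul_right h₀, pol_smul_right h₀, hud, f1,
          e2', hef]
        ring
      have pB : pol (qDown hV) (u + f) (d + (-1 : F₀) • e) = 0 := by
        rw [pol_add_left h₀, pol_add_right h₀, pol_add_right h₀, pol_smul_right h₀, pol_smul_right h₀, hud, e1,
          f2', hfe]
        ring
      have hA := perp _ sA _ pA
      have hB' := perp _ sB _ pB
      rw [addl, addr, addr, smulr, smulr] at hA hB'
      simp only [Subfield.coe_neg, OneMemClass.coe_one] at hA hB'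
      have a1 := perp u hu f f1
      have a2 := perp e hee d e2'
      have b1 := perp u hu e e1
      have b2 := perp f hff d f2'
      have hsum := F₀.add_mem (F₀.sub_mem (F₀.add_mem (F₀.add_mem hA hB') (F₀.add_mem a1 b1)) a2) (F₀.neg_mem b2)
      have h2m : ((2 : ℕ) : F) ∈ F₀ := natCast_mem F₀ 2
      refine (congrArg (· ∈ F₀) ?_).mp (F₀.div_mem hsum h2m)
      rw [anti f e]
      push_cast
      field_simp
      ring
    set k := pol (qDown hV) u q
    have := perp u hu (q + (-k) • d) (by rw [pol_add_right h₀, pol_smul_right h₀, hud]; ring)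
    rw [addr, smulr] at this
    have := F₀.add_mem this (F₀.mul_mem k.2 hd)
    refine (congrArg (· ∈ F₀) ?_).mp this
    simp only [Subfield.coe_neg]
    ring
  obtain ⟨a, -, b, -, haa, hbb, hab⟩ := split_singular h₀ hn (nondeg_top h₀)
    (by rw [finrank_top, Module.finrank_pi]; omega) (Submodule.mem_top (x := y))
  rw [hab, addl]
  exact F₀.add_mem (hyp a haa z) (hyp b hbb z)

variable (hn : 7 ≤ Fintype.card ι) (hMS : M ≤ Geo.omegaGL Q)
  (hH : ∀ g ∈ Geo.omegaGL Q, RatM F₀ (g : Matrix ι ι F) → g ∈ M)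
include hn hMS hH

/-- In odd characteristic and odd degree, overgroups without mixing are rational. -/
theorem srat_all_dickson [Fintype F] {r : ℕ} (hr : r.Prime) (hr2 : r ≠ 2)
    (hcard : Fintype.card F = Nat.card F₀ ^ r) (h2 : (2 : F) ≠ 0) (hB : NoMix F₀ Q M) :
    ∀ g ∈ M, SRat F₀ g := by
  intro g hg
  have h₀ := qDown_nondegenerate hQ hV
  have hgI := hMS.trans (omega_le_isometry hQ) hg
  have rat : ∀ a b : ι → F₀, qDown hV a = 0 → qDown hV b = 0 → pol (qDown hV) a b = 0 → ∀ z : ι → F₀,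
      RatV F₀ (pol Q (up z) (mv g (up b)) • mv g (up a) - pol Q (up z) (mv g (up a)) • mv g (up b)) := by
    intro a b ha hb hab z
    refine ratV_of_pol hQ hV fun y => ?_
    have key := pairDet_mem hQ hV hn h2 (x := mv g (up a)) (w := mv g (up b)) (fun u p hu hp hup =>
      pair_det_mem hQ hV hr hr2 hcard h2 hn hH hB (by rw [mem_isometry.1 hgI]; exact congrArg Subtype.val ha)
        (by rw [mem_isometry.1 hgI]; exact congrArg Subtype.val hb)
        (by rw [pol_mv hQ hgI]; exact up_pol_zero hV hab) (fun c hc => by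
          obtain ⟨k, hk, hks⟩ := siegel_rat_mem hQ hV hn hH (u := a) (y := (⟨c, hc⟩ : F₀) • b)
            (congrArg Subtype.val ha) (by rw [up_smul, pol_smul_right hQ, up_pol_zero hV hab, mul_zero])
          refine ⟨_, M.mul_mem (M.mul_mem hg hk) (M.inv_mem hg), ?_⟩
          have := isSiegel_conj hQ hgI hks
          rwa [up_smul, mv_smul] at this) hu hp hup) y z
    refine (congrArg (· ∈ F₀) ?_).mp key
    rw [pairDet, pol_sub_left hQ, pol_smul_left hQ, pol_smul_left hQ, pol_comm (mv g (up a)) (up y),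
      pol_comm (mv g (up b)) (up y)]
    ring
  refine srat_of_singular_lines hQ hV hn hMS hg fun a haa => ?_
  rcases eq_or_ne a 0 with rfl | ha0
  · exact ⟨1, one_ne_zero, fun i => by simp [up_zero, mv_zero]⟩
  obtain ⟨d, -, hdd, had⟩ := exists_partner h₀ (nondeg_top h₀) (Submodule.mem_top (x := a)) ha0 haa
  obtain ⟨hPn, hP2⟩ := nondeg_pair h₀ haa hdd had
  obtain ⟨hXn, hXd⟩ := orth_nondeg h₀ hPn
  rw [hP2] at hXd
  obtain ⟨b, hb, hb0, hbb⟩ := exists_singular h₀ (X := orth h₀ (Submodule.span F₀ ({a, d} : Set (ι → F₀))))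
    (by omega)
  obtain ⟨c, hc, hcc, hbc⟩ := exists_partner h₀ hXn hb hb0 hbb
  have mu := fun {v : ι → F₀} (hv : v ∈ orth h₀ (Submodule.span F₀ ({a, d} : Set (ι → F₀)))) =>
    hv a (Submodule.subset_span (Set.mem_insert _ _))
  obtain ⟨i, hi⟩ : ∃ i, pol Q (Pi.single i 1) (mv g (up a)) ≠ 0 := by
    by_contra h
    push Not at h
    obtain ⟨v, hv⟩ := (hQ.nondegenerate (mv g (up a)) fun h0 =>
      up_ne_zero (F := F) ha0 (mv_inj g (h0.trans (mv_zero g).symm))).1
    exact hv (LinearMap.congr_fun (dual_ext_zero (φ := formQ hQ (mv g (up a))) h) v)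
  set z : ι → F₀ := Pi.single i 1
  have hz : pol Q (up z) (mv g (up a)) ≠ 0 := by rwa [up_single]
  obtain ⟨q, hq⟩ := exists_up (rat a b haa hbb (mu hb) z)
  have h1 := rat a c haa hcc (mu hc) q
  have qa : pol Q (up q) (mv g (up a)) = 0 := by
    rw [← hq, pol_sub_left hQ, pol_smul_left hQ, pol_smul_left hQ, pol_mv hQ hgI, pol_mv hQ hgI,
      pol_self hQ, show Q (up a) = 0 from congrArg Subtype.val haa,
      (pol_comm _ _).trans (up_pol_zero hV (mu hb))]
    ring
  have qc : pol Q (up q) (mv g (up c)) = -pol Q (up z) (mv g (up a)) := by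
    rw [← hq, pol_sub_left hQ, pol_smul_left hQ, pol_smul_left hQ, pol_mv hQ hgI, pol_mv hQ hgI,
      up_pol_zero hV (mu hc), ← qDown_pol hV b c, hbc, OneMemClass.coe_one]
    ring
  rw [qa, zero_smul, sub_zero, qc] at h1
  exact ⟨_, neg_ne_zero.2 hz, h1⟩

theorem srat_all_two_small [Finite F] (h2 : (2 : F) = 0) (hn8 : 8 ≤ Fintype.card ι)
    (hani : ∀ K : Submodule F₀ (ι → F₀), Fintype.card ι ≤ Module.finrank F₀ K + 4 → ∃ y ∈ K, qDown hV y ≠ 0) (hB : NoMix F₀ Q M) (hroot : ∀ a : F, a ^ 2 ∈ F₀ → a ∈ F₀) :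
    ∀ g ∈ M, SRat F₀ g := by
  have h₀ := qDown_nondegenerate hQ hV
  have hMO : M ≤ isometryGroup F Q := hMS.trans (omega_le_isometry hQ)
  have hne : Nonempty ι := Fintype.card_pos_iff.1 (by omega)
  have hroot' : (2 : F) = 0 → ∀ a : F, a ^ 2 ∈ F₀ → a ∈ F₀ := fun _ => hroot
  have hneg : (-1 : F) = 1 := by linear_combination -h2
  have hsum : ∀ v : ι → F, v + v = 0 := fun v => by rw [← two_smul F v, h2, zero_smul]
  -- a long root element and a Siegel element with anisotropic middle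
  obtain ⟨e₁, -, he₁0, he₁⟩ := exists_singular h₀ (X := (⊤ : Submodule F₀ (ι → F₀)))
    (by rw [finrank_top, Module.finrank_pi]; omega)
  obtain ⟨f₁, -, hf₁, hef⟩ := exists_partner h₀ (nondeg_top h₀) (Submodule.mem_top (x := e₁)) he₁0 he₁
  obtain ⟨hPn, hP2⟩ := nondeg_pair h₀ he₁ hf₁ hef
  obtain ⟨hXn, hXd⟩ := orth_nondeg h₀ hPn
  rw [hP2] at hXd
  set X := orth h₀ (Submodule.span F₀ ({e₁, f₁} : Set (ι → F₀))) with hX
  have hXe : ∀ x ∈ X, pol (qDown hV) e₁ x = 0 ∧ pol (qDown hV) f₁ x = 0 := fun x hx =>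
    ⟨hx e₁ (Submodule.subset_span (Set.mem_insert _ _)), hx f₁ (Submodule.subset_span (Set.mem_insert_of_mem _ rfl))⟩
  obtain ⟨e₂, me₂, he₂0, he₂⟩ := exists_singular h₀ (X := X) (by omega)
  obtain ⟨y, my, hy⟩ := exists_anisotropic h₀ hXn fun h => by rw [h, finrank_bot] at hXd; omega
  have upz : ∀ {a b : ι → F₀}, pol (qDown hV) a b = 0 → pol Q (up a) (up b) = 0 := fun h => up_pol_zero hV h
  have z1 : Q (up e₁) = 0 := congrArg Subtype.val he₁
  have make : ∀ v ∈ X, ∃ s ∈ M, RatM F₀ (s : Matrix ι ι F) ∧ s * s = 1 ∧ moveRank s ≤ 2 ∧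
      IsSiegel Q s (up e₁) (up v) ∧ mv s (up f₁) - up f₁ = up v - Q (up v) • up e₁ := by
    intro v hv
    obtain ⟨s₁, hs₁e, hs₁⟩ := siegel_rat hQ hV hn hH (u := e₁) (y := v) he₁ (hXe v hv).1
    have hs := isSiegel_up hQ hV z1 (upz (hXe v hv).1) hs₁e
    refine ⟨_, hs₁, ratM_map _, ?_, ?_, hs, ?_⟩
    · refine isSiegel_unique (isSiegel_mul hQ z1 (upz (hXe v hv).1) (upz (hXe v hv).1) hs hs) ?_
      rw [hsum]; exact isSiegel_zero hQ _
    · classical
      refine (Submodule.finrank_mono (t := Submodule.span F ({up e₁, up v} : Set (ι → F))) ?_).trans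
        ((finrank_span_le_card _).trans (by rw [Set.toFinset_insert, Set.toFinset_singleton]; exact Finset.card_le_two))
      rintro _ ⟨w, rfl⟩
      rw [moveLin_apply, hs, show ∀ p q r : ι → F, p + q - r - p = q - r from fun p q r => by abel]
      exact Submodule.sub_mem _ (Submodule.smul_mem _ _ (Submodule.subset_span (Set.mem_insert_of_mem _ rfl)))
        (Submodule.smul_mem _ _ (Submodule.subset_span (Set.mem_insert _ _)))
    · have k1 : pol Q (up f₁) (up e₁) = 1 :=
        (pol_comm _ _).trans ((qDown_pol hV _ _).symm.trans (congrArg Subtype.val hef))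
      rw [hs, k1, upz (hXe v hv).2, zero_add, mul_one, one_smul,
        show ∀ p q r : ι → F, p + q - r - p = q - r from fun p q r => by abel]
  obtain ⟨s, hs, hsR, hs2, hsr, hsS, hsf⟩ := make e₂ me₂
  obtain ⟨z, hz, hzR, hz2, hzr, hzS, hzf⟩ := make y my
  have z2 : Q (up e₂) = 0 := congrArg Subtype.val he₂
  have p12 : pol Q (up e₁) (up e₂) = 0 := upz (hXe e₂ me₂).1
  have p1y : pol Q (up e₁) (up y) = 0 := upz (hXe y my).1
  have hyy : Q (up y) ≠ 0 := fun h => hy (Subtype.ext h)
  have hsing : ∀ w, Q (mv s w - w) = 0 := fun w => by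
    rw [hsS, show ∀ p q r : ι → F, p + q - r - p = q - r from fun p q r => by abel, q_sub hQ, q_smul hQ, q_smul hQ,
      z1, z2, pol_smul_left hQ, pol_smul_right hQ, pol_comm (up e₂), p12]
    ring
  have hzns : Q (mv z (up f₁) - up f₁) ≠ 0 := by
    rw [hzf, q_sub hQ, q_smul hQ, z1, pol_smul_right hQ, pol_comm (up y), p1y]
    simpa using hyy
  have hs1 : s ≠ 1 := fun h => by
    rw [h, mv_one, sub_self, z2, zero_smul, sub_zero] at hsf
    exact up_ne_zero (F := F) he₂0 hsf.symm
  have hz1 : z ≠ 1 := fun h => hzns (by rw [h, mv_one, sub_self, q_zero hQ])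
  have hrk : moveRank z ≤ 2 ∧ moveRank s ≤ 2 := ⟨hzr, hsr⟩
  refine srat_of_involution_nonconj hroot ?_ hs hz hs2 hz2 hsR hzR hs1 (invol_ne_neg_one hs1 (by omega))
    hz1 (invol_ne_neg_one hz1 (by omega)) (fun a ha haz => ?_) hneg
  · intro g hg x hx x' hx' hx2 hx'2 hxR hx'R hx1 _ hle hgx
    rw [← moveRank_eq_rank, ← moveRank_eq_rank, ← moveRank_eq_rank] at hle
    have hgood : GoodInv F₀ Q x' := by
      by_contra hbad
      refine (bad_invol hQ hV hn hMS hx' hx'2 hx'R (fun h1 => hx1 ?_) hbad).1 h2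
      rw [h1, one_mul] at hgx; simpa using hgx
    obtain ⟨K, hKf, hKd, -⟩ := finrank_ratKer hxR
    obtain ⟨v, hv, y', hy', hv0, hvv, hyy', hvy⟩ := exists_pair_of_four hQ hV (K := K) (by omega)
      (hani K (by omega))
    obtain ⟨u, hur, hu0, huu⟩ := hgood
    obtain ⟨w, hw⟩ := mem_ratRange.1 hur
    have hfix : ∀ q ∈ K, mv x' (mv g (up q)) = mv g (up q) := fun q hq => by
      rw [← mv_mul, ← hgx, mv_mul, hKf q hq]
    have horth : ∀ q ∈ K, pol Q (up u) (mv g (up q)) = 0 := fun q hq => by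
      rw [← hw, pol_sub_left hQ]
      conv_lhs => arg 1; rw [← hfix q hq, pol_mv hQ (hMO hx')]
      exact sub_self _
    obtain ⟨h, hh, hhs⟩ := siegel_rat_mem hQ hV hn hH (congrArg Subtype.val hvv) (up_pol_zero hV hvy)
    have hgI := hMO hg
    exact srat_of_one_line_orth hQ hV hn hMS hH hB hroot' hg hv0 (congrArg Subtype.val hvv)
      (ratLine_centre_orth hQ hV hn hMS hH hB hroot' (M.mul_mem (M.mul_mem hg hh) (M.inv_mem hg))
        (by rw [mem_isometry.1 hgI]; exact congrArg Subtype.val hvv)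
        (by rw [pol_mv hQ hgI]; exact up_pol_zero hV hvy) (isSiegel_conj hQ hgI hhs)
        (by rw [mem_isometry.1 hgI]; exact (qDown hV y').2)
        (by rw [mem_isometry.1 hgI]; exact fun h0 => hyy' (Subtype.ext h0))
        hu0 huu (horth v hv) (horth y' hy'))
  · -- z is not conjugate to s: compare the displacements
    refine hzns ?_
    obtain ⟨w, hw⟩ : ∃ w, mv a w = up f₁ := ⟨mv a⁻¹ (up f₁), mv_mv_inv _ _⟩
    rw [← hw, ← mv_mul, haz, mv_mul, ← mv_sub, mem_isometry.1 (hMO ha)]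
    exact hsing w

omit hn hMS hH

/-- An F₀-subspace of half dimension is not totally singular in minus type. -/
theorem exists_anisotropic_minus [Finite F] (h8 : Fintype.card ι = 8) (hminus : ¬ Geo.IsPlusTypeOn Q ⊤)
    (K : Submodule F₀ (ι → F₀)) (hK : Fintype.card ι ≤ Module.finrank F₀ K + 4) : ∃ y ∈ K, qDown hV y ≠ 0 := by
  have h₀ := qDown_nondegenerate hQ hV
  rcases Nat.lt_or_ge 4 (Module.finrank F₀ K) with hlt | hge
  · exact exists_anisotropic_big h₀ (L := K) (by omega)
  by_contra hc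
  push Not at hc
  set b := Module.finBasis F₀ K
  have hi : LinearIndependent F₀ (fun i => (b i : ι → F₀)) := b.linearIndependent.map' K.subtype K.ker_subtype
  have hi' : LinearIndependent F (fun i => up (b i : ι → F₀)) :=
    (linearIndependent_algebraMap_comp_iff (R := F₀) (S := F)).2 hi
  have hU := finrank_span_eq_card hi'
  rw [Fintype.card_fin] at hU
  set U := Submodule.span F (Set.range fun i => up (b i : ι → F₀))
  have horth : ∀ z ∈ U, ∀ j, pol Q (up (b j : ι → F₀)) z = 0 := fun z hz j => by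
    induction hz using Submodule.span_induction with
    | mem v hv =>
      obtain ⟨i, rfl⟩ := hv
      exact up_pol_zero hV (pol_eq_zero_of_singular h₀ hc (b j).2 (b i).2)
    | zero => exact pol_zero_right hQ _
    | add v w _ _ hv hw => rw [pol_add_right hQ, hv, hw, add_zero]
    | smul k v _ hv => rw [pol_smul_right hQ, hv, mul_zero]
  have hsing : ∀ z ∈ U, Q z = 0 ∧ ∀ y ∈ U, pol Q z y = 0 := fun z hz => by
    induction hz using Submodule.span_induction with
    | mem v hv =>
      obtain ⟨i, rfl⟩ := hv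
      exact ⟨congrArg Subtype.val (hc _ (b i).2), fun y hy => horth y hy i⟩
    | zero => exact ⟨q_zero hQ, fun y _ => pol_zero_left hQ _⟩
    | add v w _ hw' hv hw =>
      exact ⟨by rw [q_add hQ, hv.1, hw.1, hv.2 w hw', add_zero, add_zero],
        fun y hy => by rw [pol_add_left hQ, hv.2 y hy, hw.2 y hy, add_zero]⟩
    | smul k v _ hv =>
      exact ⟨by rw [q_smul hQ, hv.1, mul_zero], fun y hy => by rw [pol_smul_left hQ, hv.2 y hy, mul_zero]⟩
  refine hminus ⟨U, le_top, fun z hz => (hsing z hz).1, ?_⟩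
  rw [finrank_top, Module.finrank_pi, hU]
  omega

/-- Subfield subgroups in odd characteristic from dimension seven on. -/
theorem orth_subfield_maximal_odd [Fintype F] {r : ℕ} (hr : r.Prime) (hcard : Fintype.card F = Nat.card F₀ ^ r)
    (hn : 7 ≤ Fintype.card ι) (h2 : (2 : F) ≠ 0) :
    Geo.IsMaximalIn (Geo.omegaGL Q)
      (((Matrix.GeneralLinearGroup.map (F₀.subtype : F₀ →+* F)).range ⊔ Geo.scalars ι F) ⊓ Geo.omegaGL Q) :=
  orth_subfield_maximal' hQ hV hr hcard hn fun hr2 _ hMS hH hB =>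
    srat_all_dickson hQ hV hn hMS hH hr hr2 hcard h2 hB

/-- Subfield subgroups of the minus type groups of dimension eight. -/
theorem orth_subfield_maximal_minus [Fintype F] {r : ℕ} (hr : r.Prime) (hcard : Fintype.card F = Nat.card F₀ ^ r)
    (h8 : Fintype.card ι = 8) (hminus : ¬ Geo.IsPlusTypeOn Q ⊤) :
    Geo.IsMaximalIn (Geo.omegaGL Q)
      (((Matrix.GeneralLinearGroup.map (F₀.subtype : F₀ →+* F)).range ⊔ Geo.scalars ι F) ⊓ Geo.omegaGL Q) := by
  by_cases h2 : (2 : F) = 0
  · exact orth_subfield_maximal' hQ hV hr hcard (by omega) fun hr2 _ hMS hH hB =>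
      srat_all_two_small hQ hV (by omega) hMS hH h2 (by omega) (exists_anisotropic_minus hQ hV h8 hminus) hB
        (sq_mem_imp hr hr2 hcard)
  · exact orth_subfield_maximal_odd hQ hV hr hcard (by omega) h2

/-- Subfield subgroups from dimension nine on, any characteristic. -/
theorem orth_subfield_maximal_nine [Fintype F] {r : ℕ} (hr : r.Prime) (hcard : Fintype.card F = Nat.card F₀ ^ r)
    (hn : 9 ≤ Fintype.card ι) :
    Geo.IsMaximalIn (Geo.omegaGL Q)
      (((Matrix.GeneralLinearGroup.map (F₀.subtype : F₀ →+* F)).range ⊔ Geo.scalars ι F) ⊓ Geo.omegaGL Q) := by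
  by_cases h2 : (2 : F) = 0
  · exact orth_subfield_maximal' hQ hV hr hcard (by omega) fun hr2 _ hMS hH hB =>
      srat_all_two_small hQ hV (by omega) hMS hH h2 (by omega)
        (fun K hK => exists_anisotropic_big (qDown_nondegenerate hQ hV) (L := K) (by omega)) hB
        (sq_mem_imp hr hr2 hcard)
  · exact orth_subfield_maximal_odd hQ hV hr hcard (by omega) h2

end Cfsg.Agent.Transvec.Orth
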