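/-
Maximal subgroups of geometric type in dimension ten.
-/
import Cfsg.Agent.Lib.Transvec.OrthStab
import Cfsg.Agent.Lib.Transvec.OrthNondegMax
import Cfsg.Agent.Lib.Transvec.OrthFrameMax
import Cfsg.Agent.Lib.Transvec.OrthPlanesMax
import Cfsg.Agent.Lib.Transvec.OrthSubfieldMax
import Cfsg.Agent.Lib.Transvec.OrthHalves
import Cfsg.Agent.Lib.OrthFieldExt.Main
set_option autoImplicit false

namespace Cfsg.Agent.OrthTen

open Cfsg.Agent.Transvec Cfsg.Agent.Transvec.Orth

variable {F : Type*} [Field F] [Fintype F] {Q : (Fin 10 → F) → F} (hQ : Geo.IsNondegenerateQuadraticForm Q)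
include hQ

theorem odd_stab (hodd : Odd (Fintype.card F)) {W : Submodule F (Fin 10 → F)} (hW0 : W ≠ ⊥) (hW1 : W ≠ ⊤)
    (ho : Odd (Module.finrank F W)) (h5 : 2 * Module.finrank F W ≠ 10)
    (hW : Geo.IsNondegenerateOn (QuadraticMap.polar Q) W) :
    Geo.IsMaximalIn (Geo.omegaGL Q) (Geo.subspaceStabilizer W ⊓ Geo.omegaGL Q) := by
  have hd := (orth_nondeg hQ (nondeg_of hW)).2
  rw [Fintype.card_fin] at hd
  obtain ⟨j, hj⟩ := ho
  refine stab_nondeg_maximal' hQ (by simp) (nondeg_of hW) hW0 hW1 (Or.inl (by simpa using h5)) (fun h => ?_) fun h => ?_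
  · omega
  · omega

theorem minus_plane {W : Submodule F (Fin 10 → F)} (h2 : Module.finrank F W = 2)
    (hW : Geo.IsNondegenerateOn (QuadraticMap.polar Q) W) (hm : ¬ Geo.IsPlusTypeOn Q W) :
    Geo.IsMaximalIn (Geo.omegaGL Q) (Geo.subspaceStabilizer W ⊓ Geo.omegaGL Q) := by
  have hd := (orth_nondeg hQ (nondeg_of hW)).2
  rw [Fintype.card_fin] at hd
  refine stab_nondeg_maximal' hQ (by simp) (nondeg_of hW) (fun h => by rw [h, finrank_bot] at h2; omega)
    (fun h => by rw [h, finrank_top, Module.finrank_fin_fun] at h2; omega) (Or.inl (by simp; omega))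
    (fun _ => Or.inl fun w hw hww => ?_) fun h => ?_
  · by_contra h0
    exact hm (plus_of_singular hQ h2 hw h0 hww)
  · omega

theorem plus_plane (hq : 4 ≤ Fintype.card F) {W : Submodule F (Fin 10 → F)} (h2 : Module.finrank F W = 2)
    (hW : Geo.IsNondegenerateOn (QuadraticMap.polar Q) W) :
    Geo.IsMaximalIn (Geo.omegaGL Q) (Geo.subspaceStabilizer W ⊓ Geo.omegaGL Q) := by
  refine stab_nondeg_maximal' hQ (by simp) (nondeg_of hW) (fun h => by rw [h, finrank_bot] at h2; omega)
    (fun h => by rw [h, finrank_top, Module.finrank_fin_fun] at h2; omega) (Or.inl (by simp; omega))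
    (fun _ => Or.inr (by rwa [Nat.card_eq_fintype_card])) fun _ => Or.inr (by rwa [Nat.card_eq_fintype_card])

theorem four_space {W : Submodule F (Fin 10 → F)} (h4 : Module.finrank F W = 4)
    (hW : Geo.IsNondegenerateOn (QuadraticMap.polar Q) W) :
    Geo.IsMaximalIn (Geo.omegaGL Q) (Geo.subspaceStabilizer W ⊓ Geo.omegaGL Q) := by
  have hd := (orth_nondeg hQ (nondeg_of hW)).2
  rw [Fintype.card_fin] at hd
  refine stab_nondeg_maximal' hQ (by simp) (nondeg_of hW) (fun h => by rw [h, finrank_bot] at h4; omega)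
    (fun h => by rw [h, finrank_top, Module.finrank_fin_fun] at h4; omega) (Or.inl (by simp; omega))
    (fun h => ?_) fun h => ?_
  · omega
  · omega

omit hQ in
theorem two_eq_zero (h : ¬ Odd (Fintype.card F)) : (2 : F) = 0 := by
  by_contra h2
  refine h ?_
  rw [Nat.odd_iff]
  exact FiniteField.odd_card_of_char_ne_two fun h' => h2 (by
    have : CharP F 2 := ringChar.eq_iff.1 h'
    exact CharP.cast_eq_zero F 2)

theorem frame (hp : ∃ p : ℕ, p.Prime ∧ Fintype.card F = p ∧ Odd p)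
    {D : Fin 10 → Submodule F (Fin 10 → F)} (hD : Geo.IsOrthogonalMDecomposition Q 1 D) :
    Geo.IsMaximalIn (Geo.omegaGL Q) (Geo.decompositionStabilizer D ⊓ Geo.omegaGL Q) := by
  obtain ⟨p, hpp, hcard, hodd⟩ := hp
  exact OFr.frame_maximal hQ (hcard ▸ hpp) (two_ne_zero_of_odd_card (hcard ▸ hodd)) (by simp) hD

theorem halves (hodd : Odd (Fintype.card F)) {D : Fin 2 → Submodule F (Fin 10 → F)}
    (hD : Geo.IsOrthogonalMDecomposition Q 5 D) :
    Geo.IsMaximalIn (Geo.omegaGL Q) (Geo.decompositionStabilizer D ⊓ Geo.omegaGL Q) :=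
  Planes.decomposition_maximal hQ (by simp) (by norm_num) hD (fun _ => hodd) (by omega)

theorem field_ext (hodd : Odd (Fintype.card F)) {K : Subalgebra F (Matrix (Fin 10) (Fin 10) F)}
    (hK : Geo.IsFieldSubalgebra 2 K) (hsa : Geo.IsSelfAdjointFor (QuadraticMap.polar Q) K) :
    Geo.IsMaximalIn (Geo.omegaGL Q) (Geo.subalgebraNormalizer K ⊓ Geo.omegaGL Q) :=
  OrthFieldExt.normalizer_maximal hQ (two_ne_zero_of_odd_card hodd) Nat.prime_two hK hsa (by simp) fun d hd => by
    rw [Fintype.card_fin] at hd; omega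

theorem subfield (F₀ : Subfield F) (r : ℕ) (P : Matrix.GeneralLinearGroup (Fin 10) F) (ζ : F) (hr : r.Prime)
    (hcard : Fintype.card F = Nat.card F₀ ^ r) (hζ : ζ ≠ 0)
    (hP : Geo.IsQuadFormRationalStructure (fun v : Fin 10 → F => ζ * Q v) F₀ P) :
    Geo.IsMaximalIn (Geo.omegaGL Q) (Geo.subfieldSubgroup F₀ P ⊓ Geo.omegaGL Q) :=
  Orth.subfield_maximal_transport hr hcard (by simp) (Or.inr (Or.inl (by simp))) hQ P hζ hP

/-- Five plane members of plus type give a totally singular five-space. -/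
theorem plus_of_planes {D : Fin 5 → Submodule F (Fin 10 → F)} (hD : Geo.IsOrthogonalMDecomposition Q 2 D)
    (h : ∀ i, Geo.IsPlusTypeOn Q (D i)) : Geo.IsPlusTypeOn Q ⊤ := by
  classical
  have hex : ∀ i, ∃ e ∈ D i, e ≠ 0 ∧ Q e = 0 := fun i => by
    obtain ⟨U, hU, hUs, hUd⟩ := h i
    rw [hD.decomp.decomp.finrank_eq i] at hUd
    obtain ⟨e, he, he0⟩ := U.ne_bot_iff.1 fun h0 => by rw [h0, finrank_bot] at hUd; omega
    exact ⟨e, hU he, he0, hUs e he⟩
  choose e he he0 hee using hex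
  have hli : LinearIndependent F e := hD.decomp.decomp.indep.linearIndependent _ he he0
  have hsum : ∀ (c : Fin 5 → F) (s : Finset (Fin 5)), Q (∑ i ∈ s, c i • e i) = 0 ∧
      ∀ j, j ∉ s → pol Q (e j) (∑ i ∈ s, c i • e i) = 0 := by
    intro c s
    induction s using Finset.induction_on with
    | empty => exact ⟨by rw [Finset.sum_empty, q_zero hQ], fun j _ => by rw [Finset.sum_empty, pol_zero_right hQ]⟩
    | insert a s ha ih =>
      rw [Finset.sum_insert ha]
      refine ⟨by rw [q_add hQ, q_smul hQ, hee, pol_smul_left hQ, ih.1, ih.2 a ha]; ring, fun j hj => ?_⟩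
      rw [Finset.mem_insert, not_or] at hj
      rw [pol_add_right hQ, pol_smul_right hQ, ih.2 j hj.2, show pol Q (e j) (e a) = 0 from hD.decomp.orthogonal j a hj.1 _ (he j) _ (he a)]
      ring
  refine ⟨Submodule.span F (Set.range e), le_top, fun w hw => ?_, ?_⟩
  · obtain ⟨c, rfl⟩ := (Submodule.mem_span_range_iff_exists_fun F).1 hw
    exact (hsum c Finset.univ).1
  · rw [finrank_span_eq_card hli, finrank_top, Module.finrank_fin_fun, Fintype.card_fin]

end Cfsg.Agent.OrthTen
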