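/-
Maximality in the commutator subgroup of the orthogonal group of the normaliser of a quadratic extension field on
which the adjoint map is the non-trivial automorphism.
-/
import Cfsg.Agent.Lib.Transvec.AltUnitary
import Cfsg.Agent.Lib.Transvec.OrthPair
set_option autoImplicit false

namespace Cfsg.Agent.Transvec.Orth

open scoped Matrix
open Matrix Cfsg.Agent.Transvec

variable {ι : Type} [Fintype ι] [DecidableEq ι] {F : Type*} [Field F] {Q : (ι → F) → F}

section Singular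

variable (hQ : Geo.IsNondegenerateQuadraticForm Q)
include hQ

/-- The radical of a subspace cut out by few equations is small. -/
theorem rad_add_le (X : Submodule F (ι → F)) :
    Module.finrank F ↥(X ⊓ Orth.orth hQ X) + Module.finrank F X ≤ Fintype.card ι := by
  have := finrank_add_le_of_orth hQ (Orth.nondeg_top hQ) (le_top (a := X)) (le_top (a := X ⊓ Orth.orth hQ X))
    (fun a ha b hb => hb.2 a ha)
  rw [finrank_top, Module.finrank_pi] at this
  omega

/-- A subspace whose radical has codimension at least three has a singular vector off any hyperplane. -/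
theorem exists_sing_off [Finite F] {X : Submodule F (ι → F)}
    (hX : Module.finrank F ↥(X ⊓ Orth.orth hQ X) + 3 ≤ Module.finrank F X) (φ : Module.Dual F (ι → F))
    {x : ι → F} (hx : x ∈ X) (hφ : φ x ≠ 0) : ∃ v ∈ X, Q v = 0 ∧ φ v ≠ 0 := by
  obtain ⟨C, hC⟩ := (X ⊓ Orth.orth hQ X).exists_isCompl
  have hXC : 3 ≤ Module.finrank F ↥(X ⊓ C) := by
    have h1 := Submodule.finrank_sup_add_finrank_inf_eq X C
    have h2 := Submodule.finrank_add_eq_of_isCompl hC
    have h3 := Submodule.finrank_le (X ⊔ C)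
    omega
  obtain ⟨e, he, he0, hee⟩ := exists_singular hQ hXC
  obtain ⟨z, hz, hez⟩ : ∃ z ∈ X, pol Q e z ≠ 0 := by
    by_contra h
    push Not at h
    exact he0 (eq_zero_of_compl hC ⟨he.1, fun u hu => by rw [pol_comm]; exact h u hu⟩ he.2)
  set d := (pol Q e z)⁻¹ • z - Q ((pol Q e z)⁻¹ • z) • e with hd
  have hdX : d ∈ X := X.sub_mem (X.smul_mem _ hz) (X.smul_mem _ he.1)
  have e1 : pol Q e e = 0 := by rw [pol_self hQ, hee, mul_zero]
  have hed : pol Q e d = 1 := by
    rw [hd, pol_sub_right hQ, pol_smul_right hQ, pol_smul_right hQ, e1, mul_zero, sub_zero, inv_mul_cancel₀ hez]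
  have hdd : Q d = 0 := by
    rw [hd, q_sub hQ, q_smul hQ _ e, hee, pol_smul_right hQ, pol_smul_left hQ, pol_comm z e, inv_mul_cancel₀ hez]
    ring
  by_contra hcon
  push Not at hcon
  have hφe := hcon e he.1 hee
  have hφd := hcon d hdX hdd
  have main : ∀ s ∈ X, Q s = 0 → φ s = 0 → pol Q x s = 0 := by
    intro s hs hss hφs
    by_contra hxs
    have h := hcon (x - (Q x / pol Q x s) • s) (X.sub_mem hx (X.smul_mem _ hs))
      (by rw [q_sub hQ, q_smul hQ, hss, pol_smul_right hQ, div_mul_cancel₀ _ hxs]; ring)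
    rw [map_sub, map_smul, hφs, smul_zero, sub_zero] at h
    exact hφ h
  have hxe := main e he.1 hee hφe
  have hxd := main d hdX hdd hφd
  have h := hcon (e - Q x • d + x) (X.add_mem (X.sub_mem he.1 (X.smul_mem _ hdX)) hx) (by
    rw [q_add hQ, q_sub hQ, q_smul hQ, pol_sub_left hQ, pol_smul_left hQ, pol_smul_right hQ, hee, hdd, hed,
      pol_comm e x, pol_comm d x, hxe, hxd]
    ring)
  rw [map_add, map_sub, map_smul, hφe, hφd, smul_zero, sub_zero, zero_add] at h
  exact hφ h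

/-- A subspace whose radical has codimension at least five has a singular vector off any two hyperplanes. -/
theorem exists_sing_off₂ [Finite F] {X : Submodule F (ι → F)}
    (hX : Fintype.card ι + 5 ≤ 2 * Module.finrank F X) (φ ψ : Module.Dual F (ι → F)) {x y : ι → F}
    (hx : x ∈ X) (hφ : φ x ≠ 0) (hy : y ∈ X) (hψ : ψ y ≠ 0) : ∃ v ∈ X, Q v = 0 ∧ φ v ≠ 0 ∧ ψ v ≠ 0 := by
  have hr := rad_add_le hQ X
  obtain ⟨u₁, hu₁, h₁, a₁⟩ := exists_sing_off hQ (X := X) (by omega) φ hx hφ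
  obtain ⟨u₂, hu₂, h₂, a₂⟩ := exists_sing_off hQ (X := X) (by omega) ψ hy hψ
  by_cases c₁ : ψ u₁ = 0
  swap
  · exact ⟨u₁, hu₁, h₁, a₁, c₁⟩
  by_cases c₂ : φ u₂ = 0
  swap
  · exact ⟨u₂, hu₂, h₂, c₂, a₂⟩
  by_cases hb : pol Q u₁ u₂ = 0
  · exact ⟨u₁ + u₂, X.add_mem hu₁ hu₂, by rw [q_add hQ, h₁, h₂, hb, add_zero, add_zero],
      by rwa [map_add, c₂, add_zero], by rwa [map_add, c₁, zero_add]⟩
  set Y := X ⊓ LinearMap.ker (LinearMap.pi ![formQ hQ u₁, formQ hQ u₂]) with hY
  have hYd : Module.finrank F X ≤ Module.finrank F Y + 2 := le_finrank_inf_ker_add X _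
  have hY1 : ∀ {a : ι → F}, a ∈ Y → pol Q a u₁ = 0 := fun ha => congrFun (LinearMap.mem_ker.1 ha.2) 0
  have hY2 : ∀ {a : ι → F}, a ∈ Y → pol Q a u₂ = 0 := fun ha => congrFun (LinearMap.mem_ker.1 ha.2) 1
  have e1 : pol Q u₁ u₁ = 0 := by rw [pol_self hQ, h₁, mul_zero]
  have e2 : pol Q u₂ u₂ = 0 := by rw [pol_self hQ, h₂, mul_zero]
  have hYr : Y ⊓ Orth.orth hQ Y ≤ X ⊓ Orth.orth hQ X := by
    rintro a ⟨ha, hao⟩
    refine ⟨ha.1, fun b hb' => ?_⟩
    set α := pol Q b u₂ / pol Q u₁ u₂ with hα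
    set β := pol Q b u₁ / pol Q u₁ u₂ with hβ
    have hb2 : b - α • u₁ - β • u₂ ∈ Y :=
      ⟨X.sub_mem (X.sub_mem hb' (X.smul_mem _ hu₁)) (X.smul_mem _ hu₂), LinearMap.mem_ker.2 (by
        ext i
        fin_cases i
        · show pol Q (b - α • u₁ - β • u₂) u₁ = 0
          rw [pol_sub_left hQ, pol_sub_left hQ, pol_smul_left hQ, pol_smul_left hQ, e1, pol_comm u₂ u₁, hβ,
            div_mul_cancel₀ _ hb]
          ring
        · show pol Q (b - α • u₁ - β • u₂) u₂ = 0
          rw [pol_sub_left hQ, pol_sub_left hQ, pol_smul_left hQ, pol_smul_left hQ, e2, hα,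
            div_mul_cancel₀ _ hb]
          ring)⟩
    have := hao _ hb2
    rwa [pol_sub_left hQ, pol_sub_left hQ, pol_smul_left hQ, pol_smul_left hQ, pol_comm u₁ a, pol_comm u₂ a,
      hY1 ha, hY2 ha, mul_zero, mul_zero, sub_zero, sub_zero] at this
  have hYo : Module.finrank F ↥(Y ⊓ Orth.orth hQ Y) + 3 ≤ Module.finrank F Y := by
    have := Submodule.finrank_mono hYr
    omega
  by_cases hYφ : ∀ a ∈ Y, φ a = 0
  swap
  · push Not at hYφ
    obtain ⟨a, ha, haφ⟩ := hYφ
    obtain ⟨v, hv, hvQ, hvφ⟩ := exists_sing_off hQ hYo φ ha haφ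
    by_cases hvψ : ψ v = 0
    swap
    · exact ⟨v, hv.1, hvQ, hvφ, hvψ⟩
    exact ⟨u₂ + v, X.add_mem hu₂ hv.1, by rw [q_add hQ, h₂, hvQ, pol_comm, hY2 hv, add_zero, add_zero],
      by rwa [map_add, c₂, zero_add], by rwa [map_add, hvψ, add_zero]⟩
  by_cases hYψ : ∀ a ∈ Y, ψ a = 0
  swap
  · push Not at hYψ
    obtain ⟨a, ha, haψ⟩ := hYψ
    obtain ⟨v, hv, hvQ, hvψ⟩ := exists_sing_off hQ hYo ψ ha haψ
    exact ⟨u₁ + v, X.add_mem hu₁ hv.1, by rw [q_add hQ, h₁, hvQ, pol_comm, hY1 hv, add_zero, add_zero],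
      by rwa [map_add, hYφ v hv, add_zero], by rwa [map_add, c₁, zero_add]⟩
  obtain ⟨w, hw, hw0⟩ : ∃ w ∈ Y, Q w ≠ 0 := by
    by_contra h
    push Not at h
    have hle : Y ≤ Y ⊓ Orth.orth hQ Y := fun a ha => ⟨ha, fun b hb' => pol_eq_zero_of_singular hQ h hb' ha⟩
    have := Submodule.finrank_mono hle
    omega
  refine ⟨u₁ + (-(Q w / pol Q u₁ u₂)) • u₂ + w, X.add_mem (X.add_mem hu₁ (X.smul_mem _ hu₂)) hw.1, ?_, ?_, ?_⟩
  · rw [q_add hQ, q_add hQ, q_smul hQ, pol_add_left hQ, pol_smul_left hQ, pol_smul_right hQ, h₁, h₂,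
      pol_comm u₁ w, pol_comm u₂ w, hY1 hw, hY2 hw]
    field_simp
    ring
  · rwa [map_add, map_add, map_smul, c₂, hYφ w hw, smul_zero, add_zero, add_zero]
  · rw [map_add, map_add, map_smul, c₁, hYψ w hw, zero_add, add_zero, smul_eq_mul]
    exact mul_ne_zero (neg_ne_zero.2 (div_ne_zero hw0 hb)) a₂

/-- A vector separated from a subspace by the polar form. -/
theorem exists_pol_sep {W : Submodule F (ι → F)} {v : ι → F} (hv : v ∉ W) :
    ∃ x, (∀ w ∈ W, pol Q w x = 0) ∧ pol Q v x ≠ 0 := by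
  obtain ⟨φ, h1, h2⟩ := exists_dual hv
  obtain ⟨z, hz⟩ := exists_eq_pol hQ φ
  exact ⟨z, fun w hw => by rw [← hz, h1 w hw], by rw [← hz, h2]; exact one_ne_zero⟩

end Singular

/-- An endomorphism generating a quadratic field on which the adjoint map is the non-trivial automorphism. -/
structure IsConjStruct (Q : (ι → F) → F) (τ ν : F) (J : (ι → F) →ₗ[F] ι → F) : Prop where
  sq : ∀ x, J (J x) = τ • J x - ν • x
  adj : ∀ x y, pol Q (J x) y = τ * pol Q x y - pol Q x (J y)
  self : ∀ x, pol Q (J x) x = τ * Q x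
  scale : ∀ x, Q (J x) = ν * Q x

variable (hQ : Geo.IsNondegenerateQuadraticForm Q) {τ ν : F} {J : (ι → F) →ₗ[F] ι → F}
  (hJ : IsConjStruct Q τ ν J) (hN : ∀ s t : F, s ^ 2 + τ * s * t + ν * t ^ 2 = 0 → s = 0 ∧ t = 0)
include hJ

omit [Fintype ι] [DecidableEq ι] in
theorem conj_mem_of_comb (hN : ∀ s t : F, s ^ 2 + τ * s * t + ν * t ^ 2 = 0 → s = 0 ∧ t = 0)
    {L : Submodule F (ι → F)} (hL : ∀ x ∈ L, J x ∈ L) {u : ι → F} {s t : F}
    (h : s • u + t • J u ∈ L) : (s = 0 ∧ t = 0) ∨ u ∈ L := by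
  by_cases h0 : s ^ 2 + τ * s * t + ν * t ^ 2 = 0
  · exact Or.inl (hN s t h0)
  refine Or.inr ((L.smul_mem_iff h0).1 ?_)
  have := L.sub_mem (L.smul_mem (s + t * τ) h) (L.smul_mem t (hL _ h))
  rw [map_add, map_smul, map_smul, hJ.sq] at this
  convert this using 1
  module

omit [Fintype ι] [DecidableEq ι] in
theorem conj_J_mem_line (u : ι → F) : ∀ x ∈ Submodule.span F ({u, J u} : Set (ι → F)),
    J x ∈ Submodule.span F ({u, J u} : Set (ι → F)) := by
  intro x hx
  obtain ⟨s, t, rfl⟩ := Submodule.mem_span_pair.1 hx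
  rw [map_add, map_smul, map_smul, hJ.sq]
  exact Submodule.mem_span_pair.2 ⟨-(t * ν), s + t * τ, by module⟩

omit [Fintype ι] [DecidableEq ι] in
theorem conj_J_mem_sup {A B : Submodule F (ι → F)} (hA : ∀ x ∈ A, J x ∈ A) (hB : ∀ x ∈ B, J x ∈ B) :
    ∀ x ∈ A ⊔ B, J x ∈ A ⊔ B := by
  intro x hx
  obtain ⟨a, ha, b, hb, rfl⟩ := Submodule.mem_sup.1 hx
  rw [map_add]
  exact Submodule.add_mem _ (Submodule.mem_sup_left (hA a ha)) (Submodule.mem_sup_right (hB b hb))

omit [Fintype ι] [DecidableEq ι] in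
theorem conj_mem_line_symm (hN : ∀ s t : F, s ^ 2 + τ * s * t + ν * t ^ 2 = 0 → s = 0 ∧ t = 0) {u v : ι → F}
    (hv : v ≠ 0) (h : v ∈ Submodule.span F ({u, J u} : Set (ι → F))) :
    u ∈ Submodule.span F ({v, J v} : Set (ι → F)) := by
  obtain ⟨s, t, rfl⟩ := Submodule.mem_span_pair.1 h
  exact (conj_mem_of_comb hJ hN (conj_J_mem_line hJ _) (Submodule.subset_span (Set.mem_insert _ _))).resolve_left
    (fun h => hv (by rw [h.1, h.2, zero_smul, zero_smul, add_zero]))

omit [Fintype ι] [DecidableEq ι] in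
theorem conj_eq_zero_of_comb (hN : ∀ s t : F, s ^ 2 + τ * s * t + ν * t ^ 2 = 0 → s = 0 ∧ t = 0) {u : ι → F}
    (hu : u ≠ 0) {s t : F} (h : s • u + t • J u = 0) : s = 0 ∧ t = 0 :=
  (conj_mem_of_comb hJ hN (L := ⊥) (fun x hx => by rw [Submodule.mem_bot] at hx ⊢; rw [hx, map_zero])
    ((Submodule.mem_bot F).2 h)).resolve_right fun h' => hu ((Submodule.mem_bot F).1 h')

include hQ

theorem pol_J_J (x y : ι → F) : pol Q (J x) (J y) = ν * pol Q x y := by
  rw [hJ.adj, hJ.sq, pol_sub_right hQ, pol_smul_right hQ, pol_smul_right hQ]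
  ring

theorem pol_J_right (x y : ι → F) : pol Q x (J y) = τ * pol Q x y - pol Q (J x) y := by
  rw [hJ.adj]; ring

theorem singular_line {v : ι → F} (hv : Q v = 0) : Q (J v) = 0 ∧ pol Q v (J v) = 0 ∧ pol Q (J v) v = 0 := by
  have h := hJ.self v
  rw [hv, mul_zero] at h
  exact ⟨by rw [hJ.scale, hv, mul_zero], (pol_comm _ _).trans h, h⟩

theorem siegel_comm {v : ι → F} (hv : Q v = 0) {g : GL ι F} {a : F} (hg : IsSiegel Q g v (a • J v)) (z : ι → F) :
    mv g (J z) = J (mv g z) := by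
  obtain ⟨h1, h2, -⟩ := singular_line hQ hJ hv
  rw [hg, hg, q_smul hQ, h1, map_sub, map_add, map_smul, map_smul, map_smul, hJ.sq, pol_smul_right hQ,
    pol_smul_right hQ, pol_J_J hQ hJ, hJ.adj z v]
  module

variable [Finite F] (hn : 10 ≤ Fintype.card ι)
include hN hn

theorem finrank_line_le (u : ι → F) :
    Module.finrank F ↥(Submodule.span F ({u, J u} : Set (ι → F))) ≤ 2 := by
  classical
  exact (finrank_span_le_card _).trans
    (by rw [Set.toFinset_insert, Set.toFinset_singleton]; exact Finset.card_le_two)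

/-- One line at u meeting the orthogonal space of K u gives all of them. -/
theorem conj_row {M : Subgroup (GL ι F)} (hMO : M ≤ isometryGroup F Q)
    (hU : ∀ v, Q v = 0 → LineIn Q M v (J v)) {u r : ι → F} (huu : Q u = 0) (hru : pol Q u r = 0)
    (hrJ : pol Q (J u) r = 0) (hr : r ∉ Submodule.span F ({u, J u} : Set (ι → F))) (h : LineIn Q M u r) :
    ∀ y, pol Q u y = 0 → pol Q (J u) y = 0 → LineIn Q M u y := by
  intro y hy hyJ
  set Lu := Submodule.span F ({u, J u} : Set (ι → F)) with hLu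
  obtain ⟨hu1, hu2, hu3⟩ := singular_line hQ hJ huu
  set W := (⊤ : Submodule F (ι → F)) ⊓ LinearMap.ker (LinearMap.pi ![formQ hQ u, formQ hQ (J u)]) with hW
  have hWd : Fintype.card ι ≤ Module.finrank F W + 2 := by
    have := le_finrank_inf_ker_add ⊤ ![formQ hQ u, formQ hQ (J u)]
    rwa [finrank_top, Module.finrank_pi] at this
  have memW : ∀ {z : ι → F}, pol Q u z = 0 → pol Q (J u) z = 0 → z ∈ W := fun h1 h2 =>
    ⟨Submodule.mem_top, LinearMap.mem_ker.2 (by ext i; fin_cases i <;> exact (pol_comm _ _).trans (by assumption))⟩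
  have ofW : ∀ {z : ι → F}, z ∈ W → pol Q u z = 0 ∧ pol Q (J u) z = 0 := fun hz =>
    ⟨(pol_comm _ _).trans (congrFun (LinearMap.mem_ker.1 hz.2) 0),
      (pol_comm _ _).trans (congrFun (LinearMap.mem_ker.1 hz.2) 1)⟩
  have hWJ : ∀ {z : ι → F}, z ∈ W → J z ∈ W := fun hz => by
    obtain ⟨a, b⟩ := ofW hz
    exact memW (by rw [pol_J_right hQ hJ, a, b]; ring) (by rw [pol_J_J hQ hJ, a, mul_zero])
  let P : Submodule F (ι → F) :=
    { carrier := {y | pol Q u y = 0 ∧ LineIn Q M u y}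
      add_mem' := fun ⟨a1, a2⟩ ⟨b1, b2⟩ =>
        ⟨by rw [pol_add_right hQ, a1, b1, add_zero], lineIn_add hQ huu a1 b1 a2 b2⟩
      zero_mem' := ⟨pol_zero_right hQ u, zero_smul F u ▸ lineIn_self hQ huu 0⟩
      smul_mem' := fun c _ ⟨a1, a2⟩ => ⟨by rw [pol_smul_right hQ, a1, mul_zero], lineIn_smul c a2⟩ }
  -- what a singular vector makes of one line
  have key : ∀ s z, s ∈ P → z ∈ W → Q z = 0 → pol Q s z • J z - pol Q s (J z) • z ∈ P := by
    intro s z hs hz hzz
    obtain ⟨huz, huJz⟩ := ofW hz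
    obtain ⟨hz1, -, -⟩ := singular_line hQ hJ hzz
    obtain ⟨g, hg, hgs⟩ := hU z hzz 1
    rw [one_smul] at hgs
    have hgu : mv g u = u := isSiegel_fix hQ hgs huz (by rw [pol_J_right hQ hJ, huz, huJz]; ring)
    have h1 := lineIn_conj hQ hMO hg hs.2
    rw [hgu] at h1
    have h2 : pol Q u (mv g s) = 0 := by
      conv_lhs => rw [← hgu]
      rw [pol_mv hQ (hMO hg), hs.1]
    have := P.sub_mem (show mv g s ∈ P from ⟨h2, h1⟩) hs
    rw [hgs, hz1] at this
    convert this using 1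
    module
  -- the combination made from a singular vector is not in the line of u
  have off : ∀ {z : ι → F} {a b : F}, z ∉ Lu → a ≠ 0 → a • J z - b • z ∉ Lu := by
    intro z a b hz ha hm
    rcases conj_mem_of_comb hJ hN (conj_J_mem_line hJ u) (u := z) (s := -b) (t := a)
      (by convert hm using 1; module) with ⟨-, h0⟩ | h0
    · exact ha h0
    · exact hz h0
  have sing : ∀ {z : ι → F} {a b : F}, Q z = 0 → Q (a • J z - b • z) = 0 := fun {z a b} hz => by
    obtain ⟨h1, -, h3⟩ := singular_line hQ hJ hz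
    rw [q_sub hQ, q_smul hQ, q_smul hQ, pol_smul_left hQ, pol_smul_right hQ, h1, h3, hz]; ring
  have notLu : ∀ {z x : ι → F}, x ∈ W → pol Q x z ≠ 0 → z ∉ Lu := fun {z x} hx hz hm => by
    obtain ⟨a, b, rfl⟩ := Submodule.mem_span_pair.1 hm
    obtain ⟨h1, h2⟩ := ofW hx
    exact hz (by rw [pol_add_right hQ, pol_smul_right hQ, pol_smul_right hQ, pol_comm x u, pol_comm x (J u), h1, h2]; ring)
  have hrad := rad_add_le hQ W
  have keyW : ∀ {z : ι → F} (a b : F), z ∈ W → a • J z - b • z ∈ W := fun a b hz =>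
    W.sub_mem (W.smul_mem _ (hWJ hz)) (W.smul_mem _ hz)
  -- a singular vector of the row outside the line of u
  obtain ⟨s, hsP, hsW, hss, hsL⟩ : ∃ s ∈ P, s ∈ W ∧ Q s = 0 ∧ s ∉ Lu := by
    obtain ⟨x, hx, hx'⟩ := exists_pol_sep hQ hr
    have hxW : x ∈ W := memW (hx u (Submodule.subset_span (by simp))) (hx (J u) (Submodule.subset_span (by simp)))
    obtain ⟨z, hz, hzz, hzr⟩ := exists_sing_off hQ (X := W) (by omega) (formQ hQ r) hxW
      (by rwa [formQ_apply, pol_comm])
    rw [formQ_apply, pol_comm] at hzr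
    exact ⟨_, key r z ⟨hru, h⟩ hz hzz, keyW _ _ hz, sing hzz, off (notLu (memW hru hrJ) hzr) hzr⟩
  -- a second singular vector of the row, not orthogonal to the conjugate of the first
  obtain ⟨v, hvP, hvW, hvv, hsv, hsJv⟩ : ∃ v ∈ P, v ∈ W ∧ Q v = 0 ∧ pol Q s v = 0 ∧ pol Q s (J v) ≠ 0 := by
    obtain ⟨x, hx, hx'⟩ := exists_pol_sep hQ hsL
    have hxW : x ∈ W := memW (hx u (Submodule.subset_span (by simp))) (hx (J u) (Submodule.subset_span (by simp)))
    obtain ⟨z, hz, hzz, hzs⟩ := exists_sing_off hQ (X := W) (by omega) (formQ hQ s) hxW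
      (by rwa [formQ_apply, pol_comm])
    rw [formQ_apply, pol_comm] at hzs
    refine ⟨_, key s z hsP hz hzz, keyW _ _ hz, sing hzz,
      by rw [pol_sub_right hQ, pol_smul_right hQ, pol_smul_right hQ]; ring, fun h0 => ?_⟩
    rw [map_sub, map_smul, map_smul, hJ.sq, pol_sub_right hQ, pol_smul_right hQ, pol_smul_right hQ,
      pol_sub_right hQ, pol_smul_right hQ, pol_smul_right hQ] at h0
    exact hzs (hN (-pol Q s (J z)) (pol Q s z) (by linear_combination -h0)).2
  -- an anisotropic vector orthogonal to both lines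
  obtain ⟨hs1, hs2, hs3⟩ := singular_line hQ hJ hss
  obtain ⟨hv1, hv2, hv3⟩ := singular_line hQ hJ hvv
  set k := pol Q s (J v) with hk
  have hvJs : pol Q v (J s) = -k := by rw [pol_J_right hQ hJ, pol_comm v s, hsv, pol_comm (J v) s, ← hk]; ring
  have hJvs : pol Q (J v) s = k := pol_comm _ _
  set X := W ⊓ LinearMap.ker (LinearMap.pi ![formQ hQ s, formQ hQ (J s), formQ hQ v, formQ hQ (J v)]) with hX
  have hXd : Module.finrank F W ≤ Module.finrank F X + 4 := le_finrank_inf_ker_add W _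
  obtain ⟨x, hxW, hxx, xs, xJs, xv, xJv⟩ : ∃ x ∈ W, Q x ≠ 0 ∧ pol Q s x = 0 ∧ pol Q (J s) x = 0 ∧ pol Q v x = 0 ∧
      pol Q (J v) x = 0 := by
    have mem : ∀ {x : ι → F}, x ∈ X → pol Q s x = 0 ∧ pol Q (J s) x = 0 ∧ pol Q v x = 0 ∧ pol Q (J v) x = 0 :=
      fun hx => ⟨(pol_comm _ _).trans (congrFun (LinearMap.mem_ker.1 hx.2) 0),
        (pol_comm _ _).trans (congrFun (LinearMap.mem_ker.1 hx.2) 1),
        (pol_comm _ _).trans (congrFun (LinearMap.mem_ker.1 hx.2) 2),
        (pol_comm _ _).trans (congrFun (LinearMap.mem_ker.1 hx.2) 3)⟩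
    by_contra hcon
    push Not at hcon
    have hXs : ∀ x ∈ X, Q x = 0 := fun x hx => by
      by_contra h0
      obtain ⟨a, b, c, d⟩ := mem hx
      exact hcon x hx.1 h0 a b c d
    have hXX : X ≤ orth hQ X := fun x hx w hw => pol_eq_zero_of_singular hQ hXs hw hx
    set E := X ⊔ Submodule.span F ({s, v} : Set (ι → F)) with hE
    have hEE : E ≤ orth hQ E := by
      have base : ∀ w ∈ E, pol Q s w = 0 ∧ pol Q v w = 0 ∧ ∀ z ∈ X, pol Q z w = 0 := by
        intro w hw
        obtain ⟨a, ha, b, hb, rfl⟩ := Submodule.mem_sup.1 hw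
        obtain ⟨c, d, rfl⟩ := Submodule.mem_span_pair.1 hb
        obtain ⟨e1, -, e3, -⟩ := mem ha
        simp only [pol_add_right hQ, pol_smul_right hQ, pol_self hQ, hss, hvv, hsv, pol_comm v s, e1, e3, mul_zero,
          add_zero, true_and]
        exact fun z hz => by rw [hXX ha z hz, pol_comm z s, pol_comm z v, (mem hz).1, (mem hz).2.2.1]; ring
      intro w hw z hz
      obtain ⟨a, ha, b, hb, rfl⟩ := Submodule.mem_sup.1 hz
      obtain ⟨c, d, rfl⟩ := Submodule.mem_span_pair.1 hb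
      obtain ⟨e1, e2, e3⟩ := base w hw
      rw [pol_add_left hQ, pol_add_left hQ, pol_smul_left hQ, pol_smul_left hQ, e1, e2, e3 a ha]; ring
    have hd : Module.finrank F X + 2 ≤ Module.finrank F E := by
      have hli : LinearIndependent F ![s, v] := by
        rw [LinearIndependent.pair_iff]
        intro a b hab
        have e1 := congrArg (fun w => pol Q w (J v)) hab
        have e2 := congrArg (fun w => pol Q w (J s)) hab
        simp only [pol_add_left hQ, pol_smul_left hQ, hv2, hs2, hvJs, ← hk, pol_zero_left hQ, mul_zero, add_zero,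
          zero_add] at e1 e2
        exact ⟨(mul_eq_zero.1 e1).resolve_right hsJv, (mul_eq_zero.1 e2).resolve_right (neg_ne_zero.2 hsJv)⟩
      have hdis : X ⊓ Submodule.span F ({s, v} : Set (ι → F)) = ⊥ := (Submodule.eq_bot_iff _).2 fun w hw => by
        obtain ⟨c, d, rfl⟩ := Submodule.mem_span_pair.1 hw.2
        obtain ⟨-, e2, -, e4⟩ := mem hw.1
        simp only [pol_add_right hQ, pol_smul_right hQ, pol_comm (J v) v, hv2, pol_comm (J s) s, hs2, hJvs,
          pol_comm (J s) v, hvJs, mul_zero, add_zero, zero_add] at e2 e4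
        rw [(mul_eq_zero.1 e4).resolve_right hsJv, (mul_eq_zero.1 e2).resolve_right (neg_ne_zero.2 hsJv), zero_smul,
          zero_smul, add_zero]
      have h2 : Module.finrank F ↥(Submodule.span F ({s, v} : Set (ι → F))) = 2 := by
        rw [show ({s, v} : Set (ι → F)) = Set.range ![s, v] by simp [Set.pair_comm], finrank_span_eq_card hli,
          Fintype.card_fin]
      have h1 := Submodule.finrank_sup_add_finrank_inf_eq X (Submodule.span F ({s, v} : Set (ι → F)))
      rw [hdis, finrank_bot, h2, ← hE] at h1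
      omega
    have h5 := rad_add_le hQ E
    rw [inf_eq_left.2 hEE] at h5
    omega
  -- the third vector gives a whole line
  set w := s + (-(Q x / k)) • J v + x with hw
  have hwW : w ∈ W := W.add_mem (W.add_mem hsW (W.smul_mem _ (hWJ hvW))) hxW
  have hww : Q w = 0 := by
    rw [hw, q_add hQ, q_add hQ, q_smul hQ, hss, hv1, pol_smul_right hQ, pol_add_left hQ, pol_smul_left hQ, xs, xJv,
      ← hk]
    field_simp
    ring
  have hsw : pol Q s w = -Q x := by
    rw [hw, pol_add_right hQ, pol_add_right hQ, pol_smul_right hQ, pol_self hQ, hss, xs, ← hk]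
    field_simp
    ring
  have hvw : pol Q v w = 0 := by
    rw [hw, pol_add_right hQ, pol_add_right hQ, pol_smul_right hQ, xv, hv2, pol_comm v s, hsv]; ring
  have hvJw : pol Q v (J w) = -k := by
    rw [pol_J_right hQ hJ, hvw, hw, pol_add_right hQ, pol_add_right hQ, pol_smul_right hQ, pol_self hQ, hv1, xJv,
      hJvs]
    ring
  set q₀ := pol Q s w • J w - pol Q s (J w) • w with hq₀
  have hq₀P : q₀ ∈ P := key s w hsP hwW hww
  have hq₀W : q₀ ∈ W := keyW _ _ hwW
  have hq₀q : Q q₀ = 0 := sing hww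
  have hvq₀ : pol Q v q₀ ≠ 0 := by
    rw [hq₀, pol_sub_right hQ, pol_smul_right hQ, pol_smul_right hQ, hvw, hvJw, hsw, mul_zero, sub_zero]
    exact mul_ne_zero (neg_ne_zero.2 hxx) (neg_ne_zero.2 hsJv)
  have hJq₀ : J q₀ ∈ P := by
    have h1 := P.add_mem (key v q₀ hvP hq₀W hq₀q) (P.smul_mem (pol Q v (J q₀)) hq₀P)
    rw [sub_add_cancel] at h1
    exact (P.smul_mem_iff hvq₀).1 h1
  have hq₀L : q₀ ∉ Lu := notLu hvW hvq₀
  -- the rest of the row
  by_contra hcon
  have hyP : y ∉ P := fun h' => hcon h'.2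
  obtain ⟨φ, hφP, hφy⟩ := exists_dual hyP
  obtain ⟨x', hx1, hx2⟩ := exists_pol_sep hQ hq₀L
  have hx'W : x' ∈ W := memW (hx1 u (Submodule.subset_span (by simp))) (hx1 (J u) (Submodule.subset_span (by simp)))
  obtain ⟨z, hz, hzz, hzφ, hzq⟩ := exists_sing_off₂ hQ (X := W) (by omega) φ (formQ hQ q₀) (memW hy hyJ)
    (hφy ▸ one_ne_zero) hx'W (by rwa [formQ_apply, pol_comm])
  rw [formQ_apply, pol_comm] at hzq
  refine hzφ (hφP z ?_)
  set a := pol Q q₀ z with ha
  set b := pol Q q₀ (J z) with hb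
  have v1 : a • J z - b • z ∈ P := key q₀ z hq₀P hz hzz
  have v2 := key (J q₀) z hJq₀ hz hzz
  rw [pol_J_J hQ hJ, ← ha, show pol Q (J q₀) z = τ * a - b by rw [ha, hb, pol_J_right hQ hJ]; ring] at v2
  have hdet : b ^ 2 + τ * b * (-a) + ν * (-a) ^ 2 ≠ 0 := fun h0 => hzq (neg_eq_zero.1 (hN b (-a) h0).2)
  refine (P.smul_mem_iff hdet).1 ?_
  have := P.sub_mem (P.smul_mem (τ * a - b) v1) (P.smul_mem a v2)
  convert this using 1
  module

/-- One line at u gives all Siegel elements at u. -/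
theorem conj_full {M : Subgroup (GL ι F)} (hMO : M ≤ isometryGroup F Q)
    (hU : ∀ v, Q v = 0 → LineIn Q M v (J v)) {u r : ι → F} (huu : Q u = 0) (hu0 : u ≠ 0) (hru : pol Q u r = 0)
    (hrJ : pol Q (J u) r = 0) (hr : r ∉ Submodule.span F ({u, J u} : Set (ι → F))) (h : LineIn Q M u r) :
    u ∈ qFull Q M := by
  have hrow := conj_row hQ hJ hN hn hMO hU huu hru hrJ hr h
  set Lu := Submodule.span F ({u, J u} : Set (ι → F)) with hLu
  have hLd : Module.finrank F Lu ≤ 2 := finrank_line_le hQ hJ hN hn u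
  set W := (⊤ : Submodule F (ι → F)) ⊓ LinearMap.ker (LinearMap.pi ![formQ hQ u, formQ hQ (J u)]) with hW
  have hWd : Fintype.card ι ≤ Module.finrank F W + 2 := by
    have := le_finrank_inf_ker_add ⊤ ![formQ hQ u, formQ hQ (J u)]
    rwa [finrank_top, Module.finrank_pi] at this
  obtain ⟨x, hx, hxL⟩ : ∃ x ∈ W, x ∉ Lu := by
    by_contra hc
    push Not at hc
    have := Submodule.finrank_mono hc
    omega
  obtain ⟨ψ, hψL, hψx⟩ := exists_dual hxL
  obtain ⟨z, hz, hzQ, hzψ⟩ := exists_sing_off hQ (X := W) (by have := rad_add_le hQ W; omega) ψ hx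
    (hψx ▸ one_ne_zero)
  have hzk := LinearMap.mem_ker.1 hz.2
  have z0 : pol Q u z = 0 := (pol_comm _ _).trans (congrFun hzk 0)
  have z1 : pol Q (J u) z = 0 := (pol_comm _ _).trans (congrFun hzk 1)
  have hzL : z ∉ Lu := fun h' => hzψ (hψL z h')
  have huz : u ∉ Submodule.span F ({z, J z} : Set (ι → F)) := fun h' => hzL (conj_mem_line_symm hJ hN hu0 h')
  have hrowz := conj_row hQ hJ hN hn hMO hU hzQ ((pol_comm _ _).trans z0)
    (by rw [pol_comm, pol_J_right hQ hJ, z0, z1]; ring) huz (lineIn_symm hQ huu hzQ (hrow z z0 z1))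
  obtain ⟨w, hw, hw'⟩ := exists_pol_sep hQ (W := Submodule.span F ({z, J z, u} : Set (ι → F))) (v := J u) (fun hm => by
    obtain ⟨a, w₁, hw₁, he⟩ := Submodule.mem_span_insert.1 hm
    obtain ⟨b, c, rfl⟩ := Submodule.mem_span_pair.1 hw₁
    have hm2 : (-c) • u + (1 : F) • J u ∈ Submodule.span F ({z, J z} : Set (ι → F)) :=
      Submodule.mem_span_pair.2 ⟨a, b, by rw [he]; module⟩
    rcases conj_mem_of_comb hJ hN (conj_J_mem_line hJ z) hm2 with ⟨-, h1⟩ | h1
    · exact one_ne_zero h1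
    · exact huz h1)
  have zw : pol Q z w = 0 := hw z (Submodule.subset_span (by simp))
  have Jzw : pol Q (J z) w = 0 := hw (J z) (Submodule.subset_span (by simp))
  have uw : pol Q u w = 0 := hw u (Submodule.subset_span (by simp))
  obtain ⟨y, hy, hy'⟩ := exists_pol_sep hQ hzL
  have uy : pol Q u y = 0 := hy u (Submodule.subset_span (by simp))
  have Juy : pol Q (J u) y = 0 := hy (J u) (Submodule.subset_span (by simp))
  obtain ⟨g, hg, hgs⟩ := hrowz w zw Jzw 1
  rw [one_smul] at hgs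
  have hgu : mv g u = u := isSiegel_fix hQ hgs z0 uw
  have hline := lineIn_conj hQ hMO hg (hrow y uy Juy)
  rw [hgu] at hline
  have hgy : pol Q u (mv g y) = 0 := by
    conv_lhs => rw [← hgu]
    rw [pol_mv hQ (hMO hg), uy]
  have hJgy : pol Q (J u) (mv g y) = pol Q y z * pol Q (J u) w := by
    rw [hgs, pol_sub_right hQ, pol_add_right hQ, pol_smul_right hQ, pol_smul_right hQ, Juy, z1]
    ring
  have hne : pol Q (J u) (mv g y) ≠ 0 := by
    rw [hJgy, pol_comm y z]; exact mul_ne_zero hy' hw'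
  refine ⟨huu, fun y' hy'' => ?_⟩
  set c := pol Q (J u) y' / pol Q (J u) (mv g y) with hc
  have h1 : LineIn Q M u (y' - c • mv g y) := hrow _
    (by rw [pol_sub_right hQ, pol_smul_right hQ, hy'', hgy]; ring)
    (by rw [pol_sub_right hQ, pol_smul_right hQ, hc, div_mul_cancel₀ _ hne, sub_self])
  have h2 := lineIn_add hQ huu (by rw [pol_sub_right hQ, pol_smul_right hQ, hy'', hgy]; ring)
    (by rw [pol_smul_right hQ, hgy, mul_zero]) h1 (lineIn_smul c hline)
  rw [sub_add_cancel] at h2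
  obtain ⟨e, he, hes⟩ := h2 1
  exact ⟨e, he, by rwa [one_smul] at hes⟩

/-- One line at u forces the whole group. -/
theorem conj_eq_omega {M : Subgroup (GL ι F)} (hMS : M ≤ Geo.omegaGL Q)
    (hU : ∀ v, Q v = 0 → LineIn Q M v (J v)) {u r : ι → F} (huu : Q u = 0) (hu0 : u ≠ 0) (hru : pol Q u r = 0)
    (hrJ : pol Q (J u) r = 0) (hr : r ∉ Submodule.span F ({u, J u} : Set (ι → F))) (h : LineIn Q M u r) :
    M = Geo.omegaGL Q := by
  have hMO : M ≤ isometryGroup F Q := hMS.trans (omega_le_isometry hQ)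
  have hrow := conj_row hQ hJ hN hn hMO hU huu hru hrJ hr h
  set Lu := Submodule.span F ({u, J u} : Set (ι → F)) with hLu
  have hLd : Module.finrank F Lu ≤ 2 := finrank_line_le hQ hJ hN hn u
  set W := (⊤ : Submodule F (ι → F)) ⊓ LinearMap.ker (LinearMap.pi ![formQ hQ u, formQ hQ (J u)]) with hW
  have hWd : Fintype.card ι ≤ Module.finrank F W + 2 := by
    have := le_finrank_inf_ker_add ⊤ ![formQ hQ u, formQ hQ (J u)]
    rwa [finrank_top, Module.finrank_pi] at this
  have hWr : Module.finrank F ↥(W ⊓ Orth.orth hQ W) + 3 ≤ Module.finrank F W := by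
    have := rad_add_le hQ W; omega
  have full : ∀ z, z ∈ W → Q z = 0 → z ∉ Lu → z ∈ qFull Q M := by
    intro z hz hzQ hzL
    have hzk := LinearMap.mem_ker.1 hz.2
    have z0 : pol Q u z = 0 := (pol_comm _ _).trans (congrFun hzk 0)
    have z1 : pol Q (J u) z = 0 := (pol_comm _ _).trans (congrFun hzk 1)
    exact conj_full hQ hJ hN hn hMO hU hzQ (fun h' => hzL (h' ▸ Lu.zero_mem)) ((pol_comm _ _).trans z0)
      (by rw [pol_comm, pol_J_right hQ hJ, z0, z1]; ring) (fun h' => hzL (conj_mem_line_symm hJ hN hu0 h'))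
      (lineIn_symm hQ huu hzQ (hrow z z0 z1))
  obtain ⟨x, hx, hxL⟩ : ∃ x ∈ W, x ∉ Lu := by
    by_contra hc
    push Not at hc
    have := Submodule.finrank_mono hc
    omega
  obtain ⟨ψ, hψL, hψx⟩ := exists_dual hxL
  obtain ⟨z, hz, hzQ, hzψ⟩ := exists_sing_off hQ (X := W) hWr ψ hx (hψx ▸ one_ne_zero)
  have hzL : z ∉ Lu := fun h' => hzψ (hψL z h')
  obtain ⟨y, hy, hy'⟩ := exists_pol_sep hQ hzL
  obtain ⟨w, hw, hwQ, hwz⟩ := exists_sing_off hQ (X := W) hWr (formQ hQ z) (x := y)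
    ⟨Submodule.mem_top, LinearMap.mem_ker.2 (by
      ext i; fin_cases i <;> exact (pol_comm _ _).trans (hy _ (Submodule.subset_span (by simp))))⟩
    (by rwa [formQ_apply, pol_comm])
  rw [formQ_apply, pol_comm] at hwz
  have hwL : w ∉ Lu := fun h' => hwz (by
    obtain ⟨a, b, rfl⟩ := Submodule.mem_span_pair.1 h'
    have hzk := LinearMap.mem_ker.1 hz.2
    rw [pol_add_right hQ, pol_smul_right hQ, pol_smul_right hQ,
      show pol Q z u = 0 from congrFun hzk 0, show pol Q z (J u) = 0 from congrFun hzk 1]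
    ring)
  exact eq_omega_of_pair hQ (by omega) hMS (full z hz hzQ hzL) (qFull_smul hQ (full w hw hwQ hwL) (pol Q z w)⁻¹)
    (by rw [pol_smul_right hQ, inv_mul_cancel₀ hwz])

/-- Two structures with the same singular lines agree up to the automorphism. -/
theorem conj_eq_of_lines (hd : τ ^ 2 - 4 * ν ≠ 0) {J' : (ι → F) →ₗ[F] ι → F} (hJ' : IsConjStruct Q τ ν J')
    (h : ∀ v, Q v = 0 → v ∈ Submodule.span F ({J v, J' (J v)} : Set (ι → F))) :
    (∀ x, J' x = J x) ∨ (∀ x, J' x = τ • x - J x) := by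
  have hν : ν ≠ 0 := fun h => one_ne_zero (hN 0 1 (by rw [h]; ring)).2
  have coef : ∀ u, Q u = 0 → ∃ γ κ : F, J' u = γ • u + κ • J u := by
    intro u hu
    obtain ⟨hu1, hu2, hu3⟩ := singular_line hQ hJ hu
    obtain ⟨α, β, hab⟩ := Submodule.mem_span_pair.1 (h (ν⁻¹ • (τ • u - J u)) (by
      rw [q_smul hQ, q_sub hQ, q_smul hQ, pol_smul_left hQ, hu, hu1, hu2]; ring))
    have hJv : J (ν⁻¹ • (τ • u - J u)) = u := by
      rw [map_smul, map_sub, map_smul, hJ.sq, sub_sub_cancel, inv_smul_smul₀ hν]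
    rw [hJv] at hab
    rcases eq_or_ne u 0 with rfl | hu0
    · exact ⟨0, 0, by simp⟩
    rcases eq_or_ne β 0 with rfl | hβ
    · have h0 : (α - ν⁻¹ * τ) • u + ν⁻¹ • J u = 0 := by linear_combination (norm := module) hab
      exact absurd (conj_eq_zero_of_comb hJ hN hu0 h0).2 (inv_ne_zero hν)
    · refine ⟨(ν⁻¹ * τ - α) / β, -ν⁻¹ / β, ?_⟩
      apply smul_right_injective (ι → F) hβ
      show β • _ = β • _
      rw [smul_add, smul_smul, smul_smul, mul_div_cancel₀ _ hβ, mul_div_cancel₀ _ hβ]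
      linear_combination (norm := module) hab
  have same : ∀ u w, Q u = 0 → Q w = 0 → w ≠ 0 → pol Q u w = 0 →
      u ∉ Submodule.span F ({w, J w} : Set (ι → F)) →
      ∀ a b : F, J' u = a • u + b • J u → J' w = a • w + b • J w := by
    intro u w hu hw hw0 huw huL a b hab
    obtain ⟨a', b', hab'⟩ := coef w hw
    obtain ⟨c, d, hcd⟩ := coef (u + w) (by rw [q_add hQ, hu, hw, huw]; ring)
    rw [map_add, map_add, hab, hab'] at hcd
    have hmem : (a - c) • u + (b - d) • J u ∈ Submodule.span F ({w, J w} : Set (ι → F)) :=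
      Submodule.mem_span_pair.2 ⟨c - a', d - b', by linear_combination (norm := module) -hcd⟩
    obtain ⟨hac, hbd⟩ := (conj_mem_of_comb hJ hN (conj_J_mem_line hJ w) hmem).resolve_right huL
    rw [sub_eq_zero] at hac hbd
    subst hac; subst hbd
    obtain ⟨h1, h2⟩ := conj_eq_zero_of_comb hJ hN hw0 (s := a - a') (t := b - b')
      (by linear_combination (norm := module) -hcd)
    rw [hab', sub_eq_zero.1 h1, sub_eq_zero.1 h2]
  have same' : ∀ u w, Q u = 0 → Q w = 0 → u ≠ 0 → w ≠ 0 →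
      ∀ a b : F, J' u = a • u + b • J u → J' w = a • w + b • J w := by
    intro u w hu hw hu0 hw0 a b hab
    set W := Submodule.span F ({u, J u} : Set (ι → F)) ⊔ Submodule.span F ({w, J w} : Set (ι → F)) with hW
    set X := (⊤ : Submodule F (ι → F)) ⊓ LinearMap.ker (LinearMap.pi ![formQ hQ u, formQ hQ w]) with hX
    have hXd : Fintype.card ι ≤ Module.finrank F X + 2 := by
      have := le_finrank_inf_ker_add ⊤ ![formQ hQ u, formQ hQ w]
      rwa [finrank_top, Module.finrank_pi] at this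
    have hWd : Module.finrank F W ≤ 4 := by
      have := Submodule.finrank_sup_add_finrank_inf_eq (Submodule.span F ({u, J u} : Set (ι → F)))
        (Submodule.span F ({w, J w} : Set (ι → F)))
      have := finrank_line_le hQ hJ hN hn u
      have := finrank_line_le hQ hJ hN hn w
      rw [hW]
      omega
    obtain ⟨x, hx, hxW⟩ : ∃ x ∈ X, x ∉ W := by
      by_contra hc
      push Not at hc
      have := Submodule.finrank_mono hc
      omega
    obtain ⟨φ, hφW, hφx⟩ := exists_dual hxW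
    obtain ⟨z, hz, hzQ, hzφ⟩ := exists_sing_off hQ (X := X) (by have := rad_add_le hQ X; omega) φ hx
      (hφx ▸ one_ne_zero)
    have hzk := LinearMap.mem_ker.1 hz.2
    have z0 : pol Q u z = 0 := (pol_comm _ _).trans (congrFun hzk 0)
    have z1 : pol Q z w = 0 := congrFun hzk 1
    have hzW : z ∉ W := fun h => hzφ (hφW z h)
    have hz0 : z ≠ 0 := fun h => hzW (h ▸ W.zero_mem)
    exact same z w hzQ hw hw0 z1 (fun h => hzW (Submodule.mem_sup_right h)) a b
      (same u z hu hzQ hz0 z0 (fun h => hzW (Submodule.mem_sup_left (conj_mem_line_symm hJ hN hu0 h))) a b hab)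
  obtain ⟨u₀, -, hu₀, hu₀Q⟩ := exists_singular hQ (X := ⊤) (by rw [finrank_top, Module.finrank_pi]; omega)
  obtain ⟨γ, κ, h₀⟩ := coef u₀ hu₀Q
  have hall : ∀ u, Q u = 0 → J' u = γ • u + κ • J u := by
    intro u hu
    rcases eq_or_ne u 0 with rfl | hu0
    · simp
    · exact same' u₀ u hu₀Q hu hu₀ hu0 γ κ h₀
  have h1 := hJ'.sq u₀
  rw [hall u₀ hu₀Q, map_add, map_smul, map_smul, hall u₀ hu₀Q,
    hall (J u₀) (singular_line hQ hJ hu₀Q).1, hJ.sq] at h1
  obtain ⟨e1, e2⟩ := conj_eq_zero_of_comb hJ hN hu₀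
    (s := γ * γ - κ * κ * ν - τ * γ + ν) (t := κ * (2 * γ + κ * τ - τ))
    (by linear_combination (norm := module) h1)
  have hκ : κ ≠ 0 := fun h => one_ne_zero (neg_eq_zero.1 (hN γ (-1) (by rw [h] at e1; linear_combination e1)).2)
  have e2' : 2 * γ + κ * τ - τ = 0 := (mul_eq_zero.1 e2).resolve_left hκ
  have hk1 : (κ - 1) * (κ + 1) * (τ ^ 2 - 4 * ν) = 0 := by
    linear_combination 4 * e1 + (τ + κ * τ - 2 * γ) * e2'
  have hres : (γ = 0 ∧ κ = 1) ∨ (γ = τ ∧ κ = -1) := by
    rcases mul_eq_zero.1 ((mul_eq_zero.1 hk1).resolve_right hd) with h5 | h5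
    · rw [sub_eq_zero] at h5
      subst h5
      have hg : γ * (γ - τ) = 0 := by linear_combination e1
      rcases mul_eq_zero.1 hg with hg' | hg'
      · exact Or.inl ⟨hg', rfl⟩
      · rw [sub_eq_zero] at hg'
        subst hg'
        by_cases ht : γ = 0
        · exact Or.inl ⟨ht, rfl⟩
        · refine Or.inr ⟨rfl, ?_⟩
          have h22 : (2 : F) * γ = 0 := by linear_combination e2'
          linear_combination (mul_eq_zero.1 h22).resolve_right ht
    · have h5' := eq_neg_of_add_eq_zero_left h5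
      subst h5'
      have hg : γ * (γ - τ) = 0 := by linear_combination e1
      rcases mul_eq_zero.1 hg with hg' | hg'
      · subst hg'
        by_cases ht : τ = 0
        · exact Or.inr ⟨ht.symm, rfl⟩
        · refine Or.inl ⟨rfl, ?_⟩
          have h22 : (2 : F) * τ = 0 := by linear_combination -e2'
          linear_combination -(mul_eq_zero.1 h22).resolve_right ht
      · exact Or.inr ⟨sub_eq_zero.1 hg', rfl⟩
  set D := J' - γ • LinearMap.id - κ • J with hD
  have hker : LinearMap.ker D = ⊤ := by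
    by_contra hne
    obtain ⟨x, hx⟩ : ∃ x, x ∉ LinearMap.ker D := by
      by_contra hc
      push Not at hc
      exact hne (Submodule.eq_top_iff'.2 hc)
    obtain ⟨φ, hφk, hφx⟩ := exists_dual hx
    obtain ⟨z, -, hzQ, hzφ⟩ := exists_sing_off hQ (X := ⊤)
      (by have := rad_add_le hQ ⊤; rw [finrank_top, Module.finrank_pi] at this ⊢; omega) φ
      Submodule.mem_top (hφx ▸ one_ne_zero)
    exact hzφ (hφk z (LinearMap.mem_ker.2 (by
      simp only [hD, LinearMap.sub_apply, LinearMap.smul_apply, LinearMap.id_apply, hall z hzQ]; module)))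
  have hfin : ∀ x, J' x = γ • x + κ • J x := fun x => by
    have hx : x ∈ LinearMap.ker D := hker ▸ Submodule.mem_top
    simp only [LinearMap.mem_ker, hD, LinearMap.sub_apply, LinearMap.smul_apply, LinearMap.id_apply] at hx
    linear_combination (norm := module) hx
  rcases hres with ⟨rfl, rfl⟩ | ⟨rfl, rfl⟩
  · exact Or.inl fun x => by rw [hfin, zero_smul, zero_add, one_smul]
  · exact Or.inr fun x => by rw [hfin, neg_one_smul, sub_eq_add_neg]

theorem orth_conj_normalizer_maximal (hd : τ ^ 2 - 4 * ν ≠ 0) {H : Subgroup (GL ι F)}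
    (hHdef : ∀ g, g ∈ H ↔ g ∈ Geo.omegaGL Q ∧
      ((∀ x, mv g (J x) = J (mv g x)) ∨ ∀ x, mv g (J x) = τ • mv g x - J (mv g x))) :
    Geo.IsMaximalIn (Geo.omegaGL Q) H := by
  refine ⟨lt_of_le_of_ne (fun g hg => ((hHdef g).1 hg).1) fun heq => ?_, fun M hHM hMS => ?_⟩
  · obtain ⟨u, -, hu0, huu⟩ := exists_singular hQ (X := ⊤) (by rw [finrank_top, Module.finrank_pi]; omega)
    set W := (⊤ : Submodule F (ι → F)) ⊓ LinearMap.ker (LinearMap.pi ![formQ hQ u, formQ hQ (J u)]) with hW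
    have hWd : Fintype.card ι ≤ Module.finrank F W + 2 := by
      have := le_finrank_inf_ker_add ⊤ ![formQ hQ u, formQ hQ (J u)]
      rwa [finrank_top, Module.finrank_pi] at this
    have hLd := finrank_line_le hQ hJ hN hn u
    obtain ⟨x, hx, hxL⟩ : ∃ x ∈ W, x ∉ Submodule.span F ({u, J u} : Set (ι → F)) := by
      by_contra hc
      push Not at hc
      have := Submodule.finrank_mono hc
      omega
    obtain ⟨ψ, hψL, hψx⟩ := exists_dual hxL
    obtain ⟨z, hz, hzQ, hzψ⟩ := exists_sing_off hQ (X := W) (by have := rad_add_le hQ W; omega) ψ hx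
      (hψx ▸ one_ne_zero)
    have z0 : pol Q u z = 0 := (pol_comm _ _).trans (congrFun (LinearMap.mem_ker.1 hz.2) 0)
    have z1 : pol Q (J u) z = 0 := (pol_comm _ _).trans (congrFun (LinearMap.mem_ker.1 hz.2) 1)
    obtain ⟨g, -, hg⟩ := exists_siegel hQ huu z0
    obtain ⟨a, ha, ha0⟩ := ((⊤ : Submodule F (ι → F)) ⊓ LinearMap.ker (LinearMap.pi
      ![formQ hQ u, formQ hQ (J u), formQ hQ z, formQ hQ (J z)])).ne_bot_iff.1 (fun h => by
        have := le_finrank_inf_ker_add ⊤ ![formQ hQ u, formQ hQ (J u), formQ hQ z, formQ hQ (J z)]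
        rw [h, finrank_top, finrank_bot, Module.finrank_pi] at this
        omega)
    have a0 : pol Q a u = 0 := congrFun (LinearMap.mem_ker.1 ha.2) 0
    have a1 : pol Q a (J u) = 0 := congrFun (LinearMap.mem_ker.1 ha.2) 1
    have a2 : pol Q a z = 0 := congrFun (LinearMap.mem_ker.1 ha.2) 2
    have a3 : pol Q a (J z) = 0 := congrFun (LinearMap.mem_ker.1 ha.2) 3
    rcases ((hHdef g).1 (heq.ge (siegel_mem_omega hQ (by omega) huu z0 hg))).2 with hc | hc
    · obtain ⟨y, hy, hy'⟩ := exists_pol_sep hQ (W := Submodule.span F {z}) (v := u) fun hm => by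
        obtain ⟨c, hc'⟩ := Submodule.mem_span_singleton.1 hm
        rcases eq_or_ne c 0 with rfl | hc0
        · rw [zero_smul] at hc'; exact hu0 hc'.symm
        · refine hzψ (hψL z (Submodule.mem_span_pair.2 ⟨c⁻¹, 0, ?_⟩))
          rw [zero_smul, add_zero, ← hc', smul_smul, inv_mul_cancel₀ hc0, one_smul]
      have yu : pol Q y u = pol Q u y := pol_comm _ _
      have yz : pol Q y z = 0 := (pol_comm _ _).trans (hy z (Submodule.mem_span_singleton_self z))
      have h := hc y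
      rw [hg, hg, hzQ, yz, map_sub, map_add, map_smul] at h
      have hm : (-(pol Q (J y) u)) • z + pol Q u y • J z ∈ Submodule.span F ({u, J u} : Set (ι → F)) :=
        Submodule.mem_span_pair.2 ⟨-(pol Q (J y) z), 0, by
          rw [yu] at h
          simp only [zero_mul, add_zero, zero_smul, sub_zero, map_zero, map_smul] at h ⊢
          linear_combination (norm := module) h⟩
      rcases conj_mem_of_comb hJ hN (conj_J_mem_line hJ u) hm with ⟨-, h1⟩ | h1
      · exact hy' h1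
      · exact hzψ (hψL z h1)
    · have h := hc a
      rw [isSiegel_fix hQ hg a0 a2, isSiegel_fix hQ hg (by rw [hJ.adj, a0, a1]; ring)
        (by rw [hJ.adj, a2, a3]; ring)] at h
      obtain ⟨e1, e2⟩ := conj_eq_zero_of_comb hJ hN ha0 (s := -τ) (t := 2)
        (by linear_combination (norm := module) h)
      exact hd (by linear_combination (-τ) * e1 - 2 * ν * e2)
  by_cases hMH : M ≤ H
  · exact Or.inl (le_antisymm hMH hHM)
  obtain ⟨g, hgM, hgH⟩ := SetLike.not_le_iff_exists.1 hMH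
  refine Or.inr ?_
  have hMO : M ≤ isometryGroup F Q := hMS.trans (omega_le_isometry hQ)
  have hU : ∀ v, Q v = 0 → LineIn Q M v (J v) := by
    intro v hv a
    obtain ⟨h1, h2, -⟩ := singular_line hQ hJ hv
    have h' : pol Q v (a • J v) = 0 := by rw [pol_smul_right hQ, h2, mul_zero]
    obtain ⟨e, -, he⟩ := exists_siegel hQ hv h'
    exact ⟨e, hHM ((hHdef e).2 ⟨siegel_mem_omega hQ (by omega) hv h' he, Or.inl (siegel_comm hQ hJ hv he)⟩), he⟩
  set J' := (mvLin g).comp (J.comp (mvLin g⁻¹)) with hJ'def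
  have hJ'a : ∀ x, J' x = mv g (J (mv g⁻¹ x)) := fun x => by
    simp [hJ'def, Matrix.toLin'_apply, mv]
  have hg' : ∀ x y, pol Q (mv g x) y = pol Q x (mv g⁻¹ y) := fun x y => by
    conv_lhs => rw [← mv_mv_inv g y]
    exact pol_mv hQ (hMO hgM) _ _
  have hgQ : ∀ x, Q (mv g⁻¹ x) = Q x := fun x => mem_isometry.1 (hMO (M.inv_mem hgM)) x
  have hJ' : IsConjStruct Q τ ν J' := by
    refine ⟨fun x => ?_, fun x y => ?_, fun x => ?_, fun x => ?_⟩
    · rw [hJ'a, hJ'a, mv_inv_mv, hJ.sq, mv_sub, mv_smul, mv_smul, mv_mv_inv]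
    · have key : pol Q (mv g⁻¹ x) (J (mv g⁻¹ y)) = pol Q x (mv g (J (mv g⁻¹ y))) := by
        conv_rhs => rw [← mv_mv_inv g x, pol_mv hQ (hMO hgM)]
      rw [hJ'a, hJ'a, hg', hJ.adj, pol_mv hQ (hMO (M.inv_mem hgM)), key]
    · rw [hJ'a, hg', hJ.self, hgQ]
    · rw [hJ'a, mem_isometry.1 (hMO hgM), hJ.scale, hgQ]
  have hU' : ∀ v, Q v = 0 → LineIn Q M v (J' v) := by
    intro v hv
    have := lineIn_conj hQ hMO hgM (hU (mv g⁻¹ v) (by rw [hgQ, hv]))
    rwa [mv_mv_inv, ← hJ'a] at this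
  by_cases hlines : ∀ v, Q v = 0 → v ∈ Submodule.span F ({J v, J' (J v)} : Set (ι → F))
  · exfalso
    apply hgH
    refine (hHdef g).2 ⟨hMS hgM, ?_⟩
    refine (conj_eq_of_lines hQ hJ hN hn hd hJ' hlines).imp (fun h x => ?_) (fun h x => ?_) <;>
      · have := h (mv g x)
        rwa [hJ'a, mv_inv_mv] at this
  push Not at hlines
  obtain ⟨v, hv, hvL⟩ := hlines
  obtain ⟨hv1, hv2, hv3⟩ := singular_line hQ hJ hv
  set L := Submodule.span F ({v, J' v} : Set (ι → F)) ⊔ Submodule.span F ({J v, J' (J v)} : Set (ι → F)) with hL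
  set X := (⊤ : Submodule F (ι → F)) ⊓ LinearMap.ker (LinearMap.pi ![formQ hQ (J v), formQ hQ (J' (J v))]) with hX
  have hXd : Fintype.card ι ≤ Module.finrank F X + 2 := by
    have := le_finrank_inf_ker_add ⊤ ![formQ hQ (J v), formQ hQ (J' (J v))]
    rwa [finrank_top, Module.finrank_pi] at this
  have hLd : Module.finrank F L ≤ 4 := by
    have := Submodule.finrank_sup_add_finrank_inf_eq (Submodule.span F ({v, J' v} : Set (ι → F)))
      (Submodule.span F ({J v, J' (J v)} : Set (ι → F)))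
    have := finrank_line_le hQ hJ' hN hn v
    have := finrank_line_le hQ hJ' hN hn (J v)
    rw [hL]
    omega
  obtain ⟨x₁, hx₁, hx₁'⟩ := exists_pol_sep hQ hvL
  obtain ⟨x₂, hx₂, hx₂L⟩ : ∃ x ∈ X, x ∉ L := by
    by_contra hc
    push Not at hc
    have := Submodule.finrank_mono hc
    omega
  obtain ⟨ψ, hψL, hψx⟩ := exists_dual hx₂L
  obtain ⟨w, hw, hwQ, hwv, hwψ⟩ := exists_sing_off₂ hQ (X := X) (by omega) (formQ hQ v) ψ (x := x₁)
    ⟨Submodule.mem_top, LinearMap.mem_ker.2 (by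
      ext i; fin_cases i <;> exact (pol_comm _ _).trans (hx₁ _ (Submodule.subset_span (by simp))))⟩
    (by rwa [formQ_apply, pol_comm]) hx₂ (hψx ▸ one_ne_zero)
  rw [formQ_apply, pol_comm] at hwv
  have w0 : pol Q (J v) w = 0 := (pol_comm _ _).trans (congrFun (LinearMap.mem_ker.1 hw.2) 0)
  have w1 : pol Q (J' (J v)) w = 0 := (pol_comm _ _).trans (congrFun (LinearMap.mem_ker.1 hw.2) 1)
  obtain ⟨hw'1, -, -⟩ := singular_line hQ hJ' hwQ
  have w2 : pol Q (J v) (J' w) = 0 := by rw [pol_J_right hQ hJ', w0, w1]; ring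
  obtain ⟨e, he, hes⟩ := hU' w hwQ 1
  rw [one_smul] at hes
  have heJ : mv e (J v) = J v := isSiegel_fix hQ hes w0 w2
  set r := pol Q v w • J' w - pol Q v (J' w) • w with hr
  have hev : mv e v = v + r := by
    rw [hes, hw'1, hr]; module
  have hline := lineIn_symm hQ hv hv1 (hU v hv)
  have h1 := lineIn_conj hQ hMO he hline
  rw [heJ, hev] at h1
  have hJr : pol Q (J v) r = 0 := by
    rw [hr, pol_sub_right hQ, pol_smul_right hQ, pol_smul_right hQ, w0, w2]; ring
  have h2 := lineIn_sub hQ hv1 (by rw [pol_add_right hQ, hv3, hJr, add_zero]) hv3 h1 hline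
  rw [add_sub_cancel_left] at h2
  have hvr : pol Q v r = 0 := by
    rw [hr, pol_sub_right hQ, pol_smul_right hQ, pol_smul_right hQ]; ring
  refine conj_eq_omega hQ hJ hN hn hMS hU hv1 (fun h0 => ?_) hJr ?_ ?_ h2
  · exact one_ne_zero (conj_eq_zero_of_comb hJ hN (u := v) (s := 0) (t := (1 : F))
      (fun hv0 => hwv (by rw [hv0, pol_zero_left hQ])) (by rw [h0]; simp)).2
  · rw [hJ.sq, pol_sub_left hQ, pol_smul_left hQ, pol_smul_left hQ, hJr, hvr]; ring
  · intro hm
    have hv' : Submodule.span F ({J v, J (J v)} : Set (ι → F)) ≤ L := by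
      rw [Submodule.span_le, Set.insert_subset_iff, Set.singleton_subset_iff]
      refine ⟨Submodule.mem_sup_right (Submodule.subset_span (by simp)), ?_⟩
      rw [hJ.sq]
      exact L.sub_mem (L.smul_mem _ (Submodule.mem_sup_right (Submodule.subset_span (by simp))))
        (L.smul_mem _ (Submodule.mem_sup_left (Submodule.subset_span (by simp))))
    have hrL : (-pol Q v (J' w)) • w + pol Q v w • J' w ∈ L := by
      have := hv' hm
      rw [hr] at this
      convert this using 1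
      module
    rcases conj_mem_of_comb hJ' hN (conj_J_mem_sup hJ' (conj_J_mem_line hJ' v) (conj_J_mem_line hJ' (J v))) hrL with
      ⟨-, h3⟩ | h3
    · exact hwv h3
    · exact hwψ (hψL w h3)

end Cfsg.Agent.Transvec.Orth
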