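/-
The normaliser of a unitary structure is maximal.
-/
import Cfsg.Agent.Lib.Transvec.OrthUnitary
set_option autoImplicit false

namespace Cfsg.Agent.OrthUnitaryNorm

open scoped Matrix

/-- The normaliser of a unitary structure is maximal. -/
theorem unitary_normalizer_maximal {F : Type*} [Field F] [Fintype F] {n : ℕ} (hn : 10 ≤ n) (heven : Even n) (Q : (Fin n → F) → F) (hQ : Cfsg.Geo.IsNondegenerateQuadraticForm Q) (K : Subalgebra F (Matrix (Fin n) (Fin n) F)) (hK : Cfsg.Geo.IsFieldSubalgebra 2 K) (hac : Cfsg.Geo.IsAdjointClosedFor (QuadraticMap.polar Q) K) (hnsa : ¬ Cfsg.Geo.IsSelfAdjointFor (QuadraticMap.polar Q) K) (hsc : ∀ k ∈ K, ∃ c : F, ∀ v : (Fin n → F), Q (Matrix.mulVec k v) = c * Q v) : Cfsg.Geo.IsMaximalIn (Cfsg.Geo.omegaGL Q) (Cfsg.Geo.subalgebraNormalizer K ⊓ Cfsg.Geo.omegaGL Q) := by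
  classical
  have hB := hQ.polar_bilinear
  obtain ⟨θ, hθ, u₀, v₀, hne⟩ : ∃ k ∈ K, ∃ u v, QuadraticMap.polar Q (k *ᵥ u) v ≠ QuadraticMap.polar Q u (k *ᵥ v) := by
    by_contra h
    push Not at h
    exact hnsa h
  obtain ⟨θ', hθ', had⟩ := hac θ hθ
  have had' : ∀ u v, QuadraticMap.polar Q (θ' *ᵥ u) v = QuadraticMap.polar Q u (θ *ᵥ v) := fun u v => by
    rw [QuadraticMap.polar_comm, ← had, QuadraticMap.polar_comm]
  have huniq : ∀ A C : Matrix (Fin n) (Fin n) F,
      (∀ u v, QuadraticMap.polar Q (A *ᵥ u) v = QuadraticMap.polar Q (C *ᵥ u) v) → A = C := by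
    intro A C h
    refine Matrix.ext_of_mulVec_single fun i => ?_
    by_contra hne'
    obtain ⟨-, x, hx⟩ := hQ.nondegenerate _ (sub_ne_zero.2 hne')
    refine hx ?_
    have := Cfsg.Agent.Transvec.Orth.pol_sub_left hQ (A *ᵥ Pi.single i 1) (C *ᵥ Pi.single i 1) x
    rw [Cfsg.Agent.Transvec.Orth.pol, Cfsg.Agent.Transvec.Orth.pol, Cfsg.Agent.Transvec.Orth.pol, h, sub_self] at this
    exact this
  have hns0 : ∀ c : F, θ ≠ c • 1 := by
    intro c hc
    refine hne ?_
    rw [hc]
    simp only [Matrix.smul_mulVec, Matrix.one_mulVec, hB.smul_left, hB.smul_right]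
  have hcoord : ∀ x ∈ K, ∃ a b : F, x = a • (1 : Matrix (Fin n) (Fin n) F) + b • θ := by
    let b1 : Fin 2 → K := ![1, ⟨θ, hθ⟩]
    have hind : LinearIndependent F b1 := by
      rw [linearIndependent_fin2]
      refine ⟨fun h => hns0 0 ?_, fun a h => ?_⟩
      · simpa [b1] using congrArg Subtype.val h
      · have h' : a • θ = 1 := congrArg Subtype.val h
        rcases eq_or_ne a 0 with rfl | ha
        · rw [zero_smul] at h'
          have h'' := congrArg (fun M : Matrix (Fin n) (Fin n) F => M ⟨0, by omega⟩ ⟨0, by omega⟩) h'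
          simp at h''
        · exact hns0 a⁻¹ (by rw [← h', smul_smul, inv_mul_cancel₀ ha, one_smul])
    intro x hx
    have htop := hind.span_eq_top_of_card_eq_finrank (by rw [Fintype.card_fin, ← hK.finrank_eq])
    have hmem : (⟨x, hx⟩ : K) ∈ Submodule.span F (Set.range b1) := htop ▸ Submodule.mem_top
    obtain ⟨c, hc⟩ := (Submodule.mem_span_range_iff_exists_fun F).1 hmem
    refine ⟨c 0, c 1, ?_⟩
    have := congrArg Subtype.val hc
    simpa [Fin.sum_univ_two, b1] using this.symm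
  have huniq2 : ∀ a b a' b' : F, a • (1 : Matrix (Fin n) (Fin n) F) + b • θ = a' • 1 + b' • θ → a = a' ∧ b = b' := by
    intro a b a' b' h
    have hb : b = b' := by
      by_contra hb
      refine hns0 ((a' - a) / (b - b')) ?_
      apply smul_right_injective (Matrix (Fin n) (Fin n) F) (sub_ne_zero.2 hb)
      show (b - b') • θ = (b - b') • _
      rw [smul_smul, mul_div_cancel₀ _ (sub_ne_zero.2 hb)]
      linear_combination (norm := module) h
    subst hb
    refine ⟨?_, rfl⟩
    have h'' := congrArg (fun M : Matrix (Fin n) (Fin n) F => M ⟨0, by omega⟩ ⟨0, by omega⟩) (add_right_cancel h)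
    simpa using h''
  obtain ⟨τ, b, hθ'e⟩ := hcoord θ' hθ'
  have hne' : θ' ≠ θ := fun h => hne (by rw [had, h])
  have hb : b = -1 := by
    have h1 : θ = (τ + b * τ) • 1 + (b * b) • θ := by
      refine huniq _ _ fun u v => ?_
      have h2 : QuadraticMap.polar Q (θ *ᵥ u) v = τ * QuadraticMap.polar Q u v + b * QuadraticMap.polar Q u (θ *ᵥ v) := by
        rw [had, hθ'e, Matrix.add_mulVec, Matrix.smul_mulVec, Matrix.smul_mulVec, Matrix.one_mulVec,
          hB.add_right, hB.smul_right, hB.smul_right]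
      have h3 : QuadraticMap.polar Q u (θ *ᵥ v) = τ * QuadraticMap.polar Q u v + b * QuadraticMap.polar Q (θ *ᵥ u) v := by
        rw [← had', hθ'e, Matrix.add_mulVec, Matrix.smul_mulVec, Matrix.smul_mulVec, Matrix.one_mulVec,
          hB.add_left, hB.smul_left, hB.smul_left]
      rw [Matrix.add_mulVec, Matrix.smul_mulVec, Matrix.smul_mulVec, Matrix.one_mulVec,
        hB.add_left, hB.smul_left, hB.smul_left]
      linear_combination h2 + b * h3
    obtain ⟨e1, e2⟩ := huniq2 0 1 (τ + b * τ) (b * b) (by rw [zero_smul, zero_add, one_smul]; exact h1)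
    by_contra hb
    have hb1 : b = 1 := by
      rcases mul_eq_zero.1 (show (b - 1) * (b + 1) = 0 by linear_combination -e2) with h | h
      · exact sub_eq_zero.1 h
      · exact absurd (eq_neg_of_add_eq_zero_left h) hb
    subst hb1
    have h2τ : (2 : F) * τ = 0 := by linear_combination -e1
    rcases mul_eq_zero.1 h2τ with h | h
    · exact hb (by linear_combination h)
    · exact hne' (by rw [hθ'e, h, zero_smul, zero_add, one_smul])
  subst hb
  have hθ'e' : θ' = τ • 1 - θ := by rw [hθ'e, neg_one_smul, sub_eq_add_neg]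
  have hcomm : θ * θ' = θ' * θ := hK.comm θ hθ θ' hθ'
  obtain ⟨ν, b, hprod⟩ := hcoord (θ * θ') (K.mul_mem hθ hθ')
  have hb : b = 0 := by
    by_contra hb
    refine hne (mul_left_cancel₀ hb ?_)
    have h1 : QuadraticMap.polar Q ((θ * θ') *ᵥ u₀) v₀ = QuadraticMap.polar Q u₀ ((θ * θ') *ᵥ v₀) := by
      conv_lhs => rw [← Matrix.mulVec_mulVec, had, had', Matrix.mulVec_mulVec]
    rw [hprod] at h1
    simp only [Matrix.add_mulVec, Matrix.smul_mulVec, Matrix.one_mulVec, hB.add_left, hB.add_right, hB.smul_left,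
      hB.smul_right] at h1
    linear_combination h1
  subst hb
  rw [zero_smul, add_zero] at hprod
  have hsq : θ * θ = τ • θ - ν • 1 := by
    rw [← hprod, hθ'e', mul_sub, mul_smul_comm, mul_one]
    abel
  set J := Matrix.toLin' θ with hJdef
  have hadj : ∀ x y, QuadraticMap.polar Q (θ *ᵥ x) y =
      τ * QuadraticMap.polar Q x y - QuadraticMap.polar Q x (θ *ᵥ y) := fun x y => by
    rw [had, hθ'e', Matrix.sub_mulVec, Matrix.smul_mulVec, Matrix.one_mulVec]
    exact (Cfsg.Agent.Transvec.Orth.pol_sub_right hQ _ _ _).trans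
      (congrArg (· - _) (Cfsg.Agent.Transvec.Orth.pol_smul_right hQ _ _ _))
  have hsq' : ∀ x, θ *ᵥ (θ *ᵥ x) = τ • (θ *ᵥ x) - ν • x := fun x => by
    rw [Matrix.mulVec_mulVec, hsq, Matrix.sub_mulVec, Matrix.smul_mulVec, Matrix.smul_mulVec, Matrix.one_mulVec]
  have hJJ : ∀ x y, QuadraticMap.polar Q (θ *ᵥ x) (θ *ᵥ y) = ν * QuadraticMap.polar Q x y := fun x y => by
    rw [had, Matrix.mulVec_mulVec, ← hcomm, hprod, Matrix.smul_mulVec, Matrix.one_mulVec, hB.smul_right]
  obtain ⟨p, q, hpq⟩ : ∃ p q, QuadraticMap.polar Q p q ≠ 0 := by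
    have hp : (Pi.single ⟨0, by omega⟩ 1 : Fin n → F) ≠ 0 := fun h => by
      simpa using congrFun h ⟨0, by omega⟩
    obtain ⟨-, q, hq⟩ := hQ.nondegenerate _ hp
    exact ⟨_, q, hq⟩
  have hscale : ∀ (A : Matrix (Fin n) (Fin n) F), A ∈ K → ∀ c : F,
      (∀ x y, QuadraticMap.polar Q (A *ᵥ x) (A *ᵥ y) = c * QuadraticMap.polar Q x y) →
      ∀ v, Q (A *ᵥ v) = c * Q v := by
    intro A hA c hc
    obtain ⟨d, hd⟩ := hsc A hA
    suffices d = c by subst this; exact hd
    refine mul_right_cancel₀ hpq ?_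
    rw [← hc p q]
    simp only [QuadraticMap.polar, ← Matrix.mulVec_add, hd]
    ring
  have hJν : ∀ v, Q (θ *ᵥ v) = ν * Q v := hscale θ hθ ν hJJ
  have hself : ∀ x, QuadraticMap.polar Q (θ *ᵥ x) x = τ * Q x := by
    intro x
    have h1 := hscale (θ + 1) (K.add_mem hθ K.one_mem) (ν + τ + 1) (fun x y => by
      simp only [Matrix.add_mulVec, Matrix.one_mulVec, hB.add_left, hB.add_right, hJJ, hadj x y]
      ring) x
    rw [Matrix.add_mulVec, Matrix.one_mulVec, Cfsg.Agent.Transvec.Orth.q_add hQ, hJν] at h1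
    linear_combination h1
  have hJ : Cfsg.Agent.Transvec.Orth.IsConjStruct Q τ ν J :=
    ⟨fun x => by simp only [hJdef, Matrix.toLin'_apply]; exact hsq' x,
      fun x y => by simp only [hJdef, Matrix.toLin'_apply]; exact hadj x y,
      fun x => by simp only [hJdef, Matrix.toLin'_apply]; exact hself x,
      fun x => by simp only [hJdef, Matrix.toLin'_apply]; exact hJν x⟩
  have hfield : ∀ x ∈ K, ∀ y ∈ K, x * y = 0 → x = 0 ∨ y = 0 := by
    intro x hx y hy h
    by_cases hx0 : x = 0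
    · exact Or.inl hx0
    obtain ⟨z, hz, hxz⟩ := hK.inv x hx hx0
    refine Or.inr ?_
    have := congrArg (z * ·) h
    simp only [mul_zero, ← mul_assoc, hK.comm z hz x hx, hxz, one_mul] at this
    exact this
  have hmem : ∀ a b : F, a • (1 : Matrix (Fin n) (Fin n) F) + b • θ ∈ K := fun a b =>
    K.add_mem (K.smul_mem K.one_mem a) (K.smul_mem hθ b)
  have hN : ∀ s t : F, s ^ 2 + τ * s * t + ν * t ^ 2 = 0 → s = 0 ∧ t = 0 := by
    intro s t h
    have h0 : (s • 1 + t • θ) * (s • 1 + t • θ') = 0 := by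
      have : (s • 1 + t • θ) * (s • 1 + t • θ') = (s * s) • 1 + (s * t) • (θ + θ') + (t * t) • (θ * θ') := by
        simp only [mul_add, add_mul, smul_mul_assoc, mul_smul_comm, one_mul, mul_one]
        module
      rw [this, hprod, hθ'e', add_sub_cancel]
      rw [show (0 : Matrix (Fin n) (Fin n) F) = (s ^ 2 + τ * s * t + ν * t ^ 2) • 1 by rw [h, zero_smul]]
      module
    rcases hfield _ (hmem s t) _ (K.add_mem (K.smul_mem K.one_mem s) (K.smul_mem hθ' t)) h0 with h1 | h1
    · exact huniq2 s t 0 0 (by rw [h1]; simp)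
    · rw [hθ'e'] at h1
      obtain ⟨e1, e2⟩ := huniq2 (s + t * τ) (-t) 0 0 (by
        rw [zero_smul, zero_smul, add_zero]; linear_combination (norm := module) h1)
      exact ⟨by linear_combination e1 + τ * e2, neg_eq_zero.1 e2⟩
  have hd : τ ^ 2 - 4 * ν ≠ 0 := by
    intro h
    have h0 : (θ - θ') * (θ - θ') = 0 := by
      have : (θ - θ') * (θ - θ') = (τ ^ 2 - 4 * ν) • (1 : Matrix (Fin n) (Fin n) F) := by
        rw [hθ'e']
        simp only [mul_sub, sub_mul, smul_mul_assoc, mul_smul_comm, one_mul, mul_one, hsq]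
        module
      rw [this, h, zero_smul]
    exact hne' (sub_eq_zero.1 ((hfield _ (K.sub_mem hθ hθ') _ (K.sub_mem hθ hθ') h0).elim id id)).symm
  refine Cfsg.Agent.Transvec.Orth.orth_conj_normalizer_maximal hQ hJ hN (by simp; obtain ⟨j, hj⟩ := heven; omega) hd
    fun g => ?_
  simp only [hJdef, Matrix.toLin'_apply, Cfsg.Agent.Transvec.mv]
  constructor
  · rintro ⟨hgN, hg⟩
    refine ⟨hg, ?_⟩
    set gm : Matrix (Fin n) (Fin n) F := (g : Matrix (Fin n) (Fin n) F) with hgm
    set gi : Matrix (Fin n) (Fin n) F := ((g⁻¹ : GL (Fin n) F) : Matrix (Fin n) (Fin n) F) with hgi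
    have h12 : gi * gm = 1 := by rw [hgm, hgi, ← Units.val_mul, inv_mul_cancel, Units.val_one]
    have h21 : gm * gi = 1 := by rw [hgm, hgi, ← Units.val_mul, mul_inv_cancel, Units.val_one]
    set X := gm * θ * gi with hX
    have hXK : X ∈ K := (hgN θ).1 hθ
    have h0 : (X - θ) * (X - θ') = 0 := by
      have hXX : X * X = τ • X - ν • 1 := by
        have : X * X = gm * (θ * θ) * gi := by
          simp only [hX, mul_assoc]
          rw [← mul_assoc gi gm, h12, one_mul]
        rw [this, hsq, mul_sub, sub_mul, mul_smul_comm, smul_mul_assoc, ← hX, mul_smul_comm, mul_one,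
          smul_mul_assoc, h21]
      rw [hθ'e']
      simp only [mul_sub, sub_mul, smul_mul_assoc, mul_smul_comm, one_mul, mul_one, hXX, hsq, hK.comm θ hθ X hXK]
      module
    have hgθ : gm * θ = X * gm := by rw [hX, mul_assoc, h12, mul_one]
    rcases hfield _ (K.sub_mem hXK hθ) _ (K.sub_mem hXK hθ') h0 with h1 | h1
    · refine Or.inl fun x => ?_
      rw [Matrix.mulVec_mulVec, hgθ, sub_eq_zero.1 h1, ← Matrix.mulVec_mulVec]
    · refine Or.inr fun x => ?_
      rw [Matrix.mulVec_mulVec, hgθ, sub_eq_zero.1 h1, hθ'e', ← Matrix.mulVec_mulVec, Matrix.sub_mulVec,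
        Matrix.smul_mulVec, Matrix.one_mulVec]
  · rintro ⟨hg, h⟩
    refine ⟨?_, hg⟩
    obtain ⟨θ₁, hθ₁, hθ₁e, hgθ⟩ : ∃ θ₁ ∈ K, (∀ x ∈ K, ∃ a b : F, x = a • 1 + b • θ₁) ∧
        (g : Matrix (Fin n) (Fin n) F) * θ = θ₁ * (g : Matrix (Fin n) (Fin n) F) := by
      rcases h with h | h
      · exact ⟨θ, hθ, hcoord, Matrix.ext_of_mulVec_single fun i => by
          rw [← Matrix.mulVec_mulVec, ← Matrix.mulVec_mulVec]; exact h _⟩
      · refine ⟨θ', hθ', fun x hx => ?_, Matrix.ext_of_mulVec_single fun i => by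
          rw [← Matrix.mulVec_mulVec, ← Matrix.mulVec_mulVec, hθ'e', Matrix.sub_mulVec, Matrix.smul_mulVec,
            Matrix.one_mulVec]
          exact h _⟩
        obtain ⟨a, b, rfl⟩ := hcoord x hx
        exact ⟨a + b * τ, -b, by rw [hθ'e']; module⟩
    intro x
    have hconj : ∀ a b : F, (g : Matrix (Fin n) (Fin n) F) * (a • 1 + b • θ) =
        (a • 1 + b • θ₁) * (g : Matrix (Fin n) (Fin n) F) := fun a b => by
      simp [mul_add, add_mul, hgθ]
    constructor
    · intro hx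
      obtain ⟨a, b, rfl⟩ := hcoord x hx
      rw [hconj, mul_assoc, ← Units.val_mul, mul_inv_cancel, Units.val_one, mul_one]
      exact K.add_mem (K.smul_mem K.one_mem a) (K.smul_mem hθ₁ b)
    · intro hx
      obtain ⟨a, b, hab⟩ := hθ₁e _ hx
      have hgx : (g : Matrix (Fin n) (Fin n) F) * x = (g : Matrix (Fin n) (Fin n) F) * (a • 1 + b • θ) := by
        rw [hconj, ← hab, mul_assoc, ← Units.val_mul, inv_mul_cancel, Units.val_one, mul_one]
      rw [(Units.mul_right_inj g).1 hgx]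
      exact hmem _ _



end Cfsg.Agent.OrthUnitaryNorm
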